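import Cfsg.Agent.H25.PrimeOrd

/-! Groups of class two with an action of the symmetric group of degree three. -/

set_option autoImplicit false

namespace Cfsg.Agent.H25
open Subgroup
open scoped commutatorElement IsMulCommutative

theorem perm3_of_card_six {X : Type*} [Group X] (h6 : Nat.card X = 6) {c r : X} (hc : orderOf c = 2)
    (hne : r * c ≠ c * r) : Nonempty (X ≃* Equiv.Perm (Fin 3)) := by
  classical
  haveI : Finite X := Nat.finite_of_card_ne_zero (by omega)
  have h1 : Nat.card (zpowers c) = 2 := by rw [Nat.card_zpowers, hc]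
  have h2 : Nat.card (X ⧸ zpowers c) = 3 := by
    have := (zpowers c).card_mul_index
    rw [h1, h6] at this
    show (zpowers c).index = 3
    omega
  have h3 : Function.Injective (MulAction.toPermHom X (X ⧸ zpowers c)) := by
    rw [← MonoidHom.ker_eq_bot_iff, ← normalCore_eq_ker]
    haveI : Fact (Nat.card (zpowers c)).Prime := ⟨h1 ▸ Nat.prime_two⟩
    by_contra h
    have h4 := H21.eq_of_le_of_card_prime (h1 ▸ Nat.prime_two) (zpowers c).normalCore_le h
    have h5 : r * c * r⁻¹ ∈ zpowers c :=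
      (zpowers c).normalCore_le ((normalCore_normal _).conj_mem c (h4.ge (mem_zpowers c)) r)
    rw [mem_zpowers_iff_mem_range_orderOf, hc] at h5
    simp only [Finset.mem_image, Finset.mem_range] at h5
    obtain ⟨i, hi, e⟩ := h5
    interval_cases i
    · have : c = 1 := by simpa using e.symm
      simp [this] at hc
    · exact hne (by rw [pow_one] at e; rw [mul_inv_eq_iff_eq_mul.1 e.symm])
  let e := (Finite.equivFinOfCardEq h2).permCongrHom
  exact ⟨MulEquiv.ofBijective (e.toMonoidHom.comp (MulAction.toPermHom X _))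
    ((Nat.bijective_iff_injective_and_card _).2 ⟨e.injective.comp h3, by rw [h6, Nat.card_perm]; simp; rfl⟩)⟩

variable {H : Type*} [Group H]

/-- the commutator map of a group of class two -/
def commB (h : ∀ x y : H, ⁅x, y⁆ ∈ center H) : H →* H →* center H :=
  MonoidHom.mk' (fun x => MonoidHom.mk' (fun y => ⟨⁅x, y⁆, h x y⟩) (fun y z => Subtype.ext (by
      have := mem_center_iff.1 (h x z) y
      show ⁅x, y * z⁆ = ⁅x, y⁆ * ⁅x, z⁆
      calc ⁅x, y * z⁆ = ⁅x, y⁆ * (y * ⁅x, z⁆) * y⁻¹ := by simp only [commutatorElement_def]; group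
        _ = _ := by rw [this]; group)))
    (fun x y => MonoidHom.ext fun z => Subtype.ext (by
      have := mem_center_iff.1 (h y z) x
      have h2 := mem_center_iff.1 (h y z) ⁅x, z⁆
      show ⁅x * y, z⁆ = ⁅x, z⁆ * ⁅y, z⁆
      calc ⁅x * y, z⁆ = (x * ⁅y, z⁆) * x⁻¹ * ⁅x, z⁆ := by simp only [commutatorElement_def]; group
        _ = _ := by rw [this, h2]; group))

theorem commB_coe (h : ∀ x y : H, ⁅x, y⁆ ∈ center H) (x y : H) : (commB h x y : H) = ⁅x, y⁆ := rfl

theorem commB_swap (h : ∀ x y : H, ⁅x, y⁆ ∈ center H) (x y : H) : commB h y x = (commB h x y)⁻¹ :=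
  Subtype.ext (commutatorElement_inv x y).symm

theorem commB_eq_one (h : ∀ x y : H, ⁅x, y⁆ ∈ center H) {x y : H} : commB h x y = 1 ↔ x * y = y * x := by
  rw [Subtype.ext_iff, commB_coe]; exact commutatorElement_eq_one_iff_mul_comm

theorem map_sq_eq_one_of_S3 (ρ σ : H ≃* H) (h1 : ∀ x, x * ρ x * ρ (ρ x) = 1)
    (h3 : ∀ x, (x * σ x) ^ 2 = 1) (h4 : ∀ x, (x * σ (ρ x)) ^ 2 = 1)
    (h5 : ∀ x, σ (ρ (ρ x)) = ρ (σ x)) (h6 : ∀ x : H, x ^ 4 = 1) {M : Type*} [CommGroup M] (f : H →* M) (y : H) :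
    f y ^ 2 = 1 := by
  have e0 : ∀ x, f (σ (ρ x)) ^ 2 = f (σ x) ^ 2 := by
    intro x
    have a := congrArg f (h3 x)
    have b := congrArg f (h4 x)
    simp only [map_pow, map_mul, mul_pow, map_one] at a b
    exact mul_left_cancel (b.trans a.symm)
  have e : ∀ y, f (ρ y) ^ 2 = f y ^ 2 := by
    intro y
    obtain ⟨y, rfl⟩ := σ.surjective y
    rw [← h5, e0, e0]
  have e1 := congrArg (fun t => f t ^ 2) (h1 y)
  simp only [map_mul, mul_pow, e, map_one, one_pow] at e1
  have e2 := congrArg f (h6 y)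
  rw [map_pow, map_one] at e2
  calc f y ^ 2 = f y ^ 2 * f y ^ 4 := by rw [e2, mul_one]
    _ = 1 := by rw [← e1]; group

theorem sq_eq_one_of_S3 (ρ σ : H ≃* H) (h1 : ∀ x, x * ρ x * ρ (ρ x) = 1) (h1' : ∀ x, x * ρ (ρ x) * ρ x = 1)
    (h2 : ∀ x, ρ x = x → x = 1) (h3 : ∀ x, (x * σ x) ^ 2 = 1) (h4 : ∀ x, (x * σ (ρ x)) ^ 2 = 1)
    (h5 : ∀ x, σ (ρ (ρ x)) = ρ (σ x)) (h6 : ∀ x : H, x ^ 4 = 1) (h : ∀ x y : H, ⁅x, y⁆ ∈ center H) (x : H) :
    x ^ 2 = 1 := by
  have ha := @map_sq_eq_one_of_S3 H _ ρ σ h1 h3 h4 h5 h6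
  set B := commB h with hB
  have hb : ∀ x y, B x y ^ 2 = 1 := fun x y => ha (B x) y
  have hb' : ∀ x y, (B x y)⁻¹ = B x y := fun x y => inv_eq_of_mul_eq_one_left (by rw [← sq, hb])
  have hρ : ∀ x y, ρ (B x y) = B (ρ x) (ρ y) := fun x y => map_commutatorElement _ _ _
  have hc : ∀ a b, B (a * σ a) (b * σ b) = 1 := by
    intro a b
    have e1 : a * b * σ (a * b) = (a * σ a) * (b * σ b) * B b (σ a) := by
      have hz := mem_center_iff.1 (B b (σ a)).2
      calc a * b * σ (a * b) = a * B b (σ a) * (σ a * (b * σ b)) := by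
            rw [map_mul, commB_coe, commutatorElement_def]; group
        _ = _ := by rw [mul_assoc, ← hz]; group
    have e2 := h3 (a * b)
    rw [e1, Commute.mul_pow (mem_center_iff.1 (B b (σ a)).2 _), ← coe_pow, hb, coe_one, mul_one, sq] at e2
    have e3 := h3 a
    have e4 := h3 b
    rw [sq] at e3 e4
    rw [commB_eq_one]
    generalize a * σ a = u at *
    generalize b * σ b = v at *
    calc u * v = u * (u * v * (u * v)) * v := by rw [e2, mul_one]
      _ = (u * u) * (v * u) * (v * v) := by simp only [mul_assoc]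
      _ = v * u := by rw [e3, e4, one_mul, mul_one]
  have hd : ∀ x, B x (ρ x) = 1 := by
    intro x
    obtain ⟨x, rfl⟩ := ρ.surjective x
    rw [commB_eq_one]
    exact mul_left_cancel (a := x) (by rw [← mul_assoc, ← mul_assoc, h1, h1'])
  have hd' : ∀ x y, B y (ρ x) = B x (ρ y) := by
    intro x y
    have := hd (x * y)
    simp only [map_mul, MonoidHom.mul_apply, hd, one_mul, mul_one] at this
    rw [← hb' y, eq_comm, eq_inv_iff_mul_eq_one, mul_comm]
    exact this
  have hρρ : ∀ y, ρ (ρ y) = (y * ρ y)⁻¹ := fun y => eq_inv_of_mul_eq_one_right (h1 y)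
  have he : ∀ x y, B x y = 1 → B (ρ x) (ρ y) = 1 := fun x y e => Subtype.ext (by rw [← hρ, e]; simp)
  have hf : ∀ x y, B x y = 1 → B x (ρ y) = 1 := by
    intro x y e
    refine Subtype.ext (h2 _ ?_)
    rw [hρ, hρρ, map_inv, map_mul, he x y e, mul_one, hb', commB_swap, hb', hd']
  have hg : ∀ (f : H →* center H) (v : H), f v = f (ρ (ρ v) * σ (ρ (ρ v))) * f (ρ (v * σ v)) := by
    intro f v
    have a := ha f (ρ (σ v))
    have b := ha f v
    rw [h5, hρρ]
    simp only [map_mul, map_inv]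
    rw [sq] at a b
    rw [mul_mul_mul_comm, a, mul_one, mul_inv, inv_mul_cancel_right, inv_eq_of_mul_eq_one_left b]
  have hcomm : ∀ v w : H, v * w = w * v := by
    intro v w
    have k1 : ∀ a, B (a * σ a) w = 1 := fun a => by rw [hg _ w, hc, hf _ _ (hc _ _), one_mul]
    have k2 : ∀ a, B (ρ (a * σ a)) w = 1 := fun a => by
      rw [hg _ w, he _ _ (hc _ _), commB_swap, hf _ _ (hc _ _), inv_one, one_mul]
    have := hg (B.flip w) v
    simp only [MonoidHom.flip_apply, k1, k2, one_mul] at this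
    exact (commB_eq_one h).1 this
  letI : CommGroup H := { mul_comm := hcomm }
  exact ha (MonoidHom.id H) x

end Cfsg.Agent.H25
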