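import Cfsg.Agent.H25.Schur2

/-! Schur multiplier: twisted products, direct products, uniqueness of covers. -/

set_option autoImplicit false

namespace Cfsg.Agent.H25
open Cfsg Subgroup
open scoped commutatorElement

universe u v w x

/-- central extension given by a bilinear cocycle -/
@[ext] structure Tw {Γ : Type u} {T : Type v} [Group Γ] [CommGroup T] (β : Γ →* Γ →* T) where
  g : Γ
  t : T

namespace Tw
variable {Γ : Type u} {T : Type v} [Group Γ] [CommGroup T] {β : Γ →* Γ →* T}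

instance : Mul (Tw β) := ⟨fun a b => ⟨a.g * b.g, a.t * b.t * β a.g b.g⟩⟩
instance : One (Tw β) := ⟨⟨1, 1⟩⟩
instance : Inv (Tw β) := ⟨fun a => ⟨a.g⁻¹, a.t⁻¹ * β a.g a.g⟩⟩

@[simp] theorem mul_g (a b : Tw β) : (a * b).g = a.g * b.g := rfl
@[simp] theorem mul_t (a b : Tw β) : (a * b).t = a.t * b.t * β a.g b.g := rfl
@[simp] theorem one_g : (1 : Tw β).g = 1 := rfl
@[simp] theorem one_t : (1 : Tw β).t = 1 := rfl
@[simp] theorem inv_g (a : Tw β) : a⁻¹.g = a.g⁻¹ := rfl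
@[simp] theorem inv_t (a : Tw β) : a⁻¹.t = a.t⁻¹ * β a.g a.g := rfl

instance : Group (Tw β) := Group.ofLeftAxioms
  (fun a b c => by
    ext
    · simp [mul_assoc]
    · simp only [mul_t, mul_g, map_mul, MonoidHom.mul_apply, mul_assoc, mul_comm, mul_left_comm])
  (fun a => by ext <;> simp)
  (fun a => by
    ext
    · simp
    · simp only [mul_t, inv_t, inv_g, map_inv, MonoidHom.inv_apply, one_t]
      rw [mul_comm (a.t⁻¹), mul_assoc (β a.g a.g), inv_mul_cancel, mul_one, mul_inv_cancel])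

/-- projection -/
def proj (β : Γ →* Γ →* T) : Tw β →* Γ := MonoidHom.mk' (fun a => a.g) (fun _ _ => rfl)

/-- central part -/
def inT (β : Γ →* Γ →* T) : T →* Tw β := MonoidHom.mk' (fun t => ⟨1, t⟩) (fun a b => by
  ext <;> simp)

theorem proj_surj : Function.Surjective (proj β) := fun g => ⟨⟨g, 1⟩, rfl⟩

theorem mem_center {a : Tw β} (h : a.g ∈ center Γ) (h' : ∀ y, β y a.g = β a.g y) :
    a ∈ center (Tw β) := by
  rw [mem_center_iff]
  intro b
  ext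
  · exact mem_center_iff.1 h _
  · simp only [mul_t, h', mul_comm b.t]

theorem cext : CExt (proj β) := ⟨proj_surj, fun a ha => by
  have : a.g = 1 := ha
  exact mem_center (by rw [this]; exact one_mem _) (fun y => by simp [this])⟩

theorem inT_mem_commutator {x y : Γ} (h : x * y = y * x) :
    inT β (β x y * (β y x)⁻¹) ∈ commutator (Tw β) := by
  have : inT β (β x y * (β y x)⁻¹) = ⁅(⟨x, 1⟩ : Tw β), (⟨y, 1⟩ : Tw β)⁆ := by
    rw [commutatorElement_def, eq_mul_inv_iff_mul_eq, eq_mul_inv_iff_mul_eq]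
    ext
    · simp [inT, h]
    · simp [inT]
  rw [this]; exact commutator_mem_commutator (mem_top _) (mem_top _)

end Tw

section prod
variable {Q₁ : Type u} {Q₂ : Type v} [Group Q₁] [Group Q₂]

/-- the tensor product of the commutator quotients -/
abbrev AbTen (Q₁ : Type u) (Q₂ : Type v) [Group Q₁] [Group Q₂] :=
  Multiplicative (TensorProduct ℤ (Additive (Abelianization Q₁)) (Additive (Abelianization Q₂)))

/-- pure tensors -/
def abTen (Q₁ : Type u) (Q₂ : Type v) [Group Q₁] [Group Q₂] : Q₁ →* Q₂ →* AbTen Q₁ Q₂ :=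
  MonoidHom.mk' (fun x => MonoidHom.mk' (fun y => Multiplicative.ofAdd
    (Additive.ofMul (Abelianization.of x) ⊗ₜ[ℤ] Additive.ofMul (Abelianization.of y)))
    (fun a b => by rw [map_mul, ofMul_mul, TensorProduct.tmul_add, ofAdd_add]))
    (fun a b => MonoidHom.ext fun y => by
      simp only [MonoidHom.mk'_apply, MonoidHom.mul_apply]
      rw [map_mul, ofMul_mul, TensorProduct.add_tmul, ofAdd_add])

theorem abTen_induction (H : Subgroup (AbTen Q₁ Q₂)) (h : ∀ x y, abTen Q₁ Q₂ x y ∈ H)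
    (t : AbTen Q₁ Q₂) : t ∈ H := by
  have : ∀ s, Multiplicative.ofAdd s ∈ H := by
    intro s
    induction s using TensorProduct.induction_on with
    | zero => exact one_mem _
    | tmul a b =>
      obtain ⟨x, hx⟩ := QuotientGroup.mk_surjective a.toMul
      obtain ⟨y, hy⟩ := QuotientGroup.mk_surjective b.toMul
      have h1 : a = Additive.ofMul (Abelianization.of x) := congrArg Additive.ofMul hx.symm
      have h2 : b = Additive.ofMul (Abelianization.of y) := congrArg Additive.ofMul hy.symm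
      rw [h1, h2]; exact h x y
    | add a b ha hb => rw [ofAdd_add]; exact mul_mem ha hb
  exact this t.toAdd

theorem exists_abTen_lift {K : Type w} [CommGroup K] (b : Q₁ →* Q₂ →* K) :
    ∃ f : AbTen Q₁ Q₂ →* K, ∀ x y, f (abTen Q₁ Q₂ x y) = b x y := by
  let b1 : Abelianization Q₂ →* Q₁ →* K := Abelianization.lift b.flip
  let b2 : Abelianization Q₁ →* Abelianization Q₂ →* K := Abelianization.lift b1.flip
  let l : Additive (Abelianization Q₁) →ₗ[ℤ] Additive (Abelianization Q₂) →ₗ[ℤ] Additive K :=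
    (AddMonoidHom.mk' (fun a => (MonoidHom.toAdditive (b2 a.toMul)).toIntLinearMap) (fun a a' => by
      apply LinearMap.ext
      intro y
      show Additive.ofMul (b2 (a.toMul * a'.toMul) y.toMul) = _
      rw [map_mul]; rfl)).toIntLinearMap
  exact ⟨AddMonoidHom.toMultiplicativeLeft (TensorProduct.lift l).toAddMonoidHom, fun x y => rfl⟩

theorem prod_bound {A : Type w} {B : Type x} [CommGroup A] [CommGroup B]
    (hA : HasSchurMultiplier Q₁ A) (hB : HasSchurMultiplier Q₂ B) {Γ : Type*} [Group Γ]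
    {σ : Γ →* Q₁ × Q₂} (hσ : IsStemExtension σ) :
    ∃ π : A × B × AbTen Q₁ Q₂ →* σ.ker, Function.Surjective π := by
  letI := centCommGroup hσ.2.1
  let H₁ := ((MonoidHom.snd Q₁ Q₂).comp σ).ker
  let H₂ := ((MonoidHom.fst Q₁ Q₂).comp σ).ker
  choose s hs using hσ.1
  let ξ₁ : H₁ →* Q₁ := ((MonoidHom.fst Q₁ Q₂).comp σ).comp H₁.subtype
  let ξ₂ : H₂ →* Q₂ := ((MonoidHom.snd Q₁ Q₂).comp σ).comp H₂.subtype
  have m₁ : ∀ x, s (x, 1) ∈ H₁ := fun x => by show (σ (s _)).2 = 1; rw [hs]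
  have m₂ : ∀ x, s (1, x) ∈ H₂ := fun x => by show (σ (s _)).1 = 1; rw [hs]
  have k₁ : ∀ a : H₁, ξ₁ a = 1 → (a : Γ) ∈ σ.ker := fun a ha => Prod.ext ha a.2
  have k₂ : ∀ a : H₂, ξ₂ a = 1 → (a : Γ) ∈ σ.ker := fun a ha => Prod.ext a.2 ha
  have c₁ : CExt ξ₁ := ⟨fun x => ⟨⟨_, m₁ x⟩, by show (σ (s _)).1 = x; rw [hs]⟩, fun a ha =>
    mem_center_iff.2 fun b => Subtype.ext (mem_center_iff.1 (hσ.2.1 (k₁ a ha)) b)⟩
  have c₂ : CExt ξ₂ := ⟨fun x => ⟨⟨_, m₂ x⟩, by show (σ (s _)).2 = x; rw [hs]⟩, fun a ha =>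
    mem_center_iff.2 fun b => Subtype.ext (mem_center_iff.1 (hσ.2.1 (k₂ a ha)) b)⟩
  obtain ⟨g₁, hg₁⟩ := exists_surj_mult hA c₁
  obtain ⟨g₂, hg₂⟩ := exists_surj_mult hB c₂
  let j₁ : mult ξ₁ →* σ.ker := (H₁.subtype.comp (mult ξ₁).subtype).codRestrict _
    (fun a => k₁ a a.2.1)
  let j₂ : mult ξ₂ →* σ.ker := (H₂.subtype.comp (mult ξ₂).subtype).codRestrict _
    (fun a => k₂ a a.2.1)
  have hk : ∀ x y, ⁅s (x, 1), s (1, y)⁆ ∈ σ.ker := fun x y => by
    rw [MonoidHom.mem_ker, map_commutatorElement, hs, hs, commutatorElement_eq_one_iff_mul_comm]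
    simp
  let b : Q₁ →* Q₂ →* σ.ker := MonoidHom.mk' (fun x => MonoidHom.mk' (fun y => ⟨_, hk x y⟩)
    (fun y y' => Subtype.ext (by
      show _ = ⁅s (x, 1), s (1, y)⁆ * ⁅s (x, 1), s (1, y')⁆
      rw [← H27.comm_mul_right_of_ker hσ.2.1 (hk x y')]
      exact H27.comm_congr hσ.2.1 rfl (by rw [map_mul, hs, hs, hs]; simp))))
    (fun x x' => MonoidHom.ext fun y => Subtype.ext (by
      show ⁅s (x * x', 1), s (1, y)⁆ = ⁅s (x, 1), s (1, y)⁆ * ⁅s (x', 1), s (1, y)⁆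
      rw [← H27.comm_mul_left_of_ker hσ.2.1 (hk x' y)]
      exact H27.comm_congr hσ.2.1 (by rw [map_mul, hs, hs, hs]; simp) rfl))
  obtain ⟨f, hf⟩ := exists_abTen_lift b
  refine ⟨(j₁.comp g₁).coprod ((j₂.comp g₂).coprod f), fun z => ?_⟩
  let C : Subgroup Γ := f.range.map σ.ker.subtype
  have hC : C ≤ σ.ker := map_subtype_le _
  haveI : C.Normal := H27.normal_of_le_ker hσ.2.1 hC
  have hN : commutator Γ ≤ (⁅H₁, H₁⁆ ⊔ ⁅H₂, H₂⁆) ⊔ C := by
    let q := QuotientGroup.mk' ((⁅H₁, H₁⁆ ⊔ ⁅H₂, H₂⁆) ⊔ C)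
    have hq : ∀ a b, ⁅a, b⁆ ∈ (⁅H₁, H₁⁆ ⊔ ⁅H₂, H₂⁆) ⊔ C → Commute (q a) (q b) := fun a b h => by
      rw [← commutatorElement_eq_one_iff_commute, ← map_commutatorElement]
      exact (QuotientGroup.eq_one_iff _).2 h
    have h11 : ∀ x y, Commute (q (s (x, 1))) (q (s (y, 1))) := fun x y =>
      hq _ _ (mem_sup_left (mem_sup_left (commutator_mem_commutator (m₁ x) (m₁ y))))
    have h22 : ∀ x y, Commute (q (s (1, x))) (q (s (1, y))) := fun x y =>
      hq _ _ (mem_sup_left (mem_sup_right (commutator_mem_commutator (m₂ x) (m₂ y))))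
    have h12 : ∀ x y, Commute (q (s (x, 1))) (q (s (1, y))) := fun x y =>
      hq _ _ (mem_sup_right ⟨_, ⟨_, hf x y⟩, rfl⟩)
    rw [_root_.commutator_def, commutator_le]
    intro a _ c _
    rw [H27.comm_congr hσ.2.1 (a' := s ((σ a).1, 1) * s (1, (σ a).2))
      (b' := s ((σ c).1, 1) * s (1, (σ c).2)) (by rw [map_mul, hs, hs]; simp)
      (by rw [map_mul, hs, hs]; simp), ← QuotientGroup.eq_one_iff]
    show q _ = 1
    rw [map_commutatorElement, commutatorElement_eq_one_iff_commute, map_mul, map_mul]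
    exact ((h11 _ _).mul_right (h12 _ _)).mul_left ((h12 _ _).symm.mul_right (h22 _ _))
  obtain ⟨y, hy, _, ⟨c, ⟨t, rfl⟩, rfl⟩, h1⟩ := mem_sup_of_normal_right.1 (hN (hσ.2.2 z.2))
  obtain ⟨a₁, ha₁, a₂, ha₂, rfl⟩ := mem_sup_of_normal_right.1 hy
  have h2 : σ a₁ * σ a₂ = 1 := by
    have h3 := congrArg σ h1
    rw [map_mul, map_mul, (MonoidHom.mem_ker).1 z.2] at h3
    rwa [show σ (σ.ker.subtype (f t)) = 1 from (f t).2, mul_one] at h3
  rw [← map_subtype_commutator] at ha₁ ha₂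
  obtain ⟨a₁, ha₁, rfl⟩ := ha₁
  obtain ⟨a₂, ha₂, rfl⟩ := ha₂
  have h4 : ξ₁ a₁ = 1 := by
    have := congrArg Prod.fst h2
    rwa [Prod.fst_mul, show (σ (H₂.subtype a₂)).1 = 1 from a₂.2, mul_one] at this
  have h5 : ξ₂ a₂ = 1 := by
    have := congrArg Prod.snd h2
    rwa [Prod.snd_mul, show (σ (H₁.subtype a₁)).2 = 1 from a₁.2, one_mul] at this
  obtain ⟨u₁, hu₁⟩ := hg₁ ⟨a₁, h4, ha₁⟩
  obtain ⟨u₂, hu₂⟩ := hg₂ ⟨a₂, h5, ha₂⟩
  refine ⟨(u₁, u₂, t), Subtype.ext ?_⟩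
  rw [← h1]
  simp only [MonoidHom.coprod_apply, MonoidHom.comp_apply, hu₁, hu₂, coe_mul, mul_assoc]
  rfl

theorem hasSchur_prod {A : Type w} {B : Type x} [CommGroup A] [CommGroup B]
    (hA : HasSchurMultiplier Q₁ A) (hB : HasSchurMultiplier Q₂ B) :
    HasSchurMultiplier (Q₁ × Q₂) (A × B × AbTen Q₁ Q₂) := by
  refine ⟨?_, fun Γ _ _ σ hσ => prod_bound hA hB hσ⟩
  have := (finite_of_hasSchur hA).1
  have := (finite_of_hasSchur hB).1
  obtain ⟨Γ₁, _, _, σ₁, h₁, ⟨e₁⟩⟩ := hA.1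
  obtain ⟨Γ₂, _, _, σ₂, h₂, ⟨e₂⟩⟩ := hB.1
  let β : Γ₁ × Γ₂ →* Γ₁ × Γ₂ →* AbTen Q₁ Q₂ :=
    (((abTen Q₁ Q₂).comp (σ₁.comp (MonoidHom.fst _ _))).flip.comp (σ₂.comp (MonoidHom.snd _ _))).flip
  have hβ : ∀ x y, β x y = abTen Q₁ Q₂ (σ₁ x.1) (σ₂ y.2) := fun x y => rfl
  let σ : Tw β →* Q₁ × Q₂ := (σ₁.prodMap σ₂).comp (Tw.proj β)
  have hσ : ∀ a, σ a = (σ₁ a.g.1, σ₂ a.g.2) := fun a => rfl
  let ι₁ : Γ₁ →* Tw β := MonoidHom.mk' (fun a => ⟨(a, 1), 1⟩) (fun a b => by ext <;> simp [hβ])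
  let ι₂ : Γ₂ →* Tw β := MonoidHom.mk' (fun a => ⟨(1, a), 1⟩) (fun a b => by ext <;> simp [hβ])
  have hst : IsStemExtension σ := by
    refine ⟨fun q => ?_, fun a ha => ?_, fun a ha => ?_⟩
    · obtain ⟨a, ha⟩ := h₁.1 q.1
      obtain ⟨b, hb⟩ := h₂.1 q.2
      exact ⟨⟨(a, b), 1⟩, Prod.ext ha hb⟩
    · have h3 : σ₁ a.g.1 = 1 := congrArg Prod.fst ((MonoidHom.mem_ker).1 ha)
      have h4 : σ₂ a.g.2 = 1 := congrArg Prod.snd ((MonoidHom.mem_ker).1 ha)
      refine Tw.mem_center (mem_center_iff.2 fun b => Prod.ext ?_ ?_) (fun y => ?_)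
      · exact mem_center_iff.1 (h₁.2.1 h3) _
      · exact mem_center_iff.1 (h₂.2.1 h4) _
      · simp [hβ, h3, h4]
    · have h3 : σ₁ a.g.1 = 1 := congrArg Prod.fst ((MonoidHom.mem_ker).1 ha)
      have h4 : σ₂ a.g.2 = 1 := congrArg Prod.snd ((MonoidHom.mem_ker).1 ha)
      have h5 : a = ι₁ a.g.1 * ι₂ a.g.2 * Tw.inT β a.t := by
        ext <;> simp [ι₁, ι₂, Tw.inT, hβ, h3]
      rw [h5]
      refine mul_mem (mul_mem (map_mem_commutator _ (h₁.2.2 h3)) (map_mem_commutator _ (h₂.2.2 h4)))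
        (abTen_induction ((commutator _).comap (Tw.inT β)) (fun x y => ?_) a.t)
      obtain ⟨x, rfl⟩ := h₁.1 x
      obtain ⟨y, rfl⟩ := h₂.1 y
      have := Tw.inT_mem_commutator (β := β) (x := (x, 1)) (y := (1, y)) (by simp)
      simpa [hβ] using this
  have := finite_of_stem hst
  let k : σ₁.ker × σ₂.ker × AbTen Q₁ Q₂ →* σ.ker := MonoidHom.mk'
    (fun a => ⟨⟨(a.1, a.2.1), a.2.2⟩, Prod.ext a.1.2 a.2.1.2⟩) (fun a b => Subtype.ext (by
      have h3 : σ₁ a.1 = 1 := a.1.2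
      ext <;> simp [hβ, h3]))
  have hk : Function.Bijective k := by
    refine ⟨fun a b h => ?_, fun a => ⟨(⟨a.1.g.1, congrArg Prod.fst ((MonoidHom.mem_ker).1 a.2)⟩,
      ⟨a.1.g.2, congrArg Prod.snd ((MonoidHom.mem_ker).1 a.2)⟩, a.1.t), rfl⟩⟩
    have h3 := congrArg (fun y : σ.ker => y.1.g.1) h
    have h4 := congrArg (fun y : σ.ker => y.1.g.2) h
    have h5 := congrArg (fun y : σ.ker => y.1.t) h
    exact Prod.ext (Subtype.ext h3) (Prod.ext (Subtype.ext h4) h5)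
  exact H27.schur_exists hst ((MulEquiv.ofBijective k hk).symm.trans
    (e₁.prodCongr (e₂.prodCongr (MulEquiv.refl _))))

theorem abTen_subsingleton (h : (Nat.card (Abelianization Q₁)).Coprime (Nat.card (Abelianization Q₂))) :
    Subsingleton (AbTen Q₁ Q₂) := by
  refine subsingleton_of_forall_eq 1 (fun t => ?_)
  refine mem_bot.1 (abTen_induction ⊥ (fun x y => mem_bot.2 ?_) t)
  have h1 : abTen Q₁ Q₂ x y ^ Nat.card (Abelianization Q₁) = 1 := by
    have : abTen Q₁ Q₂ x y = Abelianization.lift ((abTen Q₁ Q₂).flip y) (Abelianization.of x) := rfl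
    rw [this, ← map_pow, pow_card_eq_one', map_one]
  have h2 : abTen Q₁ Q₂ x y ^ Nat.card (Abelianization Q₂) = 1 := by
    have : abTen Q₁ Q₂ x y = Abelianization.lift (abTen Q₁ Q₂ x) (Abelianization.of y) := rfl
    rw [this, ← map_pow, pow_card_eq_one', map_one]
  have := pow_gcd_eq_one.2 ⟨h1, h2⟩
  rwa [h.gcd_eq_one, pow_one] at this

end prod

end Cfsg.Agent.H25
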