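import Mathlib
import Cfsg.Agent.S0907
import Cfsg.Agent.H8.Val
import Cfsg.Agent.H4.Integral
import Cfsg.Agent.H25.ClassSize
import Cfsg.Agent.H1.Coprime
import Cfsg.Agent.H3.PNil
import Cfsg.Agent.H10.Cores
import Cfsg.Agent.H2.Basic
import Cfsg.Agent.H26.Basic

namespace Cfsg.Agent.H25
open Cfsg Cfsg.Agent.H4 Cfsg.Agent.H6 Cfsg.Agent.H8
open scoped ComplexConjugate

universe u
variable {G : Type u} [Group G]

theorem pow_eq_one_of_normalClosure_eq_top {A : Type*} [CommGroup A] (f : G →* A) {x : G} {n : ℕ}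
    (hx : x ^ n = 1) (hN : Subgroup.normalClosure ({x} : Set G) = ⊤) (g : G) : f g ^ n = 1 := by
  have h : Subgroup.normalClosure ({x} : Set G) ≤ ((powMonoidHom n).comp f).ker := by
    apply Subgroup.normalClosure_le_normal
    rintro _ rfl
    simp [MonoidHom.mem_ker, ← map_pow, hx]
  have := h (hN ▸ Subgroup.mem_top g)
  simpa [MonoidHom.mem_ker] using this

theorem kazarin_char [Finite G] {x y : G} {p r k a : ℕ} (hp : p.Prime) (hr : r.Prime)
    (hne : r ≠ p) (hx : x ^ r ^ a = 1)
    (hcl : (Subgroup.centralizer ({x} : Set G)).index = p ^ k)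
    (hN : Subgroup.normalClosure ({x} : Set G) = ⊤) (hy : y ∈ commutator G)
    (hyr : r ∣ orderOf y) : False := by
  classical
  haveI : Fact r.Prime := ⟨hr⟩
  obtain ⟨M, hM⟩ := exists_isPModular hr
  obtain ⟨M', hM'⟩ := exists_isPModular hp
  haveI := hM.2.1
  haveI := hM'.2.1
  set B := principalBlock M G with hB
  have hsum := Cfsg.Agent.S0907.result r M hM B H8.isPBlock_principal 1 y
    (by simpa using hr.one_lt.ne') hyr
  rw [finsum_mem_bfin] at hsum
  -- members of B do not vanish at x
  have hnz : ∀ χ : IrrCharacter G, χ ∈ B → (χ : G → ℂ) x ≠ 0 := by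
    intro χ hχ h0
    have h1 : SameBlock M (fun _ : G => (1 : ℂ)) (χ : G → ℂ) := hχ
    have h2 := redC_centralChar_eq isIrrCharacter_one χ.2 h1 x
    simp only [centralChar, h0, hcl, mul_one, div_one, mul_zero, zero_div, redC_zero,
      redC_natCast] at h2
    rw [natCast_res_eq_zero_iff hM] at h2
    exact hne ((Nat.prime_dvd_prime_iff_eq hr hp).1 (hr.dvd_of_dvd_pow h2))
  have hlin : ∀ χ : IrrCharacter G, χ ∈ B → ¬ p ∣ charDegree (χ : G → ℂ) → (χ : G → ℂ) 1 = 1 := by
    intro χ hχ hd
    have hcop : Nat.Coprime (charDegree (χ : G → ℂ)) (Subgroup.centralizer ({x} : Set G)).index := by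
      rw [hcl]
      exact Nat.Coprime.pow_right _ ((Nat.Prime.coprime_iff_not_dvd hp).2 hd).symm
    rcases χ.2.eq_zero_or_norm_eq_of_coprime (irr_coe_charDegree χ).symm hcop with h | h
    · exact absurd h (hnz χ hχ)
    · have hxc : x ∈ charCenter (χ : G → ℂ) := χ.2.isCharacter.mem_charCenter.2 h
      haveI := χ.2.isCharacter.isClassFunction.charCenter_normal
      have htop : charCenter (χ : G → ℂ) = ⊤ := by
        rw [eq_top_iff, ← hN]
        exact Subgroup.normalClosure_le_normal (by simpa using hxc)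
      have := χ.2.degree_dvd_index_charCenter (irr_coe_charDegree χ).symm
      rw [htop, Subgroup.index_top, Nat.dvd_one] at this
      exact (irr_charDegree_eq_one_iff χ).1 this
  have hinB : ∀ χ : IrrCharacter G, (χ : G → ℂ) 1 = 1 → χ ∈ B := by
    intro χ h1
    obtain ⟨lam, hlam⟩ := χ.2.isCharacter.exists_linear h1
    intro g
    rw [memLocalIdeal_sub_iff (H8.centralChar_mem isIrrCharacter_one g) (H8.centralChar_mem χ.2 g)]
    have h2 : ((lam g : ℂˣ) : ℂ) ^ r ^ a = 1 := by
      have := pow_eq_one_of_normalClosure_eq_top lam hx hN g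
      rw [← Units.val_pow_eq_pow_val, this, Units.val_one]
    have h3 : (χ : G → ℂ) g = (lam g : ℂ) := by rw [hlam]
    simp only [centralChar, h1, div_one, mul_one, h3]
    rw [redC_mul (by exact natCast_mem _ _)
      (mem_locRing_of_pow_eq_one (pow_ne_zero a hr.ne_zero) h2), redC_eq_one_of_pow_eq_one hM h2,
      mul_one]
  -- reduce the sum modulo M'
  have hred := congrArg (redC M') hsum
  rw [redC_zero, redC_sum _ (fun (χ : IrrCharacter G) _ => Subring.mul_mem _
    (H8.char_mem χ.2.isGen 1)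
    (H8.conj_char_mem χ.2.isGen y))] at hred
  have hterm : ∀ χ ∈ bfin B, redC M' ((χ : G → ℂ) 1 * conj ((χ : G → ℂ) y)) =
      if (χ : G → ℂ) 1 = 1 then 1 else 0 := by
    intro χ hχ
    rw [mem_bfin] at hχ
    split_ifs with h1
    · have hk := (χ.2.commutator_le_charKer_iff).2 h1 hy
      have : (χ : G → ℂ) y = (χ : G → ℂ) 1 := (χ.2.isCharacter.mem_charKer).1 hk
      rw [this, h1]; simp
    · have hd : p ∣ charDegree (χ : G → ℂ) := by
        by_contra hd
        exact h1 (hlin χ hχ hd)
      rw [redC_mul (H8.char_mem χ.2.isGen 1)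
        (H8.conj_char_mem χ.2.isGen y), ← irr_coe_charDegree χ,
        redC_natCast, (natCast_res_eq_zero_iff hM' _).2 hd, zero_mul]
  rw [Finset.sum_congr rfl hterm, Finset.sum_boole, natCast_res_eq_zero_iff hM'] at hred
  have hcard : ((bfin B).filter fun χ : IrrCharacter G => (χ : G → ℂ) 1 = 1).card =
      (commutator G).index := by
    rw [← card_irr_degree_one, Nat.card_eq_fintype_card, Fintype.card_subtype]
    congr 1
    ext χ
    simp only [Finset.mem_filter, mem_bfin, Finset.mem_univ, true_and, and_iff_right_iff_imp]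
    exact hinB χ
  rw [hcard] at hred
  -- the abelianization is an r-group
  have hPG : IsPGroup r (Abelianization G) := by
    intro z
    obtain ⟨g, rfl⟩ := QuotientGroup.mk_surjective z
    exact ⟨a, pow_eq_one_of_normalClosure_eq_top (Abelianization.of) hx hN g⟩
  obtain ⟨n, hn⟩ := IsPGroup.iff_card.1 hPG
  have hidx : (commutator G).index = r ^ n := hn
  rw [hidx] at hred
  exact hne ((Nat.prime_dvd_prime_iff_eq hp hr).1 (hp.dvd_of_dvd_pow hred)).symm

theorem isSolvable_of_normalizes_sylow [Finite G] {x : G} {p k : ℕ} [hp : Fact p.Prime]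
    (hcl : (Subgroup.centralizer ({x} : Set G)).index = p ^ k)
    (hN : Subgroup.normalClosure ({x} : Set G) = ⊤) {P : Subgroup G}
    (hP : H1.IsSylowIn p P ⊤) (hxP : Subgroup.zpowers x ≤ Subgroup.normalizer (P : Set G)) :
    Group.IsSolvable G := by
  have hsol : Group.IsSolvable ↥(Subgroup.zpowers x ⊔ P) :=
    H10.isSolvable_sup hxP (H1.isSolvable_zpowers x) (H1.isSolvable_of_isPGroup hP.isPGroup)
  have htop : Subgroup.zpowers x ⊔ P = ⊤ := by
    rw [eq_top_iff, ← hN, Subgroup.normalClosure, Subgroup.closure_le]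
    intro z hz
    obtain ⟨b, hb, hc⟩ := Group.mem_conjugatesOfSet_iff.1 hz
    rw [Set.mem_singleton_iff] at hb
    subst hb
    obtain ⟨g, rfl⟩ := isConj_iff.1 hc
    have hcop : (P.relIndex ⊤).Coprime ((Subgroup.centralizer ({b} : Set G)).relIndex ⊤) := by
      rw [Subgroup.relIndex_top_right (Subgroup.centralizer _), hcl]
      exact Nat.Coprime.pow_right _ ((Nat.Prime.coprime_iff_not_dvd hp.out).2 hP.not_dvd).symm
    obtain ⟨u, hu, c, hc2, rfl⟩ := H1.exists_mul_of_coprime_relIndex le_top le_top hcop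
      (Subgroup.mem_top g)
    have hc' : c * b = b * c := (Subgroup.mem_centralizer_singleton_iff.1 hc2)
    have : u * c * b * (u * c)⁻¹ = u * b * u⁻¹ := by
      rw [mul_assoc u c b, hc']; group
    rw [this]
    have hu' : u ∈ Subgroup.zpowers b ⊔ P := Subgroup.mem_sup_right hu
    exact Subgroup.mul_mem _ (Subgroup.mul_mem _ hu'
      (Subgroup.mem_sup_left (Subgroup.mem_zpowers b))) (Subgroup.inv_mem _ hu')
  rw [htop] at hsol
  exact solvable_of_surjective (f := (⊤ : Subgroup G).subtype) (fun g => ⟨⟨g, trivial⟩, rfl⟩)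

theorem kazarin_top [Finite G] {x : G} {p r k a : ℕ} (hp : p.Prime) (hr : r.Prime)
    (hx : x ^ r ^ a = 1) (hcl : (Subgroup.centralizer ({x} : Set G)).index = p ^ k)
    (hN : Subgroup.normalClosure ({x} : Set G) = ⊤) : Group.IsSolvable G := by
  have : Fact p.Prime := ⟨hp⟩
  have : Fact r.Prime := ⟨hr⟩
  have hxr : IsPGroup r (Subgroup.zpowers x) := by
    rintro ⟨z, n, rfl⟩
    refine ⟨a, Subtype.ext ?_⟩
    simp only [SubgroupClass.coe_pow, OneMemClass.coe_one]
    rw [← zpow_natCast, ← zpow_mul, mul_comm, zpow_mul, zpow_natCast, hx, one_zpow]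
  by_cases hne : r = p
  · subst hne
    obtain ⟨P, hP, hxP⟩ := H1.exists_isSylowIn_ge (le_top (a := Subgroup.zpowers x)) hxr
    exact isSolvable_of_normalizes_sylow hcl hN hP (hxP.trans Subgroup.le_normalizer)
  by_cases hd : r ∣ Nat.card (commutator G)
  · obtain ⟨y, hy⟩ := exists_prime_orderOf_dvd_card' r hd
    exact (kazarin_char hp hr hne hx hcl hN y.2 (by rw [Subgroup.orderOf_coe, hy])).elim
  obtain ⟨n, hn⟩ := IsPGroup.iff_card.1 hxr
  have hcop : (Nat.card (Subgroup.zpowers x)).Coprime (Nat.card (commutator G)) := by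
    rw [hn]
    exact Nat.Coprime.pow_left _ ((Nat.Prime.coprime_iff_not_dvd hr).2 hd)
  obtain ⟨P, hP, hxP⟩ := H1.exists_invariant_isSylowIn p (A := Subgroup.zpowers x)
    (K := commutator G) (by rw [Subgroup.normalizer_eq_top]; exact le_top) hcop
    (Or.inl (H1.isSolvable_zpowers x))
  have hPG : IsPGroup r (Abelianization G) := by
    intro z
    obtain ⟨g, rfl⟩ := QuotientGroup.mk_surjective z
    exact ⟨a, pow_eq_one_of_normalClosure_eq_top (Abelianization.of) hx hN g⟩
  obtain ⟨m, hm⟩ := IsPGroup.iff_card.1 hPG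
  have hidx : (commutator G).index = r ^ m := hm
  refine isSolvable_of_normalizes_sylow hcl hN (hP.trans le_top ?_) hxP
  rw [Subgroup.relIndex_top_right, hidx]
  intro h
  exact hne ((Nat.prime_dvd_prime_iff_eq hp hr).1 (hp.dvd_of_dvd_pow h)).symm

theorem kazarin_prime_pow {p r a : ℕ} (hp : p.Prime) (hr : r.Prime) (G : Type u) [Group G]
    [Finite G] : ∀ (x : G) (k : ℕ), x ^ r ^ a = 1 →
      (Subgroup.centralizer ({x} : Set G)).index = p ^ k →
      x ∈ H10.radOf (fun N : Subgroup G => Group.IsSolvable N) ⊤ := by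
  refine H2.card_induction (P := fun G _ _ => ∀ (x : G) (k : ℕ), x ^ r ^ a = 1 →
      (Subgroup.centralizer ({x} : Set G)).index = p ^ k →
      x ∈ H10.radOf (fun N : Subgroup G => Group.IsSolvable N) ⊤) ?_ G
  intro G _ _ ih x k hx hcl
  set L := Subgroup.normalClosure ({x} : Set G) with hL
  have hxL : x ∈ L := Subgroup.subset_normalClosure rfl
  by_cases hN : L = ⊤
  · have := kazarin_top hp hr hx hcl hN
    exact H10.le_radOf (N := ⊤) le_rfl (by rw [Subgroup.normalizer_eq_top])
      (inferInstance : Group.IsSolvable (⊤ : Subgroup G)) trivial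
  · have hdvd := index_centralizer_normal_dvd L ⟨x, hxL⟩
    rw [hcl] at hdvd
    obtain ⟨j, -, hj⟩ := (Nat.dvd_prime_pow hp).1 hdvd
    have h1 := ih L (H10.card_lt_card_of_ne_top hN) ⟨x, hxL⟩ j (Subtype.ext (by simpa using hx)) hj
    set R := H10.radOf (fun N : Subgroup L => Group.IsSolvable N) ⊤ with hR
    obtain ⟨-, h2, h3⟩ := (H10.fitPred_solvable (G := L)).radOf_mem ⊤
    have hRn : R.Normal := H10.normal_of_normalizer_top h2
    have hsub : H10.SubnormalIn (R.map L.subtype) ⊤ :=
      H10.SubnormalIn.step (B := L) (Subgroup.map_subtype_le R)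
        (H10.le_normalizer_map_subtype R)
        (H10.SubnormalIn.of_normal le_top (by rw [Subgroup.normalizer_eq_top]))
    exact H10.fitPred_solvable.le_radOf_of_subnormal hsub (H10.isSolvable_map R _ h3)
      ⟨⟨x, hxL⟩, h1, rfl⟩

theorem kazarin [Finite G] (x : G) {p k : ℕ} (hp : p.Prime)
    (hcl : (Subgroup.centralizer ({x} : Set G)).index = p ^ k) :
    Group.IsSolvable (Subgroup.normalClosure ({x} : Set G)) := by
  set R := H10.radOf (fun N : Subgroup G => Group.IsSolvable N) ⊤ with hR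
  obtain ⟨-, h2, h3⟩ := (H10.fitPred_solvable (G := G)).radOf_mem ⊤
  have hRn : R.Normal := H10.normal_of_normalizer_top h2
  have hx : x ∈ R := by
    apply H26.mem_of_forall_prime_pow
    intro r hr _
    have ho : orderOf x ≠ 0 := (orderOf_pos x).ne'
    refine ⟨ordCompl[r] (orderOf x), Nat.not_dvd_ordCompl hr ho, ?_⟩
    have hle : Subgroup.centralizer ({x} : Set G) ≤
        Subgroup.centralizer ({x ^ ordCompl[r] (orderOf x)} : Set G) := by
      intro c hc
      rw [Subgroup.mem_centralizer_singleton_iff] at hc ⊢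
      exact (Commute.pow_right hc _)
    have hdvd := Subgroup.index_dvd_of_le hle
    rw [hcl] at hdvd
    obtain ⟨j, -, hj⟩ := (Nat.dvd_prime_pow hp).1 hdvd
    refine kazarin_prime_pow (a := (orderOf x).factorization r) hp hr G _ j ?_ hj
    rw [← pow_mul, mul_comm, Nat.ordProj_mul_ordCompl_eq_self, pow_orderOf_eq_one]
  exact H10.isSolvable_of_le (Subgroup.normalClosure_le_normal (by simpa using hx)) h3

end Cfsg.Agent.H25
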