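/-
Tools for groups with few conjugacy class sizes: abelian centralizers and their normalizers.
-/
import Cfsg.Agent.H21.Hol
import Cfsg.Agent.H1.ThompsonFPF
import Cfsg.Agent.H3.Frobenius
import Cfsg.Agent.H25.Kazarin
import Cfsg.Agent.H26.ClassSize
import Cfsg.Agent.H26.PiPart

set_option autoImplicit false
set_option linter.style.haveILetI false

namespace Cfsg.Agent.H25

open Subgroup Cfsg.Agent.H20 Cfsg.Agent.H21
open scoped Pointwise commutatorElement

variable {G : Type*} [Group G] [Finite G]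

theorem exists_pow_prime_order {k : G} (h : k ≠ 1) : ∃ y ∈ zpowers k, (orderOf y).Prime := by
  obtain ⟨p, hp, hd⟩ := exists_prime_dvd_card (A := zpowers k) (by simpa using h)
  obtain ⟨y, hy, ho⟩ := exists_prime_order_mem hp hd
  exact ⟨y, hy, ho ▸ hp⟩

/-- `H` acts on the abelian group `V`, fixing `Z`, and nonidentity elements fix nothing outside `Z`. -/
structure PhiHyp (V H Z : Subgroup G) : Prop where
  comm : IsMulCommutative V
  norm : H ≤ N⟦V⟧
  cent : H ≤ C⟦Z⟧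
  fix : ∀ h ∈ H, h ≠ 1 → V ⊓ C₁⟦h⟧ ≤ Z

namespace PhiHyp

variable {V H Z : Subgroup G} (h : PhiHyp V H Z)
include h

theorem not_cent {s : ℕ} (hs : ¬ piCoreOf {s} V ≤ Z) {K : Subgroup G} (hK : K ≤ H) (h1 : K ≠ ⊥) :
    ¬ K ≤ C⟦piCoreOf {s} V⟧ := by
  intro hc
  obtain ⟨k, hk, k1⟩ := exists_ne_one h1
  exact hs ((le_inf (piCoreOf_le _ _) ((cent_symm hc).trans (cent_le_cent1 hk))).trans (h.fix k (hK hk) k1))

theorem commg_fpf {s : ℕ} [Fact s.Prime] {K : Subgroup G} (hK : K ≤ H) (hc : (♯K).Coprime s) {g : G} (hg : g ∈ H)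
    (g1 : g ≠ 1) : ⁅piCoreOf {s} V, K⁆ ⊓ C₁⟦g⟧ = ⊥ := by
  have hn : K ≤ N⟦piCoreOf {s} V⟧ := norm_piCoreOf _ (hK.trans h.norm)
  have h1 := coprime_comm_commg_inf_cent (comm_of_le (piCoreOf_le {s} V) h.comm) hn
    (coprime_of_isPGroup (isPGroup_piCoreOf s V) hc)
  rw [eq_bot_iff, ← h1]
  refine le_inf inf_le_left ?_
  refine ((inf_le_inf_right _ ((commg_le_left hn).trans (piCoreOf_le _ _))).trans (h.fix g hg g1)).trans ?_
  exact cent_symm (hK.trans h.cent)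

theorem not_norm {s : ℕ} [Fact s.Prime] (hs : ¬ piCoreOf {s} V ≤ Z) {g : G} (hg : g ∈ H) (g1 : g ≠ 1)
    (hgs : IsPGroup s (zpowers g)) {K : Subgroup G} (hK : K ≤ H) (h1 : K ≠ ⊥) (hc : (♯K).Coprime s)
    (hn : g ∈ N⟦K⟧) : False := by
  have hn' : K ≤ N⟦piCoreOf {s} V⟧ := norm_piCoreOf _ (hK.trans h.norm)
  have hW : ⁅piCoreOf {s} V, K⁆ ≠ ⊥ := fun e => h.not_cent hs hK h1 (cent_symm (commg_eq_bot.1 e))
  refine inf_cent_ne_bot_of_pgroup ((isPGroup_piCoreOf s V).to_le (commg_le_left hn')) hgs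
    (norm_commutator (norm_piCoreOf _ ((zpowers_le.2 hg).trans h.norm)) (zpowers_le.2 hn)) hW ?_
  rw [cent_zpowers]
  exact h.commg_fpf hK hc hg g1

theorem false {s t : ℕ} (hs : s.Prime) (ht : t.Prime) (hst : s ≠ t) (hsV : ¬ piCoreOf {s} V ≤ Z)
    (htV : ¬ piCoreOf {t} V ≤ Z) (hsH : s ∣ ♯H) (htH : t ∣ ♯H) : False := by
  haveI := Fact.mk hs
  haveI := Fact.mk ht
  have key : ∀ U ≤ H, IsPGroup s U → U ≠ ⊥ → ∀ k ∈ H, k ∈ N⟦U⟧ → (orderOf k).Coprime s → k = 1 := by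
    intro U hU hUs U1 k hk hkn hc
    by_contra k1
    obtain ⟨y, hy, hp⟩ := exists_pow_prime_order k1
    have hyH : y ∈ H := zpowers_le.2 hk hy
    have hyn : y ∈ N⟦U⟧ := zpowers_le.2 hkn hy
    have y1 : y ≠ 1 := by rintro rfl; simp at hp; exact Nat.not_prime_one hp
    have hyc : (♯(zpowers y)).Coprime s := by
      rw [Nat.card_zpowers]; exact hc.coprime_dvd_left (orderOf_dvd_of_mem_zpowers hy)
    have hQ : U ⊓ C₁⟦y⟧ = ⊥ := by
      by_contra e
      obtain ⟨u, hu, u1⟩ := exists_ne_one e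
      refine h.not_norm hsV (hU hu.1) u1 (hUs.to_le (zpowers_le.2 hu.1)) (zpowers_le.2 hyH) (by simpa using y1) hyc
        (cent_le_norm _ ?_)
      rw [cent_zpowers]; exact hu.2
    have hUt : (♯U).Coprime t := coprime_of_isPGroup hUs ((Nat.coprime_primes ht hs).2 hst.symm)
    have hn' : U ≤ N⟦piCoreOf {t} V⟧ := norm_piCoreOf _ (hU.trans h.norm)
    have hle := commg_le_left hn'
    haveI : IsMulCommutative ↥⁅piCoreOf {t} V, U⁆ := comm_of_le (hle.trans (piCoreOf_le _ _)) h.comm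
    have hcop : (♯(piCoreOf {t} V)).Coprime (♯U) := coprime_of_isPGroup (isPGroup_piCoreOf t V) hUt
    have := H1.le_centralizer_of_fpf_prime (Q := U) (V := ⁅piCoreOf {t} V, U⁆) (y := y)
      (norm_commutator hn' (le_norm_self U)) hyn
      (norm_commutator (norm_piCoreOf _ ((zpowers_le.2 hyH).trans h.norm)) (zpowers_le.2 hyn) (mem_zpowers y)) hp
      (coprime_of_le_left hcop hle).symm hQ (h.commg_fpf hU hUt hyH y1)
    exact h.not_cent htV hU U1 (coprime_cent_of_commg_cent hn' hcop (cent_symm this))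
  obtain ⟨P, K, hKn, hKP⟩ : HasNormalPComplement s H := by
    refine H3.hasNormalPComplement_of_forall_isPGroup fun X hX g hg hc => ?_
    by_cases X1 : X = ⊥
    · subst X1; simp
    have := key (X.map H.subtype) (map_subtype_le X) (hX.map _)
      (fun e => X1 ((map_eq_bot_iff_of_injective _ H.subtype_injective).1 e)) g g.2
      (norm_map H.subtype (zpowers_le.2 hg) ⟨g, mem_zpowers g, rfl⟩) (by rwa [orderOf_coe])
    rw [show g = 1 from Subtype.ext this]; exact one_mem _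
  have hcard := hKP.card_mul
  have hi : ¬ s ∣ ♯K := by rw [← hKP.index_eq_card]; exact P.not_dvd_index
  have hP : (P : Subgroup H) ≠ ⊥ := by
    intro e; rw [e, card_bot, mul_one] at hcard; exact hi (hcard ▸ hsH)
  obtain ⟨g, hg, g1⟩ := exists_ne_one hP
  refine h.not_norm hsV g.2 (fun e => g1 (Subtype.ext e)) ?_ (map_subtype_le K) ?_ ?_
    ((NormalIn.of_map_subtype K hKn).norm g.2)
  · have := (P.2.to_le (zpowers_le.2 hg)).map H.subtype
    rwa [MonoidHom.map_zpowers] at this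
  · intro e
    rw [map_eq_bot_iff_of_injective _ H.subtype_injective] at e
    rw [e, card_bot, one_mul] at hcard
    have := coprime_of_isPGroup P.2 ((Nat.coprime_primes ht hs).2 hst.symm)
    rw [hcard] at this
    exact ht.one_lt.ne' (Nat.Coprime.eq_one_of_dvd this.symm htH)
  · rw [card_map_subtype]; exact ((Nat.Prime.coprime_iff_not_dvd hs).2 hi).symm

end PhiHyp

theorem pgroup_zpowers {s : ℕ} [Fact s.Prime] {v : G} (h : IsPiElt {s} v) : IsPGroup s (zpowers v) :=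
  isPi_singleton_iff.1 (isPi_zpowers.2 h)

theorem elt_of_pgroup {s : ℕ} [Fact s.Prime] {P : Subgroup G} (hP : IsPGroup s P) {v : G} (hv : v ∈ P) :
    IsPiElt {s} v := (isPi_singleton_iff.2 hP).elt hv

omit [Finite G] in
theorem elt_mono {π ρ : Set ℕ} {v : G} (h : IsPiElt π v) (hs : π ⊆ ρ) : IsPiElt ρ v := PiNat.mono h hs

omit [Finite G] in
theorem elt_mono1 {p : ℕ} {ρ : Set ℕ} {v : G} (h : IsPiElt {p} v) (hs : p ∈ ρ) : IsPiElt ρ v :=
  PiNat.mono h (Set.singleton_subset_iff.2 hs)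

theorem exists_elt_not_mem {A D : Subgroup G} {s : ℕ} (hs : s.Prime) (h : s ∣ A.relIndex D) :
    ∃ v ∈ D, v ∉ A ∧ IsPiElt {s} v := by
  haveI := Fact.mk hs
  obtain ⟨S, hS⟩ := exists_sylowOf s D
  have : ¬ S ≤ A := fun hle => by
    refine hS.not_dvd (h.trans ?_)
    rw [← inf_relIndex_right]
    exact relIndex_dvd_of_le_left _ (le_inf hle hS.le)
  obtain ⟨v, hv, hv'⟩ := SetLike.not_le_iff_exists.1 this
  exact ⟨v, hS.le hv, hv', elt_of_pgroup hS.isPGroup hv⟩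

theorem exists_elt_of_dvd_index {A : Subgroup G} {s : ℕ} (hs : s.Prime) (h : s ∣ A.index) :
    ∃ v, v ∉ A ∧ IsPiElt {s} v := by
  obtain ⟨v, -, hv⟩ := exists_elt_not_mem (A := A) (D := ⊤) hs (by rwa [relIndex_top_right])
  exact ⟨v, hv⟩

theorem dvd_relIndex_of_elt {A D : Subgroup G} [A.Normal] {s : ℕ} (hs : s.Prime) {v : G} (hv : v ∈ D) (hA : v ∉ A)
    (h : IsPiElt {s} v) : s ∣ A.relIndex D := by
  by_contra hn
  exact hA ((isPi_zpowers.2 h).le_of_normalIn (zpowers_le.2 hv) (le_top.trans (NormalIn.of_normal A).norm)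
    ((PiNat.compl_singleton_iff hs).2 hn) (mem_zpowers v))

/-- If the `s`-elements of `D` are central in `D` and one of them has centralizer `D`, a prime `s` dividing the index
of `D` divides `|N(D) : D|`. -/
theorem dvd_relIndex_norm {D : Subgroup G} {s : ℕ} (hs : s.Prime) (h : ∀ v ∈ D, IsPiElt {s} v → D ≤ C₁⟦v⟧)
    {u : G} (hu : IsPiElt {s} u) (huD : C₁⟦u⟧ = D) (hi : s ∣ D.index) : s ∣ D.relIndex N⟦D⟧ := by
  haveI := Fact.mk hs
  obtain ⟨S, hS, huS⟩ := exists_sylowOf_ge (pgroup_zpowers hu) (zpowers_le.2 (huD ▸ self_mem_cent1 u : u ∈ D))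
  have hC : C⟦S⟧ = D := le_antisymm (huD ▸ cent_le_cent1 (huS (mem_zpowers u))) <|
    cent_symm fun v hv => le_cent1_iff.1 (h v (hS.le hv) (elt_of_pgroup hS.isPGroup hv))
  by_contra hn
  have h1 : SylowOf s S N⟦D⟧ := hS.sylow_trans_not_dvd (le_norm_self D) hn
  have h2 : SylowOf s S ⊤ := h1.of_norm_le le_top (by rw [top_inf_eq, ← hC]; exact norm_le_norm_cent S)
  refine h2.not_dvd ?_
  rw [relIndex_top_right]
  exact hi.trans (index_dvd_of_le hS.le)

/-- Two primes cannot divide both `|D : Z|` and `|G : D|` when `D` is the centralizer of all its noncentral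
`{s, t}`-elements. -/
theorem phi {D : Subgroup G} {s t : ℕ} (hs : s.Prime) (ht : t.Prime) (hst : s ≠ t)
    (h : ∀ v ∈ D, IsPiElt {s, t} v → v ∉ center G → C₁⟦v⟧ = D) (hsD : s ∣ (center G).relIndex D)
    (htD : t ∣ (center G).relIndex D) (hsi : s ∣ D.index) (hti : t ∣ D.index) : False := by
  have hc : ∀ v ∈ D, IsPiElt {s, t} v → D ≤ C₁⟦v⟧ := fun v hv hp => by
    by_cases hz : v ∈ center G
    · rw [H26.cent_eq_top_iff.2 hz]; exact le_top
    · rw [h v hv hp hz]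
  set V := piCoreOf {s, t} D with hV
  have hVD : V ≤ D := piCoreOf_le _ _
  have hVe : ∀ v ∈ V, IsPiElt {s, t} v := fun v hv => (isPi_piCoreOf _ D).elt hv
  have hmem : ∀ v ∈ D, IsPiElt {s, t} v → v ∈ V := fun v hv hp =>
    le_piCoreOf (NormalIn.of_cent (zpowers_le.2 hv) (cent_zpowers v ▸ hc v hv hp)) (isPi_zpowers.2 hp) (mem_zpowers v)
  have hVc : IsMulCommutative V := comm_iff.2 fun a ha b hb => mem_cent1.1 (hc b (hVD hb) (hVe b hb) (hVD ha))
  have hN : N⟦D⟧ ≤ N⟦V⟧ := norm_piCoreOf _ le_rfl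
  let φ : N⟦D⟧ →* MulAut V := V.normalizerMonoidHom.comp (inclusion hN)
  have hφ : ∀ (g : N⟦D⟧) (v : V), (φ g v : G) = g * v * (g : G)⁻¹ := fun g v => rfl
  have hfix : ∀ (g : N⟦D⟧) (v : V), φ g v = v ↔ (g : G) ∈ C₁⟦(v : G)⟧ := fun g v => by
    rw [Subtype.ext_iff, hφ, mem_cent1, mul_inv_eq_iff_eq_mul]
  obtain ⟨u, hu, huZ, hus⟩ := exists_elt_not_mem hs hsD
  have hker : φ.ker = D.subgroupOf N⟦D⟧ := by
    ext g
    rw [MonoidHom.mem_ker, mem_subgroupOf]
    have hp := elt_mono1 (ρ := {s, t}) hus (by simp)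
    refine ⟨fun e => ?_, fun e => ?_⟩
    · exact (h u hu hp huZ).le ((hfix g ⟨u, hmem u hu hp⟩).1 (by rw [e]; rfl))
    · ext v
      exact congrArg Subtype.val ((hfix g v).2 (hc v (hVD v.2) (hVe v v.2) e))
  have hcard : ♯φ.range = D.relIndex N⟦D⟧ := by rw [← index_ker, hker]; rfl
  let ψ := MonoidHom.id (MulAut V)
  have H : PhiHyp ((⊤ : Subgroup V).map (Hol.l ψ)) (φ.range.map (Hol.r ψ))
      (((center G).subgroupOf V).map (Hol.l ψ)) := by
    refine ⟨comm_iff.2 ?_, Hol.le_norm_top _, Hol.le_cent_iff.2 ?_, ?_⟩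
    · rintro _ ⟨a, -, rfl⟩ _ ⟨b, -, rfl⟩
      rw [← map_mul, ← map_mul, mul_comm' a b]
    · rintro _ ⟨g, rfl⟩ x hx
      exact (hfix g x).2 (by rw [H26.cent_eq_top_iff.2 (mem_subgroupOf.1 hx)]; trivial)
    · rintro _ ⟨_, ⟨g, rfl⟩, rfl⟩ g1 _ ⟨⟨v, -, rfl⟩, hv⟩
      refine ⟨v, ?_, rfl⟩
      by_contra hz
      have e : φ g v = v := (Hol.comm_iff ψ).1 (mem_cent1.1 hv)
      rw [hfix, h v (hVD v.2) (hVe v v.2) hz] at e
      have : φ g = 1 := by rw [← MonoidHom.mem_ker, hker]; exact e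
      exact g1 (by rw [this, map_one])
  have main : ∀ p : ℕ, p.Prime → p ∈ ({s, t} : Set ℕ) → p ∣ (center G).relIndex D → p ∣ D.index →
      ¬ piCoreOf {p} ((⊤ : Subgroup V).map (Hol.l ψ)) ≤ ((center G).subgroupOf V).map (Hol.l ψ) ∧
        p ∣ ♯(φ.range.map (Hol.r ψ)) := by
    intro p hp hπ h1 h2
    haveI := Fact.mk hp
    obtain ⟨w, hw, hwZ, hwp⟩ := exists_elt_not_mem hp h1
    have hw' := elt_mono1 hwp hπ
    refine ⟨fun hle => hwZ ?_, ?_⟩
    · have : IsPGroup p (zpowers (Hol.l ψ ⟨w, hmem w hw hw'⟩)) := by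
        refine pgroup_zpowers ?_
        rwa [isPiElt_iff, orderOf_injective _ (Hol.l_inj ψ), ← orderOf_coe]
      have := hle (le_pCoreOf_of_nil (nil_of_comm H.comm) (zpowers_le.2 ⟨_, mem_top _, rfl⟩) this (mem_zpowers _))
      exact mem_subgroupOf.1 ((mem_map_iff_mem (Hol.l_inj ψ)).1 this)
    · rw [Hol.card_r, hcard]
      exact dvd_relIndex_norm hp (fun v hv hv' => hc v hv (elt_mono1 hv' hπ)) hwp (h w hw hw' hwZ) h2
  obtain ⟨a1, a2⟩ := main s hs (by simp) hsD hsi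
  obtain ⟨b1, b2⟩ := main t ht (by simp) htD hti
  exact H.false hs ht hst a1 b1 a2 b2

theorem eq_of_le_index {A B : Subgroup G} (h : A ≤ B) (hi : A.index ≤ B.index) : A = B := by
  refine eq_of_le_card h ?_
  have h1 := A.card_mul_index
  have h2 := B.card_mul_index
  have := B.index_ne_zero_of_finite
  by_contra hlt
  have : ♯A * A.index < ♯B * B.index := Nat.mul_lt_mul_of_lt_of_le (by omega) hi (by omega)
  omega

omit [Finite G] in
theorem cent1_mul_center {x z : G} (hz : z ∈ center G) : C₁⟦x * z⟧ = C₁⟦x⟧ := by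
  ext y
  rw [mem_cent1, mem_cent1, mul_assoc, ← mem_center_iff.1 hz y, ← mul_assoc, ← mul_assoc, mul_left_inj]

theorem sylow_le_of_not_dvd {p : ℕ} (hp : p.Prime) {D : Subgroup G} (h : ¬ p ∣ D.index) :
    ∃ T, SylowOf p T ⊤ ∧ T ≤ D := by
  haveI := Fact.mk hp
  obtain ⟨T, hT⟩ := exists_sylowOf p D
  exact ⟨T, hT.sylow_trans_not_dvd le_top (by rwa [relIndex_top_right]), hT.le⟩

theorem not_dvd_index_of_sylow {p : ℕ} [Fact p.Prime] {T D : Subgroup G} (hT : SylowOf p T ⊤) (h : T ≤ D) :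
    ¬ p ∣ D.index := fun hd => hT.not_dvd (by rw [relIndex_top_right]; exact hd.trans (index_dvd_of_le h))

theorem sylow_not_le {p : ℕ} [Fact p.Prime] {T D : Subgroup G} (hT : SylowOf p T ⊤) (h : p ∣ D.index) : ¬ T ≤ D :=
  fun hle => not_dvd_index_of_sylow hT hle h

/-- an element of a Sylow subgroup that is central in it modulo the centre of the group. -/
theorem exists_second_center {p : ℕ} [Fact p.Prime] {S : Subgroup G} (hS : SylowOf p S ⊤)
    (h : p ∣ (center G).index) : ∃ g ∈ S, g ∉ center G ∧ S ≤ N⟦C₁⟦g⟧⟧ ∧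
      ¬ p ∣ C₁⟦QuotientGroup.mk' (center G) g⟧.index := by
  set f := QuotientGroup.mk' (center G)
  have hS' : SylowOf p (S.map f) ⊤ := by
    have := hS.map f
    rwa [map_top_of_surjective _ (QuotientGroup.mk'_surjective _)] at this
  have h1 : S.map f ≠ ⊥ := by
    rw [Ne, Subgroup.map_eq_bot_iff, QuotientGroup.ker_mk']; exact sylow_not_le hS h
  obtain ⟨_, ⟨⟨g, hg, rfl⟩, hc⟩, g1⟩ := exists_ne_one (center_ne_bot_of_nil hS'.isPGroup.isNilpotent h1)
  refine ⟨g, hg, fun e => g1 ((QuotientGroup.eq_one_iff g).2 e), fun x hx => ?_,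
    not_dvd_index_of_sylow hS' (le_cent1_iff.2 hc)⟩
  have : g⁻¹ * (x * g * x⁻¹) ∈ center G := by
    rw [← QuotientGroup.eq_one_iff]
    change f _ = 1
    have := mem_cent.1 hc _ ⟨x, hx, rfl⟩
    simp only [map_mul, map_inv, this]
    group
  rw [mem_norm_iff_cj, cj_cent1, ← cent1_mul_center (x := g) this, mul_inv_cancel_left]

/-- Every noncentral `r'`-element has an abelian centralizer of index `n`. -/
def ThetaHyp (G : Type*) [Group G] (r n : ℕ) : Prop :=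
  ∀ x : G, IsPiElt {r}ᶜ x → x ∉ center G → IsMulCommutative C₁⟦x⟧ ∧ C₁⟦x⟧.index = n

namespace ThetaHyp

variable {r n : ℕ} (h : ThetaHyp G r n)
include h

theorem eq {x v : G} (hx : IsPiElt {r}ᶜ x) (hxZ : x ∉ center G) (hv : IsPiElt {r}ᶜ v) (hvZ : v ∉ center G)
    (hc : v ∈ C₁⟦x⟧) : C₁⟦v⟧ = C₁⟦x⟧ :=
  (eq_of_le_index (fun a ha => mem_cent1.2 (comm_iff.1 (h x hx hxZ).1 a ha v hc))
    ((h x hx hxZ).2.trans (h v hv hvZ).2.symm).le).symm

theorem dvd {x : G} (hx : IsPiElt {r}ᶜ x) (hxZ : x ∉ center G) {p : ℕ} (hp : p.Prime) (hpr : p ≠ r)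
    (hd : p ∣ (center G).index) : p ∣ (center G).relIndex C₁⟦x⟧ := by
  obtain ⟨u, huZ, hu⟩ := exists_elt_of_dvd_index hp hd
  have h1 := relIndex_mul_index (H26.center_le_cent x)
  have h2 := relIndex_mul_index (H26.center_le_cent u)
  rw [(h u (elt_mono1 hu hpr) huZ).2, ← h1, (h x hx hxZ).2] at h2
  rw [← Nat.eq_of_mul_eq_mul_right (Nat.pos_of_ne_zero ((h x hx hxZ).2 ▸ C₁⟦x⟧.index_ne_zero_of_finite)) h2]
  exact dvd_relIndex_of_elt hp (self_mem_cent1 u) huZ hu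

theorem not_two {x : G} (hx : IsPiElt {r}ᶜ x) (hxZ : x ∉ center G) {p q : ℕ} (hp : p.Prime) (hq : q.Prime)
    (hpq : p ≠ q) (hpr : p ≠ r) (hqr : q ≠ r) (h1 : p ∣ n) (h2 : q ∣ n) : False := by
  rw [← (h x hx hxZ).2] at h1 h2
  have hd := index_dvd_of_le (H26.center_le_cent x)
  refine phi hp hq hpq (fun v hv hv' hvZ => h.eq hx hxZ (elt_mono hv' ?_) hvZ hv) (h.dvd hx hxZ hp hpr (h1.trans hd))
    (h.dvd hx hxZ hq hqr (h2.trans hd)) h1 h2
  rintro _ (rfl | rfl) <;> assumption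

theorem cent_eq {x : G} (hx : IsPiElt {r}ᶜ x) (hxZ : x ∉ center G) {U : Subgroup G} (hU : IsPi {r}ᶜ U)
    (hUZ : ¬ U ≤ center G) (hle : U ≤ C₁⟦x⟧) : C⟦U⟧ = C₁⟦x⟧ := by
  obtain ⟨u, hu, huZ⟩ := SetLike.not_le_iff_exists.1 hUZ
  exact le_antisymm (h.eq hx hxZ (hU.elt hu) huZ (hle hu) ▸ cent_le_cent1 hu)
    (le_cent_of_comm (h x hx hxZ).1 le_rfl hle)

theorem psi (hr : r.Prime) {s t : ℕ} (hs : s.Prime) (ht : t.Prime) (hsr : s ≠ r) (htr : t ≠ r) (hsn : s ∣ n)
    (hsZ : s ∣ (center G).index) (htn : ¬ t ∣ n) (htZ : t ∣ (center G).index) : False := by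
  haveI := Fact.mk hr
  haveI := Fact.mk hs
  haveI := Fact.mk ht
  have hst : s ≠ t := fun e => htn (e ▸ hsn)
  obtain ⟨S, hS⟩ := exists_sylowOf s (⊤ : Subgroup G)
  obtain ⟨g, hg, hgZ, hSD, hgi⟩ := exists_second_center hS hsZ
  have hgs := elt_of_pgroup hS.isPGroup hg
  have hg' : IsPiElt {r}ᶜ g := elt_mono1 hgs hsr
  set D := C₁⟦g⟧ with hD
  have hDn : D.index = n := (h g hg' hgZ).2
  have hn : ∀ p : ℕ, p.Prime → p ∣ n → p ≠ s → p = r := fun p hp hd hps => by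
    by_contra hpr; exact h.not_two hg' hgZ hp hs hps hpr hsr hd hsn
  have hT : ∀ x, IsPiElt {r}ᶜ x → x ∉ center G → ∃ T, SylowOf t T ⊤ ∧ C⟦T⟧ = C₁⟦x⟧ := fun x hx hxZ => by
    obtain ⟨T, hT, hle⟩ := sylow_le_of_not_dvd ht ((h x hx hxZ).2 ▸ htn)
    exact ⟨T, hT, h.cent_eq hx hxZ (hT.isPi.mono (Set.singleton_subset_iff.2 htr)) (sylow_not_le hT htZ) hle⟩
  obtain ⟨T, hTs, hTD⟩ := hT g hg' hgZ
  -- the normal closure of `g` is solvable
  obtain ⟨L, hLn, hLs, hgL⟩ : ∃ L : Subgroup G, L.Normal ∧ Group.IsSolvable L ∧ g ∈ L := by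
    set f := QuotientGroup.mk' (center G)
    have h1 := H26.index_cent_map_dvd (QuotientGroup.mk'_surjective (center G)) g
    obtain ⟨k, hk⟩ := (PiNat.singleton_iff hr C₁⟦f g⟧.index_ne_zero_of_finite).1 fun p hp hd =>
      hn p hp (hDn ▸ hd.trans h1) fun e => hgi (e ▸ hd)
    refine ⟨(normalClosure {f g}).comap f, inferInstance,
      H1.isSolvable_of_map_mk' (N := center G) (sol_of_comm inferInstance) ?_, subset_normalClosure rfl⟩
    rw [map_comap_eq_self_of_surjective (QuotientGroup.mk'_surjective _)]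
    exact kazarin _ hr hk
  have hZn : (⊤ : Subgroup G) ≤ N⟦center G⟧ := (NormalIn.of_normal _).norm
  set W := coreMod {r} (center G) ⊤ with hW
  haveI hWn : W.Normal := (coreMod_normalIn _ hZn).normal
  have hZW : center G ≤ W := self_le_coreMod _ (NormalIn.of_normal _)
  have hWr : PiNat {r} ((center G).relIndex W) := piNat_coreMod _ hZn
  have hgW : g ∉ W := fun e => hsr (hWr s hs (dvd_relIndex_of_elt hs e hgZ hgs))
  obtain ⟨V, v, hv, hVn, hWV, hVW, hVv⟩ : ∃ (V : Subgroup G) (v : ℕ), v.Prime ∧ V.Normal ∧ W ≤ V ∧ ¬ V ≤ W ∧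
      PiNat {v} (W.relIndex V) := by
    set f := QuotientGroup.mk' W
    have hf := QuotientGroup.mk'_surjective W
    obtain ⟨v, hv, h1⟩ := exists_pCoreOf_ne_bot (sol_map f hLs)
      (ne_bot_of_mem (mem_map_of_mem f hgL) fun e => hgW ((QuotientGroup.eq_one_iff g).1 e))
    haveI := (piCoreOf_normalIn_of {v} (@NormalIn.of_normal _ _ (L.map f) (hLn.map f hf))).normal
    refine ⟨(piCoreOf {v} (L.map f)).comap f, v, hv, inferInstance, ?_, fun hle => h1 ?_, ?_⟩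
    · conv_lhs => rw [← QuotientGroup.ker_mk' W]
      exact ker_le_comap _ _
    · rw [← map_comap_eq_self_of_surjective hf (piCoreOf {v} (L.map f)), Subgroup.map_eq_bot_iff,
        QuotientGroup.ker_mk']
      exact hle
    · have := Subgroup.relIndex_ker ((piCoreOf {v} (L.map f)).comap f) f
      rw [QuotientGroup.ker_mk', map_comap_eq_self_of_surjective hf] at this
      rw [this]
      exact isPi_piCoreOf _ _
  haveI := Fact.mk hv
  have hZV := relIndex_mul_relIndex _ _ _ hZW hWV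
  have hvr : v ≠ r := by
    rintro rfl
    exact hVW (le_coreMod (NormalIn.of_normal V) (hZV ▸ hWr.mul hVv))
  obtain ⟨U, hU, hUD⟩ : ∃ U, SylowOf v U V ∧ U ≤ D := by
    by_cases hvs : v = s
    · subst hvs
      refine ⟨S ⊓ V, hS.inf_normalIn (NormalIn.of_normal V), ?_⟩
      have hTn : S ≤ N⟦T⟧ := by
        have hTD' : T ≤ D := by
          obtain ⟨T', hT', hle⟩ := sylow_le_of_not_dvd ht (hDn ▸ htn)
          obtain ⟨k, -, rfl⟩ := hT'.exists_cj_eq hTs
          rw [hD, ← hTD]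
          exact comm_iff_le_cent.1 (comm_of_le (cj_mono k hle) (by
            rw [comm_iff_le_cent, ← cj_cent, cj_le_cj, ← comm_iff_le_cent]; exact (h g hg' hgZ).1))
        exact hSD.trans ((hTs.of_le hTD' le_top).norm_le_norm (NormalIn.of_comm (h g hg' hgZ).1 hTD'))
      rw [hD, ← hTD]
      refine coprime_cent_of_stable (N := T ⊓ V) (coprime_of_isPGroup_ne (hTs.isPGroup.to_le inf_le_left)
        (hS.isPGroup.to_le inf_le_left) hst.symm) (le_inf (commg_le_left (inf_le_left.trans hTn))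
          ((commutator_mono le_rfl inf_le_right).trans (commutator_le_right _ _))) (cent_symm ?_)
      refine ((hTs.isPi.inf_left V).le_of_normalIn inf_le_right (le_top.trans hZn) ?_).trans
        (by rw [← cent_top]; exact cent_anti le_top)
      rw [← hZV]
      exact (hWr.mono (Set.singleton_subset_iff.2 htr.symm)).mul (hVv.mono (Set.singleton_subset_iff.2 hst))
    · obtain ⟨Q, hQ, hle⟩ := sylow_le_of_not_dvd hv (D := D) fun hd => hvr (hn v hv (hDn ▸ hd) hvs)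
      exact ⟨Q ⊓ V, hQ.inf_normalIn (NormalIn.of_normal V), inf_le_left.trans hle⟩
  have hWU : W ⊔ U = V := hU.sup_eq_of_relIndex hWV hVv
  have hUC : C⟦U⟧ = D := h.cent_eq hg' hgZ (hU.isPi.mono (Set.singleton_subset_iff.2 hvr))
    (fun e => hVW (hWU ▸ sup_le le_rfl (e.trans hZW))) hUD
  have hND : N⟦U⟧ ≤ N⟦D⟧ := hUC ▸ norm_le_norm_cent U
  have hE : ⊤ ≤ N⟦W ⊔ D⟧ := by
    have h1 : N⟦D⟧ ≤ N⟦W ⊔ D⟧ := norm_sup (le_top.trans (NormalIn.of_normal W).norm) le_rfl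
    rw [← hU.frattini (NormalIn.of_normal V), ← hWU]
    exact sup_le (sup_le (norm_of_le le_sup_left) (norm_of_le (hUD.trans le_sup_right)))
      (inf_le_right.trans (hND.trans h1))
  have hsE : s ∣ (W ⊔ D).index := by
    have h1 := relIndex_mul_index (le_sup_right : D ≤ W ⊔ D)
    rw [hDn, relIndex_sup_of_norm (Or.inr (le_top.trans (NormalIn.of_normal W).norm))] at h1
    refine ((Nat.Prime.dvd_mul hs).1 (h1 ▸ hsn)).resolve_left fun hd => hsr (hWr s hs ?_)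
    exact hd.trans (relIndex_dvd_of_le_left _ (H26.center_le_cent g))
  obtain ⟨x, hxE, hx⟩ := exists_elt_of_dvd_index hs hsE
  have hxZ : x ∉ center G := fun e => hxE (mem_sup_left (hZW e))
  obtain ⟨T', hT', hT'C⟩ := hT x (elt_mono1 hx hsr) hxZ
  obtain ⟨k, -, rfl⟩ := hTs.exists_cj_eq hT'
  rw [← cj_cent, hTD] at hT'C
  exact hxE (cj_le_of_mem_norm (hE (mem_top k)) le_sup_right (hT'C ▸ self_mem_cent1 x))

/-- If two primes other than `r` divide `|G : Z(G)|`, the common index is a power of `r`. -/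
theorem piNat (hr : r.Prime) {s t : ℕ} (hs : s.Prime) (ht : t.Prime) (hst : s ≠ t) (hsr : s ≠ r) (htr : t ≠ r)
    (hsZ : s ∣ (center G).index) (htZ : t ∣ (center G).index) : PiNat {r} n := by
  intro p hp hd
  by_contra hpr
  obtain ⟨x, hxZ, hx⟩ := exists_elt_of_dvd_index hs hsZ
  have hx' : IsPiElt {r}ᶜ x := elt_mono1 hx hsr
  have hpZ : p ∣ (center G).index := ((h x hx' hxZ).2 ▸ hd).trans (index_dvd_of_le (H26.center_le_cent x))
  by_cases hpt : p = t
  · exact h.psi hr hp hs hpr hsr hd hpZ (h.not_two hx' hxZ hp hs (hpt ▸ hst.symm) hpr hsr hd) hsZ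
  · exact h.psi hr hp ht hpr htr hd hpZ (h.not_two hx' hxZ hp ht hpt hpr htr hd) htZ

end ThetaHyp

end Cfsg.Agent.H25
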