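/-
Ito's theorem: a finite group with at most two nontrivial conjugacy class sizes is solvable.
-/
import Cfsg.Agent.H25.Ito1
import Cfsg.Agent.S4034
import Cfsg.Agent.H4.Frobenius
import Cfsg.Agent.H4.Burnside

set_option autoImplicit false
set_option linter.style.haveILetI false

namespace Cfsg.Agent.H25

open Subgroup Cfsg.Agent.H20 Cfsg.Agent.H21
open scoped Pointwise commutatorElement

variable {G : Type*} [Group G] [Finite G]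

theorem exists_pelt_not_mem {A D : Subgroup G} (h : ¬ D ≤ A) :
    ∃ s : ℕ, s.Prime ∧ ∃ v ∈ D, v ∉ A ∧ IsPiElt {s} v := by
  obtain ⟨s, hs, hd⟩ := Nat.exists_prime_and_dvd (mt relIndex_eq_one.1 h)
  exact ⟨s, hs, exists_elt_not_mem hs hd⟩

omit [Finite G] in
theorem elt_of_mem_zpowers {π : Set ℕ} {x v : G} (hx : IsPiElt π x) (hv : v ∈ zpowers x) : IsPiElt π v :=
  (isPi_zpowers.2 hx).elt hv

omit [Finite G] in
theorem mem_of_elt {π : Set ℕ} {s : ℕ} (hs : s.Prime) {v : G} (h : IsPiElt π v) (h' : IsPiElt {s} v) [Finite G]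
    (v1 : v ≠ 1) : s ∈ π := by
  obtain ⟨p, hp, hd⟩ := Nat.exists_prime_and_dvd (mt orderOf_eq_one_iff.1 v1)
  exact h' p hp hd ▸ h p hp hd

theorem exists_ppart {π : Set ℕ} {x : G} {A : Subgroup G} (hx : IsPiElt π x) (h : x ∉ A) :
    ∃ s : ℕ, s.Prime ∧ s ∈ π ∧ ∃ v ∈ zpowers x, v ∉ A ∧ IsPiElt {s} v := by
  obtain ⟨s, hs, v, hv, hvA, hvs⟩ := exists_pelt_not_mem (mt zpowers_le.1 h)
  exact ⟨s, hs, mem_of_elt hs (elt_of_mem_zpowers hx hv) hvs (fun e => hvA (e ▸ one_mem _)), v, hv, hvA, hvs⟩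

theorem mem_of_forall_pelt {π : Set ℕ} {x : G} {A D : Subgroup G} (hx : IsPiElt π x) (hD : x ∈ D)
    (h : ∀ s : ℕ, s.Prime → s ∈ π → ∀ v ∈ D, IsPiElt {s} v → v ∈ A) : x ∈ A := by
  by_contra hn
  obtain ⟨s, hs, hπ, v, hv, hvA, hvs⟩ := exists_ppart hx hn
  exact hvA (h s hs hπ v (zpowers_le.2 hD hv) hvs)

theorem cent1_mul {π : Set ℕ} {a b : G} (ha : IsPiElt π a) (hb : IsPiElt πᶜ b) (h : b ∈ C₁⟦a⟧) :
    C₁⟦a * b⟧ = C₁⟦a⟧ ⊓ C₁⟦b⟧ :=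
  H26.cent_mul_of_coprime (mem_cent1.1 h).symm (PiNat.coprime ha hb)

omit [Finite G] in
theorem not_mem_center_of_le {a b : G} (h : C₁⟦a⟧ ≤ C₁⟦b⟧) (hb : b ∉ center G) : a ∉ center G := fun e =>
  hb (H26.cent_eq_top_iff.1 (top_le_iff.1 (H26.cent_eq_top_iff.2 e ▸ h)))

omit [Finite G] in
theorem elt_mul {π : Set ℕ} {a b : G} (ha : IsPiElt π a) (hb : IsPiElt π b) (h : b ∈ C₁⟦a⟧) : IsPiElt π (a * b) :=
  H26.isPiNum_orderOf_mul (mem_cent1.1 h).symm ha hb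

omit [Finite G] in
theorem elt_ne {s t : ℕ} {v : G} (h : IsPiElt {s} v) (hst : s ≠ t) : IsPiElt {t}ᶜ v := elt_mono1 h hst

theorem exists_decomp (π : Set ℕ) (g : G) : ∃ a b : G, a ∈ zpowers g ∧ b ∈ zpowers g ∧ IsPiElt π a ∧
    IsPiElt πᶜ b ∧ b ∈ C₁⟦a⟧ ∧ g = a * b := by
  obtain ⟨a, b, ha, hb, h1, h2, e⟩ := H26.exists_pi_decomp π g
  exact ⟨a, b, ha, hb, h1, h2, mem_cent1.2 (H26.commute_of_mem_zpowers hb ha), e⟩

/-- the centralizer of `x` is minimal among centralizers of elements. -/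
def MinC (x : G) : Prop := ∀ y : G, C₁⟦y⟧ ≤ C₁⟦x⟧ → C₁⟦y⟧ = C₁⟦x⟧

/-- the centralizer of `x` is maximal among centralizers of noncentral elements. -/
def MaxC (x : G) : Prop := ∀ y : G, y ∉ center G → C₁⟦x⟧ ≤ C₁⟦y⟧ → C₁⟦y⟧ = C₁⟦x⟧

omit [Finite G] in
theorem MinC.congr {x y : G} (h : MinC x) (e : C₁⟦y⟧ = C₁⟦x⟧) : MinC y := fun z hz => by
  rw [e] at hz ⊢; exact h z hz

omit [Finite G] in
theorem MaxC.congr {x y : G} (h : MaxC x) (e : C₁⟦y⟧ = C₁⟦x⟧) : MaxC y := fun z hz hle => by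
  rw [e] at hle ⊢; exact h z hz hle

theorem MinC.le {π : Set ℕ} {a b : G} (h : MinC a) (ha : IsPiElt π a) (hb : IsPiElt πᶜ b) (hc : b ∈ C₁⟦a⟧) :
    C₁⟦a⟧ ≤ C₁⟦b⟧ := by
  have e := cent1_mul ha hb hc
  exact (h _ (e ▸ inf_le_left)).ge.trans (e ▸ inf_le_right)

theorem MaxC.exists_pelt {π : Set ℕ} {x : G} (h : MaxC x) (hπ : IsPiElt π x) (hx : x ∉ center G) :
    ∃ s : ℕ, s.Prime ∧ s ∈ π ∧ ∃ v, v ∉ center G ∧ IsPiElt {s} v ∧ C₁⟦v⟧ = C₁⟦x⟧ := by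
  obtain ⟨s, hs, hπ, v, hv, hvA, hvs⟩ := exists_ppart hπ hx
  exact ⟨s, hs, hπ, v, hvA, hvs, h v hvA (H26.cent_le_cent_of_mem_zpowers hv)⟩

omit [Finite G] in
theorem elt_univ (x : G) : IsPiElt Set.univ x := PiNat.univ _

/-- a centralizer that is both minimal and maximal is abelian, or a `p`-group modulo the centre. -/
theorem free_cases {x : G} (hx : x ∉ center G) (h1 : MinC x) (h2 : MaxC x) :
    IsMulCommutative C₁⟦x⟧ ∨ ∃ p : ℕ, p.Prime ∧ PiNat {p} ((center G).relIndex C₁⟦x⟧) := by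
  obtain ⟨p, hp, -, y, hy, hyp, e⟩ := h2.exists_pelt (elt_univ x) hx
  refine or_iff_not_imp_right.2 fun hn => ?_
  have : ¬ PiNat {p} ((center G).relIndex C₁⟦x⟧) := fun h => hn ⟨p, hp, h⟩
  simp only [PiNat, not_forall] at this
  obtain ⟨q, hq, hd, hqp⟩ := this
  obtain ⟨u, hu, huZ, huq⟩ := exists_elt_not_mem hq hd
  have e' : C₁⟦u⟧ = C₁⟦x⟧ := h2 u huZ (e ▸ (h1.congr e).le hyp (elt_ne huq hqp) (e ▸ hu))
  refine comm_iff_le_cent.2 fun a ha => mem_of_forall_pelt (elt_univ a) ha fun s hs _ v hv hvs => le_cent1_iff.1 ?_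
  by_cases hsp : s = p
  · exact e' ▸ (h1.congr e').le huq (elt_ne hvs (hsp ▸ Ne.symm hqp)) (e' ▸ hv)
  · exact e ▸ (h1.congr e).le hyp (elt_ne hvs hsp) (e ▸ hv)

theorem exists_dvd_class {p : ℕ} (hp : p.Prime) (h : p ∣ (center G).index) : ∃ x : G, p ∣ C₁⟦x⟧.index := by
  haveI := Fact.mk hp
  by_contra! hn
  obtain ⟨P, hP⟩ := exists_sylowOf p (⊤ : Subgroup G)
  have : C⟦P⟧ = ⊤ := H4.eq_top_of_forall_exists_conj_mem _ fun g => by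
    obtain ⟨T, hT, hle⟩ := sylow_le_of_not_dvd hp (hn g)
    obtain ⟨k, -, rfl⟩ := hT.exists_cj_eq hP
    exact ⟨k, by rw [← cj_cent, conj_mem_cj]; exact le_cent1_iff.1 hle⟩
  exact sylow_not_le hP h (cent_top (G := G) ▸ cent_symm this.ge)

theorem sol_of_quot_center (h : Group.IsSolvable (G ⧸ center G)) : Group.IsSolvable G := by
  rw [← sol_top_iff] at h ⊢
  refine H1.isSolvable_of_map_mk' (N := center G) (sol_of_comm inferInstance) ?_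
  rwa [map_top_of_surjective _ (QuotientGroup.mk'_surjective _)]

theorem third_prime (h : ¬ Group.IsSolvable G) {p q : ℕ} (hp : p.Prime) (hq : q.Prime) :
    ∃ r : ℕ, r.Prime ∧ r ∣ (center G).index ∧ r ≠ p ∧ r ≠ q := by
  by_contra! hn
  exact h (sol_of_quot_center (H4.isSolvable_of_forall_prime_dvd hp hq fun r hr hd =>
    or_iff_not_imp_left.2 (hn r hr hd)))

theorem two_primes (h : ¬ Group.IsSolvable G) {p : ℕ} (hp : p.Prime) :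
    ∃ s t : ℕ, s.Prime ∧ t.Prime ∧ s ≠ t ∧ s ≠ p ∧ t ≠ p ∧ s ∣ (center G).index ∧ t ∣ (center G).index := by
  obtain ⟨s, hs, h1, h2, -⟩ := third_prime h hp hp
  obtain ⟨t, ht, h3, h4, h5⟩ := third_prime h hp hs
  exact ⟨s, t, hs, ht, h5.symm, h2, h4, h1, h3⟩

theorem sol_of_ti {H : Subgroup G} (h1 : H ≠ ⊥) (hH : Group.IsSolvable H)
    (hTI : ∀ g : G, g ∉ H → ∀ x ∈ H, g * x * g⁻¹ ∈ H → x = 1) : Group.IsSolvable G := by
  obtain ⟨K, hK, hc, -⟩ := H4.frobenius_kernel H hTI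
  obtain ⟨p, hp, hd⟩ := exists_prime_dvd_card h1
  obtain ⟨y, hy, ho⟩ := exists_prime_order_mem hp hd
  have hn : H ≤ N⟦K⟧ := le_top.trans (NormalIn.of_normal K).norm
  have : Group.IsNilpotent K := H1.isNilpotent_of_fpf (hn hy) (ho ▸ hp) <| by
    rw [eq_bot_iff]
    intro k hk
    by_contra k1
    have := hTI k (fun e => k1 (hc.disjoint.le_bot ⟨hk.1, e⟩)) y hy (by rwa [mem_cent1.1 hk.2, mul_inv_cancel_right])
    rw [this, orderOf_one] at ho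
    exact hp.one_lt.ne ho
  rw [← sol_top_iff, ← hc.sup_eq_top]
  exact sol_sup (sol_of_nil this) hH (Or.inr hn)

theorem two_mul_ncard_conj_le {A : Subgroup G} (h : N⟦A⟧ ≠ A) :
    2 * {x : G | x ≠ 1 ∧ ∃ g : G, g⁻¹ * x * g ∈ A}.ncard + 2 ≤ Nat.card G := by
  have h1 := H26.ncard_conj_le (H := A) (N := N⟦A⟧) le_rfl
  have h2 := N⟦A⟧.card_mul_index
  have h3 := card_mul_relIndex (le_norm_self A)
  have h4 : 2 ≤ A.relIndex N⟦A⟧ := by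
    have := relIndex_pos A N⟦A⟧
    have := mt relIndex_eq_one.1 fun e => h (le_antisymm e (le_norm_self A))
    omega
  have h5 := Nat.pos_of_ne_zero N⟦A⟧.index_ne_zero_of_finite
  obtain ⟨c, hc⟩ := Nat.exists_eq_add_one.2 (card_pos A)
  rw [hc, Nat.add_sub_cancel] at h1
  rw [← h3, hc] at h2
  nlinarith [Nat.mul_le_mul_left ((c + 1) * N⟦A⟧.index) h4]

theorem selfnorm_of_cover {A B : Subgroup G} (h : ∀ x : G, ∃ g : G, g⁻¹ * x * g ∈ A ∨ g⁻¹ * x * g ∈ B) :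
    N⟦A⟧ = A ∨ N⟦B⟧ = B := by
  by_contra! hn
  have h1 := two_mul_ncard_conj_le hn.1
  have h2 := two_mul_ncard_conj_le hn.2
  have h3 : (Set.univ : Set G) ⊆ insert 1 ({x : G | x ≠ 1 ∧ ∃ g : G, g⁻¹ * x * g ∈ A} ∪
      {x : G | x ≠ 1 ∧ ∃ g : G, g⁻¹ * x * g ∈ B}) := fun x _ => by
    by_cases x1 : x = 1
    · exact Or.inl x1
    · obtain ⟨g, hg | hg⟩ := h x
      exacts [Or.inr (Or.inl ⟨x1, g, hg⟩), Or.inr (Or.inr ⟨x1, g, hg⟩)]
  have h4 := ((Set.ncard_le_ncard h3).trans (Set.ncard_insert_le _ _)).trans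
    (Nat.add_le_add_right (Set.ncard_union_le _ _) 1)
  rw [Set.ncard_univ] at h4
  omega

theorem sol_of_selfnorm {a : G} (ha : a ∉ center G) (hc : IsMulCommutative C₁⟦a⟧)
    (h : ∀ u ∈ C₁⟦a⟧, u ∉ center G → C₁⟦u⟧ = C₁⟦a⟧)
    (hN : N⟦C₁⟦a⟧.map (QuotientGroup.mk' (center G))⟧ = C₁⟦a⟧.map (QuotientGroup.mk' (center G))) :
    Group.IsSolvable G := by
  refine sol_of_quot_center (sol_of_ti (ne_bot_of_mem (mem_map_of_mem (QuotientGroup.mk' (center G)) (self_mem_cent1 a))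
    fun e => ha ((QuotientGroup.eq_one_iff a).1 e)) (sol_map _ (sol_of_comm hc)) ?_)
  rintro g hg _ ⟨u, hu, rfl⟩ hgu
  obtain ⟨g, rfl⟩ := QuotientGroup.mk'_surjective _ g
  by_contra u1
  have huZ : u ∉ center G := fun e => u1 ((QuotientGroup.eq_one_iff u).2 e)
  rw [← map_inv, ← map_mul, ← map_mul, ← mem_comap, comap_map_eq_self (by
    rw [QuotientGroup.ker_mk']; exact H26.center_le_cent a)] at hgu
  have e := h _ hgu fun e => huZ (by simpa [mul_assoc] using (inferInstance : (center G).Normal).conj_mem _ e g⁻¹)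
  rw [← cj_cent1, h u hu huZ, ← mem_norm_iff_cj] at e
  exact hg (hN ▸ norm_map _ (zpowers_le.2 e) ⟨g, mem_zpowers g, rfl⟩)

theorem relIndex_center_eq {x y : G} (h : C₁⟦x⟧.index = C₁⟦y⟧.index) :
    (center G).relIndex C₁⟦x⟧ = (center G).relIndex C₁⟦y⟧ := by
  have h1 := relIndex_mul_index (H26.center_le_cent x)
  rw [h, ← relIndex_mul_index (H26.center_le_cent y)] at h1
  exact Nat.eq_of_mul_eq_mul_right (Nat.pos_of_ne_zero C₁⟦y⟧.index_ne_zero_of_finite) h1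

theorem exists_not_mem_center (h : ¬ Group.IsSolvable G) : ∃ x : G, x ∉ center G := by
  obtain ⟨s, hs, h1, -⟩ := third_prime h Nat.prime_two Nat.prime_two
  obtain ⟨x, hx, -⟩ := exists_elt_of_dvd_index hs h1
  exact ⟨x, hx⟩

theorem rank_two_free {n₁ n₂ : ℕ} (h : ∀ x : G, x ∉ center G → C₁⟦x⟧.index = n₁ ∨ C₁⟦x⟧.index = n₂)
    (hF : ∀ x : G, x ∉ center G → MaxC x) : Group.IsSolvable G := by
  by_contra hG
  have hmin : ∀ x : G, x ∉ center G → MinC x := fun x hx y hle => (hF y (not_mem_center_of_le hle hx) x hx hle).symm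
  have heq : ∀ x : G, x ∉ center G → IsMulCommutative C₁⟦x⟧ → ∀ u ∈ C₁⟦x⟧, u ∉ center G → C₁⟦u⟧ = C₁⟦x⟧ :=
    fun x hx hc u hu huZ => hF x hx u huZ fun a ha => mem_cent1.2 (comm_iff.1 hc a ha u hu)
  by_cases hpp : ∃ x : G, x ∉ center G ∧ ∃ p : ℕ, p.Prime ∧ PiNat {p} ((center G).relIndex C₁⟦x⟧)
  · obtain ⟨x, hx, p, hp, hxp⟩ := hpp
    haveI := Fact.mk hp
    obtain ⟨n, hn⟩ : ∃ n, ∀ y : G, y ∉ center G → C₁⟦y⟧.index = C₁⟦x⟧.index ∨ C₁⟦y⟧.index = n := by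
      rcases h x hx with e | e <;> rw [e]
      exacts [⟨n₂, h⟩, ⟨n₁, fun y hy => (h y hy).symm⟩]
    have h1 : ∀ y : G, IsPiElt {p}ᶜ y → y ∉ center G → C₁⟦y⟧.index = n := fun y hy hyZ => by
      refine (hn y hyZ).resolve_left fun e => ?_
      obtain ⟨s, hs, hsp, v, hv, hvZ, hvs⟩ := exists_ppart hy hyZ
      exact hsp (hxp s hs (relIndex_center_eq e ▸
        dvd_relIndex_of_elt hs (zpowers_le.2 (self_mem_cent1 y) hv) hvZ hvs))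
    have hT : ThetaHyp G p n := fun y hy hyZ => by
      refine ⟨(free_cases hyZ (hmin y hyZ) (hF y hyZ)).resolve_right ?_, h1 y hy hyZ⟩
      rintro ⟨q, hq, hyq⟩
      obtain ⟨r, hr, hd, hrp, hrq⟩ := third_prime hG hp hq
      obtain ⟨u, huZ, hu⟩ := exists_elt_of_dvd_index hr hd
      exact hrq (hyq r hr (relIndex_center_eq ((h1 u (elt_ne hu hrp) huZ).trans (h1 y hy hyZ).symm) ▸
        dvd_relIndex_of_elt hr (self_mem_cent1 u) huZ hu))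
    obtain ⟨s, t, hs, ht, hst, hsp, htp, hsZ, htZ⟩ := two_primes hG hp
    have hn' := hT.piNat hp hs ht hst hsp htp hsZ htZ
    refine hG (S4034.hyp_solvable (p := p) G fun y hy => ?_)
    by_cases hyZ : y ∈ center G
    · exact ⟨0, H26.index_cent_eq_one_iff.2 hyZ⟩
    · refine (PiNat.singleton_iff hp C₁⟦y⟧.index_ne_zero_of_finite).1 ?_
      rwa [h1 y ((PiNat.compl_singleton_iff_coprime hp).2 hy) hyZ]
  have hc : ∀ x : G, x ∉ center G → IsMulCommutative C₁⟦x⟧ := fun x hx =>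
    (free_cases hx (hmin x hx) (hF x hx)).resolve_right fun e => hpp ⟨x, hx, e⟩
  have hconj : ∀ x : G, x ∉ center G → ∀ y : G, y ∉ center G → C₁⟦y⟧.index = C₁⟦x⟧.index →
      ∃ g : G, g⁻¹ * y * g ∈ C₁⟦x⟧ := by
    intro x hx y hy e
    obtain ⟨t, ht, h1, h2⟩ : ∃ t : ℕ, t.Prime ∧ t ∣ (center G).relIndex C₁⟦x⟧ ∧ ¬ t ∣ C₁⟦x⟧.index := by
      by_contra! hn
      obtain ⟨s, hs, -, v, hv, hvZ, hvs⟩ := exists_ppart (elt_univ x) hx
      have h1 := dvd_relIndex_of_elt hs (zpowers_le.2 (self_mem_cent1 x) hv) hvZ hvs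
      refine hpp ⟨x, hx, s, hs, fun t ht h2 => ?_⟩
      by_contra hts
      exact phi ht hs hts (fun v hv _ hvZ => heq x hx (hc x hx) v hv hvZ) h2 h1 (hn t ht h2) (hn s hs h1)
    haveI := Fact.mk ht
    have key : ∀ z : G, z ∉ center G → C₁⟦z⟧.index = C₁⟦x⟧.index → ∃ T, SylowOf t T ⊤ ∧ C⟦T⟧ = C₁⟦z⟧ := by
      intro z hz e
      obtain ⟨T, hT, hle⟩ := sylow_le_of_not_dvd ht (e ▸ h2)
      obtain ⟨u, hu, huZ⟩ := SetLike.not_le_iff_exists.1 (sylow_not_le hT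
        (h1.trans (relIndex_dvd_index_of_le (H26.center_le_cent x))))
      exact ⟨T, hT, le_antisymm (heq z hz (hc z hz) u (hle hu) huZ ▸ cent_le_cent1 hu)
        (le_cent_of_comm (hc z hz) le_rfl hle)⟩
    obtain ⟨T, hT, e1⟩ := key x hx rfl
    obtain ⟨T', hT', e2⟩ := key y hy e
    obtain ⟨k, -, rfl⟩ := hT.exists_cj_eq hT'
    rw [← cj_cent, e1] at e2
    exact ⟨k, mem_cj.1 (e2 ▸ self_mem_cent1 y)⟩
  have hex : ∀ n, ∃ a : G, a ∉ center G ∧ ∀ y : G, y ∉ center G → C₁⟦y⟧.index = n → ∃ g : G, g⁻¹ * y * g ∈ C₁⟦a⟧ := by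
    intro n
    by_cases hn : ∃ a : G, a ∉ center G ∧ C₁⟦a⟧.index = n
    · obtain ⟨a, ha, rfl⟩ := hn
      exact ⟨a, ha, hconj a ha⟩
    · obtain ⟨a, ha⟩ := exists_not_mem_center hG
      exact ⟨a, ha, fun y hy e => absurd ⟨y, hy, e⟩ hn⟩
  obtain ⟨a, ha, ha'⟩ := hex n₁
  obtain ⟨b, hb, hb'⟩ := hex n₂
  rcases selfnorm_of_cover (A := C₁⟦a⟧.map (QuotientGroup.mk' (center G)))
    (B := C₁⟦b⟧.map (QuotientGroup.mk' (center G))) (fun x => by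
      obtain ⟨x, rfl⟩ := QuotientGroup.mk'_surjective _ x
      by_cases hx : x ∈ center G
      · exact ⟨1, Or.inl ⟨x, H26.center_le_cent a hx, by simp⟩⟩
      · rcases h x hx with e | e
        · obtain ⟨g, hg⟩ := ha' x hx e
          exact ⟨QuotientGroup.mk' _ g, Or.inl ⟨_, hg, by simp⟩⟩
        · obtain ⟨g, hg⟩ := hb' x hx e
          exact ⟨QuotientGroup.mk' _ g, Or.inr ⟨_, hg, by simp⟩⟩) with e | e
  exacts [hG (sol_of_selfnorm ha (hc a ha) (heq a ha (hc a ha)) e),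
    hG (sol_of_selfnorm hb (hc b hb) (heq b hb (hc b hb)) e)]

omit [Finite G] in
theorem mem_center_coe {B : Subgroup G} {w : B} : w ∈ center B ↔ (w : G) ∈ C⟦B⟧ := by
  rw [mem_center_iff, mem_cent]
  exact ⟨fun h a ha => congrArg Subtype.val (h ⟨a, ha⟩), fun h a => Subtype.ext (h a a.2)⟩

omit [Finite G] in
theorem index_center_coe (B : Subgroup G) : (center B).index = C⟦B⟧.relIndex B := by
  rw [relIndex]; congr 1; ext w; rw [mem_center_coe, mem_subgroupOf]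

omit [Finite G] in
theorem thetaHyp_sub {B : Subgroup G} {r n : ℕ} (h : ∀ w ∈ B, IsPiElt {r}ᶜ w → w ∉ C⟦B⟧ →
    IsMulCommutative ↥(B ⊓ C₁⟦w⟧) ∧ C₁⟦w⟧.relIndex B = n) : ThetaHyp B r n := fun w hw hwZ => by
  obtain ⟨h1, h2⟩ := h w w.2 (by rwa [isPiElt_iff, orderOf_coe]) (mt mem_center_coe.2 hwZ)
  refine ⟨comm_iff.2 fun a ha b hb => Subtype.ext (comm_iff.1 h1 a ⟨a.2, ?_⟩ b ⟨b.2, ?_⟩),
    (H26.index_cent_subgroup B w).trans h2⟩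
  exacts [mem_cent1.2 (congrArg Subtype.val (mem_cent1.1 ha)), mem_cent1.2 (congrArg Subtype.val (mem_cent1.1 hb))]

theorem sylow_of_card_eq {p : ℕ} {P D E : Subgroup G} (h : SylowOf p P D) (hE : P ≤ E) (e : D.index = E.index) :
    SylowOf p P E := by
  refine Hall.mk hE h.isPi ?_
  have h1 := relIndex_mul_index h.le
  rw [e, ← relIndex_mul_index hE] at h1
  rw [← Nat.eq_of_mul_eq_mul_right (Nat.pos_of_ne_zero E.index_ne_zero_of_finite) h1]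
  exact h.piNat

/-- class sizes `1, m, n * m`, with a proper inclusion of centralizers. -/
structure Rk2 (G : Type*) [Group G] (m n : ℕ) : Prop where
  one_lt : 1 < n
  idx : ∀ x : G, x ∉ center G → C₁⟦x⟧.index = m ∨ C₁⟦x⟧.index = n * m
  ex : ∃ x y : G, y ∉ center G ∧ C₁⟦x⟧ < C₁⟦y⟧

namespace Rk2

variable {m n : ℕ} (h : Rk2 G m n)
include h

theorem lt_iff {x y : G} (hy : y ∉ center G) (hle : C₁⟦x⟧ ≤ C₁⟦y⟧) (hne : C₁⟦x⟧ ≠ C₁⟦y⟧) :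
    C₁⟦x⟧.index = n * m ∧ C₁⟦y⟧.index = m ∧ C₁⟦x⟧.relIndex C₁⟦y⟧ = n := by
  have h1 : C₁⟦y⟧.index < C₁⟦x⟧.index := not_le.1 fun e => hne (eq_of_le_index hle e)
  have h2 := Nat.le_mul_of_pos_left m (zero_lt_one.trans h.one_lt)
  have h3 := relIndex_mul_index hle
  rcases h.idx x (not_mem_center_of_le hle hy) with e1 | e1 <;> rcases h.idx y hy with e2 | e2 <;> try omega
  rw [e1, e2] at h3
  exact ⟨e1, e2, Nat.eq_of_mul_eq_mul_right (Nat.pos_of_ne_zero (e2 ▸ C₁⟦y⟧.index_ne_zero_of_finite)) h3⟩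

theorem m_pos : 0 < m := by
  obtain ⟨x, y, hy, hlt⟩ := h.ex
  exact Nat.pos_of_ne_zero ((h.lt_iff hy hlt.le hlt.ne).2.1 ▸ C₁⟦y⟧.index_ne_zero_of_finite)

theorem ne : m ≠ n * m := by have := h.m_pos; have := h.one_lt; nlinarith

theorem small_nc {x : G} (hx : C₁⟦x⟧.index = n * m) : x ∉ center G := fun e => by
  rw [H26.index_cent_eq_one_iff.2 e] at hx
  exact h.one_lt.ne' (Nat.eq_one_of_mul_eq_one_right hx.symm)

theorem minC {x : G} (hx : C₁⟦x⟧.index = n * m) : MinC x := fun y hle => by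
  by_contra hne
  exact h.ne ((h.lt_iff (h.small_nc hx) hle hne).2.1.symm.trans hx)

theorem maxC {x : G} (hx : C₁⟦x⟧.index = m) : MaxC x := fun y hy hle => by
  by_contra hne
  exact h.ne (hx.symm.trans (h.lt_iff hy hle (Ne.symm hne)).1)

theorem ex' : ∃ (x y : G) (r : ℕ), r.Prime ∧ IsPiElt {r} y ∧ y ∉ center G ∧ C₁⟦x⟧ < C₁⟦y⟧ := by
  obtain ⟨x, y, hy, hlt⟩ := h.ex
  obtain ⟨r, hr, -, v, hv, hvr, e⟩ := (h.maxC (h.lt_iff hy hlt.le hlt.ne).2.1).exists_pelt (elt_univ y) hy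
  exact ⟨x, v, r, hr, hvr, hv, e ▸ hlt⟩

theorem relIndex_big {x y : G} (hx : C₁⟦x⟧.index = n * m) (hy : C₁⟦y⟧.index = m) :
    (center G).relIndex C₁⟦y⟧ = (center G).relIndex C₁⟦x⟧ * n := by
  have h1 := relIndex_mul_index (H26.center_le_cent x)
  rw [hx, ← relIndex_mul_index (H26.center_le_cent y), hy, ← mul_assoc] at h1
  exact (Nat.eq_of_mul_eq_mul_right h.m_pos h1).symm

theorem dvd_small {z : G} (hz : C₁⟦z⟧.index = n * m) {t : ℕ} (ht : t.Prime) (hd : t ∣ (center G).index) :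
    t ∣ (center G).relIndex C₁⟦z⟧ := by
  obtain ⟨x, y, r, hr, hyr, hy, hlt⟩ := h.ex'
  obtain ⟨hx, hym, hn⟩ := h.lt_iff hy hlt.le hlt.ne
  by_contra hnd
  have key : ∀ w u : G, C₁⟦w⟧.index = n * m → u ∈ C₁⟦w⟧ → u ∉ center G → IsPiElt {t} u → False :=
    fun w u hw hu huZ hut => hnd (relIndex_center_eq (hw.trans hz.symm) ▸ dvd_relIndex_of_elt ht hu huZ hut)
  obtain ⟨u₀, hu₀, hu₀t⟩ := exists_elt_of_dvd_index ht hd
  have h1 := dvd_relIndex_of_elt ht (self_mem_cent1 u₀) hu₀ hu₀t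
  rw [h.relIndex_big hz ((h.idx u₀ hu₀).resolve_right fun e => key u₀ u₀ e (self_mem_cent1 _) hu₀ hu₀t)] at h1
  obtain ⟨u, hu, huD, hut⟩ := exists_elt_not_mem ht (hn ▸ ((Nat.Prime.dvd_mul ht).1 h1).resolve_left hnd)
  by_cases htr : t = r
  · exact key x y hx (mem_cent1_comm.1 (hlt.le (self_mem_cent1 x))) hy (htr ▸ hyr)
  have e := cent1_mul hyr (elt_ne hut htr) hu
  by_cases e' : C₁⟦y * u⟧ = C₁⟦y⟧
  · exact huD (mem_cent1_comm.1 ((e ▸ inf_le_right : C₁⟦y * u⟧ ≤ C₁⟦u⟧) (e' ▸ hlt.le (self_mem_cent1 x))))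
  · exact key _ u (h.lt_iff hy (e ▸ inf_le_left) e').1 (e ▸ ⟨hu, self_mem_cent1 u⟩)
      (fun e => huD (H26.center_le_cent x e)) hut

theorem dvd_mul {t : ℕ} (ht : t.Prime) (hd : t ∣ (center G).index) : t ∣ n * m := by
  obtain ⟨x, hx⟩ := exists_dvd_class ht hd
  by_cases hxZ : x ∈ center G
  · rw [H26.index_cent_eq_one_iff.2 hxZ] at hx; exact absurd hx ht.not_dvd_one
  · rcases h.idx x hxZ with e | e <;> rw [e] at hx
    exacts [hx.mul_left n, hx]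

theorem not_big (hG : ¬ Group.IsSolvable G) {p : ℕ} (hp : p.Prime) (hn : PiNat {p} n) {y : G} (hy : C₁⟦y⟧.index = m)
    (hc : ∀ s : ℕ, s.Prime → s ≠ p → ∀ v ∈ C₁⟦y⟧, IsPiElt {s} v → v ∈ C⟦C₁⟦y⟧⟧) : False := by
  obtain ⟨s, t, hs, ht, hst, hsp, htp, hsZ, htZ⟩ := two_primes hG hp
  obtain ⟨x, z, hz, hlt⟩ := h.ex
  have hx := (h.lt_iff hz hlt.le hlt.ne).1
  have key : ∀ q : ℕ, q.Prime → q ≠ p → q ∣ (center G).index →
      q ∣ (center G).relIndex C₁⟦y⟧ ∧ q ∣ C₁⟦y⟧.index := fun q hq hqp hd =>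
    ⟨h.relIndex_big hx hy ▸ (h.dvd_small hx hq hd).mul_right n,
      hy ▸ ((Nat.Prime.dvd_mul hq).1 (h.dvd_mul hq hd)).resolve_left fun e => hqp (hn q hq e)⟩
  refine phi hs ht hst (fun v hv hv' hvZ => h.maxC hy v hvZ (le_cent1_iff.2 ?_)) (key s hs hsp hsZ).1
    (key t ht htp htZ).1 (key s hs hsp hsZ).2 (key t ht htp htZ).2
  refine mem_of_forall_pelt hv' hv fun q hq hπ => hc q hq ?_
  rcases hπ with rfl | rfl <;> assumption

theorem le_of_ne {π : Set ℕ} {x a b : G} (ha : IsPiElt π a) (hb : IsPiElt πᶜ b) (haZ : a ∉ center G)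
    (h1 : C₁⟦x⟧ ≤ C₁⟦a⟧) (h2 : C₁⟦x⟧ ≤ C₁⟦b⟧) (hc : b ∈ C₁⟦a⟧) (hne : C₁⟦a * b⟧ ≠ C₁⟦x⟧) : C₁⟦a⟧ ≤ C₁⟦b⟧ := by
  have e := cent1_mul ha hb hc
  have h3 := (h.lt_iff (not_mem_center_of_le (e ▸ inf_le_left) haZ) (e ▸ le_inf h1 h2) hne.symm).2.1
  exact (h.maxC h3 a haZ (e ▸ inf_le_left)).le.trans (e ▸ inf_le_right)

theorem eq_of_ne {π : Set ℕ} {x a b : G} (ha : IsPiElt π a) (hb : IsPiElt πᶜ b) (haZ : a ∉ center G)
    (hbZ : b ∉ center G) (h1 : C₁⟦x⟧ ≤ C₁⟦a⟧) (h2 : C₁⟦x⟧ ≤ C₁⟦b⟧) (hc : b ∈ C₁⟦a⟧) (hne : C₁⟦a * b⟧ ≠ C₁⟦x⟧) :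
    C₁⟦a⟧ = C₁⟦b⟧ :=
  le_antisymm (h.le_of_ne ha hb haZ h1 h2 hc hne) <|
    h.le_of_ne hb (PiNat.compl_compl.2 ha) hbZ h2 h1 (mem_cent1_comm.1 hc) (mem_cent1.1 hc ▸ hne)

theorem not_eq {x u v : G} (hx : C₁⟦x⟧.index = n * m) {p : ℕ} (hv : v ∈ C₁⟦x⟧) (hv' : v ∉ C⟦C₁⟦x⟧⟧)
    (hvp : IsPiElt {p} v) (hu : IsPiElt {p}ᶜ u) : C₁⟦u⟧ ≠ C₁⟦x⟧ := fun e =>
  hv' (le_cent1_iff.1 (e ▸ ((h.minC hx).congr e).le hu (PiNat.compl_compl.2 hvp) (e ▸ hv)))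

theorem prime_eq (hG : ¬ Group.IsSolvable G) {x v w : G} (hx : C₁⟦x⟧.index = n * m) {p q : ℕ} (hp : p.Prime)
    (hq : q.Prime) (hv : v ∈ C₁⟦x⟧) (hv' : v ∉ C⟦C₁⟦x⟧⟧) (hvp : IsPiElt {p} v) (hw : w ∈ C₁⟦x⟧)
    (hw' : w ∉ C⟦C₁⟦x⟧⟧) (hwq : IsPiElt {q} w) : p = q := by
  by_contra hpq
  have K1 := fun u => h.not_eq (u := u) hx hv hv' hvp
  have K2 := fun u => h.not_eq (u := u) hx hw hw' hwq
  obtain ⟨a, b, ha, hb, hap, hbp, hab, e⟩ := exists_decomp {p} x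
  obtain ⟨c, d, hc, hd, hcq, hdq, hcd, e'⟩ := exists_decomp {q} b
  have hx' := cent1_mul hap hbp hab
  rw [← e] at hx'
  have hb' := cent1_mul hcq hdq hcd
  rw [← e'] at hb'
  have la := H26.cent_le_cent_of_mem_zpowers ha
  have lb := H26.cent_le_cent_of_mem_zpowers hb
  have lc := H26.cent_le_cent_of_mem_zpowers hc
  have ld := H26.cent_le_cent_of_mem_zpowers hd
  have haZ : a ∉ center G := fun z => K1 b hbp (by rw [hx', H26.cent_eq_top_iff.2 z, top_inf_eq])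
  have had : d ∈ C₁⟦a⟧ := mem_cent1.2 (H26.commute_of_mem_zpowers (zpowers_le.2 hb hd) ha)
  have h1 : C₁⟦a⟧ ≤ C₁⟦d⟧ := h.le_of_ne hap (elt_of_mem_zpowers hbp hd) haZ la (lb.trans ld) had
    (K2 _ (elt_mul (elt_ne hap hpq) hdq had))
  have h2 : C₁⟦x⟧ = C₁⟦a⟧ ⊓ C₁⟦c⟧ := by rw [hx', hb', inf_left_comm, inf_eq_left.2 h1, inf_comm]
  have hcZ : c ∉ center G := fun z => K2 a (elt_ne hap hpq) (by rw [h2, H26.cent_eq_top_iff.2 z, inf_top_eq])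
  have hac : c ∈ C₁⟦a⟧ := mem_cent1.2 (H26.commute_of_mem_zpowers (zpowers_le.2 hb hc) ha)
  have h3 : C₁⟦a * c⟧ = C₁⟦x⟧ := (cent1_mul hap (elt_ne hcq (Ne.symm hpq)) hac).trans h2.symm
  obtain ⟨t, ht, htZ, htp, htq⟩ := third_prime hG hp hq
  obtain ⟨u, hu, huZ, hut⟩ := exists_elt_not_mem ht (h.dvd_small hx ht htZ)
  have lu : C₁⟦x⟧ ≤ C₁⟦u⟧ := h3 ▸ ((h.minC hx).congr h3).le (π := {t}ᶜ)
    (elt_mul (elt_ne hap htp.symm) (elt_ne hcq htq.symm) hac) (PiNat.compl_compl.2 hut) (h3 ▸ hu)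
  have e1 := h.eq_of_ne hap (elt_ne hut htp) haZ huZ la lu (la hu)
    (K2 _ (elt_mul (elt_ne hap hpq) (elt_ne hut htq) (la hu)))
  have e2 := h.eq_of_ne hcq (elt_ne hut htq) hcZ huZ (lb.trans lc) lu (lc (lb hu))
    (K1 _ (elt_mul (elt_ne hcq (Ne.symm hpq)) (elt_ne hut htp) (lc (lb hu))))
  exact K1 u (elt_ne hut htp) (by rw [h2, e1, e2, inf_idem])

theorem comm_small (hG : ¬ Group.IsSolvable G) {x : G} (hx : C₁⟦x⟧.index = n * m) : IsMulCommutative C₁⟦x⟧ := by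
  by_contra hn
  obtain ⟨p, hp, v, hv, hv', hvp⟩ := exists_pelt_not_mem (mt comm_iff_le_cent.2 hn)
  have hA : ∀ s : ℕ, s.Prime → s ≠ p → ∀ w ∈ C₁⟦x⟧, IsPiElt {s} w → C₁⟦x⟧ ≤ C₁⟦w⟧ := fun s hs hsp w hw hws => by
    by_contra e
    exact hsp (h.prime_eq hG hx hs hp hw (mt le_cent1_iff.2 e) hws hv hv' hvp)
  have K := fun u => h.not_eq (u := u) hx hv hv' hvp
  obtain ⟨s, t, hs, ht, hst, hsp, htp, hsZ, htZ⟩ := two_primes hG hp
  obtain ⟨u, hu, huZ, hus⟩ := exists_elt_not_mem hs (h.dvd_small hx hs hsZ)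
  obtain ⟨u', hu', hu'Z, hut⟩ := exists_elt_not_mem ht (h.dvd_small hx ht htZ)
  have lu := hA s hs hsp u hu hus
  have e : C₁⟦u⟧ = C₁⟦u'⟧ := h.eq_of_ne hus (elt_ne hut hst.symm) huZ hu'Z lu (hA t ht htp u' hu' hut) (lu hu')
    (K _ (elt_mul (elt_ne hus hsp) (elt_ne hut htp) (lu hu')))
  obtain ⟨-, hm, hrel⟩ := h.lt_iff huZ lu (K u (elt_ne hus hsp)).symm
  have key : ∀ q : ℕ, q.Prime → q ≠ p → ∀ w ∈ C₁⟦u⟧, IsPiElt {q} w → w ∈ C⟦C₁⟦u⟧⟧ := by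
    intro q hq hqp w hw hwq
    haveI := Fact.mk hq
    obtain ⟨y, r, hrq, hrp, hyr, hyZ, ey⟩ : ∃ (y : G) (r : ℕ), q ≠ r ∧ r ≠ p ∧ IsPiElt {r} y ∧ y ∉ center G ∧
        C₁⟦y⟧ = C₁⟦u⟧ := by
      by_cases hqs : q = s
      exacts [⟨u', t, hqs ▸ hst, htp, hut, hu'Z, e.symm⟩, ⟨u, s, hqs, hsp, hus, huZ, rfl⟩]
    rw [← ey] at hw lu ⊢
    obtain ⟨A, hA'⟩ := exists_sylowOf q C₁⟦x⟧
    have hAc : A ≤ C⟦C₁⟦y⟧⟧ := fun a ha => by
      have haq := elt_of_pgroup hA'.isPGroup ha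
      exact le_cent1_iff.1 (h.le_of_ne hyr (elt_ne haq hrq) hyZ lu (hA q hq hqp a (hA'.le ha) haq) (lu (hA'.le ha))
        (K _ (elt_mul (elt_ne hyr hrp) (elt_ne haq hqp) (lu (hA'.le ha)))))
    by_contra hw'
    have e1 := cent1_mul hyr (elt_ne hwq hrq) hw
    have e2 := (h.lt_iff hyZ (e1 ▸ inf_le_left) fun e => hw' (le_cent1_iff.1 (e ▸ e1 ▸ inf_le_right))).1
    have hwA : zpowers w ≤ C⟦A⟧ := (zpowers_le.2 hw).trans (cent_symm hAc)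
    have := sylow_of_card_eq hA' (e1 ▸ le_inf (hA'.le.trans lu) (cent_zpowers w ▸ cent_symm hwA)) (hx.trans e2.symm)
    exact hw' (hAc (this.pgroup_le_of_norm (pgroup_zpowers hwq) (zpowers_le.2 (e1 ▸ ⟨hw, self_mem_cent1 w⟩))
      (Or.inl (norm_of_cent hwA)) (mem_zpowers w)))
  refine h.not_big hG hp (fun q hq hd => ?_) hm key
  by_contra hqp
  obtain ⟨w, hw, hwD, hwq⟩ := exists_elt_not_mem hq (hrel ▸ hd)
  exact hwD (mem_cent1_comm.1 (le_cent1_iff.2 (key q hq hqp w hw hwq) (lu (self_mem_cent1 x))))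

theorem thetaHyp (hG : ¬ Group.IsSolvable G) {r : ℕ} {y : G} (hyr : IsPiElt {r} y) (hy : y ∉ center G) :
    ThetaHyp C₁⟦y⟧ r n := thetaHyp_sub fun w hw hwr hw' => by
  have e1 := cent1_mul hyr hwr hw
  obtain ⟨e2, -, e3⟩ := h.lt_iff hy (e1 ▸ inf_le_left) fun e => hw' (le_cent1_iff.1 (e ▸ e1 ▸ inf_le_right))
  exact ⟨e1 ▸ h.comm_small hG e2, by rw [← e3, e1, inf_comm, inf_relIndex_right]⟩

theorem piNat (hG : ¬ Group.IsSolvable G) {r : ℕ} (hr : r.Prime) {x y : G} (hyr : IsPiElt {r} y) (hy : y ∉ center G)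
    (hlt : C₁⟦x⟧ < C₁⟦y⟧) : PiNat {r} n := by
  obtain ⟨hx, hm, hrel⟩ := h.lt_iff hy hlt.le hlt.ne
  by_contra hn
  have hdvd : n ∣ C⟦C₁⟦y⟧⟧.relIndex C₁⟦y⟧ :=
    hrel ▸ relIndex_dvd_of_le_left _ (cent_le_cent1 (hlt.le (self_mem_cent1 x)))
  obtain ⟨t, ht, htZ, hti⟩ : ∃ t : ℕ, t.Prime ∧ t ∣ (center G).index ∧ ¬ t ∣ C⟦C₁⟦y⟧⟧.relIndex C₁⟦y⟧ := by
    by_contra! hh
    obtain ⟨s, t, hs, ht, hst, hsp, htp, hsZ, htZ⟩ := two_primes hG hr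
    exact hn ((h.thetaHyp hG hyr hy).piNat hr hs ht hst hsp htp (index_center_coe C₁⟦y⟧ ▸ hh s hs hsZ)
      (index_center_coe C₁⟦y⟧ ▸ hh t ht htZ))
  obtain ⟨u, hu, huZ, hut⟩ := exists_elt_not_mem ht (h.relIndex_big hx hm ▸ (h.dvd_small hx ht htZ).mul_right n)
  have e : C₁⟦u⟧ = C₁⟦y⟧ := h.maxC hm u huZ <| le_cent1_iff.2 <|
    (isPi_zpowers.2 hut).le_of_normalIn (zpowers_le.2 hu) (norm_cent (le_norm_self _))
      ((PiNat.compl_singleton_iff ht).2 hti) (mem_zpowers u)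
  obtain ⟨p, hp, hd⟩ := Nat.exists_prime_and_dvd h.one_lt.ne'
  have hp' : PiNat {p} (C⟦C₁⟦y⟧⟧.relIndex C₁⟦y⟧) := fun q hq hqd => by
    by_contra hqp
    have := (h.thetaHyp hG hut huZ).piNat ht hp hq (Ne.symm hqp) (fun e => hti (e ▸ hd.trans hdvd))
      (fun e => hti (e ▸ hqd)) (by rw [index_center_coe, e]; exact hd.trans hdvd) (by rwa [index_center_coe, e])
    exact hti (this p hp hd ▸ hd.trans hdvd)
  exact h.not_big hG hp (hp'.of_dvd hdvd) hm fun s hs hsp v hv hvs =>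
    (isPi_zpowers.2 hvs).le_of_normalIn (zpowers_le.2 hv) (norm_cent (le_norm_self _))
      (hp'.mono (Set.singleton_subset_iff.2 hsp.symm)) (mem_zpowers v)

theorem solvable : Group.IsSolvable G := by
  by_contra hG
  obtain ⟨x, y, r, hr, hyr, hy, hlt⟩ := h.ex'
  have hx := (h.lt_iff hy hlt.le hlt.ne).1
  have hn := h.piNat hG hr hyr hy hlt
  obtain ⟨s, t, hs, ht, hst, hsp, htp, hsZ, htZ⟩ := two_primes hG hr
  refine phi hs ht hst (fun v hv hv' hvZ => ?_) (h.dvd_small hx hs hsZ) (h.dvd_small hx ht htZ)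
    (hx ▸ h.dvd_mul hs hsZ) (hx ▸ h.dvd_mul ht htZ)
  by_contra hne
  have hle : C₁⟦x⟧ ≤ C₁⟦v⟧ := fun a ha => mem_cent1.2 (comm_iff.1 (h.comm_small hG hx) a ha v hv)
  obtain ⟨q, hq, hπ, w, hw, hwq, e⟩ := (h.maxC (h.lt_iff hvZ hle (Ne.symm hne)).2.1).exists_pelt hv' hvZ
  obtain ⟨p, hp, hd⟩ := Nat.exists_prime_and_dvd h.one_lt.ne'
  have e1 : p = q := h.piNat hG hq hwq hw (e ▸ lt_of_le_of_ne hle (Ne.symm hne)) p hp hd
  have e2 : p = r := hn p hp hd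
  rcases hπ with rfl | rfl
  exacts [hsp (e1 ▸ e2), htp (e1 ▸ e2)]

end Rk2

/-- **Ito**: at most two nontrivial class sizes imply solvability. -/
theorem rank_two_solvable {n₁ n₂ : ℕ} (h : ∀ x : G, x ∉ center G → C₁⟦x⟧.index = n₁ ∨ C₁⟦x⟧.index = n₂) :
    Group.IsSolvable G := by
  by_cases hF : ∀ x : G, x ∉ center G → MaxC x
  · exact rank_two_free h hF
  simp only [MaxC, not_forall] at hF
  obtain ⟨x, hx, y, hy, hle, hne⟩ := hF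
  have h1 : C₁⟦y⟧.index < C₁⟦x⟧.index := not_le.1 fun e => hne (eq_of_le_index hle e).symm
  have h3 := relIndex_mul_index hle
  refine Rk2.solvable (m := C₁⟦y⟧.index) (n := C₁⟦x⟧.relIndex C₁⟦y⟧) ⟨?_, fun z hz => ?_, x, y, hy,
    lt_of_le_of_ne hle (Ne.symm hne)⟩
  · have := relIndex_pos C₁⟦x⟧ C₁⟦y⟧
    have := mt relIndex_eq_one.1 fun e => hne (le_antisymm e hle)
    omega
  · have := h x hx
    have := h y hy
    have := h z hz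
    omega

end Cfsg.Agent.H25
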