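/-
A conjugacy class on which an abelian CC-subgroup acts regularly.
-/
import Cfsg.Agent.H25.Ito2
import Cfsg.Agent.H5.Ind3
import Cfsg.Agent.H4.Integral

set_option autoImplicit false
set_option linter.style.haveILetI false

namespace Cfsg.Agent.H25

open Subgroup Cfsg.Agent.H20 Cfsg.Agent.H21 Cfsg.Agent.H4 Cfsg.Agent.H5
open scoped Pointwise commutatorElement ComplexConjugate

variable {G : Type*} [Group G]

/-- `C` is the centralizer of each of its nonidentity elements. -/
def CCab (C : Subgroup G) : Prop := ∀ u ∈ C, u ≠ 1 → C₁⟦u⟧ = C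

namespace CCab

variable {C : Subgroup G} (h : CCab C)
include h

theorem comm : IsMulCommutative C := comm_iff.2 fun a ha b hb => by
  by_cases b1 : b = 1
  · simp [b1]
  · exact mem_cent1.1 ((h b hb b1).ge ha)

theorem mem {u g : G} (hu : u ∈ C) (u1 : u ≠ 1) (hg : g * u = u * g) : g ∈ C := (h u hu u1).le (mem_cent1.2 hg)

theorem mem_norm {u g : G} (hu : u ∈ C) (u1 : u ≠ 1) (hg : g * u * g⁻¹ ∈ C) : g ∈ N⟦C⟧ := by
  have := h _ hg (by simpa using u1)
  rwa [← cj_cent1, h u hu u1, ← mem_norm_iff_cj] at this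

theorem cj (g : G) : CCab (cj g C) := fun u hu u1 => by
  obtain ⟨v, hv, rfl⟩ := mem_cj'.1 hu
  rw [← cj_cent1, h v hv (by simpa using u1)]

theorem exists_comm [Finite G] {t : G} (ht : t ∈ N⟦C⟧) (htC : t ∉ C) {u : G} (hu : u ∈ C) :
    ∃ a ∈ C, a⁻¹ * (t⁻¹ * a * t) = u := by
  let f : C → C := fun a => ⟨(a : G)⁻¹ * (t⁻¹ * a * t), mul_mem (inv_mem a.2) (conj_mem_of_norm' ht a.2)⟩
  have : Function.Injective f := fun a b e => by
    have e : (a : G)⁻¹ * (t⁻¹ * a * t) = (b : G)⁻¹ * (t⁻¹ * b * t) := congrArg Subtype.val e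
    by_contra hne
    refine htC (h.mem (mul_mem b.2 (inv_mem a.2)) (fun e' => hne (Subtype.ext (mul_inv_eq_one.1 e').symm)) ?_)
    calc t * (b * (a : G)⁻¹) = t * b * ((a : G)⁻¹ * (t⁻¹ * a * t)) * t⁻¹ * (a : G)⁻¹ * t := by group
      _ = _ := by rw [e]; group
  obtain ⟨a, ha⟩ := Finite.surjective_of_injective this ⟨u, hu⟩
  exact ⟨a, a.2, congrArg Subtype.val ha⟩

theorem norm_ind [Fintype G] [Fintype C] {lam mu : C → ℂ} (hl : IsIrrCharacter C lam) (hm : IsIrrCharacter C mu)
    (l1 : lam ≠ fun _ => 1) (m1 : mu ≠ fun _ => 1) :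
    (classInner (indFun C (lam - mu)) (indFun C (lam - mu))).re ≤ 2 := by
  classical
  have hc : ∀ a b : C, a * b = b * a := fun a b => Subtype.ext (comm_iff.1 h.comm a a.2 b b.2)
  have h0 : (lam - mu) 1 = 0 := by
    rw [Pi.sub_apply, hl.apply_one_eq_one_of_comm hc, hm.apply_one_eq_one_of_comm hc, sub_self]
  have key : ∀ t : G, (∑ a : C, extendByZero C (lam - mu) (t⁻¹ * a * t) * conj ((lam - mu) a)).re ≤
      if t ∈ C then 2 * (♯C : ℝ) else 0 := by
    intro t
    by_cases ht : t ∈ N⟦C⟧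
    · let σ : C ≃* C := C.normalizerMonoidHom ⟨t⁻¹, inv_mem ht⟩
      have hσ : ∀ a : C, (σ a : G) = t⁻¹ * a * t := fun a => by
        change t⁻¹ * a * t⁻¹⁻¹ = _; rw [inv_inv]
      have e1 : ∑ a : C, extendByZero C (lam - mu) (t⁻¹ * a * t) * conj ((lam - mu) a) =
          ♯C * classInner ((fun a => lam (σ a)) - fun a => mu (σ a)) (lam - mu) := by
        rw [card_mul_classInner]
        exact Finset.sum_congr rfl fun a _ => by rw [← hσ, extendByZero_coe]; rfl
      have hl' := hl.comp_equiv σ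
      have hm' := hm.comp_equiv σ
      have hne : t ∉ C → ∀ ν : C → ℂ, IsIrrCharacter C ν → ν ≠ (fun _ => 1) → (fun a => ν (σ a)) ≠ ν := by
        intro htC ν hν ν1 e
        refine ν1 (funext fun u => ?_)
        obtain ⟨a, ha, e'⟩ := h.exists_comm ht htC u.2
        have h1 := hν.apply_one_eq_one_of_comm hc
        have hmul := hν.isCharacter.map_mul_of_apply_one h1
        have : u = (⟨a, ha⟩ : C)⁻¹ * σ ⟨a, ha⟩ := Subtype.ext (by rw [coe_mul, hσ]; exact e'.symm)
        rw [this, hmul, congrFun e ⟨a, ha⟩, ← hmul, inv_mul_cancel, h1]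
      rw [e1, classInner_sub_left, classInner_sub_right, classInner_sub_right, hl'.classInner_eq_ite hl,
        hl'.classInner_eq_ite hm, hm'.classInner_eq_ite hl, hm'.classInner_eq_ite hm]
      have := Nat.cast_nonneg (α := ℝ) ♯C
      by_cases htC : t ∈ C
      · rw [if_pos htC]
        split_ifs <;> simp <;> linarith
      · rw [if_neg htC, if_neg (hne htC _ hl l1), if_neg (hne htC _ hm m1)]
        split_ifs <;> norm_num
    · rw [if_neg fun e => ht (le_norm_self C e), Finset.sum_eq_zero, Complex.zero_re]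
      intro a _
      by_cases a1 : a = 1
      · rw [a1, h0, map_zero, mul_zero]
      · rw [extendByZero_not_mem, zero_mul]
        exact fun e => ht (by
          simpa using inv_mem (h.mem_norm (g := t⁻¹) a.2 (fun e => a1 (Subtype.ext e)) (by rwa [inv_inv])))
  rw [inner_indFun_indFun, ← Nat.cast_mul, ← Complex.ofReal_natCast, ← Complex.ofReal_inv, Complex.re_ofReal_mul,
    Complex.re_sum]
  have hpos : (0 : ℝ) < ♯C := Nat.cast_pos.2 (card_pos C)
  have := Finset.sum_le_sum fun t (_ : t ∈ Finset.univ) => key t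
  rw [← Finset.sum_filter, Finset.sum_const, nsmul_eq_mul,
    show (Finset.univ.filter (· ∈ C)).card = ♯C by rw [Nat.card_eq_fintype_card, Fintype.card_subtype]] at this
  rw [inv_mul_le_iff₀ (by push_cast; positivity)]
  push_cast
  linarith

omit h in
theorem eq_sub_of_norm_le {ι : Type*} [Fintype ι] [DecidableEq ι] {a : ι → ℤ} (h : ∑ i, a i * a i ≤ 2) {i j : ι}
    (hij : i ≠ j) (hi : a i = 1) (hj : a j = -1) {k : ι} (h1 : k ≠ i) (h2 : k ≠ j) : a k = 0 := by
  have := Finset.sum_le_sum_of_subset_of_nonneg (Finset.subset_univ {i, j, k}) (f := fun i => a i * a i)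
    fun i _ _ => mul_self_nonneg _
  rw [Finset.sum_insert (by simp [hij, h1.symm]), Finset.sum_insert (by simp [h2.symm]), Finset.sum_singleton,
    hi, hj] at this
  nlinarith

/-- If `C` acts regularly on the class of `y`, then `y` commutes with all of its conjugates or with none. -/
theorem comm_or_isolated [Finite G] {y : G} (hi : C₁⟦y⟧.index = ♯C)
    (hy : ∀ u ∈ C, u ≠ 1 → ∀ g : G, g⁻¹ * u * g ∉ C₁⟦y⟧) (hyC : ∀ g : G, g * y * g⁻¹ ∉ C) :
    (∀ g : G, g * y * g⁻¹ ∈ C₁⟦y⟧) ∨ ∀ g : G, g * y * g⁻¹ ∈ C₁⟦y⟧ → g ∈ C₁⟦y⟧ := by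
  classical
  haveI := Fintype.ofFinite G
  haveI := Fintype.ofFinite C
  haveI := Fintype.ofFinite C₁⟦y⟧
  have hc : ∀ a b : C, a * b = b * a := fun a b => Subtype.ext (comm_iff.1 h.comm a a.2 b b.2)
  set B := C₁⟦y⟧ with hB
  set π := indFun B (fun _ => 1) with hπ
  have hπc : IsCharacter G π := isCharacter_indFun B isCharacter_one
  have hres : (fun u : C => π u) = regChar C := funext fun u => by
    by_cases u1 : u = 1
    · rw [u1, regChar_one, coe_one, hπ, indFun_one, mul_one, hi]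
    · rw [regChar_of_ne u1]
      exact indFun_eq_zero_of_not_conj _ _ fun x => by simpa using hy u u.2 (fun e => u1 (Subtype.ext e)) x⁻¹
  obtain ⟨a, ha⟩ := isCharacter_iff_exists_nat.1 hπc
  choose b hb using fun (χ : IrrCharacter G) (l : IrrCharacter C) =>
    (χ.2.isCharacter.restrict C).classInner_nat l.2.isCharacter
  have hsum : ∀ l, ∑ χ, a χ * b χ l = 1 := fun l => by
    have e : (fun u : C => π u) = ∑ χ : IrrCharacter G, (a χ : ℂ) • fun u : C => (χ : G → ℂ) u := by
      ext u; rw [ha]; simp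
    have := classInner_regChar_left (l : C → ℂ)
    rw [← hres, e, classInner_sum_left, l.2.apply_one_eq_one_of_comm hc, map_one] at this
    simp only [classInner_smul_left, hb] at this
    exact_mod_cast this
  have huniq : ∀ l χ ψ, a χ ≠ 0 → a ψ ≠ 0 → χ ≠ ψ → b χ l ≠ 0 → b χ l = 1 ∧ a χ = 1 ∧ b ψ l = 0 := by
    intro l χ ψ h1 h2 hne h3
    have := Finset.sum_le_sum_of_subset (Finset.subset_univ {χ, ψ}) (f := fun χ => a χ * b χ l)
    rw [hsum, Finset.sum_pair hne] at this
    have h4 := Nat.pos_of_ne_zero (mul_ne_zero h1 h3)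
    have h5 : a χ * b χ l = 1 := by omega
    exact ⟨Nat.eq_one_of_mul_eq_one_left h5, Nat.eq_one_of_mul_eq_one_right h5,
      (Nat.mul_eq_zero.1 (by omega)).resolve_left h2⟩
  have a1 : a (irrOne G) = 1 := by
    have := classInner_sum_irr_left (fun χ => (a χ : ℂ)) (irrOne G)
    rw [← ha, hπ, inner_indFun_left _ _ (irrOne G).2.isClassFunction] at this
    exact_mod_cast this.symm.trans classInner_one_one
  have b1 : b (irrOne G) (irrOne C) = 1 := by
    have := hb (irrOne G) (irrOne C)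
    change classInner (fun _ : C => (1 : ℂ)) (fun _ => 1) = _ at this
    rw [classInner_one_one] at this
    exact_mod_cast this.symm
  have hex : ∀ χ, a χ ≠ 0 → χ ≠ irrOne G → ∃ l, b χ l ≠ 0 ∧ l ≠ irrOne C := fun χ h1 h2 => by
    obtain ⟨θ, hθ, h3⟩ := exists_irr_under C χ.2
    have h4 : b χ ⟨θ, hθ⟩ ≠ 0 := fun e => h3 ((hb χ ⟨θ, hθ⟩).trans (by rw [e, Nat.cast_zero]))
    refine ⟨_, h4, fun e => h4 ?_⟩
    rw [e]
    exact (huniq (irrOne C) (irrOne G) χ (a1.trans_ne one_ne_zero) h1 h2.symm (b1.trans_ne one_ne_zero)).2.2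
  have hsame : ∀ χ ψ, a χ ≠ 0 → χ ≠ irrOne G → a ψ ≠ 0 → ψ ≠ irrOne G →
      (χ : G → ℂ) 1 = (ψ : G → ℂ) 1 ∧ (χ : G → ℂ) y = (ψ : G → ℂ) y := by
    intro χ ψ h1 h2 h3 h4
    by_cases hne : χ = ψ
    · simp [hne]
    obtain ⟨l, hl, l1⟩ := hex χ h1 h2
    obtain ⟨m, hm, m1⟩ := hex ψ h3 h4
    obtain ⟨e1, -, e2⟩ := huniq l χ ψ h1 h3 hne hl
    obtain ⟨e3, -, e4⟩ := huniq m ψ χ h3 h1 (Ne.symm hne) hm
    obtain ⟨c, hc1, hc2, hc3⟩ := (isGeneralizedCharacter_indFun C (l.2.isGen.sub m.2.isGen)).exists_int_norm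
    have hn := h.norm_ind l.2 m.2 (fun e => l1 (Subtype.ext e)) fun e => m1 (Subtype.ext e)
    rw [hc3, Complex.intCast_re] at hn
    have hcc : ∀ ξ : IrrCharacter G, c ξ = b ξ l - b ξ m := fun ξ => by
      have := hc1 ξ
      rw [inner_indFun_left _ _ ξ.2.isClassFunction, classInner_sub_left,
        l.2.isCharacter.classInner_comm (ξ.2.isCharacter.restrict C),
        m.2.isCharacter.classInner_comm (ξ.2.isCharacter.restrict C), hb, hb] at this
      exact_mod_cast this.symm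
    have hval : ∀ g, indFun C ((l : C → ℂ) - m) g = (χ : G → ℂ) g - (ψ : G → ℂ) g := fun g => by
      rw [hc2, Finset.sum_apply, Finset.sum_eq_add_of_mem χ ψ (Finset.mem_univ _) (Finset.mem_univ _) hne]
      · simp [hcc, e1, e2, e3, e4, sub_eq_add_neg]
      · intro ξ _ hξ
        rw [eq_sub_of_norm_le (a := c) (by exact_mod_cast hn) hne (by simp [hcc, e1, e4]) (by simp [hcc, e2, e3]) hξ.1 hξ.2]
        simp
    refine ⟨sub_eq_zero.1 ((hval 1).symm.trans ?_), sub_eq_zero.1 ((hval y).symm.trans ?_)⟩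
    · rw [indFun_one, Pi.sub_apply, l.2.apply_one_eq_one_of_comm hc, m.2.apply_one_eq_one_of_comm hc, sub_self,
        mul_zero]
    · exact indFun_eq_zero_of_not_conj _ _ hyC
  have hfix : ∀ g : G, (g : G ⧸ B) ∈ MulAction.fixedBy (G ⧸ B) y ↔ g⁻¹ * y * g ∈ B := fun g => by
    rw [MulAction.mem_fixedBy, MulAction.Quotient.smul_coe, eq_comm, QuotientGroup.eq, smul_eq_mul, mul_assoc]
  have hk : Nat.card (MulAction.fixedBy (G ⧸ B) y) = 1 ∨ Nat.card (MulAction.fixedBy (G ⧸ B) y) = B.index := by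
    have hpos : 0 < Nat.card (MulAction.fixedBy (G ⧸ B) y) :=
      Nat.card_pos_iff.2 ⟨⟨⟨((1 : G) : G ⧸ B), (hfix 1).2 (by simpa using self_mem_cent1 y)⟩⟩, inferInstance⟩
    have hev : ∀ g, π g = 1 + ∑ χ ∈ Finset.univ.erase (irrOne G), (a χ : ℂ) * (χ : G → ℂ) g := fun g => by
      conv_lhs => rw [ha]
      rw [Finset.sum_apply, ← Finset.add_sum_erase _ _ (Finset.mem_univ (irrOne G))]
      simp [a1]
    have hy' := hev y
    have h1' := hev 1
    rw [hπ, indFun_one_eq_card_fixedBy] at hy'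
    rw [hπ, indFun_one, mul_one] at h1'
    by_cases hS : ∃ χ, a χ ≠ 0 ∧ χ ≠ irrOne G
    · obtain ⟨χ, h1, h2⟩ := hS
      obtain ⟨d, -, hd⟩ := χ.2.exists_degree
      have hs : ∀ g, g = 1 ∨ g = y → ∑ ψ ∈ Finset.univ.erase (irrOne G), (a ψ : ℂ) * (ψ : G → ℂ) g =
          (∑ ψ ∈ Finset.univ.erase (irrOne G), a ψ : ℕ) * (χ : G → ℂ) g := fun g hg => by
        rw [Nat.cast_sum, Finset.sum_mul]
        refine Finset.sum_congr rfl fun ψ hψ => ?_
        by_cases h3 : a ψ = 0
        · simp [h3]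
        · have := hsame ψ χ h3 (Finset.ne_of_mem_erase hψ) h1 h2
          rcases hg with rfl | rfl
          exacts [by rw [this.1], by rw [this.2]]
      rw [hs _ (Or.inr rfl)] at hy'
      rw [hs _ (Or.inl rfl), hd] at h1'
      generalize ∑ ψ ∈ Finset.univ.erase (irrOne G), a ψ = s at *
      have h1'' : B.index = 1 + s * d := by exact_mod_cast h1'
      rcases χ.2.eq_zero_or_norm_eq_of_coprime hd (g := y) (by rw [← hB, h1'']; simp) with e | e
      · left
        rw [e, mul_zero, add_zero] at hy'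
        exact_mod_cast hy'
      · right
        obtain ⟨k, hk⟩ := Nat.exists_eq_add_one.2 hpos
        rw [hk] at hy' ⊢
        have : (k : ℂ) = s * (χ : G → ℂ) y := by push_cast at hy'; linear_combination hy'
        have := congrArg norm this
        rw [norm_mul, e, hd, Complex.norm_natCast, Complex.norm_natCast, Complex.norm_natCast] at this
        have : k = s * d := by exact_mod_cast this
        omega
    · left
      rw [Finset.sum_eq_zero fun ψ hψ => by
        rw [not_not.1 fun e => hS ⟨ψ, e, Finset.ne_of_mem_erase hψ⟩, Nat.cast_zero, zero_mul], add_zero] at hy'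
      exact_mod_cast hy'
  rcases hk with e | e
  · right
    intro g hg
    have := (Nat.card_eq_one_iff_unique.1 e).1.elim ⟨((g⁻¹ : G) : G ⧸ B), (hfix _).2 (by rwa [inv_inv])⟩
      ⟨((1 : G) : G ⧸ B), (hfix 1).2 (by simpa using self_mem_cent1 y)⟩
    simpa [QuotientGroup.eq] using this
  · left
    intro g
    have : MulAction.fixedBy (G ⧸ B) y = Set.univ :=
      Set.eq_of_subset_of_ncard_le (Set.subset_univ _) (by rw [Set.ncard_univ, ← Nat.card_coe_set_eq, e]; rfl)
    simpa using (hfix g⁻¹).1 (this ▸ Set.mem_univ _)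

end CCab

end Cfsg.Agent.H25
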