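/-
Groups factorized by an abelian CC-subgroup of odd order and the centralizer of an element.
-/
import Cfsg.Agent.H25.Ito3
import Cfsg.Agent.H6.ZStar
import Cfsg.Agent.H1.Frobenius
import Cfsg.Agent.FT
import Cfsg.Agent.S4160
import Cfsg.Agent.S0564

set_option autoImplicit false
set_option linter.style.haveILetI false

namespace Cfsg.Agent.H25

open Subgroup Cfsg.Agent.H20 Cfsg.Agent.H21
open scoped Pointwise commutatorElement

variable {G : Type*} [Group G] [Finite G]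

theorem exists_central_in {p : ℕ} [Fact p.Prime] {S : Subgroup G} (hS : IsPGroup p S) (h1 : S ≠ ⊥) :
    ∃ z ∈ S, orderOf z = p ∧ S ≤ C₁⟦z⟧ := by
  obtain ⟨z, hz, ho⟩ := exists_prime_order_mem Fact.out
    (dvd_card_of_isPGroup (hS.to_le inf_le_left) (center_ne_bot_of_nil hS.isNilpotent h1))
  exact ⟨z, hz.1, ho, le_cent1_iff.2 hz.2⟩

omit [Finite G] in
theorem elt_of_orderOf {p : ℕ} (hp : p.Prime) {z : G} (h : orderOf z = p) : IsPiElt {p} z :=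
  isPiElt_iff.2 (h.symm ▸ (PiNat.prime_iff hp).2 rfl)

omit [Finite G] in
theorem ne_one_of_orderOf {p : ℕ} (hp : p.Prime) {z : G} (h : orderOf z = p) : z ≠ 1 := by
  rintro rfl; rw [orderOf_one] at h; exact hp.one_lt.ne h

theorem exists_conj_mem_of_not_dvd {p : ℕ} (hp : p.Prime) {D : Subgroup G} (h : ¬ p ∣ D.index) {v : G}
    (hv : IsPiElt {p} v) : ∃ g : G, g * v * g⁻¹ ∈ D := by
  haveI := Fact.mk hp
  obtain ⟨T, hT, hle⟩ := sylow_le_of_not_dvd hp h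
  obtain ⟨g, -, hg⟩ := hT.exists_cj_le (pgroup_zpowers hv) le_top
  exact ⟨g, hle (hg (conj_mem_cj.2 (mem_zpowers v)))⟩

theorem sol_of_odd_index_sol {W : Subgroup G} [W.Normal] (hW : Group.IsSolvable W) (h : ¬ 2 ∣ W.index) :
    Group.IsSolvable G := by
  rw [← sol_top_iff]
  refine H1.isSolvable_of_map_mk' (N := W) hW ?_
  rw [map_top_of_surjective _ (QuotientGroup.mk'_surjective _), sol_top_iff]
  exact FT.solvable_of_odd (Nat.odd_iff.2 (Nat.two_dvd_ne_zero.1 h))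

theorem exists_core_step {W : Subgroup G} [W.Normal] {L : Subgroup (G ⧸ W)} [L.Normal] (hL : Group.IsSolvable L)
    (h1 : L ≠ ⊥) : ∃ (V : Subgroup G) (v : ℕ), v.Prime ∧ V.Normal ∧ W ≤ V ∧ ¬ V ≤ W ∧ PiNat {v} (W.relIndex V) := by
  set f := QuotientGroup.mk' W
  have hf := QuotientGroup.mk'_surjective W
  obtain ⟨v, hv, h1⟩ := exists_pCoreOf_ne_bot hL h1
  haveI := (piCoreOf_normalIn_of {v} (NormalIn.of_normal L)).normal
  refine ⟨(piCoreOf {v} L).comap f, v, hv, inferInstance, ?_, fun hle => h1 ?_, ?_⟩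
  · conv_lhs => rw [← QuotientGroup.ker_mk' W]
    exact ker_le_comap _ _
  · rw [← map_comap_eq_self_of_surjective hf (piCoreOf {v} L), Subgroup.map_eq_bot_iff, QuotientGroup.ker_mk']
    exact hle
  · have := Subgroup.relIndex_ker ((piCoreOf {v} L).comap f) f
    rw [QuotientGroup.ker_mk', map_comap_eq_self_of_surjective hf] at this
    rw [this]
    exact isPi_piCoreOf _ _

theorem comm_of_minC {x w : G} {p q : ℕ} (hpq : p ≠ q) (hx : MinC x) (hw : MinC w) (hxp : IsPiElt {p} x)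
    (hwq : IsPiElt {q} w) (h : w ∈ C₁⟦x⟧) : C₁⟦w⟧ = C₁⟦x⟧ ∧ IsMulCommutative C₁⟦x⟧ := by
  have e : C₁⟦w⟧ = C₁⟦x⟧ := (hw x (hx.le hxp (elt_ne hwq hpq.symm) h)).symm
  refine ⟨e, comm_iff_le_cent.2 fun a ha => mem_of_forall_pelt (elt_univ a) ha fun s _ _ v hv hvs =>
    le_cent1_iff.1 ?_⟩
  by_cases hsp : s = p
  · exact e ▸ hw.le hwq (elt_ne hvs (hsp ▸ hpq)) (e ▸ hv)
  · exact hx.le hxp (elt_ne hvs hsp) hv

theorem mem_of_pow_coprime' {H : Subgroup G} {v : G} {n : ℕ} (h : v ^ n ∈ H) (hc : (orderOf v).Coprime n) : v ∈ H := by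
  obtain ⟨m, hm⟩ := exists_pow_eq_self_of_coprime hc.symm
  exact hm ▸ pow_mem h m

namespace CCab

variable {C : Subgroup G} (h : CCab C)
include h

theorem not_dvd_index {q : ℕ} (hq : q.Prime) (hd : q ∣ ♯C) : ¬ q ∣ C.index := by
  haveI := Fact.mk hq
  obtain ⟨u, hu, ho⟩ := exists_prime_order_mem hq hd
  have u1 := ne_one_of_orderOf hq ho
  obtain ⟨S, hS, hle⟩ := exists_sylowOf_ge (pgroup_zpowers (elt_of_orderOf hq ho)) le_top
  obtain ⟨z, -, hz, hSz⟩ := exists_central_in hS.isPGroup (ne_bot_of_mem (hle (mem_zpowers u)) u1)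
  have := h z (h.mem hu u1 (mem_cent1.1 (hSz (hle (mem_zpowers u)))).symm) (ne_one_of_orderOf hq hz)
  exact not_dvd_index_of_sylow hS (this ▸ hSz)

theorem hall : IsPiHallOf (primesOf C) C ⊤ :=
  Hall.mk le_top (isPi_primesOf C) <| PiNat.compl_iff.2 fun p hp hπ => by
    rw [relIndex_top_right]; exact h.not_dvd_index hp (mem_primesOf.1 hπ).2

theorem isPi_cent {x : G} (hx : ∀ g : G, g * x * g⁻¹ ∉ C) : IsPi (primesOf C)ᶜ C₁⟦x⟧ := by
  intro q hq hd hπ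
  obtain ⟨v, hv, ho⟩ := exists_prime_order_mem hq hd
  obtain ⟨g, hg⟩ := exists_conj_mem_of_not_dvd hq (h.not_dvd_index hq (mem_primesOf.1 hπ).2) (elt_of_orderOf hq ho)
  refine hx g (h.mem hg (by simpa using ne_one_of_orderOf hq ho) ?_)
  exact mem_cent1.1 (by rw [← cj_cent1, conj_mem_cj]; exact mem_cent1_comm.1 hv)

omit [Finite G] in
theorem index_eq {x g : G} (x1 : x ≠ 1) (hx : g * x * g⁻¹ ∈ C) : C₁⟦x⟧.index = C.index := by
  rw [← H26.index_cent_conj g x, h _ hx (by simpa using x1)]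

omit [Finite G] h in
theorem out_of_elt {x : G} (x1 : x ≠ 1) (hx : IsPiElt (primesOf C)ᶜ x) (g : G) : g * x * g⁻¹ ∉ C := fun hg => by
  have h1 : IsPiElt (primesOf C) x := by
    have := (isPi_primesOf C).elt hg
    rwa [isPiElt_iff, show orderOf (g * x * g⁻¹) = orderOf x from (MulAut.conj g).orderOf_eq x] at this
  exact x1 (orderOf_eq_one_iff.1 (PiNat.eq_one h1 hx))

theorem inf_cent {X : Subgroup G} (hX : IsPi (primesOf C)ᶜ X) {u : G} (hu : u ∈ C) (u1 : u ≠ 1) :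
    X ⊓ C₁⟦u⟧ = ⊥ := by rw [h u hu u1]; exact hX.inf_eq_bot' (isPi_primesOf C)

theorem isPi_of_normal {K : Subgroup G} [K.Normal] (hK : K ⊓ C = ⊥) : IsPi (primesOf C)ᶜ K := by
  intro q hq hd hπ
  haveI := Fact.mk hq
  obtain ⟨T, hT, hle⟩ := sylow_le_of_not_dvd hq (h.not_dvd_index hq (mem_primesOf.1 hπ).2)
  exact (hT.inf_normalIn (NormalIn.of_normal K)).sylow_ne_bot hd
    (eq_bot_iff.2 (hK ▸ le_inf inf_le_right (inf_le_left.trans hle)))

theorem cent_le_core {X : Subgroup G} [X.Normal] (hX : IsPi (primesOf C)ᶜ X) (h1 : X ≠ ⊥) :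
    C⟦X⟧ ≤ piCoreOf (primesOf C)ᶜ ⊤ := by
  refine le_piCoreOf (NormalIn.of_normal _) (h.isPi_of_normal (eq_bot_iff.2 fun u hu => ?_))
  by_contra u1
  exact h1 (by rw [← h.inf_cent hX hu.2 u1, inf_eq_left.2 (le_cent1_iff.2 hu.1)])

theorem cent_eq {P : Subgroup G} (hP : P ≤ C) (h1 : P ≠ ⊥) : C⟦P⟧ = C := by
  obtain ⟨u, hu, u1⟩ := exists_ne_one h1
  exact le_antisymm (h u (hP hu) u1 ▸ cent_le_cent1 hu) (le_cent_of_comm h.comm le_rfl hP)

theorem norm_le {P : Subgroup G} (hP : P ≤ C) (h1 : P ≠ ⊥) : N⟦P⟧ ≤ N⟦C⟧ := by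
  conv_rhs => rw [← h.cent_eq hP h1]
  exact norm_le_norm_cent P

theorem inverts {s : G} (hs : s ∈ N⟦C⟧) (h2 : s * s = 1) (hsC : s ∉ C) {a : G} (ha : a ∈ C) : s * a * s⁻¹ = a⁻¹ :=
  H1.conj_eq_inv_of_fpf hs h2 (eq_bot_iff.2 fun u hu => by
    by_contra u1
    exact hsC (h.mem hu.1 u1 (mem_cent1.1 hu.2).symm)) ha

theorem nil_core (h1 : C ≠ ⊥) : Group.IsNilpotent (piCoreOf (primesOf C)ᶜ (⊤ : Subgroup G)) := by
  obtain ⟨p, hp, hd⟩ := exists_prime_dvd_card h1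
  obtain ⟨u, hu, ho⟩ := exists_prime_order_mem hp hd
  exact H1.isNilpotent_of_fpf ((piCoreOf_normalIn _ _).norm (mem_top u)) (ho ▸ hp)
    (h.inf_cent (isPi_piCoreOf _ _) hu (ne_one_of_orderOf hp ho))

end CCab

/-- The configuration: outside the conjugates of `C` the class sizes are `|C|` and `k * |C|`. -/
structure Cf (C : Subgroup G) (k : ℕ) : Prop where
  cc : CCab C
  ne_bot : C ≠ ⊥
  odd : ¬ 2 ∣ ♯C
  one_lt : 1 < k
  idx : ∀ x : G, (∀ g : G, g * x * g⁻¹ ∉ C) → C₁⟦x⟧.index = ♯C ∨ C₁⟦x⟧.index = k * ♯C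
  ns : ¬ Group.IsSolvable G

namespace Cf

variable {C : Subgroup G} {k : ℕ} (h : Cf C k)
include h

theorem norm_ne : N⟦C⟧ ≠ C := fun e =>
  h.ns (sol_of_ti h.ne_bot (sol_of_comm h.cc.comm) fun g hg x hx hgx => by
    by_contra x1
    exact hg (e ▸ h.cc.mem_norm hx x1 hgx))

theorem two_mem : 2 ∈ (primesOf C)ᶜ := fun e => h.odd (mem_primesOf.1 e).2

theorem even : 2 ∣ Nat.card G := by
  by_contra hn
  exact h.ns (FT.solvable_of_odd (Nat.odd_iff.2 (Nat.two_dvd_ne_zero.1 hn)))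

theorem out_of_dvd {x : G} (hd : ♯C ∣ C₁⟦x⟧.index) (g : G) : g * x * g⁻¹ ∉ C := fun hg => by
  obtain ⟨p, hp, hpd⟩ := exists_prime_dvd_card h.ne_bot
  by_cases x1 : x = 1
  · rw [x1, cent1_one, index_top] at hd
    exact hp.not_dvd_one (hpd.trans hd)
  · exact h.cc.not_dvd_index hp hpd (h.cc.index_eq x1 hg ▸ hpd.trans hd)

theorem ne : ♯C ≠ k * ♯C := by have := card_pos C; have := h.one_lt; nlinarith

theorem minC {x : G} (hx : C₁⟦x⟧.index = k * ♯C) : MinC x := fun y hle => by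
  have hd := hx ▸ index_dvd_of_le hle
  rcases h.idx y (h.out_of_dvd ((dvd_mul_left _ _).trans hd)) with e | e
  · exact absurd (Nat.dvd_antisymm (dvd_mul_left _ _) (e ▸ hd)) h.ne
  · exact eq_of_le_index hle (e.trans hx.symm).le

theorem small_of_lt {x y : G} (hy : C₁⟦y⟧.index = ♯C) (hle : C₁⟦x⟧ ≤ C₁⟦y⟧) (hne : C₁⟦x⟧ ≠ C₁⟦y⟧) :
    C₁⟦x⟧.index = k * ♯C :=
  (h.idx x (h.out_of_dvd (hy ▸ index_dvd_of_le hle))).resolve_left fun e =>
    hne (eq_of_le_index hle (e.trans hy.symm).le)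

theorem hall_big {y : G} (hy : C₁⟦y⟧.index = ♯C) : IsPiHallOf (primesOf C)ᶜ C₁⟦y⟧ ⊤ :=
  Hall.mk le_top (h.cc.isPi_cent (h.out_of_dvd (hy ▸ dvd_rfl))) <| by
    rw [relIndex_top_right, hy, compl_compl]; exact isPi_primesOf C

theorem compl_big {y : G} (hy : C₁⟦y⟧.index = ♯C) : IsComplIn C C₁⟦y⟧ ⊤ := h.cc.hall.isComplIn (h.hall_big hy)

theorem exists_central {t : ℕ} (ht : t.Prime) (hπ : t ∈ (primesOf C)ᶜ) {S : Subgroup G} (hS : SylowOf t S ⊤)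
    (hd : t ∣ Nat.card G) : ∃ z ∈ S, orderOf z = t ∧ S ≤ C₁⟦z⟧ ∧ (C₁⟦z⟧.index = ♯C ∨ ¬ t ∣ k) := by
  haveI := Fact.mk ht
  obtain ⟨z, hz, ho, hSz⟩ := exists_central_in hS.isPGroup (hS.sylow_ne_bot (by rwa [card_top']))
  refine ⟨z, hz, ho, hSz, (h.idx z (CCab.out_of_elt (ne_one_of_orderOf ht ho)
    (elt_mono1 (elt_of_orderOf ht ho) hπ))).imp_right fun e hk => ?_⟩
  exact not_dvd_index_of_sylow hS hSz (e ▸ hk.mul_right _)

theorem two_dvd : 2 ∣ k := by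
  by_contra hk
  obtain ⟨p, hp, hd⟩ := exists_prime_dvd_card h.ne_bot
  haveI := Fact.mk hp
  have hp2 : p ≠ 2 := fun e => h.odd (e ▸ hd)
  obtain ⟨S, hS⟩ := exists_sylowOf 2 (⊤ : Subgroup G)
  obtain ⟨z, -, ho, -⟩ := h.exists_central Nat.prime_two h.two_mem hS h.even
  obtain ⟨u, hu, u1⟩ := exists_ne_one h.ne_bot
  rcases S4160.result (G := G) p 2 hp Nat.prime_two hp2
    ⟨z, by
      rcases h.idx z (CCab.out_of_elt (ne_one_of_orderOf Nat.prime_two ho)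
        (elt_mono1 (elt_of_orderOf Nat.prime_two ho) h.two_mem)) with e | e <;> rw [e]
      exacts [hd, hd.mul_left k]⟩
    ⟨u, by
      rw [h.cc u hu u1]
      exact ((Nat.Prime.dvd_mul Nat.prime_two).1 (C.card_mul_index ▸ h.even)).resolve_left h.odd⟩
    (fun x hx => by
      by_cases hx' : ∀ g : G, g * x * g⁻¹ ∉ C
      · have := (dvd_mul_left _ _).trans hx
        rcases h.idx x hx' with e | e <;> rw [e] at this
        exacts [h.odd this, ((Nat.Prime.dvd_mul Nat.prime_two).1 this).elim hk h.odd]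
      · push Not at hx'
        obtain ⟨g, hg⟩ := hx'
        have := (dvd_mul_right _ _).trans hx
        by_cases x1 : x = 1
        · rw [x1, cent1_one, index_top] at this; exact hp.not_dvd_one this
        · exact h.cc.not_dvd_index hp hd (h.cc.index_eq x1 hg ▸ this)) with hN | hN
  · obtain ⟨s, hs, v, hv, hvC, hvs⟩ := exists_pelt_not_mem fun e => h.norm_ne (le_antisymm e (le_norm_self C))
    have hH := h.cc.hall.of_le (le_norm_self C) le_top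
    have hsp : s ≠ p := fun e =>
      hvC (hH.mem_of_normalIn (NormalIn.norm_self C) hv (elt_mono1 hvs (mem_primesOf.2 ⟨hs, e ▸ hd⟩)))
    have hP := pCoreOf_sylow_of_nil (p := p) (nil_of_comm h.cc.comm)
    refine hvC ((h.cc.cent_eq hP.le (hP.sylow_ne_bot hd)).le
      (H3.mem_centralizer_of_normalizer_hasNormalPComplement hP.isPGroup (H3.hasNormalPComplement_subgroup hN _)
        (norm_piCoreOf _ le_rfl hv) ((PiNat.compl_singleton_iff_coprime hp).1 (elt_ne hvs hsp))))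
  · obtain ⟨N, hNn, h1, h2⟩ := H3.hasNormalPComplement_iff_exists_normal.1 hN
    refine h.ns (sol_top_iff.1 (H1.isSolvable_of_map_mk' (N := N)
      (FT.solvable_of_odd (Nat.odd_iff.2 (Nat.two_dvd_ne_zero.1 h1))) (sol_of_pgroup (h2.to_subgroup _))))

theorem exists_inv {S : Subgroup G} (hS : SylowOf 2 S ⊤) :
    ∃ z ∈ S, orderOf z = 2 ∧ S ≤ C₁⟦z⟧ ∧ C₁⟦z⟧.index = ♯C := by
  obtain ⟨z, hz, ho, hSz, e⟩ := h.exists_central Nat.prime_two h.two_mem hS h.even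
  exact ⟨z, hz, ho, hSz, e.resolve_right fun e => e h.two_dvd⟩

theorem not_normal : ¬ C.Normal := by
  intro hn
  obtain ⟨S, hS⟩ := exists_sylowOf 2 (⊤ : Subgroup G)
  obtain ⟨y, -, ho, -, hy⟩ := h.exists_inv hS
  have hN : ∀ g, g ∈ N⟦C⟧ := fun g => (NormalIn.of_normal C).norm (mem_top g)
  have hc := h.compl_big hy
  have y2 : y * y = 1 := by rw [← pow_two, ← ho, pow_orderOf_eq_one]
  have key : ∀ w ∈ C₁⟦y⟧, w ≠ 1 → C₁⟦w⟧ ≤ C₁⟦y⟧ := by
    intro w hw w1 g hg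
    have hy' : g * y * g⁻¹ ∈ C₁⟦w⟧ := mul_mem (mul_mem hg (mem_cent1_comm.1 hw)) (inv_mem hg)
    have h1 : y⁻¹ * (g * y * g⁻¹) ∈ C := by
      rw [← h.cc.cent_eq le_rfl h.ne_bot]
      refine mem_cent.2 fun a ha => ?_
      have e1 := h.cc.inverts (hN y) y2 (by simpa using h.out_of_dvd (hy ▸ dvd_rfl) 1) ha
      have e2 := h.cc.inverts (hN (g * y * g⁻¹)) (by rw [conj_mul, y2]; group) (h.out_of_dvd (hy ▸ dvd_rfl) g) ha
      calc a * (y⁻¹ * (g * y * g⁻¹)) = y⁻¹ * (y * a * y⁻¹) * (g * y * g⁻¹) := by group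
        _ = _ := by rw [e1, ← e2]; group
    by_contra hne
    refine w1 (hc.inf_eq.le ⟨h.cc.mem h1 (fun e => hne ?_) ?_, hw⟩)
    · rw [inv_mul_eq_one, eq_mul_inv_iff_mul_eq] at e; exact mem_cent1.2 e.symm
    · exact (mem_cent1.1 (mul_mem (inv_mem (mem_cent1_comm.1 hw)) hy')).symm
  have hB : Group.IsSolvable C₁⟦y⟧ := rank_two_solvable (n₁ := 1) (n₂ := k) fun w hw => by
    have w1 : (w : G) ≠ 1 := fun e => hw (by rw [show w = 1 from Subtype.ext e]; exact one_mem _)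
    have h1 := relIndex_mul_index (key w w.2 w1)
    rw [H26.index_cent_subgroup]
    rcases h.idx w (h.out_of_dvd (hy ▸ index_dvd_of_le (key w w.2 w1))) with e | e <;> rw [hy, e] at h1
    exacts [Or.inl (Nat.eq_of_mul_eq_mul_right (card_pos C) (h1.trans (one_mul _).symm)),
      Or.inr (Nat.eq_of_mul_eq_mul_right (card_pos C) h1)]
  exact h.ns (sol_top_iff.1 (hc.sup_eq ▸ sol_sup (sol_of_comm h.cc.comm) hB (Or.inr fun g _ => hN g)))

theorem big_not_norm {y : G} (hy : C₁⟦y⟧.index = ♯C) : y ∉ N⟦C⟧ := by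
  intro hn
  refine h.not_normal ⟨fun a ha g => ?_⟩
  obtain ⟨b, hb, rfl⟩ := h.cc.exists_comm hn (by simpa using h.out_of_dvd (hy ▸ dvd_rfl) 1) ha
  have key : ∀ g : G, ∃ u ∈ C, g * y * g⁻¹ = u * y * u⁻¹ := fun g => by
    obtain ⟨u, hu, c, hc, rfl⟩ := (h.compl_big hy).prod g (mem_top g)
    exact ⟨u, hu, by rw [mul_assoc u, mem_cent1.1 hc]; group⟩
  obtain ⟨u, hu, e1⟩ := key (g * b⁻¹)
  obtain ⟨v, hv, e2⟩ := key g
  have : g * (b⁻¹ * (y⁻¹ * b * y)) * g⁻¹ = (g * b⁻¹ * y * (g * b⁻¹)⁻¹)⁻¹ * (g * y * g⁻¹) := by group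
  rw [this, e1, e2]
  convert mul_mem (mul_mem hu (conj_mem_of_norm' hn (mul_mem (inv_mem hu) hv))) (inv_mem hv) using 1
  group

theorem core_ne_bot : piCoreOf (primesOf C)ᶜ (⊤ : Subgroup G) ≠ ⊥ := by
  obtain ⟨S, hS⟩ := exists_sylowOf 2 (⊤ : Subgroup G)
  obtain ⟨y, -, ho, -, hy⟩ := h.exists_inv hS
  have hB := h.hall_big hy
  rcases h.cc.comm_or_isolated hy (fun u hu u1 g hg => CCab.out_of_elt
    (by simpa using (MulAut.conj g⁻¹).map_ne_one_iff.2 u1) (hB.isPi.elt hg) g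
    (by simpa [mul_assoc] using hu)) (h.out_of_dvd (hy ▸ dvd_rfl)) with h1 | h1
  · have : normalClosure {y} ≤ C₁⟦y⟧ := (closure_le _).2 fun x hx => by
      obtain ⟨_, rfl, hx'⟩ := Group.mem_conjugatesOfSet_iff.1 hx
      obtain ⟨g, rfl⟩ := isConj_iff.1 hx'
      exact h1 g
    exact ne_bot_of_mem (le_piCoreOf (NormalIn.of_normal _) (hB.isPi.of_le this) (subset_normalClosure rfl))
      (ne_one_of_orderOf Nat.prime_two ho)
  · exfalso
    have hO := H6.pPrimeCore_sup_centralizer ho fun g hg =>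
      mul_inv_eq_iff_eq_mul.2 (mem_cent1.1 (h1 g (mem_cent1.2 hg.symm.eq)))
    rw [pPrimeCore_eq_top] at hO
    set O := piCoreOf {2}ᶜ (⊤ : Subgroup G)
    have hOn : O ⊴ ⊤ := piCoreOf_normalIn _ _
    obtain ⟨p, hp, hd⟩ := exists_prime_dvd_card h.ne_bot
    haveI := Fact.mk hp
    obtain ⟨P, hP, hle⟩ := sylow_le_of_not_dvd hp (h.cc.not_dvd_index hp hd)
    have hPO : P ≤ O := (hP.isPi.mono (Set.singleton_subset_iff.2 (mem_primesOf.2 ⟨hp, hd⟩))).le_of_normalIn le_top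
      hOn.norm (by rw [← hO, relIndex_sup_of_norm' (Or.inr (le_top.trans hOn.norm))]; exact hB.isPi.relIndex _)
    have hF : O ⊔ N⟦C⟧ = ⊤ := top_le_iff.1 (((hP.of_le hPO le_top).frattini hOn).ge.trans (sup_le_sup_left
      (inf_le_right.trans (h.cc.norm_le hle (hP.sylow_ne_bot (hd.trans (card_dvd le_top))))) _))
    obtain ⟨g, hg⟩ := exists_conj_mem_of_not_dvd Nat.prime_two (D := N⟦C⟧) (by
      rw [← relIndex_top_right, ← hF, relIndex_sup_of_norm (Or.inr (le_top.trans hOn.norm))]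
      exact ((isPi_piCoreOf _ _).relIndex _).not_dvd Nat.prime_two rfl) (elt_of_orderOf Nat.prime_two ho)
    exact h.big_not_norm ((H26.index_cent_conj g y).trans hy) hg

theorem big_mem {y : G} (hy : C₁⟦y⟧.index = ♯C) :
    y ∈ piCoreOf (primesOf C)ᶜ ⊤ ⊓ C⟦piCoreOf (primesOf C)ᶜ (⊤ : Subgroup G)⟧ := by
  haveI := (piCoreOf_normalIn (primesOf C)ᶜ (⊤ : Subgroup G)).normal
  have := le_cent1_iff.1 (h.hall_big hy).piCoreOf_le
  exact ⟨h.cc.cent_le_core (isPi_piCoreOf _ _) h.core_ne_bot this, this⟩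

theorem big_not_le {y : G} (hy : C₁⟦y⟧.index = ♯C) : ¬ C₁⟦y⟧ ≤ piCoreOf (primesOf C)ᶜ ⊤ := fun hle =>
  h.ns (sol_top_iff.1 (sol_of_le (sol_sup (sol_of_comm h.cc.comm) (sol_of_nil (h.cc.nil_core h.ne_bot))
    (Or.inl (le_top.trans (piCoreOf_normalIn _ _).norm))) ((h.compl_big hy).sup_eq.ge.trans (sup_le_sup_left hle _))))

theorem small_of_not_mem {x : G} (hx : IsPiElt (primesOf C)ᶜ x) (hW : x ∉ piCoreOf (primesOf C)ᶜ ⊤) :
    C₁⟦x⟧.index = k * ♯C :=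
  (h.idx x (CCab.out_of_elt (fun e => hW (e ▸ one_mem _)) hx)).resolve_left fun e => hW (h.big_mem e).1

theorem two_dvd_index : 2 ∣ (piCoreOf (primesOf C)ᶜ (⊤ : Subgroup G)).index := by
  haveI := (piCoreOf_normalIn (primesOf C)ᶜ (⊤ : Subgroup G)).normal
  by_contra hn
  exact h.ns (sol_of_odd_index_sol (sol_of_nil (h.cc.nil_core h.ne_bot)) hn)

theorem dvd_k {t : ℕ} (ht : t.Prime) (t2 : t ≠ 2) (hπ : t ∈ (primesOf C)ᶜ) (hd : t ∣ Nat.card G) : t ∣ k := by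
  haveI := Fact.mk ht
  by_contra hk
  have htC : ¬ t ∣ ♯C := fun e => hπ (mem_primesOf.2 ⟨ht, e⟩)
  have hi : ∀ x : G, (∀ g : G, g * x * g⁻¹ ∉ C) → ¬ t ∣ C₁⟦x⟧.index := fun x hx => by
    rcases h.idx x hx with e | e <;> rw [e]
    exacts [htC, fun e => ((Nat.Prime.dvd_mul ht).1 e).elim hk htC]
  obtain ⟨T, hT⟩ := exists_sylowOf t (⊤ : Subgroup G)
  by_cases hTW : T ≤ piCoreOf (primesOf C)ᶜ ⊤
  · have hTn : T ⊴ ⊤ := (hT.of_le hTW le_top).normalIn_trans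
      ((hT.of_le hTW le_top).normalIn_of_nilpotent (h.cc.nil_core h.ne_bot)) (piCoreOf_normalIn _ _)
    haveI := hTn.normal
    obtain ⟨S, hS⟩ := exists_sylowOf 2 (⊤ : Subgroup G)
    obtain ⟨y, -, -, -, hy⟩ := h.exists_inv hS
    refine h.big_not_le hy (le_trans (fun b hb => ?_) (h.cc.cent_le_core ((isPi_piCoreOf _ _).of_le hTW)
      (hT.sylow_ne_bot (by rwa [card_top']))))
    by_cases b1 : b = 1
    · rw [b1]; exact one_mem _
    · obtain ⟨T', hT', hle⟩ := sylow_le_of_not_dvd ht (hi b (CCab.out_of_elt b1 ((h.hall_big hy).isPi.elt hb)))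
      exact le_cent1_iff.1 (hT.eq_of_normalIn hTn hT' ▸ hle)
  obtain ⟨w, hw, hwW⟩ := SetLike.not_le_iff_exists.1 hTW
  have hwt := elt_of_pgroup hT.isPGroup hw
  have hw' := h.small_of_not_mem (elt_mono1 hwt hπ) hwW
  have hconj : ∀ x : G, (∀ g : G, g * x * g⁻¹ ∉ C) → ∃ g : G, g⁻¹ * x * g ∈ C₁⟦w⟧ := fun x hx => by
    obtain ⟨g, hg⟩ := exists_conj_mem_of_not_dvd ht (hi x hx) hwt
    exact ⟨g, by rwa [mem_cent1_comm, ← cj_cent1, mem_cj] at hg⟩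
  obtain ⟨x, hxW, hx2⟩ := exists_elt_of_dvd_index Nat.prime_two h.two_dvd_index
  have hx' := h.small_of_not_mem (elt_mono1 hx2 h.two_mem) hxW
  obtain ⟨g, hg⟩ := hconj x (h.out_of_dvd (hx' ▸ dvd_mul_left _ _))
  have hgx : C₁⟦g⁻¹ * x * g⟧.index = k * ♯C := by simpa [hx'] using H26.index_cent_conj g⁻¹ x
  have hgx2 : IsPiElt {2} (g⁻¹ * x * g) := by
    rwa [isPiElt_iff, show orderOf (g⁻¹ * x * g) = orderOf x by simpa using (MulAut.conj g⁻¹).orderOf_eq x]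
  obtain ⟨e, hc⟩ := comm_of_minC t2 (h.minC hw') (h.minC hgx) hwt hgx2 hg
  rcases selfnorm_of_cover (A := C) (B := C₁⟦w⟧) (fun z => by
    by_cases hz : ∀ g : G, g * z * g⁻¹ ∉ C
    · obtain ⟨g, hg⟩ := hconj z hz
      exact ⟨g, Or.inr hg⟩
    · push Not at hz
      obtain ⟨g, hg⟩ := hz
      exact ⟨g⁻¹, Or.inl (by rwa [inv_inv])⟩) with e' | e'
  · exact h.norm_ne e'
  · have := dvd_relIndex_norm Nat.prime_two (fun v hv _ a ha => mem_cent1.2 (comm_iff.1 hc a ha v hv)) hgx2 e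
      (hw' ▸ h.two_dvd.mul_right _)
    rw [e', relIndex_self] at this
    omega

theorem exists_U : ∃ (t : ℕ) (U : Subgroup G), t.Prime ∧ t ≠ 2 ∧ U.Normal ∧ U ≠ ⊥ ∧ IsPGroup t U ∧
    U ≤ piCoreOf (primesOf C)ᶜ ⊤ ∧ C⟦U⟧ = piCoreOf (primesOf C)ᶜ ⊤ := by
  obtain ⟨S, hS⟩ := exists_sylowOf 2 (⊤ : Subgroup G)
  obtain ⟨y, -, -, -, hy⟩ := h.exists_inv hS
  obtain ⟨t, ht, hd, t2⟩ : ∃ t : ℕ, t.Prime ∧ t ∣ ♯C₁⟦y⟧ ∧ t ≠ 2 := by
    by_contra! hn
    exact h.ns (S0564.result C C₁⟦y⟧ (nil_of_comm h.cc.comm) (IsPi.isPGroup (p := 2) hn).isNilpotent fun g => by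
      obtain ⟨a, ha, b, hb, e⟩ := (h.compl_big hy).prod g (mem_top g)
      exact ⟨a, ha, b, hb, e.symm⟩)
  haveI := Fact.mk ht
  have hπ := (h.hall_big hy).isPi.mem ht hd
  have hd' := hd.trans (card_dvd_card _)
  obtain ⟨T, hT⟩ := exists_sylowOf t (⊤ : Subgroup G)
  obtain ⟨z, -, ho, -, hz⟩ := h.exists_central ht hπ hT hd'
  have hz' := h.big_mem (hz.resolve_right fun e => e (h.dvd_k ht t2 hπ hd'))
  set W := piCoreOf (primesOf C)ᶜ (⊤ : Subgroup G)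
  have hn := (piCoreOf_normalIn_of {t} (NormalIn.center (piCoreOf_normalIn (primesOf C)ᶜ (⊤ : Subgroup G)))).normal
  have hle := piCoreOf_le {t} (W ⊓ C⟦W⟧)
  have h1 : piCoreOf {t} (W ⊓ C⟦W⟧) ≠ ⊥ := ne_bot_of_mem (le_pCoreOf_of_nil (nil_of_comm (comm_center W))
    (zpowers_le.2 hz') (pgroup_zpowers (elt_of_orderOf ht ho)) (mem_zpowers z)) (ne_one_of_orderOf ht ho)
  exact ⟨t, _, ht, t2, hn, h1, isPGroup_piCoreOf _ _, hle.trans inf_le_left, le_antisymm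
    (h.cc.cent_le_core ((isPi_piCoreOf _ _).of_le (hle.trans inf_le_left)) h1) (cent_symm (hle.trans inf_le_right))⟩

theorem fix_le {t : ℕ} {U : Subgroup G} (ht : t.Prime) (t2 : t ≠ 2) [U.Normal] (hU : IsPGroup t U)
    (hC : C⟦U⟧ = piCoreOf (primesOf C)ᶜ ⊤) (hUW : U ≤ piCoreOf (primesOf C)ᶜ ⊤) {x z : G} (hx2 : IsPiElt {2} x)
    (hxW : x ∉ piCoreOf (primesOf C)ᶜ ⊤) (hz2 : IsPiElt {2} z) (hz : C₁⟦z⟧.index = ♯C) (hxz : x ∈ C₁⟦z⟧) :
    U ⊓ C₁⟦x⟧ ≤ C⟦C₁⟦z⟧⟧ := by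
  haveI := Fact.mk ht
  intro u hu
  by_contra hn
  have hx' := h.small_of_not_mem (elt_mono1 hx2 h.two_mem) hxW
  have hm : ∀ a ∈ C₁⟦x⟧, IsPiElt {t} a → C₁⟦x⟧ ≤ C₁⟦a⟧ := fun a ha hat => (h.minC hx').le hx2 (elt_ne hat t2) ha
  have hut := elt_of_pgroup hU hu.1
  have hzx := mem_cent1_comm.1 hxz
  have e1 := cent1_mul hz2 (elt_ne hut t2) (mem_cent1_comm.1 (hm u hu.2 hut hzx))
  have e2 := h.small_of_lt hz (e1 ▸ inf_le_left) fun e => hn (le_cent1_iff.1 (e ▸ e1 ▸ inf_le_right))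
  obtain ⟨A, hA⟩ := exists_sylowOf t C₁⟦x⟧
  have := sylow_of_card_eq hA (e1 ▸ le_inf (fun a ha => mem_cent1_comm.1
    (hm a (hA.le ha) (elt_of_pgroup hA.isPGroup ha) hzx)) (hA.le.trans (hm u hu.2 hut))) (hx'.trans e2.symm)
  have hle : U ≤ A := this.pgroup_le_of_norm hU (e1 ▸ le_inf (hUW.trans (le_cent1_iff.2 (h.big_mem hz).2))
    (le_cent1_iff.2 (hC ▸ hUW hu.1))) (Or.inr (le_top.trans (NormalIn.of_normal U).norm))
  exact hxW (hC ▸ le_cent1_iff.1 (hle.trans hA.le))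

theorem exists_x : ∃ x : G, x * x = 1 ∧ x ∉ piCoreOf (primesOf C)ᶜ ⊤ ∧ x ∈ N⟦C⟧ ∧
    piCoreOf (primesOf C)ᶜ ⊤ ⊔ N⟦C⟧ = ⊤ := by
  obtain ⟨t, U, ht, t2, hUn, U1, hU, hUW, hC⟩ := h.exists_U
  haveI := Fact.mk ht
  set W := piCoreOf (primesOf C)ᶜ (⊤ : Subgroup G) with hW
  have hWn : W ⊴ ⊤ := piCoreOf_normalIn _ _
  haveI := hWn.normal
  have hUc : IsMulCommutative U := comm_iff_le_cent.2 (hC ▸ hUW)
  obtain ⟨S, hS⟩ := exists_sylowOf 2 (⊤ : Subgroup G)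
  obtain ⟨z, -, ho, hSz, hz⟩ := h.exists_inv hS
  set f := QuotientGroup.mk' W
  have hf := QuotientGroup.mk'_surjective W
  have hker : ∀ g, f g = 1 ↔ g ∈ W := fun g => QuotientGroup.eq_one_iff g
  have hS' : SylowOf 2 (S.map f) ⊤ := map_top_of_surjective f hf ▸ hS.map f
  obtain ⟨_, ⟨x, hx, rfl⟩, hxo, hxc⟩ := exists_central_in hS'.isPGroup (by
    rw [Ne, Subgroup.map_eq_bot_iff, QuotientGroup.ker_mk']; exact sylow_not_le hS h.two_dvd_index)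
  have hxW : x ∉ W := fun e => ne_one_of_orderOf Nat.prime_two hxo ((hker x).2 e)
  have hx2 : f x * f x = 1 := by rw [← pow_two, ← hxo, pow_orderOf_eq_one]
  have hinv : ∀ a ∈ S, a ∉ W → a * a ∈ W → ∀ v ∈ U, v * (a * v * a⁻¹) ∈ U ⊓ C⟦C₁⟦z⟧⟧ := by
    intro a ha haW ha2 v hv
    have h1 := hUn.conj_mem v hv a
    refine ⟨mul_mem hv h1, h.fix_le ht t2 hU hC hUW (elt_of_pgroup hS.isPGroup ha) haW
      (elt_of_orderOf Nat.prime_two ho) hz (hSz ha) ⟨mul_mem hv h1, mem_cent1.2 ?_⟩⟩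
    have h2 := mem_cent.1 (hC.ge ha2) v hv
    calc v * (a * v * a⁻¹) * a = a * v * a⁻¹ * (v * (a * a)) * a⁻¹ := by rw [comm_iff.1 hUc _ hv _ h1]; group
      _ = _ := by rw [h2]; group
  obtain ⟨P, hP⟩ := hS'.exists_sylow_top
  have hiso : ∀ g : G ⧸ W, g * f x * g⁻¹ ∈ (P : Subgroup (G ⧸ W)) → g * f x * g⁻¹ = f x := by
    intro g hg
    rw [hP] at hg
    have hc := mem_cent1.1 (hxc hg)
    obtain ⟨y, hy, e⟩ := hg
    have hy2 : f y * f y = 1 := by rw [e, conj_mul, hx2]; group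
    by_contra hne
    refine h.big_not_le hz ((cent_symm fun v hv => ?_).trans hC.le)
    have a1 := hinv x hx hxW ((hker _).1 (by rw [map_mul, hx2])) v hv
    have a2 := hinv y hy (fun e' => hxW ((hker x).1 (by simpa [(hker y).2 e'] using e.symm)))
      ((hker _).1 (by rw [map_mul, hy2])) v hv
    have a3 := hinv (x * y) (mul_mem hx hy) (fun e' => hne (by
      rw [← hker, map_mul] at e'
      rw [← e, eq_inv_of_mul_eq_one_right e', inv_eq_of_mul_eq_one_right hx2]))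
      ((hker _).1 (by
        rw [← e] at hc
        rw [map_mul, map_mul, mul_assoc, ← mul_assoc (f y), hc, mul_assoc, hy2, mul_one, hx2])) v hv
    have hxa := mem_cent.1 a2.2 x (hSz hx)
    have e2 : v ^ 2 = v * (x * y * v * (x * y)⁻¹) * (v * (y * v * y⁻¹))⁻¹ * (v * (x * v * x⁻¹)) := by
      have h1 := comm_iff.1 hUc _ hv _ (inv_mem a1.1)
      calc v ^ 2 = v * (v * (v * (x * v * x⁻¹))⁻¹) * (v * (x * v * x⁻¹)) := by rw [pow_two]; group
        _ = v * (x * v⁻¹ * x⁻¹) * (v * (x * v * x⁻¹)) := by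
          rw [h1]; group
        _ = v * (x * v⁻¹ * (v * (y * v * y⁻¹) * x⁻¹)) * (v * (y * v * y⁻¹))⁻¹ * (v * (x * v * x⁻¹)) := by
          rw [show v * (y * v * y⁻¹) * x⁻¹ = x⁻¹ * (v * (y * v * y⁻¹)) by
            rw [eq_inv_mul_iff_mul_eq, ← mul_assoc, hxa, mul_inv_cancel_right]]
          group
        _ = _ := by group
    refine mem_of_pow_coprime' (e2 ▸ mul_mem (mul_mem (mem_inf.1 a3).2 (inv_mem (mem_inf.1 a2).2)) (mem_inf.1 a1).2) ?_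
    exact (PiNat.compl_singleton_iff_coprime Nat.prime_two).1 (elt_ne (elt_of_pgroup hU hv) t2)
  have hO : pPrimeCore 2 (G ⧸ W) ≠ ⊥ := fun e => by
    have hc : f x ∈ center (G ⧸ W) := mem_center_iff.2 fun g => by
      have := H6.zstar_sylow P hxo (hP ▸ ⟨x, hx, rfl⟩) hiso g
      rw [e, mem_bot, mul_inv_eq_one, mul_inv_eq_iff_eq_mul] at this
      exact this.symm
    have hn : (zpowers (f x)).Normal := ⟨fun a ha g => by
      rwa [mem_center_iff.1 (zpowers_le.2 hc ha) g, mul_inv_cancel_right]⟩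
    refine hxW (le_piCoreOf (NormalIn.of_normal ((zpowers (f x)).comap f)) ?_ (mem_zpowers (f x)))
    refine (isPi_piCoreOf _ ⊤).of_relIndex ?_
    have := Subgroup.relIndex_ker ((zpowers (f x)).comap f) f
    rw [QuotientGroup.ker_mk', map_comap_eq_self_of_surjective hf, Nat.card_zpowers, hxo] at this
    exact this ▸ (PiNat.prime_iff Nat.prime_two).2 h.two_mem
  rw [pPrimeCore_eq_top] at hO
  haveI := (piCoreOf_normalIn {2}ᶜ (⊤ : Subgroup (G ⧸ W))).normal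
  obtain ⟨V, v, hv, hVn, hWV, hVW, hVv⟩ := exists_core_step (FT.solvable_of_odd (Nat.odd_iff.2 (Nat.two_dvd_ne_zero.1
    ((isPi_piCoreOf {2}ᶜ ⊤).not_dvd Nat.prime_two rfl)))) hO
  haveI := Fact.mk hv
  have hvπ : v ∈ primesOf C := by
    by_contra hn
    exact hVW (le_piCoreOf (NormalIn.of_normal V) ((isPi_piCoreOf _ ⊤).of_relIndex
      (hVv.mono (Set.singleton_subset_iff.2 hn))))
  obtain ⟨Q, hQ, hle⟩ := sylow_le_of_not_dvd hv (h.cc.not_dvd_index hv (mem_primesOf.1 hvπ).2)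
  have hQV := hQ.inf_normalIn (NormalIn.of_normal V)
  have hWU := hQV.sup_eq_of_relIndex hWV hVv
  have hF : W ⊔ N⟦C⟧ = ⊤ := by
    refine top_le_iff.1 ((hQV.frattini (NormalIn.of_normal V)).ge.trans (sup_le ?_ ?_))
    · exact hWU.ge.trans (sup_le_sup_left ((inf_le_left.trans hle).trans (le_norm_self C)) _)
    · exact (inf_le_right.trans (h.cc.norm_le (inf_le_left.trans hle) fun e =>
        hVW (by rw [← hWU, e, sup_bot_eq]))).trans le_sup_right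
  obtain ⟨w, hw, x', hx', rfl⟩ := (mem_sup_of_norm' (le_top.trans hWn.norm)).1 (hF.ge (mem_top x))
  rw [map_mul, (hker w).2 hw, one_mul, ← map_mul, hker] at hx2
  refine ⟨x', ?_, fun e => hxW (mul_mem hw e), hx', hF⟩
  have hd : W ⊓ C = ⊥ := (isPi_piCoreOf _ _).inf_eq_bot' (isPi_primesOf C)
  refine hd.le ⟨hx2, (h.cc.cent_eq le_rfl h.ne_bot).le ?_⟩
  exact cent_of_disjoint (A := W ⊓ N⟦C⟧) inf_le_right (norm_inf (le_top.trans hWn.norm) (norm_of_le (le_norm_self C)))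
    (eq_bot_iff.2 (hd ▸ inf_le_inf_right _ inf_le_left)) ⟨hx2, mul_mem hx' hx'⟩

theorem false : False := by
  obtain ⟨t, U, ht, t2, hUn, U1, hU, hUW, hC⟩ := h.exists_U
  obtain ⟨x, hx2, hxW, hxN, hF⟩ := h.exists_x
  haveI := Fact.mk ht
  have hUc : IsMulCommutative U := comm_iff_le_cent.2 (hC ▸ hUW)
  have hxo : orderOf x = 2 := orderOf_eq_prime (by rwa [pow_two]) fun e => hxW (e ▸ one_mem _)
  have hx' := elt_of_orderOf Nat.prime_two hxo
  have hxC : x ∉ C := fun e => h.odd (hxo ▸ orderOf_dvd_card_of_mem e)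
  obtain ⟨S, hS, hle⟩ := exists_sylowOf_ge (pgroup_zpowers hx') le_top
  obtain ⟨z, -, ho, hSz, hz⟩ := h.exists_inv hS
  have hxz := hSz (hle (mem_zpowers x))
  have hfix := h.fix_le ht t2 hU hC hUW hx' hxW (elt_of_orderOf Nat.prime_two ho) hz hxz
  have hfpf : ∀ a ∈ C, ∀ v ∈ U, v ≠ 1 → a * v = v * a → a = 1 := fun a ha v hv v1 e => by
    by_contra a1
    exact v1 ((h.cc.inf_cent ((isPi_piCoreOf _ _).of_le hUW) ha a1).le ⟨hv, mem_cent1.2 e.symm⟩)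
  obtain ⟨v, hv, v1⟩ : ∃ v ∈ U ⊓ C₁⟦x⟧, v ≠ 1 := exists_ne_one fun e => by
    obtain ⟨p, hp, hd⟩ := exists_prime_dvd_card h.ne_bot
    obtain ⟨a, ha, hao⟩ := exists_prime_order_mem hp hd
    obtain ⟨v, hv, v1⟩ := exists_ne_one U1
    have hi := fun v hv => H1.conj_eq_inv_of_fpf (k := v) ((NormalIn.of_normal U).norm (mem_top x)) hx2 e hv
    have := hfpf (a * a) (mul_mem ha ha) v hv v1 (by
      have e1 := hi _ (hUn.conj_mem v hv a)
      have e2 := hi v hv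
      have e3 := h.cc.inverts hxN hx2 hxC ha
      have : x * (a * v * a⁻¹) * x⁻¹ = (x * a * x⁻¹) * (x * v * x⁻¹) * (x * a * x⁻¹)⁻¹ := by group
      rw [this, e2, e3] at e1
      calc a * a * v = a * (a * v * a⁻¹)⁻¹⁻¹ * a := by group
        _ = _ := by rw [← e1]; group)
    rw [← pow_two, ← orderOf_dvd_iff_pow_eq_one, hao, Nat.prime_dvd_prime_iff_eq hp Nat.prime_two] at this
    exact h.odd (this ▸ hd)
  have key : ∀ b ∈ C₁⟦z⟧, b ∈ N⟦C⟧ → b ∈ zpowers x := by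
    intro b hb hbN
    have hd := (h.compl_big hz).inf_eq
    by_cases hbC : b ∈ C
    · rw [show b = 1 from hd.le ⟨hbC, hb⟩]; exact one_mem _
    obtain ⟨a, ha, a1⟩ := exists_ne_one h.ne_bot
    have ha' := conj_mem_of_norm hbN ha
    have hP := hUn.conj_mem v hv.1
    have hvx : x * v * x⁻¹ = v := by rw [← mem_cent1.1 hv.2, mul_inv_cancel_right]
    have hvb : b * v * b⁻¹ = v := by rw [mem_cent.1 (hfix hv) b hb, mul_inv_cancel_right]
    have e1 : a * v * a⁻¹ * (a⁻¹ * v * a⁻¹⁻¹) ∈ U ⊓ C₁⟦x⟧ := by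
      refine ⟨mul_mem (hP a) (hP a⁻¹), mem_cent1.2 (mul_inv_eq_iff_eq_mul.1 ?_).symm⟩
      calc x * (a * v * a⁻¹ * (a⁻¹ * v * a⁻¹⁻¹)) * x⁻¹ = (x * a * x⁻¹) * (x * v * x⁻¹) * (x * a * x⁻¹)⁻¹ *
            ((x * a * x⁻¹)⁻¹ * (x * v * x⁻¹) * (x * a * x⁻¹)) := by group
        _ = _ := by rw [h.cc.inverts hxN hx2 hxC ha, hvx, comm_iff.1 hUc _ (hP a) _ (hP a⁻¹), inv_inv]
    have e2 : b * a * b⁻¹ * v * (b * a * b⁻¹)⁻¹ * ((b * a * b⁻¹)⁻¹ * v * (b * a * b⁻¹)⁻¹⁻¹) =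
        a * v * a⁻¹ * (a⁻¹ * v * a⁻¹⁻¹) := by
      rw [← mul_inv_eq_iff_eq_mul.2 (mem_cent.1 (hfix e1) b hb)]
      conv_lhs => rw [← hvb]
      group
    have hne : (b * a * b⁻¹)⁻¹ * a ≠ 1 := fun e =>
      hbC (h.cc.mem ha a1 (by rw [inv_mul_eq_one, mul_inv_eq_iff_eq_mul] at e; exact e))
    have e3 : a * (b * a * b⁻¹) = 1 := by
      generalize b * a * b⁻¹ = c at *
      have hac := comm_iff.1 h.cc.comm a ha c ha'
      refine hfpf _ (mul_mem ha ha') v hv.1 v1 ?_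
      by_contra hn
      refine hne (hfpf _ (mul_mem (inv_mem ha') ha) (v * ((a * c)⁻¹ * v * (a * c)⁻¹⁻¹)⁻¹)
        (mul_mem (mem_inf.1 hv).1 (inv_mem (hP _))) (fun e => hn ?_) ?_)
      · rw [mul_inv_eq_one, inv_inv, mul_assoc, eq_inv_mul_iff_mul_eq] at e; exact e
      · have e4 := comm_iff.1 hUc _ (hP c⁻¹) _ (inv_mem (hP a⁻¹))
        calc c⁻¹ * a * (v * ((a * c)⁻¹ * v * (a * c)⁻¹⁻¹)⁻¹)
            = c⁻¹ * (a * v * a⁻¹ * (a⁻¹ * v * a⁻¹⁻¹)) * (a⁻¹ * v * a⁻¹⁻¹)⁻¹ * (c⁻¹ * v * c⁻¹⁻¹)⁻¹ * a := by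
              rw [hac]; group
          _ = v * c⁻¹ * (c⁻¹ * v * c⁻¹⁻¹ * (a⁻¹ * v * a⁻¹⁻¹)⁻¹) * (c⁻¹ * v * c⁻¹⁻¹)⁻¹ * a := by rw [← e2]; group
          _ = _ := by rw [e4]; group
    have e5 : x⁻¹ * b ∈ C := h.cc.mem ha a1 (by
      calc x⁻¹ * b * a = x⁻¹ * (b * a * b⁻¹) * b := by group
        _ = _ := by rw [eq_inv_of_mul_eq_one_right e3, ← h.cc.inverts hxN hx2 hxC ha]; group)
    rw [← inv_mul_eq_one.1 (hd.le (mem_inf.2 ⟨e5, mul_mem (inv_mem hxz) hb⟩))]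
    exact mem_zpowers x
  refine h.ns (sol_top_iff.1 (hF ▸ sol_sup (sol_of_nil (h.cc.nil_core h.ne_bot)) (sol_of_le
    (sol_sup (sol_of_comm h.cc.comm) (sol_of_comm (A := zpowers x) inferInstance) (Or.inr (zpowers_le.2 hxN))) ?_)
    (Or.inr (le_top.trans (piCoreOf_normalIn _ _).norm))))
  intro g hg
  obtain ⟨a, ha, b, hb, rfl⟩ := (h.compl_big hz).prod g (mem_top g)
  exact mul_mem_sup ha (key b hb ((N⟦C⟧.mul_mem_cancel_left (le_norm_self C ha)).1 hg))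

end Cf

end Cfsg.Agent.H25
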