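/-
Groups with a normal nontrivial partition: basic facts and the case of a normal component.
-/
import Cfsg.Agent.H1.Kegel
import Cfsg.Agent.H21.Base5

set_option autoImplicit false
set_option linter.style.haveILetI false

namespace Cfsg.Agent.H25

open Subgroup Cfsg.Agent.H20 Cfsg.Agent.H21
open scoped Pointwise commutatorElement

variable {G : Type*} [Group G]

/-- A conjugation invariant nontrivial partition; `D x` is the component containing `x`. -/
structure Part (D : G → Subgroup G) : Prop where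
  one : D 1 = ⊥
  mem : ∀ x, x ∈ D x
  eq : ∀ {x y}, y ∈ D x → y ≠ 1 → D y = D x
  conj : ∀ g x, D (g * x * g⁻¹) = cj g (D x)
  ne_top : ∀ x, x ≠ 1 → D x ≠ ⊤

theorem mul_pow_mul_inv_mem {H : Subgroup G} {t k : G} (ht : t ∈ N⟦H⟧) (hk : k ∈ H) (n : ℕ) :
    (k * t) ^ n * (t ^ n)⁻¹ ∈ H := by
  induction n with
  | zero => simp
  | succ n ih =>
    convert mul_mem hk (conj_mem_of_norm ht ih) using 1
    rw [pow_succ', pow_succ]
    group

theorem norm_map_mul {V : Subgroup G} (hV : IsMulCommutative V) {y u u' : G} (hy : y ∈ N⟦V⟧) (hu : u ∈ V)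
    (hu' : u' ∈ V) (n : ℕ) :
    (u * u' * y) ^ n * (y ^ n)⁻¹ = ((u * y) ^ n * (y ^ n)⁻¹) * ((u' * y) ^ n * (y ^ n)⁻¹) := by
  induction n with
  | zero => simp
  | succ n ih =>
    have e : ∀ a : G, (a * y) ^ (n + 1) * (y ^ (n + 1))⁻¹ = a * (y * ((a * y) ^ n * (y ^ n)⁻¹) * y⁻¹) := fun a => by
      rw [pow_succ', pow_succ]; group
    rw [e, e, e, ih]
    have h1 := comm_iff.1 hV _ hu' _ (conj_mem_of_norm hy (mul_pow_mul_inv_mem hy hu n))
    generalize (u * y) ^ n * (y ^ n)⁻¹ = a at *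
    generalize (u' * y) ^ n * (y ^ n)⁻¹ = b at *
    calc u * u' * (y * (a * b) * y⁻¹) = u * (u' * (y * a * y⁻¹)) * (y * b * y⁻¹) := by group
      _ = _ := by rw [h1]; group

theorem mem_of_pow_coprime {H : Subgroup G} {t : G} {p s : ℕ} (h : p.Coprime s) (h1 : t ^ p ∈ H) (h2 : t ^ s ∈ H) :
    t ∈ H := by
  have := Nat.gcd_eq_gcd_ab p s
  rw [h.gcd_eq_one, Nat.cast_one] at this
  have e : t = (t ^ p) ^ (p.gcdA s) * (t ^ s) ^ (p.gcdB s) := by
    rw [← zpow_natCast, ← zpow_natCast, ← zpow_mul, ← zpow_mul, ← zpow_add, ← this, zpow_one]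
  exact e ▸ mul_mem (zpow_mem h1 _) (zpow_mem h2 _)

namespace Part

variable {D : G → Subgroup G} (h : Part D)
include h

theorem ne_bot {x : G} (hx : x ≠ 1) : D x ≠ ⊥ := ne_bot_of_mem (h.mem x) hx

theorem eq_of_mem {x y z : G} (h1 : z ∈ D x) (h2 : z ∈ D y) (hz : z ≠ 1) : D x = D y :=
  (h.eq h1 hz).symm.trans (h.eq h2 hz)

theorem mem_norm {x y g : G} (hy : y ∈ D x) (y1 : y ≠ 1) (hg : g * y * g⁻¹ ∈ D x) : g ∈ N⟦D x⟧ := by
  rw [mem_norm_iff_cj, ← h.eq hy y1, ← h.conj, h.eq hg (by simpa using y1), h.eq hy y1]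

theorem mem_norm_of_comm {x y g : G} (hy : y ∈ D x) (y1 : y ≠ 1) (hg : g * y = y * g) : g ∈ N⟦D x⟧ :=
  h.mem_norm hy y1 (by rwa [hg, mul_inv_cancel_right])

theorem pow_eq_one {x y : G} (hy : y ∉ D x) {n : ℕ} (hn : y ^ n ∈ D x) : y ^ n = 1 := by
  by_contra e
  exact hy (h.eq_of_mem (pow_mem (h.mem y) n) hn e ▸ h.mem y)

theorem inf_eq_bot {x y : G} (hy : y ∉ D x) : D y ⊓ D x = ⊥ :=
  eq_bot_iff.2 fun z hz => by_contra fun z1 => hy (h.eq_of_mem hz.1 hz.2 z1 ▸ h.mem y)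

theorem not_mem_symm {x y : G} (hx : x ≠ 1) (hy : y ∉ D x) : x ∉ D y := fun e =>
  hy (h.eq e hx ▸ h.mem y)

theorem ord_dvd {x y : G} (hy : y ∉ D x) (hc : x * y = y * x) : orderOf x ∣ orderOf y := by
  have h1 : (x * y) ^ orderOf y = x ^ orderOf y := by
    rw [Commute.mul_pow hc, pow_orderOf_eq_one, mul_one]
  rw [orderOf_dvd_iff_pow_eq_one, ← h1]
  exact h.pow_eq_one (x := x) (fun e => hy (by simpa using mul_mem (inv_mem (h.mem x)) e))
    (h1 ▸ pow_mem (h.mem x) _)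

theorem ord_eq {x y : G} (hx : x ≠ 1) (hy : y ∉ D x) (hc : x * y = y * x) : orderOf x = orderOf y :=
  Nat.dvd_antisymm (h.ord_dvd hy hc) (h.ord_dvd (h.not_mem_symm hx hy) hc.symm)

variable [Finite G]

theorem ord_prime {x y : G} (hx : x ≠ 1) (hy : y ∉ D x) (hc : x * y = y * x) : (orderOf x).Prime := by
  obtain ⟨p, hp, hd⟩ := Nat.exists_prime_and_dvd (mt orderOf_eq_one_iff.1 hx)
  have h1 : orderOf (x ^ (orderOf x / p)) = p := orderOf_pow_orderOf_div (orderOf_pos x).ne' hd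
  have h2 : x ^ (orderOf x / p) ≠ 1 := fun e => hp.ne_one (by rw [← h1, e, orderOf_one])
  have h3 := h.ord_eq h2 (by rwa [h.eq (pow_mem (h.mem x) _) h2]) (Commute.pow_left hc _).eq
  rw [h.ord_eq hx hy hc, ← h3, h1]
  exact hp

theorem mem_of_comm {x y : G} (hx : x ≠ 1) (hc : x * y = y * x) (ho : orderOf x ≠ orderOf y) : y ∈ D x :=
  by_contra fun e => ho (h.ord_eq hx e hc)

theorem exists_split {x : G} (hN : N⟦D x⟧ ≠ D x) :
    ∃ t ∈ N⟦D x⟧, t ∉ D x ∧ ∃ s : ℕ, s.Prime ∧ ∀ k ∈ D x, (k * t) ^ s = 1 := by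
  obtain ⟨y, h1, h2⟩ := SetLike.exists_of_lt (lt_of_le_of_ne (le_norm_self (D x)) hN.symm)
  obtain ⟨p, hp, hd⟩ := Nat.exists_prime_and_dvd (mt orderOf_eq_one_iff.1 fun e : y = 1 => h2 (e ▸ one_mem _))
  have h3 : orderOf (y ^ (orderOf y / p)) = p := orderOf_pow_orderOf_div (orderOf_pos y).ne' hd
  have h4 : y ^ (orderOf y / p) ∉ D x := fun e => hp.ne_one (by rw [← h3, h.pow_eq_one h2 e, orderOf_one])
  refine ⟨_, pow_mem h1 _, h4, p, hp, fun k hk => h.pow_eq_one (x := x)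
    (fun e => h4 (by simpa using mul_mem (inv_mem hk) e)) ?_⟩
  have := mul_pow_mul_inv_mem (pow_mem h1 (orderOf y / p)) hk p
  rwa [orderOf_dvd_iff_pow_eq_one.1 (dvd_of_eq h3), inv_one, mul_one] at this

theorem nil {x : G} (hN : N⟦D x⟧ ≠ D x) : Group.IsNilpotent (D x) := by
  obtain ⟨t, h1, -, s, hs, h2⟩ := h.exists_split hN
  exact H1.kegel hs h1 h2

omit [Finite G] in
theorem frob {x : G} (hx : x ≠ 1) (hN : N⟦D x⟧ = D x) : IsFrobeniusComplement (D x) := by
  refine ⟨h.ne_bot hx, h.ne_top x hx, fun g hg => eq_bot_iff.2 fun z hz => by_contra fun z1 => hg ?_⟩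
  rw [← cj_eq_smul] at hz
  obtain ⟨y, hy, rfl⟩ := mem_cj'.1 hz.2
  exact hN ▸ h.mem_norm hy (fun e => z1 (by simp [e])) hz.1

section Normal

variable {a : G} (ha : a ≠ 1) [hF : (D a).Normal] (hN : ∀ x, x ≠ 1 → N⟦D x⟧ ≠ D x)
include ha hN

omit ha hN in
theorem cent_of_norm {w x : G} (hw : w ∉ D a) (hx : x ∈ D a) (hn : x ∈ N⟦D w⟧) : x ∈ C⟦D w⟧ := by
  refine mem_cent.2 fun y hy => ?_
  have h1 : y * x * y⁻¹ * x⁻¹ ∈ D w ⊓ D a := ⟨by
    simpa [mul_assoc] using mul_mem hy (conj_mem_of_norm hn (inv_mem hy)),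
    (D a).mul_mem (hF.conj_mem x hx y) ((D a).inv_mem hx)⟩
  rw [h.inf_eq_bot hw, mem_bot, mul_inv_eq_one, mul_inv_eq_iff_eq_mul] at h1
  exact h1

theorem exists_cent {w : G} (hw : w ∉ D a) : ∃ x ∈ D a, x ≠ 1 ∧ x * w = w * x := by
  have w1 : w ≠ 1 := fun e => hw (e ▸ one_mem _)
  by_contra! hc
  have h1 : ∀ x ∈ D a, x ∈ N⟦D w⟧ → x = 1 := fun x hx hn => by_contra fun x1 =>
    hc x hx x1 (mem_cent.1 (h.cent_of_norm hw hx hn) w (h.mem w)).symm
  obtain ⟨t, t1, t2, s, hs, t3⟩ := h.exists_split (hN w w1)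
  have hV := center_ne_bot_of_nil (h.nil (hN a ha)) (h.ne_bot ha)
  set V := D a ⊓ C⟦D a⟧ with hVd
  haveI : V.Normal := inferInstance
  have hn : ∀ g, g ∈ N⟦V⟧ := fun g => by rw [normalizer_eq_top]; trivial
  have h2 : (♯V).Coprime (♯(D w)) := by
    refine Nat.coprime_of_dvd fun p hp h2 h3 => ?_
    haveI := Fact.mk hp
    obtain ⟨u, hu, ho⟩ := exists_prime_order_mem hp h3
    have u1 : u ≠ 1 := fun e => hp.ne_one (by rw [← ho, e, orderOf_one])
    obtain ⟨S, hS⟩ := exists_sylowOf (p := p) V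
    have h4 : S ⊴ ⊤ := Hall.normalIn_trans hS (NormalIn.of_comm (comm_center _) (Hall.le hS)) (NormalIn.of_normal V)
    obtain ⟨x, hx, x1⟩ := exists_ne_one (inf_cent_ne_bot_of_pgroup (Hall.isPGroup hS)
      (isPGroup_of_card_prime (A := zpowers u) (by rw [Nat.card_zpowers, ho])) (le_top.trans h4.norm)
      (Hall.sylow_ne_bot hS h2))
    exact x1 (h1 x (Hall.le hS hx.1).1 (h.mem_norm_of_comm hu u1 (mem_cent.1 hx.2 u (mem_zpowers u)).symm))
  have h3 := H1.split_cent hs (comm_center (D a)) (fun g _ => hn g) h2 (hn t) t1 fun v hv x hx => by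
    have h3 : x * t ∉ D a := fun e => t2 (by
      have := h1 _ e (mul_mem (le_norm_self _ hx) t1)
      rw [eq_inv_of_mul_eq_one_right this]; exact inv_mem hx)
    refine h.pow_eq_one (x := a) (fun e => h3 (by simpa using mul_mem (inv_mem (mem_inf.1 hv).1) e)) ?_
    have := mul_pow_mul_inv_mem (t := x * t) (by rw [normalizer_eq_top]; trivial) hv.1 s
    rwa [t3 x hx, inv_one, mul_one] at this
  obtain ⟨x, hx, x1⟩ := exists_ne_one hV
  exact hc x hx.1 x1 (mem_cent.1 (h3 (h.mem w)) x hx)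

theorem out_prime {w : G} (hw : w ∉ D a) : (orderOf w).Prime ∧ orderOf w ∣ ♯(D a) := by
  obtain ⟨x, hx, x1, e⟩ := h.exists_cent ha hN hw
  have h1 : w ∉ D x := by rwa [h.eq hx x1]
  rw [← h.ord_eq x1 h1 e]
  exact ⟨h.ord_prime x1 h1 e, orderOf_dvd_card_of_mem hx⟩

theorem quo_dvd {K : Subgroup (G ⧸ D a)} (hK : K ≠ ⊥) {y : G ⧸ D a} (hy : y ∈ N⟦K⟧) (hyK : y ∉ K) {p : ℕ}
    (hp : p.Prime) (hd : p ∣ ♯(D a)) : p ∣ ♯K := by
  haveI := Fact.mk hp
  have ho : ∀ w : G, w ∉ D a → orderOf (w : G ⧸ D a) = orderOf w := fun w hw =>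
    ((Nat.dvd_prime (h.out_prime ha hN hw).1).1 (orderOf_map_dvd (QuotientGroup.mk' (D a)) w)).resolve_left
      fun e => hw ((QuotientGroup.eq_one_iff w).1 (orderOf_eq_one_iff.1 e))
  obtain ⟨S, hS⟩ := exists_sylowOf (p := p) (D a)
  have h4 : S ⊴ D a := Hall.normalIn_of_nilpotent hS (h.nil (hN a ha))
  haveI : S.Normal := (Hall.normalIn_trans hS h4 (NormalIn.of_normal _)).normal
  have hV := inf_cent_ne_bot_of_nil (h.nil (hN a ha)) h4 (Hall.sylow_ne_bot hS hd)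
  set V := S ⊓ C⟦D a⟧ with hVd
  haveI : V.Normal := inferInstance
  have hVF : V ≤ D a := inf_le_left.trans h4.le
  have hVp : IsPGroup p V := (Hall.isPGroup hS).to_le inf_le_left
  haveI : IsMulCommutative V := comm_iff.2 fun u hu v hv => mem_cent.1 hv.2 u (hVF hu)
  letI : CommGroup V := { (inferInstance : Group V) with mul_comm := fun a b => mul_comm' a b }
  let φ : G ⧸ D a →* MulAut V := QuotientGroup.lift _ MulAut.conjNormal fun x hx => by
    ext v
    simpa [mul_inv_eq_iff_eq_mul] using mem_cent.1 v.2.2 x hx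
  have hφ : ∀ (g : G) (v : V), (φ g v : G) = g * v * g⁻¹ := fun _ _ => rfl
  obtain ⟨y, rfl⟩ := QuotientGroup.mk_surjective y
  have hout : ∀ k : G, (k : G ⧸ D a) ∈ K → k * y ∉ D a := fun k hk e => hyK (by
    have : ((k * y : G) : G ⧸ D a) = 1 := (QuotientGroup.eq_one_iff _).2 e
    rw [QuotientGroup.mk_mul] at this
    rw [eq_inv_of_mul_eq_one_right this]; exact inv_mem hk)
  have hy1 := h.out_prime ha hN (by simpa using hout 1 (one_mem _) : y ∉ D a)
  have hpow : ∀ k : G, (k : G ⧸ D a) ∈ K → (k * y) ^ orderOf y = 1 := fun k hk => by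
    have h1 := h.out_prime ha hN (hout k hk)
    by_contra e
    have h2 : (orderOf (k * y)).Coprime (orderOf y) := (Nat.coprime_primes h1.1 hy1.1).2 fun e' =>
      e (by rw [← e', pow_orderOf_eq_one])
    refine hyK (mem_of_pow_coprime h2 ?_ (by
      rw [← QuotientGroup.mk_pow, pow_orderOf_eq_one]; exact one_mem _))
    have := mul_pow_mul_inv_mem hy hk (orderOf (k * y))
    rwa [← QuotientGroup.mk_mul, ← QuotientGroup.mk_pow, pow_orderOf_eq_one, QuotientGroup.mk_one, one_mul,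
      inv_mem_iff] at this
  by_contra hnd
  obtain ⟨v, hv, v1⟩ := exists_ne_one hV
  have h1 := H1.pow_card_eq_one_of_norm φ hy hy1.1 (fun k hk => by
      obtain ⟨k, rfl⟩ := QuotientGroup.mk_surjective k
      rw [← QuotientGroup.mk_mul, ← QuotientGroup.mk_pow, hpow k hk, QuotientGroup.mk_one])
    (fun u hu => by
      obtain ⟨k, hk, k1⟩ := exists_ne_one hK
      obtain ⟨k, rfl⟩ := QuotientGroup.mk_surjective k
      have h1 : k ∉ D a := fun e => k1 ((QuotientGroup.eq_one_iff k).2 e)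
      by_contra u1
      have u1' : (u : G) ≠ 1 := fun e => u1 (Subtype.ext e)
      have h2 : (u : G) * k = k * u := by
        have := congrArg Subtype.val (hu _ hk)
        rw [hφ, mul_inv_eq_iff_eq_mul] at this
        exact this.symm
      have h3 := h.ord_eq u1' (by rwa [h.eq (hVF u.2) u1']) h2
      obtain ⟨n, hn⟩ := IsPGroup.iff_orderOf.1 hVp u
      have h4 : p ∣ orderOf k := by
        rw [← h3, Subgroup.orderOf_coe, hn]
        exact dvd_pow_self p fun e => u1 (by rwa [e, pow_zero, orderOf_eq_one_iff] at hn)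
      exact hnd (h4.trans (ho k h1 ▸ orderOf_dvd_card_of_mem hk)))
    (fun k hk u => by
      obtain ⟨k, rfl⟩ := QuotientGroup.mk_surjective k
      rw [← QuotientGroup.mk_mul]
      have h2 := hpow k hk
      have h3 := hout k hk
      generalize k * y = g at h2 h3
      have h4 : ∀ n, ((∏ j ∈ Finset.range n, φ ((g : G ⧸ D a) ^ j) u : V) : G) * g ^ n = (u * g) ^ n :=
        fun n => by
          induction n with
          | zero => simp
          | succ n ih =>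
            rw [Finset.prod_range_succ, pow_succ (u * g : G), ← ih, Subgroup.coe_mul, ← QuotientGroup.mk_pow, hφ,
              pow_succ]
            group
      have h5 := h4 (orderOf y)
      have h6 : ((u : G) * g) ^ orderOf y = 1 := by
        refine h.pow_eq_one (x := a) (fun e => h3 (by simpa using mul_mem (inv_mem (hVF u.2)) e)) ?_
        have := mul_pow_mul_inv_mem (t := g) (by rw [normalizer_eq_top]; trivial) (hVF u.2) (orderOf y)
        rwa [h2, inv_one, mul_one] at this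
      rw [h2, h6, mul_one] at h5
      exact Subtype.ext h5) ⟨v, hv⟩
  obtain ⟨n, hn⟩ := IsPGroup.iff_orderOf.1 hVp ⟨v, hv⟩
  have h2 := orderOf_dvd_of_pow_eq_one h1
  rw [hn] at h2
  exact hnd ((dvd_pow_self p fun e => v1 (by
    rw [e, pow_zero, orderOf_eq_one_iff] at hn; exact congrArg Subtype.val hn)).trans h2)

theorem normal_case : ∃ p : ℕ, p.Prime ∧ ∀ y, y ∉ D a → orderOf y = p := by
  have ho : ∀ w : G, w ∉ D a → orderOf (w : G ⧸ D a) = orderOf w := fun w hw =>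
    ((Nat.dvd_prime (h.out_prime ha hN hw).1).1 (orderOf_map_dvd (QuotientGroup.mk' (D a)) w)).resolve_left
      fun e => hw ((QuotientGroup.eq_one_iff w).1 (orderOf_eq_one_iff.1 e))
  have h1 : Nat.card (G ⧸ D a) ≠ 1 := fun e => h.ne_top a ha (index_eq_one.1 e)
  have hq := Nat.minFac_prime h1
  haveI := Fact.mk hq
  refine ⟨_, hq, fun y hy => by_contra fun hne => ?_⟩
  obtain ⟨hp, hd⟩ := h.out_prime ha hN hy
  obtain ⟨Q⟩ : Nonempty (Sylow (Nat.card (G ⧸ D a)).minFac (G ⧸ D a)) := inferInstance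
  have hQ : (Q : Subgroup (G ⧸ D a)) ≠ ⊥ := Q.ne_bot_of_dvd_card (Nat.minFac_dvd _)
  obtain ⟨z, hz, z1⟩ := exists_ne_one (inf_cent_ne_bot_of_pgroup Q.isPGroup' Q.isPGroup' (le_norm_self _) hQ)
  have h2 : zpowers z = Q := by
    by_contra e
    obtain ⟨u, h2, h3⟩ := SetLike.exists_of_lt (lt_of_le_of_ne (zpowers_le.2 hz.1) e)
    have h4 := h.quo_dvd ha hN (mt zpowers_eq_bot.1 z1) (cent_le_norm _ (by
      rw [cent_zpowers]; exact mem_cent1.2 (mem_cent.1 hz.2 u h2))) h3 hp hd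
    obtain ⟨n, hn⟩ := IsPGroup.iff_card.1 (Q.isPGroup'.to_le (zpowers_le.2 hz.1))
    rw [hn] at h4
    exact hne ((Nat.prime_dvd_prime_iff_eq hp hq).1 (hp.dvd_of_dvd_pow h4))
  have hc : IsCyclic (Q : Subgroup (G ⧸ D a)) := h2 ▸ inferInstance
  have h3 := hc.isComplement' rfl
  set K := (MonoidHom.transferSylow Q (hc.normalizer_le_centralizer rfl)).ker
  have h4 : ¬ (Nat.card (G ⧸ D a)).minFac ∣ ♯K := by
    rw [← h3.index_eq_card]; exact Q.not_dvd_index
  obtain ⟨z, rfl⟩ := QuotientGroup.mk_surjective z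
  have z2 : z ∉ D a := fun e => z1 ((QuotientGroup.eq_one_iff z).2 e)
  have h5 : orderOf z = (Nat.card (G ⧸ D a)).minFac := by
    obtain ⟨n, hn⟩ := IsPGroup.iff_card.1 (Q.isPGroup'.to_le (zpowers_le.2 hz.1))
    rw [Nat.card_zpowers, ho z z2] at hn
    exact (Nat.prime_dvd_prime_iff_eq (h.out_prime ha hN z2).1 hq).1
      ((h.out_prime ha hN z2).1.dvd_of_dvd_pow (dvd_of_eq hn))
  refine h4 (h.quo_dvd ha hN (y := z) (fun e => ?_) (by rw [normalizer_eq_top]; trivial) (fun e => z1 ?_) hq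
    (h5 ▸ (h.out_prime ha hN z2).2))
  · have h6 := h3.card_mul
    rw [e, card_bot, one_mul, ← h2, Nat.card_zpowers, ho z z2, h5] at h6
    have h7 := orderOf_dvd_natCard (y : G ⧸ D a)
    rw [ho y hy, ← h6] at h7
    exact hne ((Nat.prime_dvd_prime_iff_eq hp hq).1 h7)
  · exact mem_bot.1 (disjoint_iff.1 h3.disjoint ▸ mem_inf.2 ⟨e, hz.1⟩)

end Normal

end Part

end Cfsg.Agent.H25
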