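/-
Groups with a normal nontrivial partition: the theorems of Baer, Kegel and Suzuki.
-/
import Cfsg.Agent.H25.Part1
import Cfsg.Agent.GW.Cor2
import Cfsg.Agent.S3322
import Cfsg.Agent.BS.Bw
import Cfsg.Agent.S0307

set_option autoImplicit false
set_option linter.style.haveILetI false

namespace Cfsg.Agent.H25

open Subgroup Cfsg.Agent.H20 Cfsg.Agent.H21
open scoped Pointwise commutatorElement MatrixGroups

variable {G : Type*} [Group G] [Finite G]

theorem pgl2_equiv_psl2_of_even {F : Type} [Field F] [Fintype F] (h : ¬ Odd (Fintype.card F)) :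
    Nonempty (PGL(2, F) ≃* PSL(2, F)) := by
  obtain ⟨g, -, h2⟩ := S0307.result (F := F) rfl 2 (by norm_num)
  have h3 : Nat.gcd 2 (Fintype.card F - 1) = 1 := by
    have := Fintype.card_pos (α := F)
    rw [Nat.not_odd_iff_even, Nat.even_iff] at h
    exact Nat.coprime_two_left.2 (Nat.odd_iff.2 (by omega))
  haveI : Subsingleton (Multiplicative (ZMod (Nat.gcd 2 (Fintype.card F - 1)))) := by
    rw [h3]; infer_instance
  refine ⟨(MulEquiv.ofBijective Matrix.ProjectiveSpecialLinearGroup.toPGL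
    ⟨Matrix.ProjectiveSpecialLinearGroup.toPGL_injective, ?_⟩).symm⟩
  rw [← MonoidHom.range_eq_top, ← h2, eq_top_iff]
  exact fun x _ => Subsingleton.elim _ _

theorem sol_of_two_mul_odd {N : Subgroup G} (h : Odd ♯N ∨ ∃ m : ℕ, Odd m ∧ ♯N = 2 * m) : Group.IsSolvable N := by
  rcases h with h | ⟨m, h1, h2⟩
  · exact FT.solvable_of_odd h
  obtain ⟨S⟩ : Nonempty (Sylow 2 N) := inferInstance
  have h3 : ♯(S : Subgroup N) = 2 := by
    rw [S.card_eq_multiplicity, h2, Nat.factorization_mul two_ne_zero h1.pos.ne', Finsupp.add_apply,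
      Nat.prime_two.factorization_self, Nat.factorization_eq_zero_of_not_dvd h1.not_two_dvd_nat]
    rfl
  have hc : IsCyclic (S : Subgroup N) := isCyclic_of_card_prime (by rw [h3]; exact Nat.prime_two)
  exact BS.sol_of_norm_le_cent S (hc.normalizer_le_centralizer (by
    rw [h2]; exact (Nat.minFac_eq_two_iff _).2 (dvd_mul_right 2 m)))

namespace Part

variable {D : G → Subgroup G} (h : Part D) (hN : ∀ x, x ≠ 1 → N⟦D x⟧ ≠ D x)
include h

omit [Finite G] in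
theorem normal_of_le {V : Subgroup G} [hV : V.Normal] (h1 : V ≠ ⊥) {x : G} (hx : V ≤ D x) : (D x).Normal := by
  obtain ⟨v, hv, v1⟩ := exists_ne_one h1
  exact normalizer_eq_top_iff.1 (eq_top_iff.2 fun g _ => h.mem_norm (hx hv) v1 (hx (hV.conj_mem v hv g)))

include hN

theorem comm_of_coprime {x u v : G} (hu : u ∈ D x) (hv : v ∈ D x) (hc : (orderOf u).Coprime (orderOf v)) :
    u * v = v * u := by
  by_cases hx : x = 1
  · rw [hx, h.one, mem_bot] at hu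
    simp [hu]
  exact (mem_cent.1 (cent_of_nil_coprime (h.nil (hN x hx)) (zpowers_le.2 hu) (zpowers_le.2 hv)
    (by rwa [Nat.card_zpowers, Nat.card_zpowers]) (mem_zpowers u)) v (mem_zpowers v)).symm

theorem baer (hn : ∀ x, x ≠ 1 → ¬ (D x).Normal) {A : Subgroup G} [A.Normal] (hA : A ≠ ⊥)
    (hAc : IsMulCommutative A) : Nonempty (G ≃* Equiv.Perm (Fin 4)) := by
  obtain ⟨V, hAV, ⟨hVn, hV⟩, hmax⟩ := (Set.toFinite {V : Subgroup G | V.Normal ∧ IsMulCommutative V}).exists_le_maximal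
    (a := A) ⟨inferInstance, hAc⟩
  have V1 : V ≠ ⊥ := fun e => hA (eq_bot_iff.2 (e ▸ hAV))
  have hnv : ∀ g, g ∈ N⟦V⟧ := fun g => by rw [normalizer_eq_top]; trivial
  have h1 : ∀ x, x ≠ 1 → ∃ v ∈ V, v ∉ D x := fun x hx =>
    SetLike.not_le_iff_exists.1 fun e => hn x hx (h.normal_of_le V1 e)
  obtain ⟨v₀, hv₀, v₀1⟩ := exists_ne_one V1
  obtain ⟨v₁, hv₁, h2⟩ := h1 v₀ v₀1
  have hp := h.ord_prime v₀1 h2 (comm_iff.1 hV _ hv₀ _ hv₁)
  have h3 := h.ord_eq v₀1 h2 (comm_iff.1 hV _ hv₀ _ hv₁)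
  generalize hpd : orderOf v₀ = p at hp h3
  haveI := Fact.mk hp
  have hVp : ∀ v ∈ V, v ≠ 1 → orderOf v = p := fun v hv v1 => by
    by_cases e : v₀ ∈ D v
    · rw [h3]
      exact h.ord_eq v1 (by rwa [← h.eq e v₀1]) (comm_iff.1 hV _ hv _ hv₁)
    · rw [← hpd]
      exact h.ord_eq v1 e (comm_iff.1 hV _ hv _ hv₀)
  have hCp : ∀ c ∈ C⟦V⟧, c ≠ 1 → orderOf c = p := fun c hc c1 => by
    obtain ⟨v, hv, h4⟩ := h1 c c1
    rw [h.ord_eq c1 h4 (mem_cent.1 hc v hv).symm]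
    exact hVp v hv fun e => h4 (e ▸ one_mem _)
  have hVP : IsPGroup p V := fun v => ⟨1, Subtype.ext (by
    by_cases e : (v : G) = 1
    · simp [e]
    · rw [pow_one, Subgroup.coe_pow, ← hVp v v.2 e, pow_orderOf_eq_one]; rfl)⟩
  have hG : ¬ IsPGroup p G := fun e => by
    obtain ⟨z, hz, z1⟩ := exists_ne_one (inf_cent_ne_bot_of_pgroup hVP (pgroup_top_iff.2 e)
      (fun g _ => hnv g) V1)
    exact hn z z1 (normalizer_eq_top_iff.1 (eq_top_iff.2 fun g _ => h.mem_norm_of_comm (h.mem z) z1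
      (mem_cent.1 hz.2 g trivial)))
  obtain ⟨r, hr, hd, hrp⟩ : ∃ r, r.Prime ∧ r ∣ ♯(⊤ : Subgroup G) ∧ r ≠ p := by
    by_contra! hc
    exact hG (pgroup_top_iff.1 (IsPi.isPGroup hc))
  have hcop : p.Coprime r := (Nat.coprime_primes hp hr).2 hrp.symm
  have h4 : ∀ w, orderOf w = r → ∀ v ∈ V, v * w = w * v → v = 1 := fun w hw v hv e => by
    by_contra v1
    have w1 : w ≠ 1 := fun e => hr.ne_one (by rw [← hw, e, orderOf_one])
    have h5 := h.mem_of_comm v1 e (by rw [hw, hVp v hv v1]; exact hrp.symm)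
    have h6 := coprime_comm_commg_inf_cent hV (A := zpowers w) (fun g _ => hnv g)
      (coprime_of_isPGroup hVP (by rw [Nat.card_zpowers, hw]; exact hcop.symm))
    have h7 : ⁅V, zpowers w⁆ ≤ V ⊓ D v := le_inf (commg_le_left fun g _ => hnv g)
      ((commutator_mono le_rfl (zpowers_le.2 h5)).trans (commg_le_right fun u hu =>
        h.mem_norm_of_comm (h.mem v) v1 (comm_iff.1 hV _ hu _ hv)))
    have h8 : ⁅V, zpowers w⁆ = ⊥ := by
      rw [← h6, left_eq_inf, cent_zpowers]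
      refine h7.trans fun u hu => mem_cent1.2 ?_
      by_cases u1 : u = 1
      · simp [u1]
      exact h.comm_of_coprime hN (mem_inf.1 hu).2 h5 (by rwa [hVp u hu.1 u1, hw])
    exact hrp (hw ▸ hCp w (cent_symm (commg_eq_bot.1 h8) (mem_zpowers w)) w1)
  obtain ⟨w, -, hw⟩ := exists_prime_order_mem hr hd
  have w1 : w ≠ 1 := fun e => hr.ne_one (by rw [← hw, e, orderOf_one])
  have h5 : ∀ v ∈ V, v ∈ N⟦D w⟧ → v = 1 := fun v hv e => by
    refine h4 w hw v hv ?_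
    have h5 : v * w * v⁻¹ * w⁻¹ ∈ V := by
      simpa [mul_assoc] using mul_mem hv (hVn.conj_mem _ (inv_mem hv) w)
    have h6 : v * w * v⁻¹ * w⁻¹ ∈ D w := mul_mem (conj_mem_of_norm e (h.mem w)) (inv_mem (h.mem w))
    rw [← mul_inv_eq_iff_eq_mul, ← mul_inv_eq_one]
    by_contra u1
    exact u1 (h4 w hw _ h5 (h.comm_of_coprime hN h6 (h.mem w) (by rwa [hVp _ h5 u1, hw])))
  have h6 : (♯V).Coprime (♯(D w)) := coprime_of_isPGroup hVP ((hp.coprime_iff_not_dvd.2 fun e => by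
    obtain ⟨u, hu, ho⟩ := exists_prime_order_mem hp e
    have u1 : u ≠ 1 := fun e => hp.ne_one (by rw [← ho, e, orderOf_one])
    obtain ⟨x, hx, x1⟩ := exists_ne_one (inf_cent_ne_bot_of_pgroup hVP
      (isPGroup_of_card_prime (A := zpowers u) (by rw [Nat.card_zpowers, ho])) (fun g _ => hnv g) V1)
    exact x1 (h5 x hx.1 (h.mem_norm_of_comm hu u1 (mem_cent.1 hx.2 u (mem_zpowers u)).symm))).symm)
  obtain ⟨t₀, t1, t2, s, hs, t3⟩ := h.exists_split (hN w w1)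
  obtain ⟨v, hv, x, hx, h7⟩ : ∃ v ∈ V, ∃ x ∈ D w, (v * (x * t₀)) ^ s ≠ 1 := by
    by_contra! hc
    exact hrp (hw ▸ hCp w (H1.split_cent hs hV (fun g _ => hnv g) h6 (hnv _) t1 hc (h.mem w)) w1)
  have t4 : x * t₀ ∈ N⟦D w⟧ := mul_mem (le_norm_self _ hx) t1
  have t5 : x * t₀ ∉ D w := fun e => t2 (by simpa using mul_mem (inv_mem hx) e)
  have t6 : ∀ k ∈ D w, (k * (x * t₀)) ^ s = 1 := fun k hk => mul_assoc k x t₀ ▸ t3 _ (mul_mem hk hx)
  generalize x * t₀ = t at h7 t4 t5 t6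
  clear t1 t2 t3 hx x t₀
  have t7 : t ^ s = 1 := by simpa using t6 1 (one_mem _)
  have tV : t ∉ V := fun e => t5 (h5 t e t4 ▸ one_mem _)
  set y := v * t with hy
  have hb : y ^ s ∈ V := by simpa [t7] using mul_pow_mul_inv_mem (hnv t) hv s
  have hbX : y ^ s ∈ D y := pow_mem (h.mem y) s
  have y1 : y ≠ 1 := fun e => h7 (by rw [e, one_pow])
  have hVX : ∀ u ∈ V, u ∈ N⟦D y⟧ := fun u hu => h.mem_norm_of_comm hbX h7 (comm_iff.1 hV _ hu _ hb)
  have h8 : ∀ u ∈ V, u ∉ D y → (u * y) ^ p = 1 := fun u hu e => by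
    have u1 : u ≠ 1 := fun e' => e (e' ▸ one_mem _)
    refine h.pow_eq_one (x := y) (fun e' => e (by simpa using mul_mem e' (inv_mem (h.mem y)))) ?_
    have := mul_pow_mul_inv_mem (hVX u hu) (conj_mem_of_norm (hVX u hu) (h.mem y)) p
    rwa [← hVp u hu u1, pow_orderOf_eq_one, inv_one, mul_one, hVp u hu u1, inv_mul_cancel_right] at this
  obtain ⟨u, hu, hu1⟩ := h1 y y1
  have u1 : u ≠ 1 := fun e' => hu1 (e' ▸ one_mem _)
  obtain rfl : s = p := by
    by_contra e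
    refine tV (mem_of_pow_coprime ((Nat.coprime_primes hs hp).2 e) (t7 ▸ one_mem _) ?_)
    have := mul_pow_mul_inv_mem (hnv t) (mul_mem hu hv) p
    rwa [mul_assoc u v t, h8 u hu hu1, one_mul, inv_mem_iff] at this
  have h9 : ∀ a ∈ V, a ∉ D y → ∀ b ∈ V, b ∉ D y → a * b ∈ D y := fun a ha ha1 b hb' hb1 => by
    by_contra e
    have := norm_map_mul hV (hnv y) ha hb' s
    rw [h8 a ha ha1, h8 b hb' hb1, h8 _ (mul_mem ha hb') e, one_mul, left_eq_mul, inv_eq_one] at this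
    exact h7 this
  obtain rfl : s = 2 := by
    by_contra e
    refine hu1 (mem_of_pow_coprime ((Nat.coprime_primes hs Nat.prime_two).2 e) ?_ (sq u ▸ h9 u hu hu1 u hu hu1))
    rw [← hVp u hu u1, pow_orderOf_eq_one]; exact one_mem _
  have hsq : ∀ c ∈ C⟦V⟧, c * c = 1 := fun c hc => by
    by_cases c1 : c = 1
    · simp [c1]
    · rw [← sq, ← hCp c hc c1, pow_orderOf_eq_one]
  have hVC : V ≤ C⟦V⟧ := comm_iff_le_cent.1 hV
  have h10 : ∀ a ∈ V ⊓ D y, t * a = a * t := fun a ha => by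
    have h10 := norm_map_mul hV (hnv y) ha.1 hu 2
    rw [h8 u hu hu1, h8 _ (mul_mem ha.1 hu) fun e => hu1 (by simpa using mul_mem (inv_mem (mem_inf.1 ha).2) e),
      right_eq_mul, mul_inv_eq_one, sq, sq, mul_assoc, ← mul_assoc y, ← mul_assoc a, mul_right_cancel_iff,
      ← eq_inv_mul_iff_mul_eq, inv_eq_of_mul_eq_one_right (hsq a (hVC ha.1)), hy, mul_assoc, ← mul_assoc a,
      ← comm_iff.1 hV _ hv _ ha.1, mul_assoc, mul_left_cancel_iff] at h10
    exact h10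
  have h11 : (V ⊓ D y).relIndex V = 2 := by
    rw [relIndex_eq_two_iff]
    refine ⟨u, hu, fun b hb' => ?_⟩
    by_cases e : b ∈ D y
    · exact Or.inr ⟨⟨hb', e⟩, fun e' => hu1 (by simpa using mul_mem (inv_mem e) (mem_inf.1 e').2)⟩
    · exact Or.inl ⟨⟨mul_mem hb' hu, h9 b hb' e u hu hu1⟩, fun e' => e e'.2⟩
  have h12 : (V ⊓ D y) ⊓ cj w (V ⊓ D y) = ⊥ := eq_bot_iff.2 fun a ha => by
    have e1 := h10 a ha.1
    have e2 := h10 _ (mem_cj.1 ha.2)
    have e3 : t * w⁻¹ = w * t := by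
      have := t6 w⁻¹ (inv_mem (h.mem w))
      rw [sq] at this t7
      calc t * w⁻¹ = w * (w⁻¹ * t * (w⁻¹ * t)) * t⁻¹ := by group
        _ = _ := by rw [this, inv_eq_of_mul_eq_one_right t7, mul_one]
    refine h4 (w ^ 2) ?_ a ha.1.1 ?_
    · rw [(Nat.Coprime.orderOf_pow (by rw [hw]; exact hcop.symm)), hw]
    · have e4 : w ^ 2 = (w * t * w⁻¹) * t := by
        rw [mul_assoc w t, e3, sq]
        rw [sq] at t7
        calc w * w = w * w * (t * t) := by rw [t7, mul_one]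
          _ = _ := by group
      have e5 : w * t * w⁻¹ * a = a * (w * t * w⁻¹) := by
        calc w * t * w⁻¹ * a = w * (t * (w⁻¹ * a * w)) * w⁻¹ := by group
          _ = _ := by rw [e2]; group
      rw [e4, ← mul_assoc, ← e5, mul_assoc, ← e1, ← mul_assoc]
  have h13 := card_mul_le (H := V) (inf_le_left : V ⊓ D y ≤ V) (cj_le_of_mem_norm (hnv w) (inf_le_left : V ⊓ D y ≤ V))
  have h14 := card_mul_relIndex (inf_le_left : V ⊓ D y ≤ V)
  have h15 := one_lt_card (ne_bot_of_mem (A := V ⊓ D y) ⟨hb, hbX⟩ h7)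
  rw [h12, card_bot, card_cj, ← h14, h11] at h13
  have h16 : ♯V = 4 := by
    rw [← h14, h11]
    nlinarith
  have hK : IsKleinFour V := ⟨h16, by
    haveI := (nontrivial_iff_ne_bot V).2 V1
    rw [Monoid.exponent_eq_prime_iff Nat.prime_two]
    · exact fun g g1 => by rw [← Subgroup.orderOf_coe]; exact hVp g g.2 fun e => g1 (Subtype.ext e)⟩
  have hc : C⟦V⟧ ≤ V := hmax ⟨inferInstance, comm_iff.2 fun a ha b hb => by
    have := hsq _ (mul_mem ha hb)
    rw [eq_inv_of_mul_eq_one_left this, mul_inv_rev, inv_eq_of_mul_eq_one_right (hsq a ha),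
      inv_eq_of_mul_eq_one_right (hsq b hb)]⟩ hVC
  rcases GW.klein_cases hK hc with e | ⟨⟨e⟩⟩ | e
  · exact absurd e hG
  · have e1 : Nat.card G = 12 := by
      rw [Nat.card_congr e.toEquiv, Nat.card_eq_fintype_card]; decide
    have e2 : ♯(zpowers t) = 2 := by
      rw [Nat.card_zpowers]; exact orderOf_eq_prime t7 fun e => tV (e ▸ one_mem _)
    have e3 := card_dvd_card (V ⊔ zpowers t)
    rw [card_sup_of_disjoint (Or.inr fun g _ => hnv g) (by
      rw [inf_comm]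
      exact (prime_inf_eq_bot_or_le (e2 ▸ Nat.prime_two)).resolve_right fun e => tV (e (mem_zpowers t))),
      h16, e1, e2] at e3
    omega
  · exact e

omit hN in
theorem suzuki [Nontrivial G] (hnil : ∀ x, x ≠ 1 → Group.IsNilpotent (D x))
    (hR : ∀ A : Subgroup G, A.Normal → IsMulCommutative A → A = ⊥) :
    (∃ (F : Type) (_ : Field F) (_ : Fintype F), 4 ≤ Fintype.card F ∧ Nonempty (G ≃* PSL(2, F))) ∨
    (∃ (F : Type) (_ : Field F) (_ : Fintype F), 5 ≤ Fintype.card F ∧ Odd (Fintype.card F) ∧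
      Nonempty (G ≃* PGL(2, F))) ∨ Lie.IsoSuzuki G := by
  have hR' : ∀ A : Subgroup G, A.Normal → Group.IsSolvable A → A = ⊥ := fun A hA hs => by
    by_contra e
    obtain ⟨q, V, -, hV, -, hVn, hel⟩ := exists_elem_normalIn (NormalIn.of_normal A) hs e
    exact hV.1 (hR V hVn.normal hel.1)
  have hG : ¬ Group.IsSolvable G := fun e => top_ne_bot (hR' ⊤ inferInstance (sol_top_iff.2 e))
  by_cases hc : ∃ z, orderOf z = 2 ∧ ¬ C₁⟦z⟧ ≤ D z
  · obtain ⟨z, ⟨hz, h1⟩, hmax⟩ := Set.exists_max_image {z | orderOf z = 2 ∧ ¬ C₁⟦z⟧ ≤ D z} (fun z => ♯(C₁⟦z⟧))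
      (Set.toFinite _) hc
    have z1 := H11.ne_one_of_orderOf_two hz
    have h2 : ∀ x ∈ C₁⟦z⟧, x ∉ D z → orderOf x = 2 := fun x hx e =>
      (h.ord_eq z1 e (mem_cent1.1 hx).symm).symm.trans hz
    obtain ⟨N, hNn, h3, F, _, _, h4, h5⟩ := S3322.result C₁⟦z⟧ (C₁⟦z⟧ ⊓ D z)
      (lt_of_le_of_ne inf_le_left fun e => h1 (inf_eq_left.1 e))
      (fun x hx e => by rw [← h2 x hx fun e' => e ⟨hx, e'⟩, pow_orderOf_eq_one])
      (by
        obtain ⟨x, hx, e⟩ := SetLike.not_le_iff_exists.1 h1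
        have e2 : ♯(zpowers x) = 2 := by rw [Nat.card_zpowers, h2 x hx e]
        have e3 := card_dvd (sup_le (zpowers_le.2 (self_mem_cent1 z)) (zpowers_le.2 hx))
        rwa [card_sup_of_disjoint (Or.inr (zpowers_le.2 (cent_le_norm _ (by rwa [cent_zpowers])))) (by
          rw [inf_comm]
          exact (prime_inf_eq_bot_or_le (e2 ▸ Nat.prime_two)).resolve_right fun e' =>
            e (zpowers_le.2 (h.mem z) (e' (mem_zpowers x)))), e2, Nat.card_zpowers, hz] at e3)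
      (fun j hj ho e => by
        have e1 : C₁⟦z⟧ ≤ C₁⟦j⟧ := fun x hx => mem_cent1.2 (e x hx)
        refine (eq_of_le_card e1 (hmax j ⟨ho, fun e2 => h1 ?_⟩)).symm
        rw [h.eq (e2 (e1 (self_mem_cent1 z))) z1]
        exact e1.trans e2) hG
    obtain rfl := hR' N hNn (sol_of_two_mul_odd h3)
    have e := (QuotientGroup.quotientBot (G := G)).symm
    rcases h5 with ⟨⟨f⟩⟩ | ⟨⟨f⟩⟩
    · exact Or.inl ⟨F, _, _, h4, ⟨e.trans f⟩⟩
    by_cases ho : Odd (Fintype.card F)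
    · exact Or.inr (Or.inl ⟨F, _, _, by rw [Nat.odd_iff] at ho; omega, ho, ⟨e.trans f⟩⟩)
    · obtain ⟨f'⟩ := pgl2_equiv_psl2_of_even ho
      exact Or.inl ⟨F, _, _, h4, ⟨(e.trans f).trans f'⟩⟩
  push Not at hc
  have hev : Even (Nat.card G) := Nat.not_odd_iff_even.1 (mt FT.solvable_of_odd hG)
  obtain ⟨S⟩ : Nonempty (Sylow 2 G) := inferInstance
  obtain ⟨z, hz, ho⟩ := exists_prime_order_mem Nat.prime_two (dvd_card_of_isPGroup
    (S.isPGroup'.to_le inf_le_left) (inf_cent_ne_bot_of_pgroup S.isPGroup' S.isPGroup' (le_norm_self _)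
      (S.ne_bot_of_dvd_card hev.two_dvd)))
  have z1 := H11.ne_one_of_orderOf_two ho
  have hS : (S : Subgroup G) ≤ D z := (cent_symm (zpowers_le.2 hz.2)).trans (cent_zpowers z ▸ hc z ho)
  have hF : ∀ u ∈ N⟦D z⟧, u * u = 1 → u ∈ D z := fun u hu e =>
    Hall.mem_of_normalIn (π := {2}) (H := D z ⊓ S) (M := N⟦D z⟧) ?_ ?_ hu ?_ |>.1
  have hT : N⟦D z⟧ ≠ ⊤ := fun e => h.ne_bot z1
    (hR' _ (normalizer_eq_top_iff.1 e) (sol_of_nil (hnil z z1)))
  have hO : oddCore G = ⊥ := hR' _ inferInstance (BS.Bd.sol_of_odd BS.Bd.odd_oddCore')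
  have hT2 : BS.Two G := by
    by_contra h7
    have hc : z ∈ center G := mem_center_iff.2 fun g => by
      obtain ⟨o, ho, c, -, h8, rfl⟩ := BS.Bd.odd_mul_cent (mt BS.Bd.twoIn_top.1 h7) (BS.Bd.iv_of_ord ho)
        (mem_top z) (mem_top g)
      rw [← pPrimeCore_eq_top, show pPrimeCore 2 G = ⊥ from hO, mem_bot] at ho
      rwa [ho, one_mul]
    exact z1 (mem_bot.1 (hR (center G) inferInstance inferInstance ▸ hc))
  have hSE : IsStronglyEmbedded N⟦D z⟧ := H11.isStronglyEmbedded_iff.2 ⟨hT, even_iff_two_dvd.2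
    (ho ▸ orderOf_dvd_card_of_mem (le_norm_self _ (h.mem z))), fun u hu h8 g hg =>
      h.mem_norm (hF u hu (BS.Bd.iv_of_ord h8).2) (BS.Bd.iv_of_ord h8).1
      (hF _ hg ((BS.Bd.iv_of_ord h8).conj g).2)⟩
  obtain ⟨t, h8, h9⟩ := H11.SE.exists_invol_not_mem hSE
  obtain ⟨Q, r, K, _, τ, κ, hR1⟩ := BS.Bd.exists_R1_se hSE hT2 hO h9 h8
  haveI := hR1.faith
  have hV : BS.Vv (BS.Bd.pt N⟦D z⟧) t = ⊥ := eq_bot_iff.2 fun v hv => by_contra fun v1 => by
    have h10 := hF _ (BS.Bd.fix_pt.1 (hR1.tau_fix 1)) (hR1.tau_sq 1)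
    have h11 : v ∈ D z := by
      rw [← h.eq h10 hR1.s_ne_one]
      exact hc _ (BS.Bd.Iv.ord ⟨hR1.s_ne_one, hR1.tau_sq 1⟩) (mem_cent1.2 (hR1.V_s hv))
    exact h8 (h.mem_norm_of_comm h11 v1 (BS.mem_Vv.1 hv).2.symm)
  rcases H4.rankOne_zass hR1.hS hV hT2 with ⟨K', _, _, ⟨n, h10, h11⟩, -, -, e⟩ | ⟨-, -, -, h10⟩
  · exact Or.inl ⟨K', _, _, h11 ▸ Nat.pow_le_pow_right two_pos h10, e⟩
  · exact Or.inr (Or.inr h10)
  · rw [inf_eq_right.2 hS]
    exact Hall.of_le (sylowOf_top S) (hS.trans (le_norm_self _)) le_top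
  · rw [inf_eq_right.2 hS]
    exact Hall.normalIn_trans (Hall.of_le (sylowOf_top S) hS le_top)
      (Hall.normalIn_of_nilpotent (Hall.of_le (sylowOf_top S) hS le_top) (hnil z z1)) (NormalIn.norm_self _)
  · exact isPiElt_iff.2 ((PiNat.prime_iff (π := {2}) Nat.prime_two).2 rfl |>.of_dvd (orderOf_dvd_of_pow_eq_one (by rwa [sq])))

omit hN in
/-- The classification of the finite groups with a normal nontrivial partition. -/
theorem cases [Nontrivial G] : (∃ x, x ≠ 1 ∧ N⟦D x⟧ = D x) ∨ ((∀ x, x ≠ 1 → Group.IsNilpotent (D x)) ∧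
    ((∃ x, x ≠ 1 ∧ (D x).Normal ∧ ∃ p : ℕ, p.Prime ∧ ∀ y, y ∉ D x → orderOf y = p) ∨
    Nonempty (G ≃* Equiv.Perm (Fin 4)) ∨
    (∃ (F : Type) (_ : Field F) (_ : Fintype F), 4 ≤ Fintype.card F ∧ Nonempty (G ≃* PSL(2, F))) ∨
    (∃ (F : Type) (_ : Field F) (_ : Fintype F), 5 ≤ Fintype.card F ∧ Odd (Fintype.card F) ∧
      Nonempty (G ≃* PGL(2, F))) ∨ Lie.IsoSuzuki G)) := by
  by_cases h1 : ∃ x, x ≠ 1 ∧ N⟦D x⟧ = D x
  · exact Or.inl h1
  push Not at h1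
  refine Or.inr ⟨fun x hx => h.nil (h1 x hx), ?_⟩
  by_cases h2 : ∃ x, x ≠ 1 ∧ (D x).Normal
  · obtain ⟨x, hx, h2⟩ := h2
    exact Or.inl ⟨x, hx, h2, h.normal_case hx h1⟩
  push Not at h2
  by_cases h3 : ∀ A : Subgroup G, A.Normal → IsMulCommutative A → A = ⊥
  · exact Or.inr (Or.inr (h.suzuki (fun x hx => h.nil (h1 x hx)) h3))
  push Not at h3
  obtain ⟨A, h3, h4, h5⟩ := h3
  exact Or.inr (Or.inl (h.baer h1 h2 h5 h4))

end Part

theorem exists_part (S : Set (Subgroup G)) (hS2 : ∃ H ∈ S, ∃ K ∈ S, H ≠ K)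
    (hS1 : ∀ H ∈ S, H ≠ ⊥) (hpart : ∀ g : G, g ≠ 1 → ∃! H : Subgroup G, H ∈ S ∧ g ∈ H) :
    ∃ D : G → Subgroup G, Part D ∧ ∀ x, x ≠ 1 → ∃ H ∈ S, D x ≤ H := by
  classical
  choose! c hc using hpart
  refine ⟨fun x => if x = 1 then ⊥ else ⨅ g, cj g⁻¹ (c (g * x * g⁻¹)), ⟨by simp, fun x => ?_, fun {x y} hy y1 => ?_,
    fun g x => ?_, fun x hx e => ?_⟩, fun x hx => ⟨c x, (hc x hx).1.1, ?_⟩⟩
  · split_ifs with hx
    · exact hx
    · exact mem_iInf.2 fun g => mem_cj.2 (by simpa using (hc (g * x * g⁻¹) (by simpa using hx)).1.2)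
  · have hx : x ≠ 1 := fun e => y1 (by simpa [e] using hy)
    simp only [hx, y1, if_false] at hy ⊢
    refine iInf_congr fun g => congrArg _ ((hc _ (by simpa using y1)).2 _
      ⟨(hc (g * x * g⁻¹) (by simpa using hx)).1.1, ?_⟩).symm
    simpa using mem_cj.1 (mem_iInf.1 hy g)
  · by_cases hx : x = 1
    · simp [hx]
    have h1 : g * x * g⁻¹ ≠ 1 := by simpa using hx
    simp only [hx, h1, if_false]
    ext y
    simp only [mem_cj, mem_iInf, inv_inv]
    refine ⟨fun e k => ?_, fun e k => ?_⟩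
    · simpa [mul_assoc] using e (k * g⁻¹)
    · simpa [mul_assoc] using e (k * g)
  · simp only [hx, if_false] at e
    have h1 : c x = ⊤ := by simpa using iInf_eq_top.1 e 1
    have h2 : ∀ H ∈ S, H = ⊤ := fun H hH => by
      obtain ⟨y, hy, y1⟩ := exists_ne_one (hS1 H hH)
      exact ((hc y y1).2 H ⟨hH, hy⟩).trans ((hc y y1).2 ⊤ ⟨h1 ▸ (hc x hx).1.1, trivial⟩).symm
    obtain ⟨H, hH, K, hK, e⟩ := hS2
    exact e ((h2 H hH).trans (h2 K hK).symm)
  · simp only [hx, if_false]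
    simpa using iInf_le (fun g => cj g⁻¹ (c (g * x * g⁻¹))) 1

end Cfsg.Agent.H25
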