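/-
Centerless groups with three nontrivial conjugacy class sizes.
-/
import Cfsg.Agent.H25.Ito4
import Cfsg.Agent.H25.AbInv

set_option autoImplicit false
set_option linter.style.haveILetI false

namespace Cfsg.Agent.H25

open Subgroup Cfsg.Agent.H20 Cfsg.Agent.H21
open scoped Pointwise commutatorElement MatrixGroups

variable {G : Type*} [Group G] [Finite G]

omit [Finite G] in
theorem ne_one_of_index {x : G} {k : ℕ} (h : C₁⟦x⟧.index = k) (hk : 1 < k) : x ≠ 1 := by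
  rintro rfl; rw [cent1_one, index_top] at h; omega

theorem le_of_forall_conj {B D : Subgroup G} (h : ∀ x ∈ B, ∃ g ∈ B, g * x * g⁻¹ ∈ D) : B ≤ D := by
  have := H4.eq_top_of_forall_exists_conj_mem (D.subgroupOf B) fun x => by
    obtain ⟨g, hg, e⟩ := h x x.2
    exact ⟨⟨g, hg⟩, e⟩
  exact subgroupOf_eq_top.1 this

theorem index_inf_of_coprime {A B : Subgroup G} (h : A.index.Coprime B.index) : (A ⊓ B).index = A.index * B.index :=
  le_antisymm index_inf_le (Nat.le_of_dvd (Nat.pos_of_ne_zero index_ne_zero_of_finite)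
    (h.mul_dvd_of_dvd_of_dvd (index_dvd_of_le inf_le_left) (index_dvd_of_le inf_le_right)))

omit [Finite G] in
theorem comm_cent_inv (hZ : center G = ⊥) (hF : ∀ x : G, x ∉ center G → MaxC x) {t : G} (ht : orderOf t = 2) :
    IsMulCommutative C₁⟦t⟧ := by
  have nc : ∀ x : G, x ≠ 1 → x ∉ center G := fun x hx e => hx (hZ.le e)
  have t2 : t ^ 2 = 1 := ht ▸ pow_orderOf_eq_one t
  have key : ∀ w ∈ C₁⟦t⟧, w ∉ C⟦C₁⟦t⟧⟧ → w * w = 1 := fun w hw hw' => by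
    by_contra hn
    rw [← pow_two] at hn
    have e : (w * t) ^ 2 = w ^ 2 := by rw [(show Commute w t from mem_cent1.1 hw).mul_pow, t2, mul_one]
    have w1 : w ≠ 1 := fun e => hn (by rw [e, one_pow])
    have e1 := hF w (nc w w1) _ (nc _ hn) (H26.cent_le_cent_pow w 2)
    have e2 := hF (w * t) (nc _ fun e' => hn (by rw [← e, e', one_pow])) _ (nc _ (e ▸ hn)) (H26.cent_le_cent_pow _ 2)
    rw [e, e1] at e2
    refine hw' (le_cent1_iff.1 (hF w (nc w w1) t (nc t (ne_one_of_orderOf Nat.prime_two ht)) fun g hg => ?_).le)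
    have := mem_cent1.1 (e2.le hg)
    rw [← mul_assoc, mem_cent1.1 hg, mul_assoc, mul_assoc, mul_right_inj] at this
    exact mem_cent1.2 this
  refine comm_iff.2 fun a ha b hb => ?_
  by_contra hne
  have h1 := key a ha fun e => hne (mem_cent.1 e b hb).symm
  have h2 := key b hb fun e => hne (mem_cent.1 e a ha)
  have h3 := key (a * b) (mul_mem ha hb) fun e => hne (by
    have := mem_cent.1 e a ha
    rwa [mul_assoc, mul_right_inj] at this)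
  refine hne ?_
  calc a * b = a * (a * b * (a * b)) * b := by rw [h3, mul_one]
    _ = a * a * (b * a) * (b * b) := by group
    _ = _ := by rw [h1, h2, one_mul, mul_one]

/-- trivial centre, class sizes `m ∣ l` and `n`. -/
structure R3 (G : Type*) [Group G] (m l n : ℕ) : Prop where
  cen : center G = ⊥
  idx : ∀ x : G, x ≠ 1 → C₁⟦x⟧.index = m ∨ C₁⟦x⟧.index = l ∨ C₁⟦x⟧.index = n
  ns : ¬ Group.IsSolvable G
  dvd : m ∣ l
  lt : m < l
  one_lt : 1 < m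
  exM : ∃ y : G, C₁⟦y⟧.index = m
  exL : ∃ x : G, C₁⟦x⟧.index = l

namespace R3

variable {m l n : ℕ} (h : R3 G m l n)
include h

omit [Finite G] in
theorem nc {x : G} (hx : x ≠ 1) : x ∉ center G := fun e => hx (h.cen.le e)

omit [Finite G] in
theorem ne_one {x : G} (hx : x ∉ center G) : x ≠ 1 := fun e => hx (e ▸ one_mem _)

omit [Finite G] in
theorem dvd_card : l ∣ Nat.card G := by obtain ⟨x, hx⟩ := h.exL; exact hx ▸ index_dvd_card _

theorem central {p : ℕ} (hp : p.Prime) (hd : p ∣ m) {S : Subgroup G} (hS : SylowOf p S ⊤) :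
    ∃ z ∈ S, orderOf z = p ∧ S ≤ C₁⟦z⟧ ∧ C₁⟦z⟧.index = n := by
  haveI := Fact.mk hp
  obtain ⟨z, hz, ho, hSz⟩ := exists_central_in hS.isPGroup
    (hS.sylow_ne_bot (by rw [card_top']; exact hd.trans (h.dvd.trans h.dvd_card)))
  have := not_dvd_index_of_sylow hS hSz
  rcases h.idx z (ne_one_of_orderOf hp ho) with e | e | e
  exacts [absurd (e ▸ hd) this, absurd (e ▸ hd.trans h.dvd) this, ⟨z, hz, ho, hSz, e⟩]

theorem not_dvd {p : ℕ} (hp : p.Prime) (hd : p ∣ m) : ¬ p ∣ n := by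
  haveI := Fact.mk hp
  obtain ⟨S, hS⟩ := exists_sylowOf p (⊤ : Subgroup G)
  obtain ⟨z, -, -, hSz, e⟩ := h.central hp hd hS
  exact e ▸ not_dvd_index_of_sylow hS hSz

theorem cop : m.Coprime n := Nat.coprime_of_dvd fun _ hp hd => h.not_dvd hp hd

theorem exN : ∃ z : G, z ≠ 1 ∧ C₁⟦z⟧.index = n := by
  obtain ⟨p, hp, hd⟩ := Nat.exists_prime_and_dvd h.one_lt.ne'
  haveI := Fact.mk hp
  obtain ⟨S, hS⟩ := exists_sylowOf p (⊤ : Subgroup G)
  obtain ⟨z, -, ho, -, e⟩ := h.central hp hd hS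
  exact ⟨z, ne_one_of_orderOf hp ho, e⟩

theorem one_lt' : 1 < n := by
  obtain ⟨z, z1, e⟩ := h.exN
  have := mt H26.index_cent_eq_one_iff.1 (h.nc z1)
  have := C₁⟦z⟧.index_ne_zero_of_finite
  omega

theorem not_mn : ¬ m ∣ n := fun e => h.one_lt.ne' (h.cop.eq_one_of_dvd e)

theorem not_nm : ¬ n ∣ m := fun e => h.one_lt'.ne' (h.cop.symm.eq_one_of_dvd e)

theorem not_lm : ¬ l ∣ m := fun e => absurd (Nat.le_of_dvd (zero_lt_one.trans h.one_lt) e) (not_le.2 h.lt)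

theorem maxM {x : G} (hx : C₁⟦x⟧.index = m) : MaxC x := fun y hy hle => by
  have hd := hx ▸ index_dvd_of_le hle
  rcases h.idx y (h.ne_one hy) with e | e | e
  exacts [(eq_of_le_index hle (hx.trans e.symm).le).symm, absurd (e ▸ hd) h.not_lm, absurd (e ▸ hd) h.not_nm]

theorem maxN {x : G} (hx : C₁⟦x⟧.index = n) : MaxC x := fun y hy hle => by
  have hd := hx ▸ index_dvd_of_le hle
  rcases h.idx y (h.ne_one hy) with e | e | e
  exacts [absurd (e ▸ hd) h.not_mn, absurd (h.dvd.trans (e ▸ hd)) h.not_mn,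
    (eq_of_le_index hle (hx.trans e.symm).le).symm]

theorem minL {x : G} (hx : C₁⟦x⟧.index = l) : MinC x := fun y hle => by
  have hd := hx ▸ index_dvd_of_le hle
  rcases h.idx y (h.ne_one (not_mem_center_of_le hle (h.nc (ne_one_of_index hx (h.one_lt.trans h.lt)))))
    with e | e | e
  exacts [absurd (e ▸ hd) h.not_lm, eq_of_le_index hle (e.trans hx.symm).le, absurd (h.dvd.trans (e ▸ hd)) h.not_mn]

theorem small {x y : G} (hy : C₁⟦y⟧.index = m) (hle : C₁⟦x⟧ ≤ C₁⟦y⟧) (hne : C₁⟦x⟧ ≠ C₁⟦y⟧) : C₁⟦x⟧.index = l := by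
  rcases h.idx x (h.ne_one (not_mem_center_of_le hle (h.nc (ne_one_of_index hy h.one_lt)))) with e | e | e
  exacts [absurd (eq_of_le_index hle (e.trans hy.symm).le) hne, e,
    absurd (hy ▸ e ▸ index_dvd_of_le hle) h.not_mn]

theorem same {y : G} (hy : C₁⟦y⟧.index = m) {r : ℕ} (hr : r.Prime) (h1 : ¬ r ∣ m) (h2 : r ∣ l) :
    ∃ v : G, IsPiElt {r} v ∧ C₁⟦v⟧ = C₁⟦y⟧ := by
  haveI := Fact.mk hr
  obtain ⟨s, -, -, v, -, hvs, e⟩ := (h.maxM hy).exists_pelt (elt_univ y) (h.nc (ne_one_of_index hy h.one_lt))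
  by_cases hsr : s = r
  · exact ⟨v, hsr ▸ hvs, e⟩
  rw [← e] at hy ⊢
  obtain ⟨R, hR, hle⟩ := sylow_le_of_not_dvd hr (hy ▸ h1)
  obtain ⟨z, hz, ho, hRz⟩ := exists_central_in hR.isPGroup
    (hR.sylow_ne_bot (by rw [card_top']; exact h2.trans h.dvd_card))
  have e1 := cent1_mul hvs (elt_ne (elt_of_orderOf hr ho) (Ne.symm hsr)) (hle hz)
  refine ⟨z, elt_of_orderOf hr ho, h.maxM hy z (h.nc (ne_one_of_orderOf hr ho)) ?_⟩
  by_contra hn
  refine not_dvd_index_of_sylow hR (e1 ▸ le_inf hle hRz) ?_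
  rwa [h.small hy (e1 ▸ inf_le_left) fun e => hn (e ▸ e1 ▸ inf_le_right)]

theorem not_dvd_card (hl : n ∣ l) (hc : ∀ y z : G, C₁⟦y⟧.index = m → C₁⟦z⟧.index = n → z ∉ C₁⟦y⟧) {q : ℕ}
    (hq : q.Prime) (hd : q ∣ m) {y : G} (hy : C₁⟦y⟧.index = m) : ¬ q ∣ ♯C₁⟦y⟧ := by
  haveI := Fact.mk hq
  intro hqy
  obtain ⟨w, hw, ho⟩ := exists_prime_order_mem hq hqy
  have hwq := elt_of_orderOf hq ho
  obtain ⟨S, hS, hle⟩ := exists_sylowOf_ge (pgroup_zpowers hwq) le_top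
  obtain ⟨z, -, -, hSz, hz⟩ := h.central hq hd hS
  have hzw := mem_cent1_comm.1 (hSz (hle (mem_zpowers w)))
  obtain ⟨r, hr, hrn⟩ := Nat.exists_prime_and_dvd h.one_lt'.ne'
  obtain ⟨v, hv, e⟩ := h.same hy hr (fun e => h.not_dvd hr e hrn) (hrn.trans hl)
  rcases h.idx w (ne_one_of_orderOf hq ho) with e' | e' | e'
  · exact hc w z e' hz hzw
  · exact hc y z hy hz (e ▸ (h.minL e').le hwq (elt_ne hv fun e => h.not_dvd hq hd (e ▸ hrn))
      (mem_cent1_comm.1 (e ▸ hw)) hzw)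
  · exact hc y w hy e' hw

theorem not_never (h' : R3 G n l m) (hc : ∀ y z : G, C₁⟦y⟧.index = m → C₁⟦z⟧.index = n → z ∉ C₁⟦y⟧) : False := by
  obtain ⟨x, hx⟩ := h.exL
  obtain ⟨y, hy⟩ := h.exM
  obtain ⟨z, hz⟩ := h'.exM
  obtain ⟨q, hq, hd⟩ := exists_prime_dvd_card
    (ne_bot_of_mem (self_mem_cent1 x) (ne_one_of_index hx (h.one_lt.trans h.lt)))
  have key : ∀ y : G, C₁⟦y⟧.index ∣ l → q ∣ ♯C₁⟦y⟧ := fun y ⟨j, hj⟩ => by
    have := C₁⟦x⟧.card_mul_index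
    rw [hx, hj, ← C₁⟦y⟧.card_mul_index, mul_comm _ j, ← mul_assoc] at this
    exact Nat.eq_of_mul_eq_mul_right (Nat.pos_of_ne_zero C₁⟦y⟧.index_ne_zero_of_finite) this ▸ hd.mul_right j
  by_cases h1 : q ∣ m
  · exact h.not_dvd_card h'.dvd hc hq h1 hy (key y (hy ▸ h.dvd))
  by_cases h2 : q ∣ n
  · exact h'.not_dvd_card h.dvd (fun y z hy hz e => hc z y hz hy (mem_cent1_comm.1 e)) hq h2 hz (key z (hz ▸ h'.dvd))
  have h3 : q ∣ l := by
    obtain ⟨w, hw⟩ := exists_dvd_class (G := G) hq (by rw [h.cen, index_bot]; exact hd.trans (card_dvd_card _))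
    rcases h.idx w (by rintro rfl; rw [cent1_one, index_top] at hw; exact hq.not_dvd_one hw) with e | e | e <;>
      rw [e] at hw
    exacts [absurd hw h1, hw, absurd hw h2]
  obtain ⟨v, hv, e⟩ := h.same hy hq h1 h3
  obtain ⟨g, hg⟩ := exists_conj_mem_of_not_dvd hq (hz ▸ h2) hv
  exact hc _ z ((H26.index_cent_conj g v).trans (e ▸ hy)) hz (mem_cent1_comm.1 hg)

theorem not_two (h' : R3 G n l m) (hl : l = m * n) {y z : G} (hy : C₁⟦y⟧.index = m) (hz : C₁⟦z⟧.index = n)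
    (hc : z ∈ C₁⟦y⟧) {r s : ℕ} (hr : r.Prime) (hs : s.Prime) (hrs : r ≠ s) (h1 : r ∣ n) (h2 : s ∣ n) : False := by
  obtain ⟨p, hp, hd⟩ := Nat.exists_prime_and_dvd h.one_lt.ne'
  haveI := Fact.mk hp
  have hpn := h.not_dvd hp hd
  obtain ⟨z', hzp, e⟩ := h'.same hz hp hpn (hd.trans h.dvd)
  replace hc : z' ∈ C₁⟦y⟧ := mem_cent1_comm.1 (e ▸ mem_cent1_comm.1 hc)
  rw [← e] at hz
  clear e z
  obtain ⟨y₁, hy₁, e₁⟩ := h.same hy hr (fun e => h.not_dvd hr e h1) (h1.trans h'.dvd)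
  obtain ⟨y₂, hy₂, e₂⟩ := h.same hy hs (fun e => h.not_dvd hs e h2) (h2.trans h'.dvd)
  have key : ∀ q : ℕ, ∀ v ∈ C₁⟦y⟧, IsPiElt {q} v → v ∉ C⟦C₁⟦y⟧⟧ → ∃ w : G, C₁⟦w⟧ = C₁⟦y⟧ ⊓ C₁⟦v⟧ ∧ MinC w ∧
      (q ≠ p → IsPiElt {p}ᶜ w) ∧ ∃ P, SylowOf p P C₁⟦y⟧ ∧ P ≤ C₁⟦w⟧ := by
    intro q v hv hvq hv'
    obtain ⟨u, t, htq, htp, hut, eu⟩ : ∃ (u : G) (t : ℕ), q ≠ t ∧ t ≠ p ∧ IsPiElt {t} u ∧ C₁⟦u⟧ = C₁⟦y⟧ := by
      by_cases hqr : q = r
      exacts [⟨y₂, s, hqr ▸ hrs, fun e => hpn (e ▸ h2), hy₂, e₂⟩, ⟨y₁, r, hqr, fun e => hpn (e ▸ h1), hy₁, e₁⟩]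
    have e1 := cent1_mul hut (elt_ne hvq htq) (eu ▸ hv)
    rw [eu] at e1
    have e2 := h.small hy (e1 ▸ inf_le_left) fun e => hv' (le_cent1_iff.1 (e ▸ e1 ▸ inf_le_right))
    obtain ⟨P, hP⟩ := exists_sylowOf p C₁⟦u * v⟧
    refine ⟨u * v, e1, h.minL e2, fun hqp => elt_mul (elt_ne hut htp) (elt_ne hvq hqp) (eu ▸ hv), P,
      hP.sylow_trans_not_dvd (e1 ▸ inf_le_left) ?_, hP.le⟩
    have := relIndex_mul_index (e1 ▸ inf_le_left : C₁⟦u * v⟧ ≤ C₁⟦y⟧)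
    rw [hy, e2, hl, mul_comm m] at this
    rwa [Nat.eq_of_mul_eq_mul_right (zero_lt_one.trans h.one_lt) this]
  have hn : ¬ C₁⟦y⟧ ≤ C₁⟦z'⟧ := fun hle => h.not_nm (hy ▸ hz ▸ index_dvd_of_le hle)
  refine hn (le_of_forall_conj fun x hx => ?_)
  obtain ⟨a, b, ha, hb, hap, hbp, -, e⟩ := exists_decomp {p} x
  by_cases hb' : b ∈ C⟦C₁⟦y⟧⟧
  · obtain ⟨w, e1, -, -, P, hP, hle⟩ := key p z' hc hzp (mt le_cent1_iff.2 hn)
    obtain ⟨g, hg, hle'⟩ := hP.exists_cj_le (pgroup_zpowers hap) (zpowers_le.2 (zpowers_le.2 hx ha))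
    refine ⟨g, hg, ?_⟩
    rw [e, ← conj_mul, mem_cent.1 hb' g hg, mul_inv_cancel_right]
    exact mul_mem (e1.le (hle (hle' (conj_mem_cj.2 (mem_zpowers a))))).2 (cent_le_cent1 hc hb')
  · obtain ⟨q, -, hqp, v, hv, hv', hvq⟩ := exists_ppart hbp hb'
    have hvx := zpowers_le.2 hb hv
    obtain ⟨w, e1, hw, hw', P, hP, hle⟩ := key q v (zpowers_le.2 hx hvx) hvq hv'
    obtain ⟨g, hg, hle'⟩ := hP.exists_cj_le (pgroup_zpowers hzp) (zpowers_le.2 hc)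
    have h3 := hle' (conj_mem_cj.2 (mem_zpowers z'))
    have := hw.le (hw' hqp) (PiNat.compl_compl.2 (elt_of_pgroup hP.isPGroup h3)) (hle h3)
      (e1.ge ⟨hx, H26.cent_le_cent_of_mem_zpowers hvx (self_mem_cent1 x)⟩)
    rw [← cj_cent1, mem_cj] at this
    exact ⟨g⁻¹, inv_mem hg, by rwa [inv_inv]⟩

theorem not_both (h' : R3 G n l m) : False := by
  refine h.not_never h' fun y z hy hz hc => ?_
  obtain ⟨p, hp, hd⟩ := Nat.exists_prime_and_dvd h.one_lt.ne'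
  obtain ⟨r, hr, hd'⟩ := Nat.exists_prime_and_dvd h'.one_lt.ne'
  have hl : l = m * n := by
    obtain ⟨y', hy', e⟩ := h.same hy hr (fun e => h.not_dvd hr e hd') (hd'.trans h'.dvd)
    obtain ⟨z', hz', e'⟩ := h'.same hz hp (h.not_dvd hp hd) (hd.trans h.dvd)
    have hc' : z' ∈ C₁⟦y'⟧ := mem_cent1_comm.1 (e' ▸ mem_cent1_comm.1 (e ▸ hc))
    have e1 := cent1_mul hy' (elt_ne hz' fun e => h.not_dvd hp hd (e ▸ hd')) hc'
    rw [e, e'] at e1
    rw [← h.small hy (e1 ▸ inf_le_left) fun e => h.not_nm (hy ▸ hz ▸ index_dvd_of_le (e ▸ e1 ▸ inf_le_right)), e1,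
      index_inf_of_coprime (hy ▸ hz ▸ h.cop), hy, hz]
  obtain ⟨t, ht, htZ, htp, htr⟩ := third_prime h.ns hp hr
  obtain ⟨w, hw⟩ := exists_dvd_class ht htZ
  have : t ∣ m * n := by
    rcases h.idx w (by rintro rfl; rw [cent1_one, index_top] at hw; exact ht.not_dvd_one hw) with e | e | e <;>
      rw [e] at hw
    exacts [hw.mul_right n, hl ▸ hw, hw.mul_left m]
  rcases (Nat.Prime.dvd_mul ht).1 this with e | e
  · exact h'.not_two h (hl.trans (mul_comm _ _)) hz hy (mem_cent1_comm.1 hc) hp ht htp.symm hd e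
  · exact h.not_two h' hl hy hz hc hr ht htr.symm hd' e

theorem minN {z : G} (hz : C₁⟦z⟧.index = n) : MinC z := fun x hle => by
  by_contra hne
  have hd := hz ▸ index_dvd_of_le hle
  rcases h.idx x (h.ne_one (not_mem_center_of_le hle (h.nc (ne_one_of_index hz h.one_lt')))) with e | e | e
  · exact h.not_nm (e ▸ hd)
  · exact h.not_both ⟨h.cen, fun x hx => by have := h.idx x hx; tauto, h.ns, e ▸ hd,
      not_le.1 fun e' => hne (eq_of_le_index hle (by omega)), h.one_lt', ⟨z, hz⟩, h.exL⟩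
  · exact hne (eq_of_le_index hle (e.trans hz.symm).le)

theorem m_dvd {z : G} (hz : C₁⟦z⟧.index = n) : m ∣ ♯C₁⟦z⟧ :=
  h.cop.dvd_of_dvd_mul_right (hz ▸ C₁⟦z⟧.card_mul_index ▸ h.dvd.trans h.dvd_card)

theorem commN (hex : ∃ x y : G, C₁⟦x⟧ ≤ C₁⟦y⟧ ∧ C₁⟦x⟧.index = l ∧ C₁⟦y⟧.index = m) {z : G} (hz : C₁⟦z⟧.index = n) :
    IsMulCommutative C₁⟦z⟧ := by
  have z1 := ne_one_of_index hz h.one_lt'
  by_contra hn
  obtain ⟨p, hp, hzp⟩ := (free_cases (h.nc z1) (h.minN hz) (h.maxN hz)).resolve_left hn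
  haveI := Fact.mk hp
  rw [h.cen, relIndex_bot_left] at hzp
  have hmp := hzp.of_dvd (h.m_dvd hz)
  have hpm : p ∣ m := by
    obtain ⟨q, hq, hd⟩ := Nat.exists_prime_and_dvd h.one_lt.ne'
    exact hmp q hq hd ▸ hd
  have hN : ∀ u : G, C₁⟦u⟧.index = n → SylowOf p C₁⟦u⟧ ⊤ := fun u hu => by
    have := relIndex_center_eq (hu.trans hz.symm)
    rw [h.cen, relIndex_bot_left, relIndex_bot_left] at this
    exact sylowOf_mk le_top (IsPi.isPGroup (isPi_iff.2 (this ▸ hzp)))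
      (by rw [relIndex_top_right, hu]; exact h.not_dvd hp hpm)
  have hcen : ∀ u : G, IsPiElt {p} u → ∀ v, IsPiElt {p}ᶜ v → C₁⟦u⟧ ≤ C₁⟦v⟧ → v = 1 := fun u hu v hv hle => by
    obtain ⟨S, hS, hle'⟩ := exists_sylowOf_ge (pgroup_zpowers hu) le_top
    obtain ⟨w, -, -, hSw, hw⟩ := h.central hp hpm hS
    exact orderOf_eq_one_iff.1 (PiNat.eq_one (elt_of_pgroup (hN w hw).isPGroup
      (mem_cent1_comm.1 (hle (mem_cent1_comm.1 (hSw (hle' (mem_zpowers u))))))) hv)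
  by_cases hM : ∃ y : G, IsPiElt {p} y ∧ C₁⟦y⟧.index = m
  · obtain ⟨y, hyp, hy⟩ := hM
    have hl : PiNat {p} l := fun q hq hd => by
      by_contra hqp
      obtain ⟨v, hv, e⟩ := h.same hy hq (fun e => hqp (hmp q hq e)) hd
      exact ne_one_of_index (e ▸ hy) h.one_lt (hcen y hyp v (elt_ne hv hqp) e.ge)
    refine h.ns (S4034.hyp_solvable (p := p) G fun w hw => ?_)
    refine (PiNat.singleton_iff hp C₁⟦w⟧.index_ne_zero_of_finite).1 ?_
    by_cases w1 : w = 1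
    · rw [w1, cent1_one, index_top]; exact PiNat.one _
    rcases h.idx w w1 with e | e | e
    exacts [e ▸ hmp, e ▸ hl, absurd (orderOf_eq_one_iff.1 (PiNat.eq_one (elt_of_pgroup (hN w e).isPGroup
      (self_mem_cent1 w)) ((PiNat.compl_singleton_iff_coprime hp).2 hw))) w1]
  obtain ⟨x, y, hle, hx, hy⟩ := hex
  obtain ⟨s, hs, -, v, hvZ, hvs, e⟩ := (h.maxM hy).exists_pelt (elt_univ y) (h.nc (ne_one_of_index hy h.one_lt))
  rw [← e] at hy hle
  have hsp : s ≠ p := fun e => hM ⟨v, e ▸ hvs, hy⟩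
  have hall : ∀ u : G, IsPiElt {p} u → u ≠ 1 → C₁⟦u⟧.index = n := fun u hu u1 => by
    rcases h.idx u u1 with e | e | e
    · exact absurd ⟨u, hu, e⟩ hM
    · obtain ⟨w, hw, w1, hws⟩ := exists_elt_not_mem hs (relIndex_center_eq (hx.trans e.symm) ▸
        dvd_relIndex_of_elt hs (mem_cent1_comm.1 (hle (self_mem_cent1 x))) hvZ hvs)
      exact absurd (hcen u hu w (elt_ne hws hsp) ((h.minL e).le hu (elt_ne hws hsp) hw)) (h.ne_one w1)
    · exact e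
  obtain ⟨k, hk⟩ := (PiNat.singleton_iff hp C₁⟦v⟧.index_ne_zero_of_finite).1 (hy ▸ hmp)
  obtain ⟨q, hq, O1⟩ := exists_pCoreOf_ne_bot (kazarin v hp hk)
    (ne_bot_of_mem (subset_normalClosure rfl) (h.ne_one hvZ))
  haveI := Fact.mk hq
  have hOn := piCoreOf_normalIn_of {q} (NormalIn.of_normal (normalClosure {v}))
  have hO := isPGroup_piCoreOf q (normalClosure {v})
  generalize piCoreOf {q} (normalClosure {v}) = O at *
  have hP := hN z hz
  refine hn (comm_iff.2 fun a ha b hb => ?_)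
  by_cases b1 : b = 1
  · simp [b1]
  have hb' := hN b (hall b (elt_of_pgroup hP.isPGroup hb) b1)
  by_cases hqp : q = p
  · subst hqp
    obtain ⟨o, ho, o1⟩ := exists_ne_one O1
    have h1 : C₁⟦z⟧ ≤ C⟦O⟧ := fun u hu => by
      by_cases u1 : u = 1
      · rw [u1]; exact one_mem _
      · exact le_cent1_iff.1 ((hN u (hall u (elt_of_pgroup hP.isPGroup hu) u1)).pgroup_le_of_norm hO le_top
          (Or.inr (le_top.trans hOn.norm)))
    have h2 := hP.pgroup_eq_of_le ((hN o (hall o (elt_of_pgroup hO ho) o1)).isPGroup.to_le (cent_le_cent1 ho)) h1 le_top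
    have h3 : C₁⟦z⟧ ⊴ ⊤ := ⟨le_top, h2 ▸ norm_cent hOn.norm⟩
    exact mem_cent1.1 ((hP.eq_of_normalIn h3 hb').ge ha)
  · have hA : zpowers b ⊔ zpowers z ≤ C₁⟦z⟧ := sup_le (zpowers_le.2 hb) (zpowers_le.2 (self_mem_cent1 z))
    haveI : IsMulCommutative ↥(zpowers b ⊔ zpowers z) :=
      comm_sup inferInstance inferInstance (cent_zpowers z ▸ zpowers_le.2 hb)
    obtain ⟨c, hc⟩ := (isCyclic_iff_exists_zpowers_eq_top.1 (H1.isCyclic_of_fpf (A := zpowers b ⊔ zpowers z) O1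
      (le_top.trans hOn.norm) fun u hu u1 => inf_eq_bot_coprime (coprime_of_isPGroup_ne hO
        (hN u (hall u (elt_of_pgroup hP.isPGroup (hA hu)) u1)).isPGroup hqp)))
    have hc' : ∀ w ∈ zpowers b ⊔ zpowers z, w ≠ 1 → C₁⟦w⟧ = C₁⟦(c : G)⟧ := fun w hw w1 => by
      have : w ∈ zpowers (c : G) := by
        obtain ⟨i, hi⟩ := hc.ge (mem_top ⟨w, hw⟩)
        exact ⟨i, congrArg Subtype.val hi⟩
      exact h.maxN (hall c (elt_of_pgroup hP.isPGroup (hA c.2)) fun e => w1 (by simpa [e] using this)) w (h.nc w1)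
        (H26.cent_le_cent_of_mem_zpowers this)
    rw [hc' z (mem_sup_right (mem_zpowers z)) z1, ← hc' b (mem_sup_left (mem_zpowers b)) b1] at ha
    exact mem_cent1.1 ha

theorem comm_inv (hex : ∃ x y : G, C₁⟦x⟧ ≤ C₁⟦y⟧ ∧ C₁⟦x⟧.index = l ∧ C₁⟦y⟧.index = m) {t : G} (ht : orderOf t = 2) :
    IsMulCommutative C₁⟦t⟧ := by
  obtain ⟨z, z1, hz⟩ := h.exN
  have hC : CCab C₁⟦z⟧ := fun u hu u1 => h.maxN hz u (h.nc u1) fun a ha =>
    mem_cent1.2 (comm_iff.1 (h.commN hex hz) a ha u hu)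
  by_cases h2 : 2 ∣ ♯C₁⟦z⟧
  · obtain ⟨g, hg⟩ := exists_conj_mem_of_not_dvd Nat.prime_two (hC.not_dvd_index Nat.prime_two h2)
      (elt_of_orderOf Nat.prime_two ht)
    exact h.commN hex ((hC.index_eq (ne_one_of_orderOf Nat.prime_two ht) hg).trans hz)
  exfalso
  have hm : m = ♯C₁⟦z⟧ := by
    obtain ⟨y, hy⟩ := h.exM
    refine Nat.dvd_antisymm (h.m_dvd hz) (PiNat.dvd_of_dvd_mul_left (isPi_primesOf _) (hC.isPi_cent (x := y)
      fun g hg => h.not_mn ?_) (hy ▸ C₁⟦y⟧.card_mul_index ▸ card_dvd_card _))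
    rw [← hy, hC.index_eq (ne_one_of_index hy h.one_lt) hg, hz]
  obtain ⟨k, hk⟩ := h.dvd
  refine Cf.false (k := k) ⟨hC, ne_bot_of_mem (self_mem_cent1 z) z1, h2, ?_, fun x hx => ?_, h.ns⟩
  · have := h.lt
    by_contra hn
    nlinarith
  · rcases h.idx x (fun e => hx 1 (by simp [e])) with e | e | e
    · exact Or.inl (e.trans hm)
    · exact Or.inr (by rw [e, hk, hm, mul_comm])
    · obtain ⟨p, hp, hd⟩ := Nat.exists_prime_and_dvd h.one_lt.ne'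
      exact absurd (mem_primesOf.2 ⟨hp, hm ▸ hd⟩) ((hC.isPi_cent hx).mem hp (hd.trans (h.m_dvd e)))

end R3

theorem rank_three (hZ : center G = ⊥) (h : {n : ℕ | 1 < n ∧ ∃ x : G, C₁⟦x⟧.index = n}.ncard ≤ 3)
    (hG : ¬ Group.IsSolvable G) : ∃ a, 2 ≤ a ∧ Nonempty (G ≃* PSL(2, GaloisField 2 a)) := by
  have hone : ∀ x : G, x ≠ 1 → 1 < C₁⟦x⟧.index := fun x hx => by
    have := mt H26.index_cent_eq_one_iff.1 fun e => hx (hZ.le e)
    have := C₁⟦x⟧.index_ne_zero_of_finite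
    omega
  have hab : ∀ t : G, orderOf t = 2 → IsMulCommutative C₁⟦t⟧ := fun t ht => by
    by_cases hF : ∀ x : G, x ∉ center G → MaxC x
    · exact comm_cent_inv hZ hF ht
    simp only [MaxC, not_forall] at hF
    obtain ⟨x, hx, y, hy, hle, hne⟩ := hF
    have h1 : C₁⟦y⟧.index < C₁⟦x⟧.index := not_le.1 fun e => hne (eq_of_le_index hle e).symm
    have y1 : y ≠ 1 := fun e => hy (e ▸ one_mem _)
    obtain ⟨n, hn⟩ : ∃ n, ∀ z : G, z ≠ 1 →
        C₁⟦z⟧.index = C₁⟦y⟧.index ∨ C₁⟦z⟧.index = C₁⟦x⟧.index ∨ C₁⟦z⟧.index = n := by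
      by_contra! hn
      obtain ⟨z, z1, a1, a2, -⟩ := hn 0
      obtain ⟨w, w1, b1, b2, b3⟩ := hn C₁⟦z⟧.index
      have := Set.ncard_le_ncard (s := {C₁⟦w⟧.index, C₁⟦z⟧.index, C₁⟦y⟧.index, C₁⟦x⟧.index})
        (t := {n : ℕ | 1 < n ∧ ∃ x : G, C₁⟦x⟧.index = n}) (by
          rintro _ (rfl | rfl | rfl | rfl)
          exacts [⟨hone w w1, w, rfl⟩, ⟨hone z z1, z, rfl⟩, ⟨hone y y1, y, rfl⟩, ⟨(hone y y1).trans h1, x, rfl⟩])
        ((Set.finite_range fun x : G => C₁⟦x⟧.index).subset fun _ hn => hn.2)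
      rw [Set.ncard_insert_of_notMem (by simp [b1, b2, b3]), Set.ncard_insert_of_notMem (by simp [a1, a2]),
        Set.ncard_pair h1.ne] at this
      omega
    exact R3.comm_inv ⟨hZ, hn, hG, index_dvd_of_le hle, h1, hone y y1, ⟨y, rfl⟩, x, rfl⟩ ⟨x, y, hle, rfl, rfl⟩ ht
  obtain ⟨T⟩ : Nonempty (Sylow 2 G) := inferInstance
  have hA : AI G := AI.of_sylow hab (sylowOf_top T) (fun hc => ?_) fun hn => ?_
  · obtain ⟨a, ha, -, e⟩ := hA.galois hZ (sylowOf_top T)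
    exact ⟨a, ha, e⟩
  · have h2 : (Nat.card G).minFac = 2 := by
      rw [Nat.minFac_eq_two_iff]
      by_contra hn
      exact hG (FT.solvable_of_odd (Nat.odd_iff.2 (Nat.two_dvd_ne_zero.1 hn)))
    have := hc.isComplement' h2
    refine hG (sol_top_iff.1 (this.sup_eq_top ▸ sol_sup (FT.solvable_of_odd (Nat.odd_iff.2 (Nat.two_dvd_ne_zero.1 ?_)))
      (sol_of_pgroup T.2) (Or.inr (le_top.trans (NormalIn.of_normal _).norm))))
    rw [← this.index_eq_card]; exact T.not_dvd_index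
  · haveI := normalizer_eq_top_iff.1 hn
    exact hG (sol_of_odd_index_sol (sol_of_pgroup T.2) T.not_dvd_index)

end Cfsg.Agent.H25
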