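import Mathlib
import Cfsg.Prelude.Def_Transfer
import Cfsg.Agent.H3.Frobenius

/-! Counting conjugacy classes of `p`-elements and of `π`-elements. -/

namespace Cfsg.Agent.H25

open scoped Pointwise

universe u

theorem mul_card_le_of_cover {α β : Type*} [DecidableEq β] (K : Set β) (f : α → β) (A T : Finset α)
    (n : ℕ) (hcover : ∀ c ∈ K, (∃ x ∈ A, f x = c) ∨ ∃ x ∈ T, f x = c)
    (hT : ∀ x ∈ T, n ≤ (T.filter fun y => f y = f x).card) :
    n * Nat.card K ≤ n * A.card + T.card := by
  have h1 : K ⊆ ((A.image f ∪ T.image f : Finset β) : Set β) := by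
    intro c hc
    rcases hcover c hc with ⟨x, hx, rfl⟩ | ⟨x, hx, rfl⟩
    · simp only [Finset.coe_union, Finset.coe_image, Set.mem_union]
      exact Or.inl ⟨x, hx, rfl⟩
    · simp only [Finset.coe_union, Finset.coe_image, Set.mem_union]
      exact Or.inr ⟨x, hx, rfl⟩
  have h2 : Nat.card K ≤ (A.image f ∪ T.image f).card := by
    rw [Nat.card_coe_set_eq, ← Set.ncard_coe_finset]
    exact Set.ncard_le_ncard h1 (Finset.finite_toSet _)
  have h3 : n * (T.image f).card ≤ T.card := by
    apply Finset.mul_card_image_le_card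
    intro b hb
    obtain ⟨x, hx, rfl⟩ := Finset.mem_image.mp hb
    exact hT x hx
  have h4 := Finset.card_union_le (A.image f) (T.image f)
  have h5 := Finset.card_image_le (s := A) (f := f)
  calc n * Nat.card K ≤ n * (A.card + (T.image f).card) := Nat.mul_le_mul_left _ (by omega)
    _ ≤ _ := by rw [mul_add]; omega

variable {G : Type u} [Group G]

/-- the classes of `p`-elements -/
abbrev PCl (p : ℕ) (G : Type u) [Group G] : Type u :=
  {c : ConjClasses G // ∀ x ∈ c.carrier, ∃ k : ℕ, orderOf x = p ^ k}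

/-- the classes of `π`-elements -/
abbrev PiCl (π : Finset ℕ) (G : Type u) [Group G] : Type u :=
  {c : ConjClasses G // ∀ x ∈ c.carrier, ∀ r : ℕ, r.Prime → r ∣ orderOf x → r ∈ π}

theorem orderOf_eq_of_isConj {x y : G} (h : IsConj x y) : orderOf x = orderOf y := by
  obtain ⟨g, rfl⟩ := isConj_iff.mp h
  exact (orderOf_injective (MulAut.conj g).toMonoidHom (MulAut.conj g).injective x).symm

theorem orderOf_conj' (g x : G) : orderOf (g * x * g⁻¹) = orderOf x :=
  (orderOf_eq_of_isConj (isConj_iff.mpr ⟨g, rfl⟩)).symm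

theorem forall_mem_carrier_mk_iff {P : ℕ → Prop} {x : G} :
    (∀ y ∈ (ConjClasses.mk x).carrier, P (orderOf y)) ↔ P (orderOf x) := by
  constructor
  · intro h; exact h x (ConjClasses.mem_carrier_mk)
  · intro h y hy
    rw [ConjClasses.mem_carrier_iff_mk_eq, ConjClasses.mk_eq_mk_iff_isConj] at hy
    rwa [orderOf_eq_of_isConj hy]

theorem mk_conj (g x : G) : ConjClasses.mk (g * x * g⁻¹) = ConjClasses.mk x :=
  ConjClasses.mk_eq_mk_iff_isConj.mpr (isConj_iff.mpr ⟨g, rfl⟩).symm

variable [Finite G] {p : ℕ} [hp : Fact p.Prime]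

theorem exists_conj_mem_sylow (P : Sylow p G) {x : G} (hx : ∃ k, orderOf x = p ^ k) :
    ∃ g : G, g * x * g⁻¹ ∈ (P : Subgroup G) := by
  obtain ⟨k, hk⟩ := hx
  have h1 : IsPGroup p (Subgroup.zpowers x) :=
    IsPGroup.of_card (n := k) (by rw [Nat.card_zpowers, hk])
  obtain ⟨Q, hQ⟩ := h1.exists_le_sylow
  obtain ⟨g, hg⟩ := MulAction.exists_smul_eq G Q P
  refine ⟨g, ?_⟩
  rw [← hg, Sylow.coe_subgroup_smul]
  exact H3.conj_mem_conj_smul.mpr (hQ (Subgroup.mem_zpowers x))

theorem exists_orderOf_eq_of_mem_sylow (P : Sylow p G) {x : G} (hx : x ∈ (P : Subgroup G)) :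
    ∃ k, orderOf x = p ^ k := by
  obtain ⟨k, hk⟩ := IsPGroup.iff_orderOf.mp P.2 ⟨x, hx⟩
  exact ⟨k, by rw [← hk, Subgroup.orderOf_mk]⟩

theorem exists_mem_sylow_mk_eq (P : Sylow p G) (c : PCl p G) :
    ∃ x ∈ (P : Subgroup G), ConjClasses.mk x = c.1 := by
  obtain ⟨c, hc⟩ := c
  obtain ⟨x, rfl⟩ := ConjClasses.mk_surjective c
  obtain ⟨g, hg⟩ := exists_conj_mem_sylow P (hc x ConjClasses.mem_carrier_mk)
  exact ⟨_, hg, mk_conj g x⟩

theorem card_pCl_le_card_sylow (P : Sylow p G) : Nat.card (PCl p G) ≤ Nat.card P := by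
  let f : ↥(P : Subgroup G) → PCl p G := fun x => ⟨ConjClasses.mk x.1,
    (forall_mem_carrier_mk_iff (P := fun n => ∃ k, n = p ^ k)).mpr
      (exists_orderOf_eq_of_mem_sylow P x.2)⟩
  refine Nat.card_le_card_of_surjective f fun c => ?_
  obtain ⟨x, hx, h⟩ := exists_mem_sylow_mk_eq P c
  exact ⟨⟨x, hx⟩, Subtype.ext h⟩

/-- Counting classes of `p`-elements: the classes meet `A` or `P \ F`. -/
theorem mul_card_pCl_le (P : Sylow p G) (F : Subgroup G) (hF : F ≤ P) (A : Set G) (n : ℕ)
    (hA : ∀ x ∈ F, (∃ y ∈ A, IsConj x y) ∨ ∃ y ∈ (P : Subgroup G), y ∉ F ∧ IsConj x y)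
    (hT : ∀ x ∈ (P : Subgroup G), x ∉ F →
      n ≤ {y | y ∈ (P : Subgroup G) ∧ y ∉ F ∧ IsConj x y}.ncard) :
    n * Nat.card (PCl p G) + Nat.card F ≤ n * A.ncard + Nat.card P := by
  classical
  have := Fintype.ofFinite G
  have h := mul_card_le_of_cover {c : ConjClasses G | ∀ x ∈ c.carrier, ∃ k : ℕ, orderOf x = p ^ k}
    ConjClasses.mk A.toFinset (Finset.univ.filter fun y => y ∈ (P : Subgroup G) ∧ y ∉ F) n ?_ ?_
  · have h2 : (Finset.univ.filter fun y => y ∈ (P : Subgroup G) ∧ y ∉ F).card + Nat.card F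
        = Nat.card P := by
      have e1 : Nat.card F = (Finset.univ.filter fun y => y ∈ F).card := by
        rw [Nat.card_eq_fintype_card, Fintype.card_subtype]
      have e2 : Nat.card P = (Finset.univ.filter fun y => y ∈ (P : Subgroup G)).card := by
        rw [← Fintype.card_subtype, ← Nat.card_eq_fintype_card]
      rw [e1, e2, ← Finset.card_union_of_disjoint]
      · congr 1
        ext y
        simp only [Finset.mem_union, Finset.mem_filter, Finset.mem_univ, true_and]
        constructor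
        · rintro (h | h)
          · exact h.1
          · exact hF h
        · intro h
          by_cases hy : y ∈ F
          · exact Or.inr hy
          · exact Or.inl ⟨h, hy⟩
      · rw [Finset.disjoint_left]
        intro y h1 h2
        simp only [Finset.mem_filter, Finset.mem_univ, true_and] at h1 h2
        exact h1.2 h2
    rw [Set.ncard_eq_toFinset_card' A]
    change n * Nat.card (PCl p G) ≤ _ at h
    omega
  · intro c hc
    obtain ⟨x, hx, h⟩ := exists_mem_sylow_mk_eq P ⟨c, hc⟩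
    by_cases hxF : x ∈ F
    · rcases hA x hxF with ⟨y, hy, hxy⟩ | ⟨y, hy, hy', hxy⟩
      · exact Or.inl ⟨y, by simpa using hy, by
          rw [← ConjClasses.mk_eq_mk_iff_isConj.mpr hxy]; exact h⟩
      · exact Or.inr ⟨y, by simp [hy'] ; exact hy, by
          rw [← ConjClasses.mk_eq_mk_iff_isConj.mpr hxy]; exact h⟩
    · exact Or.inr ⟨x, by simp [hxF]; exact hx, h⟩
  · intro x hx
    simp only [Finset.mem_filter, Finset.mem_univ, true_and] at hx
    refine (hT x hx.1 hx.2).trans (le_of_eq ?_)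
    rw [Set.ncard_eq_toFinset_card']
    congr 1
    ext y
    simp only [Set.mem_toFinset, Set.mem_ofPred_eq, Finset.mem_filter, Finset.mem_univ, true_and,
      ConjClasses.mk_eq_mk_iff_isConj, and_assoc]
    exact ⟨fun h => ⟨h.1, h.2.1, h.2.2.symm⟩, fun h => ⟨h.1, h.2.1, h.2.2.symm⟩⟩

theorem mul_card_le_of_lt {F P : Subgroup G} (hP : IsPGroup p P) (h : F < P) :
    p * Nat.card F ≤ Nat.card P := by
  obtain ⟨a, ha⟩ := (hP.to_le h.le).exists_card_eq
  obtain ⟨b, hb⟩ := hP.exists_card_eq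
  have hlt : Nat.card F < Nat.card P := by
    refine lt_of_le_of_ne (Subgroup.card_le_of_le h.le) fun e => h.ne ?_
    exact Subgroup.eq_of_le_of_card_ge h.le e.ge
  rw [ha, hb] at hlt ⊢
  have := (Nat.pow_lt_pow_iff_right hp.out.one_lt).mp hlt
  rw [← pow_succ']
  exact Nat.pow_le_pow_right hp.out.pos this

/-- If there are more than `(p+1)/(2p) |P|` classes of `p`-elements, `N(P)` centralizes `P`. -/
theorem normalizer_le_centralizer_of_card_pCl (P : Sylow p G)
    (h : (p + 1) * Nat.card P < 2 * p * Nat.card (PCl p G)) :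
    Subgroup.normalizer ((P : Subgroup G) : Set G) ≤
      Subgroup.centralizer ((P : Subgroup G) : Set G) := by
  set N := Subgroup.normalizer ((P : Subgroup G) : Set G) with hN
  set F := (P : Subgroup G) ⊓ Subgroup.centralizer (N : Set G) with hF
  by_contra hne
  have hlt : F < (P : Subgroup G) := by
    refine lt_of_le_of_ne inf_le_left fun e => hne ?_
    rw [← Subgroup.le_centralizer_iff, ← e]
    exact inf_le_right
  have h1 := mul_card_le_of_lt P.2 hlt
  have h2 := mul_card_pCl_le P F inf_le_left (F : Set G) 2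
    (fun x hx => Or.inl ⟨x, hx, IsConj.refl x⟩) (by
      intro x hx hxF
      have : ∃ n ∈ N, n * x ≠ x * n := by
        by_contra hcon
        push Not at hcon
        exact hxF ⟨hx, Subgroup.mem_centralizer_iff.mpr hcon⟩
      obtain ⟨n, hn, hnx⟩ := this
      have hne' : x ≠ n * x * n⁻¹ := fun e => hnx (by
        conv_rhs => rw [e]
        group)
      rw [← Set.ncard_pair hne']
      refine Set.ncard_le_ncard ?_ (Set.toFinite _)
      rintro y (rfl | rfl)
      · exact ⟨hx, hxF, IsConj.refl _⟩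
      · refine ⟨(Subgroup.mem_normalizer_iff.mp hn x).mp hx, fun hc => hne' ?_,
          isConj_iff.mpr ⟨n, rfl⟩⟩
        have := Subgroup.mem_centralizer_iff.mp hc.2 n hn
        have h3 : n * x = n * x * n⁻¹ * n := by group
        rw [← this] at h3
        exact mul_left_cancel h3)
  have h3 : (F : Set G).ncard = Nat.card F := rfl
  rw [h3] at h2
  have h4 : Nat.card (P : Subgroup G) = Nat.card P := rfl
  rw [h4] at h1
  nlinarith

theorem card_pCl_eq_of_hasNormalPComplement (h : HasNormalPComplement p G) (P : Sylow p G) :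
    Nat.card (PCl p G) = Nat.card (ConjClasses (P : Subgroup G)) := by
  symm
  let f : ConjClasses (P : Subgroup G) → PCl p G := fun c =>
    ⟨ConjClasses.map (P : Subgroup G).subtype c, by
      obtain ⟨x, rfl⟩ := ConjClasses.mk_surjective c
      exact (forall_mem_carrier_mk_iff (P := fun n => ∃ k, n = p ^ k)).mpr
        (exists_orderOf_eq_of_mem_sylow P x.2)⟩
  refine Nat.card_congr (Equiv.ofBijective f ⟨fun c d hcd => ?_, fun c => ?_⟩)
  · obtain ⟨x, rfl⟩ := ConjClasses.mk_surjective c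
    obtain ⟨y, rfl⟩ := ConjClasses.mk_surjective d
    have h1 : ConjClasses.mk (x : G) = ConjClasses.mk (y : G) := congrArg Subtype.val hcd
    obtain ⟨g, hg⟩ := isConj_iff.mp (ConjClasses.mk_eq_mk_iff_isConj.mp h1)
    obtain ⟨z, hz, hz'⟩ := (H3.hasNormalPComplement_iff_fusion P).mp h x x.2 g (hg ▸ y.2)
    refine ConjClasses.mk_eq_mk_iff_isConj.mpr (isConj_iff.mpr ⟨⟨z, hz⟩, Subtype.ext ?_⟩)
    exact hz'.trans hg
  · obtain ⟨x, hx, h⟩ := exists_mem_sylow_mk_eq P c
    exact ⟨ConjClasses.mk ⟨x, hx⟩, Subtype.ext h⟩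

theorem card_pCl_le_card_conjClasses (P : Sylow p G) :
    Nat.card (PCl p G) ≤ Nat.card (ConjClasses (P : Subgroup G)) := by
  let f : ConjClasses (P : Subgroup G) → PCl p G := fun c =>
    ⟨ConjClasses.map (P : Subgroup G).subtype c, by
      obtain ⟨x, rfl⟩ := ConjClasses.mk_surjective c
      exact (forall_mem_carrier_mk_iff (P := fun n => ∃ k, n = p ^ k)).mpr
        (exists_orderOf_eq_of_mem_sylow P x.2)⟩
  refine Nat.card_le_card_of_surjective f fun c => ?_
  obtain ⟨x, hx, h⟩ := exists_mem_sylow_mk_eq P c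
  exact ⟨ConjClasses.mk ⟨x, hx⟩, Subtype.ext h⟩

omit [Finite G] in
theorem card_conjClasses_of_comm (h : IsMulCommutative G) :
    Nat.card (ConjClasses G) = Nat.card G := by
  symm
  refine Nat.card_congr (Equiv.ofBijective ConjClasses.mk ⟨fun x y hxy => ?_,
    ConjClasses.mk_surjective⟩)
  obtain ⟨g, hg⟩ := isConj_iff.mp (ConjClasses.mk_eq_mk_iff_isConj.mp hxy)
  rw [← hg, h.is_comm.comm g x]; group

/-- a chosen representative of a conjugacy class -/
noncomputable def clRep (c : ConjClasses G) : G := (ConjClasses.mk_surjective c).choose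

omit [Finite G] in
theorem mk_clRep (c : ConjClasses G) : ConjClasses.mk (clRep c) = c :=
  (ConjClasses.mk_surjective c).choose_spec

/-- Splitting off the `p`-part of a `π`-element. -/
theorem card_piCl_le_sum (π : Finset ℕ) [Fintype (PCl p G)] :
    Nat.card (PiCl π G) ≤ ∑ c : PCl p G,
      Nat.card (PiCl (π.erase p) (Subgroup.centralizer ({clRep c.1} : Set G))) := by
  classical
  rw [← Nat.card_sigma]
  -- a relation-preserving injection
  have key : ∀ d : PiCl π G, ∃ s : (Σ c : PCl p G,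
      PiCl (π.erase p) (Subgroup.centralizer ({clRep c.1} : Set G))),
      d.1 = ConjClasses.mk (clRep s.1.1 * ((clRep s.2.1 : Subgroup.centralizer ({clRep s.1.1} : Set G)) : G)) := by
    rintro ⟨d, hd⟩
    obtain ⟨g, rfl⟩ := ConjClasses.mk_surjective d
    obtain ⟨a, b, ha, hb, ⟨k, hk⟩, hbp, hab⟩ := H3.exists_p_part p g
    have hg := hd g ConjClasses.mem_carrier_mk
    have hap : ∃ k, orderOf a = p ^ k := by
      obtain ⟨j, -, hj⟩ := (Nat.dvd_prime_pow hp.out).mp (orderOf_dvd_of_pow_eq_one hk)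
      exact ⟨j, hj⟩
    let c : PCl p G := ⟨ConjClasses.mk a,
      (forall_mem_carrier_mk_iff (P := fun n => ∃ k, n = p ^ k)).mpr hap⟩
    obtain ⟨h, hh⟩ := isConj_iff.mp (ConjClasses.mk_eq_mk_iff_isConj.mp (mk_clRep c.1).symm)
    have hcomm : a * b = b * a := by
      obtain ⟨i, rfl⟩ := Subgroup.mem_zpowers_iff.mp ha
      obtain ⟨j, rfl⟩ := Subgroup.mem_zpowers_iff.mp hb
      exact (Commute.zpow_zpow_self g i j).eq
    have hmem : h * b * h⁻¹ ∈ Subgroup.centralizer ({clRep c.1} : Set G) := by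
      rw [Subgroup.mem_centralizer_singleton_iff, ← hh]
      calc h * b * h⁻¹ * (h * a * h⁻¹) = h * (b * a) * h⁻¹ := by group
        _ = h * (a * b) * h⁻¹ := by rw [hcomm]
        _ = _ := by group
    let e : PiCl (π.erase p) (Subgroup.centralizer ({clRep c.1} : Set G)) :=
      ⟨ConjClasses.mk ⟨_, hmem⟩, (forall_mem_carrier_mk_iff
        (P := fun n => ∀ r : ℕ, r.Prime → r ∣ n → r ∈ π.erase p)).mpr (by
          intro r hr hrd
          rw [Subgroup.orderOf_mk, orderOf_conj'] at hrd
          refine Finset.mem_erase.mpr ⟨?_, hg r hr (hrd.trans (orderOf_dvd_of_mem_zpowers hb))⟩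
          rintro rfl
          exact (Nat.Prime.coprime_iff_not_dvd hr).mp hbp.symm hrd)⟩
    refine ⟨⟨c, e⟩, ?_⟩
    obtain ⟨t, ht⟩ := isConj_iff.mp (ConjClasses.mk_eq_mk_iff_isConj.mp (mk_clRep e.1).symm)
    have ht' : ((clRep e.1 : Subgroup.centralizer ({clRep c.1} : Set G)) : G) = t * (h * b * h⁻¹) * (t : G)⁻¹ := by rw [← ht]; rfl
    have htc : (t : G) * clRep c.1 = clRep c.1 * t := Subgroup.mem_centralizer_singleton_iff.mp t.2
    change ConjClasses.mk g = ConjClasses.mk (clRep c.1 *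
      ((clRep e.1 : Subgroup.centralizer ({clRep c.1} : Set G)) : G))
    rw [ht', ← mk_conj ((t : G) * h) g]
    congr 1
    calc (t : G) * h * g * ((t : G) * h)⁻¹ = (t * (h * a * h⁻¹)) * (h * b * h⁻¹) * (t : G)⁻¹ := by
          rw [hab]; group
      _ = _ := by rw [hh, htc]; group
  choose f hf using key
  refine Nat.card_le_card_of_injective f fun d e hde => Subtype.ext ?_
  rw [hf d, hf e, hde]

theorem prod_pow_factorization_le (π : Finset ℕ) (hπ : ∀ r ∈ π, r.Prime) {m n : ℕ} (hn : n ≠ 0)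
    (h : m ∣ n) : ∏ r ∈ π, r ^ m.factorization r ≤ ∏ r ∈ π, r ^ n.factorization r := by
  refine Finset.prod_le_prod' fun r hr => Nat.pow_le_pow_right (hπ r hr).pos ?_
  exact (Nat.factorization_le_iff_dvd (ne_zero_of_dvd_ne_zero hn h) hn).mpr h r

omit hp in
/-- The number of classes of `π`-elements is at most the `π`-part of the order. -/
theorem card_piCl_le (π : Finset ℕ) (hπ : ∀ r ∈ π, r.Prime) (G : Type u) [Group G] [Finite G] :
    Nat.card (PiCl π G) ≤ ∏ r ∈ π, r ^ (Nat.card G).factorization r := by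
  classical
  induction π using Finset.induction_on generalizing G with
  | empty =>
    rw [Finset.prod_empty]
    refine Finite.card_le_one_iff_subsingleton.mpr ⟨fun c d => Subtype.ext ?_⟩
    have : ∀ c : PiCl ∅ G, c.1 = ConjClasses.mk 1 := by
      rintro ⟨c, hc⟩
      obtain ⟨x, rfl⟩ := ConjClasses.mk_surjective c
      have h1 : orderOf x = 1 := by
        by_contra h
        obtain ⟨r, hr, hrd⟩ := Nat.exists_prime_and_dvd h
        exact absurd (hc x ConjClasses.mem_carrier_mk r hr hrd) (Finset.notMem_empty r)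
      rw [orderOf_eq_one_iff] at h1
      simp [h1]
    rw [this c, this d]
  | insert r π hr ih =>
    have : Fact r.Prime := ⟨hπ r (Finset.mem_insert_self _ _)⟩
    have := Fintype.ofFinite (PCl r G)
    have hπ' : ∀ s ∈ π, s.Prime := fun s hs => hπ s (Finset.mem_insert_of_mem hs)
    refine (card_piCl_le_sum (p := r) _).trans ?_
    rw [Finset.erase_insert hr, Finset.prod_insert hr]
    refine (Finset.sum_le_card_nsmul _ _ (∏ s ∈ π, s ^ (Nat.card G).factorization s)
      fun c _ => (ih hπ' _).trans (prod_pow_factorization_le π hπ' Nat.card_pos.ne'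
        (Subgroup.card_subgroup_dvd_card _))).trans ?_
    rw [smul_eq_mul, Finset.card_univ, ← Nat.card_eq_fintype_card]
    refine Nat.mul_le_mul_right _ ?_
    have P : Sylow r G := default
    rw [← P.card_eq_multiplicity]
    exact card_pCl_le_card_sylow P

theorem card_piCl_le_mul (π : Finset ℕ) (hπ : ∀ r ∈ π, r.Prime) :
    Nat.card (PiCl π G) ≤
      Nat.card (PCl p G) * ∏ r ∈ π.erase p, r ^ (Nat.card G).factorization r := by
  classical
  have := Fintype.ofFinite (PCl p G)
  have hπ' : ∀ s ∈ π.erase p, s.Prime := fun s hs => hπ s (Finset.mem_of_mem_erase hs)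
  refine (card_piCl_le_sum (p := p) _).trans ?_
  refine (Finset.sum_le_card_nsmul _ _ (∏ s ∈ π.erase p, s ^ (Nat.card G).factorization s)
      fun c _ => (card_piCl_le _ hπ' _).trans (prod_pow_factorization_le _ hπ' Nat.card_pos.ne'
        (Subgroup.card_subgroup_dvd_card _))).trans ?_
  rw [smul_eq_mul, Finset.card_univ, ← Nat.card_eq_fintype_card]

end Cfsg.Agent.H25
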