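import Mathlib
import Cfsg.Agent.H25.ClassCount
import Cfsg.Agent.H3.Fusion
import Cfsg.Agent.H1.Basic

/-! Groups with many classes of `2`-elements are `2`-nilpotent. -/

namespace Cfsg.Agent.H25

open scoped Pointwise

universe u
variable {G : Type u} [Group G] [Finite G] {p : ℕ} [hp : Fact p.Prime]

theorem card_pCl_le_of_sylow_le (P : Sylow p G) {V : Subgroup G} (hV : (P : Subgroup G) ≤ V) :
    Nat.card (PCl p G) ≤ Nat.card (PCl p V) := by
  let f : PCl p V → PCl p G := fun c =>
    ⟨ConjClasses.map V.subtype c.1, by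
      obtain ⟨c, hc⟩ := c
      obtain ⟨x, rfl⟩ := ConjClasses.mk_surjective c
      refine (forall_mem_carrier_mk_iff (P := fun n => ∃ k, n = p ^ k)).mpr ?_
      obtain ⟨k, hk⟩ := hc x ConjClasses.mem_carrier_mk
      exact ⟨k, by rw [← hk]; exact Subgroup.orderOf_coe x⟩⟩
  refine Nat.card_le_card_of_surjective f fun c => ?_
  obtain ⟨x, hx, h⟩ := exists_mem_sylow_mk_eq P c
  refine ⟨⟨ConjClasses.mk ⟨x, hV hx⟩,
    (forall_mem_carrier_mk_iff (P := fun n => ∃ k, n = p ^ k)).mpr ?_⟩, Subtype.ext h⟩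
  rw [Subgroup.orderOf_mk]
  exact exists_orderOf_eq_of_mem_sylow P hx

theorem card_pCl_le_mul_quotient (N : Subgroup G) [N.Normal] :
    Nat.card (PCl p G) ≤ Nat.card N * Nat.card (PCl p (G ⧸ N)) := by
  rw [← Nat.card_prod]
  have key : ∀ d : PCl p G, ∃ s : N × PCl p (G ⧸ N),
      d.1 = ConjClasses.mk ((clRep s.2.1).out * (s.1 : G)) := by
    rintro ⟨d, hd⟩
    obtain ⟨g, rfl⟩ := ConjClasses.mk_surjective d
    obtain ⟨k, hk⟩ := hd g ConjClasses.mem_carrier_mk
    let c : PCl p (G ⧸ N) := ⟨ConjClasses.mk (g : G ⧸ N),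
      (forall_mem_carrier_mk_iff (P := fun n => ∃ k, n = p ^ k)).mpr (by
        have : orderOf (g : G ⧸ N) ∣ p ^ k := hk ▸ orderOf_map_dvd (QuotientGroup.mk' N) g
        obtain ⟨j, -, hj⟩ := (Nat.dvd_prime_pow hp.out).mp this
        exact ⟨j, hj⟩)⟩
    obtain ⟨h, hh⟩ := isConj_iff.mp (ConjClasses.mk_eq_mk_iff_isConj.mp (mk_clRep c.1).symm)
    obtain ⟨h, rfl⟩ := QuotientGroup.mk_surjective h
    have hmem : ((clRep c.1).out)⁻¹ * (h * g * h⁻¹) ∈ N := by
      rw [← QuotientGroup.eq, QuotientGroup.out_eq', ← hh]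
      simp
    refine ⟨(⟨_, hmem⟩, c), ?_⟩
    change ConjClasses.mk g = ConjClasses.mk ((clRep c.1).out * (((clRep c.1).out)⁻¹ * (h * g * h⁻¹)))
    rw [mul_inv_cancel_left, mk_conj]
  choose f hf using key
  refine Nat.card_le_card_of_injective f fun d e hde => Subtype.ext ?_
  rw [hf d, hf e, hde]

omit [Finite G] hp in
theorem conj_pow_eq_of_sq {g x : G} (ho : Odd (orderOf g)) (h : g ^ 2 * x = x * g ^ 2) :
    g * x = x * g := by
  obtain ⟨k, hk⟩ := ho
  have h1 : g = (g ^ 2) ^ (k + 1) := by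
    rw [← pow_mul, show 2 * (k + 1) = orderOf g + 1 by omega, pow_succ, pow_orderOf_eq_one, one_mul]
  rw [h1]
  exact ((Commute.pow_left (show Commute (g ^ 2) x from h)) (k + 1)).eq

omit hp in
/-- An element of order prime to `|P|` normalizing `P` and centralizing a subgroup of index
at most two centralizes `P`. -/
theorem mem_centralizer_of_card_le_two_mul {P : Subgroup G} {g : G}
    (hg : g ∈ Subgroup.normalizer (P : Set G)) (hc : (orderOf g).Coprime (Nat.card P))
    (h : Nat.card P ≤ 2 * Nat.card (P ⊓ Subgroup.centralizer {g} : Subgroup G)) :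
    g ∈ Subgroup.centralizer (P : Set G) := by
  set F := P ⊓ Subgroup.centralizer {g} with hF
  rw [Subgroup.mem_centralizer_iff]
  intro x hx
  by_contra hxg
  have hFP : F ≤ P := inf_le_left
  have hxF : x ∉ F := fun h => hxg (Subgroup.mem_centralizer_singleton_iff.mp h.2)
  have hi : F.relIndex P = 2 := by
    have h1 := H1.card_mul_relIndex hFP
    have h2 : F.relIndex P ≠ 1 := by
      rw [Ne, Subgroup.relIndex_eq_one]
      exact fun h => hxF (h hx)
    have h3 : 0 < Nat.card F := Nat.card_pos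
    have h4 : 0 < Nat.card P := Nat.card_pos
    have h5 : F.relIndex P ≠ 0 := by rintro h0; rw [h0] at h1; omega
    have h6 : F.relIndex P ≤ 2 := by
      rw [← h1, mul_comm] at h
      exact Nat.le_of_mul_le_mul_right h h3
    omega
  have hy : g * x * g⁻¹ ∈ P := (Subgroup.mem_normalizer_iff.mp hg x).mp hx
  have hyF : g * x * g⁻¹ ∉ F := by
    intro h
    have h1 := Subgroup.mem_centralizer_singleton_iff.mp h.2
    apply hxg
    have : g * x * g⁻¹ * g = g * (g * x * g⁻¹) := h1
    have h2 : x = g * x * g⁻¹ := by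
      apply mul_left_cancel (a := g)
      rw [← this]; group
    conv_lhs => rw [h2]
    group
  have hf : x⁻¹ * (g * x * g⁻¹) ∈ F := by
    have := (Subgroup.mul_mem_iff_of_index_two (H := F.subgroupOf P) hi
      (a := ⟨x, hx⟩⁻¹) (b := ⟨_, hy⟩)).mpr (by
        simp only [inv_mem_iff, Subgroup.mem_subgroupOf]
        exact iff_of_false hxF hyF)
    exact this
  set f := x⁻¹ * (g * x * g⁻¹) with hf'
  have hfg : f * g = g * f := Subgroup.mem_centralizer_singleton_iff.mp hf.2
  have hn : ∀ n : ℕ, g ^ n * x = x * f ^ n * g ^ n := by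
    intro n
    induction n with
    | zero => simp
    | succ n ih =>
      have e1 : g * x = x * f * g := by rw [hf']; group
      have e2 : g * f ^ n = f ^ n * g := ((Commute.pow_left (show Commute f g from hfg)) n).eq.symm
      calc g ^ (n + 1) * x = g * (g ^ n * x) := by rw [pow_succ']; group
        _ = (g * x) * f ^ n * g ^ n := by rw [ih]; group
        _ = x * f * (g * f ^ n) * g ^ n := by rw [e1]; group
        _ = _ := by rw [e2, pow_succ' f, pow_succ' g]; group
  have h1 := hn (orderOf g)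
  rw [pow_orderOf_eq_one, one_mul, mul_one] at h1
  have h2 : f ^ orderOf g = 1 := by simpa using h1.symm
  have h3 : orderOf f ∣ Nat.card P := Subgroup.orderOf_dvd_natCard _ (hFP hf)
  have h4 : orderOf f = 1 :=
    Nat.eq_one_of_dvd_coprimes hc (orderOf_dvd_of_pow_eq_one h2) h3
  rw [orderOf_eq_one_iff] at h4
  apply hxg
  have : g * x * g⁻¹ = x := by
    rw [hf', inv_mul_eq_one] at h4; exact h4.symm
  conv_lhs => rw [← this]
  group

omit hp in
theorem three_le_ncard_conj {P : Subgroup G} {g x : G}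
    (hg : g ∈ Subgroup.normalizer (P : Set G)) (ho : Odd (orderOf g)) (hx : x ∈ P)
    {F : Subgroup G} (hF : ∀ y, g * y * g⁻¹ ∈ F → y ∈ F) (hxF : x ∉ F) (hxg : g * x ≠ x * g) :
    3 ≤ {y | y ∈ P ∧ y ∉ F ∧ IsConj x y}.ncard := by
  have hP : ∀ y ∈ P, g * y * g⁻¹ ∈ P := fun y hy => (Subgroup.mem_normalizer_iff.mp hg y).mp hy
  have h1 : x ≠ g * x * g⁻¹ := fun e => hxg (by
    conv_rhs => rw [e]
    group)
  have h2 : x ≠ g * (g * x * g⁻¹) * g⁻¹ := fun e => hxg (conj_pow_eq_of_sq ho (by
    conv_rhs => rw [e]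
    simp only [pow_two]; group))
  have h3 : g * x * g⁻¹ ≠ g * (g * x * g⁻¹) * g⁻¹ := fun e => h1 (by simpa using e)
  have h4 : ({x, g * x * g⁻¹, g * (g * x * g⁻¹) * g⁻¹} : Set G).ncard = 3 :=
    Set.ncard_eq_three.mpr ⟨_, _, _, h1, h2, h3, rfl⟩
  rw [← h4]
  refine Set.ncard_le_ncard ?_ (Set.toFinite _)
  rintro y (rfl | rfl | rfl)
  · exact ⟨hx, hxF, IsConj.refl _⟩
  · exact ⟨hP _ hx, fun h => hxF (hF _ h), isConj_iff.mpr ⟨g, rfl⟩⟩
  · exact ⟨hP _ (hP _ hx), fun h => hxF (hF _ (hF _ h)), isConj_iff.mpr ⟨g * g, by group⟩⟩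

omit hp in
theorem mem_centralizer_of_card_pCl_two (P : Sylow 2 G)
    (h : Nat.card (P : Subgroup G) < 2 * Nat.card (PCl 2 G)) {g : G}
    (hg : g ∈ Subgroup.normalizer ((P : Subgroup G) : Set G)) (ho : Odd (orderOf g)) :
    g ∈ Subgroup.centralizer ((P : Subgroup G) : Set G) := by
  set F := (P : Subgroup G) ⊓ Subgroup.centralizer {g} with hF
  obtain ⟨b, hb⟩ := P.2.exists_card_eq
  refine mem_centralizer_of_card_le_two_mul hg ?_ ?_
  · rw [hb]; exact (Nat.Coprime.pow_right _ (Nat.coprime_two_right.mpr ho))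
  by_contra hlt
  push Not at hlt
  obtain ⟨a, ha⟩ := (P.2.to_le (inf_le_left : F ≤ _)).exists_card_eq
  have h4 : 4 * Nat.card F ≤ Nat.card (P : Subgroup G) := by
    rw [← hF, ha, hb, ← pow_succ'] at hlt
    have := (Nat.pow_lt_pow_iff_right one_lt_two).mp hlt
    rw [ha, hb, show 4 * 2 ^ a = 2 ^ (a + 2) by ring]
    exact Nat.pow_le_pow_right two_pos this
  have h2 := mul_card_pCl_le P F inf_le_left (F : Set G) 3
    (fun x hx => Or.inl ⟨x, hx, IsConj.refl x⟩) (by
      intro x hx hxF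
      refine three_le_ncard_conj hg ho hx (fun y hy => ⟨?_, ?_⟩) hxF fun e => hxF ⟨hx, ?_⟩
      · exact (Subgroup.mem_normalizer_iff.mp hg y).mpr hy.1
      · have h1 : g * y * g⁻¹ * g = g * (g * y * g⁻¹) :=
          Subgroup.mem_centralizer_singleton_iff.mp hy.2
        refine Subgroup.mem_centralizer_singleton_iff.mpr ?_
        have h2 : y = g * y * g⁻¹ := by
          apply mul_left_cancel (a := g)
          rw [← h1]; group
        conv_lhs => rw [h2]
        group
      · exact Subgroup.mem_centralizer_singleton_iff.mpr e.symm)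
  have h3 : (F : Set G).ncard = Nat.card F := rfl
  have h5 : Nat.card (P : Subgroup G) = Nat.card P := rfl
  omega

theorem mem_sylow_of_mem_normalizer (P : Sylow p G) {a : G}
    (ha : a ∈ Subgroup.normalizer ((P : Subgroup G) : Set G)) (hk : ∃ k, a ^ p ^ k = 1) :
    a ∈ (P : Subgroup G) := by
  obtain ⟨k, hk⟩ := hk
  have h1 : IsPGroup p (Subgroup.zpowers a) := by
    obtain ⟨j, -, hj⟩ := (Nat.dvd_prime_pow hp.out).mp (orderOf_dvd_of_pow_eq_one hk)
    exact IsPGroup.of_card (n := j) (by rw [Nat.card_zpowers, hj])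
  have h2 := h1.inf_normalizer_sylow P
  have h3 : a ∈ Subgroup.zpowers a ⊓ Subgroup.normalizer ((P : Subgroup G) : Set G) :=
    ⟨Subgroup.mem_zpowers a, ha⟩
  exact (h2.le h3).2

omit hp in
theorem hasNormalPComplement_two_of_card_pCl_aux (n : ℕ) :
    ∀ (G : Type u) [Group G] [Finite G], Nat.card G = n → ∀ P : Sylow 2 G,
      Nat.card (P : Subgroup G) < 2 * Nat.card (PCl 2 G) → HasNormalPComplement 2 G := by
  induction n using Nat.strong_induction_on with
  | _ n ih =>
  intro G _ _ hn P h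
  set Z := (P : Subgroup G) ⊓ Subgroup.centralizer ((P : Subgroup G) : Set G) with hZ
  -- `N(P)` centralizes `Z(P)`
  have hNZ : ∀ m ∈ Subgroup.normalizer ((P : Subgroup G) : Set G), ∀ w ∈ Z, m * w * m⁻¹ = w := by
    intro m hm w hw
    obtain ⟨a, b, ha, hb, hk, hbo, rfl⟩ := H3.exists_p_part 2 m
    have ha' := mem_sylow_of_mem_normalizer P ((Subgroup.zpowers_le.mpr hm) ha) hk
    have hb' := mem_centralizer_of_card_pCl_two P h ((Subgroup.zpowers_le.mpr hm) hb)
      (Nat.coprime_two_right.mp hbo)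
    have e1 : w * b = b * w := Subgroup.mem_centralizer_iff.mp hb' w hw.1
    have e2 : a * w = w * a := Subgroup.mem_centralizer_iff.mp hw.2 a ha'
    calc a * b * w * (a * b)⁻¹ = a * (b * w) * b⁻¹ * a⁻¹ := by group
      _ = (a * w) * a⁻¹ := by rw [← e1]; group
      _ = w := by rw [e2]; group
  have hZZ : ∀ w ∈ Z, ∀ g : G, g * w * g⁻¹ ∈ Z → g * w * g⁻¹ = w := by
    intro w hw g hg
    obtain ⟨m, hm, e⟩ := H3.exists_normalizer_conj_of_centralizer P hw.2 hg.2
    rw [← e, hNZ m hm w hw]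
  by_cases hiso : ∃ w ∈ Z, w ≠ 1 ∧ ∀ g : G, g * w * g⁻¹ ∈ (P : Subgroup G) → g * w * g⁻¹ = w
  · obtain ⟨w, hw, hw1, hwiso⟩ := hiso
    have hWP : Subgroup.zpowers w ≤ P := Subgroup.zpowers_le.mpr hw.1
    have hW : IsWeaklyClosed (Subgroup.zpowers w) (P : Subgroup G) := by
      refine ⟨hWP, fun g hg => ?_⟩
      rw [MonoidHom.map_zpowers] at hg ⊢
      have := hwiso g (Subgroup.zpowers_le.mp hg)
      exact congrArg Subgroup.zpowers this
    set V := Subgroup.normalizer ((Subgroup.zpowers w : Subgroup G) : Set G) with hV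
    have hPV : (P : Subgroup G) ≤ V := by
      intro x hx
      refine H3.mem_normalizer_of_conj_mem fun y hy => ?_
      have : x * y = y * x := Subgroup.mem_centralizer_iff.mp
        ((Subgroup.zpowers_le.mpr hw.2) hy) x hx
      rwa [this, mul_inv_cancel_right]
    by_cases hVt : V = ⊤
    · have hn' : (Subgroup.zpowers w).Normal := Subgroup.normalizer_eq_top_iff.mp hVt
      have hc : Subgroup.zpowers w ≤ Subgroup.center G := by
        rw [Subgroup.zpowers_le, Subgroup.mem_center_iff]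
        intro g
        have := hwiso g (hWP (hn'.conj_mem _ (Subgroup.mem_zpowers w) g))
        conv_rhs => rw [← this]
        group
      refine H3.hasNormalPComplement_of_quotient_of_le_center _ hc ?_
      have hne : Subgroup.zpowers w ≠ ⊥ := by simpa using hw1
      refine ih _ (hn ▸ H1.card_quotient_lt hne) _ rfl
        (P.mapSurjective (QuotientGroup.mk'_surjective (Subgroup.zpowers w))) ?_
      have h1 := H1.card_map_mul_card_ker_inf (QuotientGroup.mk' (Subgroup.zpowers w))
        (P : Subgroup G)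
      rw [QuotientGroup.ker_mk', inf_eq_left.mpr hWP] at h1
      have h2 := card_pCl_le_mul_quotient (p := 2) (Subgroup.zpowers w)
      rw [Sylow.coe_mapSurjective]
      refine Nat.lt_of_mul_lt_mul_right (a := Nat.card (Subgroup.zpowers w)) ?_
      rw [h1]
      nlinarith
    · refine H3.hasNormalPComplement_of_fusion_control P hPV (fun x hx g hg => ?_) ?_
      · obtain ⟨m, hm, hm'⟩ := H3.exists_normalizer_conj_of_weaklyClosed P
          (Subgroup.zpowers_le.mpr hw.2) hW g
        exact ⟨m, hm, hm' x hx hg⟩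
      · refine ih _ (hn ▸ H1.card_lt_of_ne_top hVt) _ rfl (P.subtype hPV) ?_
        rw [Sylow.coe_subtype, H1.card_subgroupOf_of_le hPV]
        have := card_pCl_le_of_sylow_le P hPV
        omega
  · push Not at hiso
    by_cases hP1 : (P : Subgroup G) = ⊥
    · refine H3.hasNormalPComplement_of_not_dvd fun hd => P.ne_bot_of_dvd_card hd hP1
    exfalso
    have hZ2 : 2 ≤ Nat.card Z := by
      have : Nontrivial (P : Subgroup G) := (Subgroup.nontrivial_iff_ne_bot _).mpr hP1
      have hc := P.2.center_nontrivial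
      obtain ⟨⟨z, hz⟩, hz1⟩ := exists_ne (1 : Subgroup.center (P : Subgroup G))
      have hzZ : (z : G) ∈ Z := ⟨z.2, Subgroup.mem_centralizer_iff.mpr fun y hy =>
        congrArg Subtype.val (Subgroup.mem_center_iff.mp hz ⟨y, hy⟩)⟩
      have : Nontrivial Z := ⟨⟨⟨z, hzZ⟩, 1, fun e => hz1 (by
        have := congrArg Subtype.val e
        exact Subtype.ext (Subtype.ext this))⟩⟩
      exact Finite.one_lt_card
    have h2 := mul_card_pCl_le P Z inf_le_left {1} 2 (by
      intro x hx
      by_cases hx1 : x = 1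
      · exact Or.inl ⟨1, rfl, hx1 ▸ IsConj.refl _⟩
      · obtain ⟨g, hg, hne⟩ := hiso x hx hx1
        exact Or.inr ⟨_, hg, fun h => hne (hZZ x hx g h), isConj_iff.mpr ⟨g, rfl⟩⟩) (by
      intro x hx hxZ
      have : ∃ y ∈ (P : Subgroup G), y * x ≠ x * y := by
        by_contra hcon
        push Not at hcon
        exact hxZ ⟨hx, Subgroup.mem_centralizer_iff.mpr hcon⟩
      obtain ⟨y, hy, hyx⟩ := this
      have hne' : x ≠ y * x * y⁻¹ := fun e => hyx (by
        conv_rhs => rw [e]
        group)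
      refine (Set.ncard_pair hne').ge.trans (Set.ncard_le_ncard ?_ (Set.toFinite _))
      rintro z (rfl | rfl)
      · exact ⟨hx, hxZ, IsConj.refl _⟩
      · refine ⟨(P : Subgroup G).mul_mem ((P : Subgroup G).mul_mem hy hx)
          ((P : Subgroup G).inv_mem hy), fun hc => hne' ?_, isConj_iff.mpr ⟨y, rfl⟩⟩
        have := Subgroup.mem_centralizer_iff.mp hc.2 y hy
        have h3 : y * x = y * x * y⁻¹ * y := by group
        rw [← this] at h3
        exact mul_left_cancel h3)
    rw [Set.ncard_singleton] at h2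
    have h5 : Nat.card (P : Subgroup G) = Nat.card P := rfl
    omega

omit hp in
theorem hasNormalPComplement_two_of_card_pCl (P : Sylow 2 G)
    (h : Nat.card (P : Subgroup G) < 2 * Nat.card (PCl 2 G)) : HasNormalPComplement 2 G :=
  hasNormalPComplement_two_of_card_pCl_aux _ G rfl P h

end Cfsg.Agent.H25
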