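import Cfsg.Agent.BG.S03a
import Cfsg.Agent.H26.Frob2
import Cfsg.Agent.H26.Frob
import Cfsg.Agent.H25.EqConj

/-! Prime graphs of solvable groups: Frobenius and 2-Frobenius groups. -/

set_option autoImplicit false

namespace Cfsg.Agent.H25

open Subgroup Cfsg.Agent.H20 Cfsg.Agent.H21 Cfsg.Agent.BG

variable {G : Type*} [Group G] [Finite G] {π : Set ℕ} {p q : ℕ}

theorem frob_of_isFrobeniusComplement {K C : Subgroup G} (hC : IsFrobeniusComplement C)
    (hK : frobeniusKernel C = (K : Set G)) : Frob ⊤ K C := by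
  obtain ⟨K', h1, h2, h3, h4, h5, -⟩ := H26.exists_frobeniusKernel hC
  have : K' = K := SetLike.coe_injective (h1.trans hK)
  subst this
  exact ⟨⟨Compl.iff_isComplement'.mpr h3, (NormalIn.of_normal K').2⟩, h4, hC.1, h5⟩

theorem isFrobeniusComplement_of_frob {K C : Subgroup G} (h : Frob ⊤ K C) :
    IsFrobeniusComplement C ∧ frobeniusKernel C = (K : Set G) := by
  haveI := h.normalIn.normal
  have h1 := Compl.iff_isComplement'.mp h.compl
  have h2 := H1.isFrobeniusComplement_of_fpf h1 h.ker_ne h.compl_ne h.reg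
  exact ⟨h2, H26.frobeniusKernel_eq_of_isComplement' h2 h1⟩

omit [Finite G] in
theorem frob_subgroupOf {M K C : Subgroup G} (h : Frob M K C) : Frob ⊤ (K.subgroupOf M) (C.subgroupOf M) := by
  refine ⟨⟨Compl.iff_isComplement'.mpr (Compl.isComplement'_subgroupOf h.compl), ?_⟩, ?_, ?_, ?_⟩
  · haveI := h.normalIn.subgroupOf_normal
    exact (NormalIn.of_normal _).2
  · rw [Ne, subgroupOf_eq_bot, disjoint_iff, inf_eq_left.mpr h.ker_le]; exact h.ker_ne
  · rw [Ne, subgroupOf_eq_bot, disjoint_iff, inf_eq_left.mpr h.compl_le]; exact h.compl_ne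
  · exact semiregular_iff.mpr fun x hx h1 y hy hc => h.reg.subgroupOf_hreg M x hx h1 y hy hc.symm

omit [Finite G] in
theorem frob_map_subtype {M : Subgroup G} {K C : Subgroup M} (h : Frob ⊤ K C) :
    Frob M (K.map M.subtype) (C.map M.subtype) := by
  have := h.map M.subtype_injective
  rwa [map_top_subtype] at this

omit [Finite G] in
theorem orderOf_mul_primes (hp : p.Prime) (hq : q.Prime) (hne : p ≠ q) {x y : G} (hx : orderOf x = p)
    (hy : orderOf y = q) (hc : x * y = y * x) : orderOf (x * y) = p * q := by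
  rw [← hx, ← hy]
  exact Commute.orderOf_mul_eq_mul_orderOf_of_coprime hc (by rw [hx, hy]; exact (Nat.coprime_primes hp hq).mpr hne)

theorem exists_comm_of_dvd_orderOf {g : G} (hp : p ∣ orderOf g) (hq : q ∣ orderOf g) :
    ∃ x ∈ zpowers g, ∃ y ∈ zpowers g, orderOf x = p ∧ orderOf y = q ∧ x * y = y * x := by
  obtain ⟨x, hx, h1⟩ := exists_orderOf_eq_pow_of_dvd hp
  obtain ⟨y, hy, h2⟩ := exists_orderOf_eq_pow_of_dvd hq
  exact ⟨x, hx, y, hy, h1, h2, comm_iff.mp inferInstance x hx y hy⟩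

theorem exists_comm_of_nil {H : Subgroup G} (hH : Group.IsNilpotent H) (hp : p.Prime) (hq : q.Prime)
    (hne : p ≠ q) (h1 : p ∣ ♯H) (h2 : q ∣ ♯H) :
    ∃ x ∈ H, ∃ y ∈ H, orderOf x = p ∧ orderOf y = q ∧ x * y = y * x := by
  obtain ⟨x, hx, h3⟩ := exists_prime_order_mem hp h1
  obtain ⟨y, hy, h4⟩ := exists_prime_order_mem hq h2
  refine ⟨x, hx, y, hy, h3, h4, ?_⟩
  exact le_cent_iff.mp (cent_of_nil_coprime hH (zpowers_le.mpr hx) (zpowers_le.mpr hy)
    (by rw [Nat.card_zpowers, Nat.card_zpowers, h3, h4]; exact (Nat.coprime_primes hp hq).mpr hne))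
    x (mem_zpowers x) y (mem_zpowers y)

/-- no element of prime order in `π` commutes with an element of prime order outside `π` -/
def NoEdge (π : Set ℕ) (G : Type*) [Group G] : Prop :=
  ∀ x y : G, (orderOf x).Prime → (orderOf y).Prime → orderOf x ∈ π → orderOf y ∉ π → x * y ≠ y * x

omit [Finite G] in
theorem NoEdge.compl (h : NoEdge π G) : NoEdge πᶜ G := fun x y h1 h2 h3 h4 hc =>
  h y x h2 h1 (not_not.mp h4) h3 hc.symm

theorem NoEdge.of_surjective (h : NoEdge π G) {G' : Type*} [Group G'] (f : G →* G')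
    (hf : Function.Surjective f) : NoEdge π G' := by
  intro x y h1 h2 h3 h4 hc
  obtain ⟨g, hg⟩ := hf (x * y)
  have ho := orderOf_mul_primes h1 h2 (fun e => h4 (e ▸ h3)) rfl rfl hc
  have hd : orderOf x * orderOf y ∣ orderOf g := ho ▸ hg ▸ orderOf_map_dvd f g
  obtain ⟨a, -, b, -, e1, e2, e3⟩ := exists_comm_of_dvd_orderOf (Dvd.dvd.trans (Dvd.intro _ rfl) hd)
    (Dvd.dvd.trans (Dvd.intro_left _ rfl) hd)
  exact h a b (e1 ▸ h1) (e2 ▸ h2) (e1 ▸ h3) (e2 ▸ h4) e3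

theorem NoEdge.semiregular (h : NoEdge π G) {K R : Subgroup G} (hK : IsPi π K) (hR : IsPi πᶜ R) :
    Semiregular K R := by
  apply semiregular_of_prime_subgroups
  intro X hX hp
  by_contra hne
  obtain ⟨Y, hY, hq⟩ := exists_prime_subgroup_of_ne_bot hne
  obtain ⟨x, hx, e1⟩ := exists_prime_order_mem hp (dvd_refl ♯X)
  obtain ⟨y, hy, e2⟩ := exists_prime_order_mem hq (dvd_refl ♯Y)
  exact h y x (e2 ▸ hq) (e1 ▸ hp) (hK _ (e2 ▸ hq) (orderOf_dvd_card_of_mem (hY hy).1))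
    (hR _ (e1 ▸ hp) (orderOf_dvd_card_of_mem (hX hx))) (mem_cent.mp (hY hy).2 x hx).symm

theorem NoEdge.isPi_or (h : NoEdge π G) {H : Subgroup G} (hH : Group.IsNilpotent H) :
    IsPi π H ∨ IsPi πᶜ H := by
  by_contra hh
  push Not at hh
  obtain ⟨h1, h2⟩ := hh
  simp only [IsPi, not_forall] at h1 h2
  obtain ⟨q, hq, hqd, hqπ⟩ := h1
  obtain ⟨p, hp, hpd, hpπ⟩ := h2
  have hpπ' : p ∈ π := not_not.mp hpπ
  obtain ⟨x, -, y, -, e1, e2, e3⟩ := exists_comm_of_nil hH hp hq (fun e => hqπ (e ▸ hpπ')) hpd hqd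
  exact h x y (e1 ▸ hp) (e2 ▸ hq) (e1 ▸ hpπ') (e2 ▸ hqπ) e3

/-- A group that is both a Frobenius complement and a Frobenius kernel is cyclic of odd order. -/
theorem cyclic_of_frob_frob {K H R : Subgroup G} (h : Frob K H R) {G' : Type*} [Group G'] [Finite G']
    (f : G →* G') (hf : ∀ x ∈ R, f x = 1 → x = 1) {C : Subgroup G'} (hC : C ≠ ⊥) (hn : C ≤ N⟦R.map f⟧)
    (hr : Semiregular (R.map f) C) : Odd ♯R ∧ IsCyclic R := by
  have hinj : Function.Injective (f.comp R.subtype) := (injective_iff_map_eq_one _).mpr fun x hx =>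
    Subtype.ext (hf x x.2 hx)
  have hrange : (f.comp R.subtype).range = R.map f := by rw [MonoidHom.range_comp, range_subtype]
  have e : R ≃* R.map f := (MonoidHom.ofInjective hinj).trans (MulEquiv.subgroupCongr hrange)
  have ho : ∀ x ∈ R, orderOf (f x) = orderOf x := fun x hx => by
    have := orderOf_injective _ hinj ⟨x, hx⟩
    rwa [Subgroup.orderOf_mk] at this
  have hodd : Odd ♯R := by
    by_contra hev
    obtain ⟨s, hs, hso⟩ := exists_prime_order_mem Nat.prime_two (Nat.not_odd_iff_even.mp hev).two_dvd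
    obtain ⟨c, hc, hc1⟩ := exists_ne_one hC
    obtain ⟨t, ht, e2⟩ := conj_mem_of_norm (hn hc) (mem_map_of_mem f hs)
    have hto : orderOf t = 2 := by
      have e3 := (MulAut.conj c).orderOf_eq (f s)
      rw [MulAut.conj_apply] at e3
      rw [← ho t ht, e2, e3, ho s hs, hso]
    have := H1.involution_unique_of_fpf h.ker_ne h.norm h.reg hs ht hso hto
    subst this
    have h2 := hr.eq_one hc hc1 (mem_map_of_mem f hs) (by nth_rw 1 [e2]; group)
    rw [hf t ht h2, orderOf_one] at hso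
    exact absurd hso (by decide)
  have hnil : Group.IsNilpotent R := by
    haveI := regular_kernel_nil hn hC hr
    exact nilpotent_of_mulEquiv e.symm
  exact ⟨hodd, nil_Zgroup_cyclic (odd_regular_Zgroup hodd h.ker_ne h.norm h.reg) hnil⟩

theorem coreMod_ne_of_sol (hs : Group.IsSolvable G) {H : Subgroup G} (hH : H = piCoreOf π ⊤) (hne : H ≠ ⊤) :
    coreMod πᶜ H ⊤ ≠ H := by
  have hn : H ⊴ ⊤ := hH ▸ piCoreOf_normalIn π ⊤
  haveI := hn.normal
  intro e
  have hk : (QuotientGroup.mk' H).ker = H := QuotientGroup.ker_mk' H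
  have h1 := map_coreMod_ker (QuotientGroup.mk' H) πᶜ ⊤
  have h2 := piCoreOf_map_eq_bot_of_ker (QuotientGroup.mk' H) (hk.trans hH)
  rw [hk, e, (Subgroup.map_eq_bot_iff _).mpr hk.ge] at h1
  have h3 : (⊤ : Subgroup G).map (QuotientGroup.mk' H) ≠ ⊥ := by
    rw [Ne, Subgroup.map_eq_bot_iff, hk, top_le_iff]; exact hne
  rcases piCoreOf_ne_bot_or π (sol_map _ (sol_top_iff.mpr hs)) h3 with h | h
  · exact h h2
  · exact h h1.symm

/-- First layer: `O_{π,π'}(G)` is a Frobenius group. -/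
theorem NoEdge.frob (h : NoEdge π G) (hs : Group.IsSolvable G) {H : Subgroup G} (hH : H = piCoreOf π ⊤)
    (h0 : H ≠ ⊥) (hne : H ≠ ⊤) : ∃ R, Frob (coreMod πᶜ H ⊤) H R ∧ IsPi πᶜ R := by
  have hn : H ⊴ ⊤ := hH ▸ piCoreOf_normalIn π ⊤
  have hπ : IsPi π H := hH ▸ isPi_piCoreOf π ⊤
  have hle := self_le_coreMod πᶜ hn
  have h1 : IsPiHallOf π H (coreMod πᶜ H ⊤) := Hall.mk hle hπ (piNat_coreMod πᶜ hn.2)
  have hn' : H ⊴ coreMod πᶜ H ⊤ := hn.of_le hle le_top
  obtain ⟨R, hR⟩ := Hall.exists_compl h1 hn'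
  have hRπ := Hall.compl_isPi h1 hR
  refine ⟨R, ⟨⟨hR, hn'.2⟩, h0, ?_, h.semiregular hπ hRπ⟩, hRπ⟩
  rintro rfl
  have := Compl.sup_eq hR
  rw [sup_bot_eq] at this
  exact coreMod_ne_of_sol hs hH hne this.symm

/-- Structure of solvable groups with disconnected prime graph. -/
theorem NoEdge.structure (h : NoEdge π G) (hs : Group.IsSolvable G) {H : Subgroup G} [H.Normal]
    (hH : H = piCoreOf π ⊤) (h0 : H ≠ ⊥) (hne : H ≠ ⊤) :
    ∃ K R : Subgroup G, K ⊴ ⊤ ∧ Frob K H R ∧ IsPiHallOf πᶜ R ⊤ ∧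
      (K = ⊤ ∨ ∃ C, Frob ⊤ (K.map (QuotientGroup.mk' H)) C) := by
  obtain ⟨R, hR, hRπ⟩ := h.frob hs hH h0 hne
  have hn : H ⊴ ⊤ := NormalIn.of_normal H
  have hπ : IsPi π H := hH ▸ isPi_piCoreOf π ⊤
  set K := coreMod πᶜ H ⊤ with hK
  have hKn : K ⊴ ⊤ := coreMod_normalIn πᶜ hn.2
  have hRK : IsPiHallOf πᶜ R K := Hall.of_compl' hR.compl (by rwa [compl_compl]) hRπ
  by_cases hKt : K = ⊤
  · exact ⟨K, R, hKn, hR, hKt ▸ hRK, Or.inl hKt⟩
  set f := QuotientGroup.mk' H with hf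
  have hfs : Function.Surjective f := QuotientGroup.mk'_surjective H
  have hk : f.ker = H := QuotientGroup.ker_mk' H
  have ht : (⊤ : Subgroup G).map f = ⊤ := Subgroup.map_top_of_surjective f hfs
  have e1 : K.map f = piCoreOf πᶜ ⊤ := by rw [← ht, ← map_coreMod_ker, hk]
  have e2 : piCoreOf π (⊤ : Subgroup (G ⧸ H)) = ⊥ := ht ▸ piCoreOf_map_eq_bot_of_ker f (hk.trans hH)
  have e3 : R.map f = K.map f := by
    rw [← hR.sup_eq, Subgroup.map_sup, (Subgroup.map_eq_bot_iff _).mpr hk.ge, bot_sup_eq]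
  have hs' : Group.IsSolvable (G ⧸ H) := inferInstance
  have hHK : H ≤ K := hR.ker_le
  have hK0 : K.map f ≠ ⊥ := by
    rw [Ne, Subgroup.map_eq_bot_iff, hk]
    exact fun hle => coreMod_ne_of_sol hs hH hne (le_antisymm hle hHK)
  have hK1 : K.map f ≠ ⊤ := by
    intro e
    have := comap_map_eq_self (f := f) (hk.le.trans hHK)
    rw [e, comap_top] at this
    exact hKt this.symm
  obtain ⟨C, hC, hCπ⟩ := (h.of_surjective f hfs).compl.frob hs' e1 hK0 hK1
  rw [compl_compl] at hC hCπ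
  have hcyc := (cyclic_of_frob_frob hR f (fun x hx h1 => by
    have : x ∈ H ⊓ R := ⟨hk ▸ h1, hx⟩
    rwa [hR.inf_eq] at this) hC.compl_ne (e3 ▸ hC.norm) (e3 ▸ hC.reg)).2
  have hcyc' : IsCyclic (K.map f) := e3 ▸ cyclic_map f hcyc
  have hKn' : K.map f ⊴ ⊤ := ht ▸ hKn.map f
  have hder : ⁅(⊤ : Subgroup (G ⧸ H)), ⊤⁆ ≤ K.map f := by
    have h1 := cent_piCoreOf_le (π := πᶜ) (sol_top_iff.mpr hs') (by rwa [compl_compl])
    rw [← e1] at h1
    exact (le_inf le_top (der1_cent_cyclic hcyc' hKn'.2)).trans h1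
  have hidx : PiNat π ((K.map f).relIndex ⊤) := by
    intro r hr hd
    by_contra hrπ
    haveI := Fact.mk hr
    obtain ⟨S, hS⟩ := exists_sylowOf r (⊤ : Subgroup (G ⧸ H))
    have h1 : K.map f ⊔ S ≤ K.map f := by
      nth_rw 2 [e1]
      refine le_piCoreOf (NormalIn.of_der_le le_top (hder.trans le_sup_left)) ?_
      exact (e1 ▸ isPi_piCoreOf πᶜ ⊤).sup (isPi_of_isPGroup (Hall.isPGroup hS) hrπ) (Or.inr (le_top.trans hKn'.2))
    exact Hall.not_dvd hS (hd.trans (relIndex_dvd_of_le_left _ (le_sup_right.trans h1)))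
  have e4 : coreMod π (K.map f) ⊤ = ⊤ := (coreMod_eq_self_iff hKn'.2).mpr hidx
  refine ⟨K, R, hKn, hR, Hall.trans_relIndex hRK le_top ?_, Or.inr ⟨C, e4 ▸ hC⟩⟩
  rw [compl_compl, relIndex_top_right, ← index_map_eq _ hfs (hk.le.trans hHK), ← relIndex_top_right]
  exact hidx

/-- A solvable group has no three pairwise non-adjacent primes. -/
theorem three_primes_aux (hs : Group.IsSolvable G)
    (h : ∀ x y : G, (orderOf x).Prime → (orderOf y).Prime → orderOf x ≠ orderOf y → x * y ≠ y * x) :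
    (Nat.card G).primeFactors.card ≤ 2 := by
  by_contra hlt
  have hnt : (⊤ : Subgroup G) ≠ ⊥ := by
    intro e
    rw [← card_top', e, card_bot] at hlt
    simp at hlt
  obtain ⟨p, hp, h0⟩ := exists_pCoreOf_ne_bot (sol_top_iff.mpr hs) hnt
  have hE : NoEdge {p} G := fun x y h1 h2 h3 h4 => h x y h1 h2 fun e => h4 (e ▸ h3)
  have hcard : 1 < ((Nat.card G).primeFactors.erase p).card := by
    have := Finset.pred_card_le_card_erase (s := (Nat.card G).primeFactors) (a := p)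
    omega
  obtain ⟨q, hq, r, hr, hqr⟩ := Finset.one_lt_card.mp hcard
  rw [Finset.mem_erase, Nat.mem_primeFactors] at hq hr
  haveI := (piCoreOf_normalIn {p} (⊤ : Subgroup G)).normal
  obtain ⟨K, R, -, hR, hRH, -⟩ := hE.structure hs rfl h0 (by
    intro e
    have := isPi_piCoreOf {p} (⊤ : Subgroup G) q hq.2.1 (by rw [e, card_top']; exact hq.2.2.1)
    exact hq.1 this)
  have hz := H1.center_ne_bot_of_fpf hR.ker_ne hR.compl_ne hR.norm hR.reg
  have hz' : R ⊓ C⟦R⟧ ≠ ⊥ := by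
    rw [← map_center, Ne, map_eq_bot_iff_of_injective _ R.subtype_injective]; exact hz
  obtain ⟨Z, hZ, hZp⟩ := exists_prime_subgroup_of_ne_bot hz'
  obtain ⟨z, hz1, ez⟩ := exists_prime_order_mem hZp (dvd_refl ♯Z)
  have key : ∀ s, s.Prime → s ≠ p → s ∣ Nat.card G → s = ♯Z := by
    intro s h1 h2 h3
    obtain ⟨y, hy, ey⟩ := exists_prime_order_mem h1 ((Hall.dvd_iff hRH h1 h2).mpr (by rwa [card_top']))
    by_contra hne
    exact h y z (ey ▸ h1) (ez ▸ hZp) (by rwa [ey, ez]) (mem_cent.mp (hZ hz1).2 y hy)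
  exact hqr ((key q hq.2.1 hq.1 hq.2.2.1).trans (key r hr.2.1 hr.1 hr.2.2.1).symm)

theorem three_primes {L : Subgroup G} (hs : Group.IsSolvable L) {r : ℕ} (hp : p.Prime) (hq : q.Prime)
    (hr : r.Prime) (h1 : p ≠ q) (h2 : p ≠ r) (h3 : q ≠ r) (d1 : p ∣ ♯L) (d2 : q ∣ ♯L) (d3 : r ∣ ♯L) :
    ∃ g ∈ L, orderOf g = p * q ∨ orderOf g = p * r ∨ orderOf g = q * r := by
  by_contra hh
  push Not at hh
  obtain ⟨H, hH⟩ := exists_hall {p, q, r} hs
  have := three_primes_aux (G := H) (sol_of_le hs (Hall.le hH)) (by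
    intro x y a1 a2 a3 hc
    have e := orderOf_mul_primes a1 a2 a3 rfl rfl hc
    have b1 := (Hall.isPi hH) _ a1 (orderOf_dvd_natCard x)
    have b2 := (Hall.isPi hH) _ a2 (orderOf_dvd_natCard y)
    have := hh _ (Hall.le hH (x * y).2)
    rw [Subgroup.orderOf_coe, e] at this
    simp only [Set.mem_insert_iff, Set.mem_singleton_iff] at b1 b2
    rcases b1 with b1 | b1 | b1 <;> rcases b2 with b2 | b2 | b2 <;> simp_all [mul_comm])
  have hsub : ({p, q, r} : Finset ℕ) ⊆ (♯H).primeFactors := by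
    intro s hs
    simp only [Finset.mem_insert, Finset.mem_singleton] at hs
    rw [Nat.mem_primeFactors]
    rcases hs with rfl | rfl | rfl
    · exact ⟨hp, (Hall.dvd_iff hH hp (by simp)).mpr d1, card_ne_zero H⟩
    · exact ⟨hq, (Hall.dvd_iff hH hq (by simp)).mpr d2, card_ne_zero H⟩
    · exact ⟨hr, (Hall.dvd_iff hH hr (by simp)).mpr d3, card_ne_zero H⟩
  have h4 := Finset.card_le_card hsub
  rw [Finset.card_eq_three.mpr ⟨p, q, r, h1, h2, h3, rfl⟩] at h4
  omega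

end Cfsg.Agent.H25
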