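import Mathlib
import Cfsg.Prelude.Def_SolvableStructure
import Cfsg.Agent.H25.ClassCount
import Cfsg.Agent.H1.Basic

/-! Groups with the same order type; Sylow towers seen by counting. -/

namespace Cfsg.Agent.H25

universe u v

theorem card_orderOf_pred_eq {G : Type u} {H : Type v} [Group G] [Finite G] [Group H] [Finite H]
    (hT : ∀ m : ℕ, Nat.card {g : G // orderOf g = m} = Nat.card {h : H // orderOf h = m})
    (P : ℕ → Prop) :
    Nat.card {g : G // P (orderOf g)} = Nat.card {h : H // P (orderOf h)} := by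
  have e : ∀ m : ℕ, {g : G // orderOf g = m} ≃ {h : H // orderOf h = m} := fun m =>
    (Finite.card_eq.mp (hT m)).some
  let E : G ≃ H := Equiv.ofFiberEquiv (f := orderOf) (g := orderOf) e
  have hE : ∀ g, orderOf (E g) = orderOf g := fun g => Equiv.ofFiberEquiv_map e g
  exact Nat.card_congr (E.subtypeEquiv fun g => by rw [hE])

theorem card_eq_of_orderType {G : Type u} {H : Type v} [Group G] [Finite G] [Group H] [Finite H]
    (hT : ∀ m : ℕ, Nat.card {g : G // orderOf g = m} = Nat.card {h : H // orderOf h = m}) :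
    Nat.card G = Nat.card H := by
  have := card_orderOf_pred_eq hT (fun _ => True)
  simpa using this

variable {G : Type u} [Group G] [Finite G]

theorem normal_sylow_of_card_le {p : ℕ} [Fact p.Prime] (P : Sylow p G)
    (h : Nat.card {g : G // ∃ k, orderOf g = p ^ k} ≤ Nat.card (P : Subgroup G)) :
    (P : Subgroup G).Normal := by
  have h1 : ((P : Subgroup G) : Set G) = {g : G | ∃ k, orderOf g = p ^ k} :=
    Set.eq_of_subset_of_ncard_le (fun x hx => exists_orderOf_eq_of_mem_sylow P hx) h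
  refine ⟨fun x hx g => ?_⟩
  have h2 : x ∈ ((P : Subgroup G) : Set G) := hx
  change g * x * g⁻¹ ∈ ((P : Subgroup G) : Set G)
  rw [h1] at h2 ⊢
  rwa [Set.mem_ofPred_eq, orderOf_conj']

theorem card_pElts_of_normal {p : ℕ} [hp : Fact p.Prime] (P : Sylow p G)
    [(P : Subgroup G).Normal] :
    Nat.card {g : G // ∃ k, orderOf g = p ^ k} = Nat.card (P : Subgroup G) := by
  refine Nat.card_congr (Equiv.subtypeEquivRight fun x =>
    ⟨fun hx => ?_, fun hx => exists_orderOf_eq_of_mem_sylow P hx⟩)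
  obtain ⟨g, hg⟩ := exists_conj_mem_sylow P hx
  have := Subgroup.Normal.conj_mem inferInstance _ hg g⁻¹
  simpa [mul_assoc] using this

omit [Finite G] in
theorem card_comap_pred (N : Subgroup G) [N.Normal] (Q : G ⧸ N → Prop) :
    Nat.card {g : G // Q (g : G ⧸ N)} = Nat.card N * Nat.card {x : G ⧸ N // Q x} :=
  QuotientGroup.card_preimage_mk N {x | Q x}

omit [Finite G] in
theorem orderOf_dvd_orderOf_mk_mul_card (N : Subgroup G) [N.Normal] (x : G) :
    orderOf x ∣ orderOf (x : G ⧸ N) * Nat.card N := by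
  apply orderOf_dvd_of_pow_eq_one
  have h1 : x ^ orderOf (x : G ⧸ N) ∈ N := by
    rw [← QuotientGroup.eq_one_iff, QuotientGroup.mk_pow, pow_orderOf_eq_one]
  rw [pow_mul]
  exact congrArg Subtype.val (pow_card_eq_one' (G := N) (x := ⟨_, h1⟩))

/-- all prime divisors are at least `n` -/
def Big (n m : ℕ) : Prop := ∀ r : ℕ, r.Prime → r ∣ m → n ≤ r

theorem Big.of_dvd {n m k : ℕ} (h : Big n m) (hk : k ∣ m) : Big n k :=
  fun r hr hd => h r hr (hd.trans hk)

theorem Big.mul {n m k : ℕ} (h : Big n m) (hk : Big n k) : Big n (m * k) :=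
  fun r hr hd => ((Nat.Prime.dvd_mul hr).mp hd).elim (h r hr) (hk r hr)

theorem big_one (n : ℕ) : Big n 1 := fun r hr hd => absurd (Nat.dvd_one.mp hd) hr.ne_one

theorem big_pow {n p : ℕ} (hp : p.Prime) (h : n ≤ p) (k : ℕ) : Big n (p ^ k) := fun r hr hd => by
  rwa [(Nat.prime_dvd_prime_iff_eq hr hp).mp (hr.dvd_of_dvd_pow hd)]

omit [Finite G] in
theorem card_big_quotient {n : ℕ} (N : Subgroup G) [N.Normal] (hN : Big n (Nat.card N)) :
    Nat.card {g : G // Big n (orderOf g)} =
      Nat.card N * Nat.card {x : G ⧸ N // Big n (orderOf x)} := by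
  rw [← card_comap_pred N fun x => Big n (orderOf x)]
  refine Nat.card_congr (Equiv.subtypeEquivRight fun x => ⟨fun hx => ?_, fun hx => ?_⟩)
  · exact hx.of_dvd (orderOf_map_dvd (QuotientGroup.mk' N) x)
  · exact (hx.mul hN).of_dvd (orderOf_dvd_orderOf_mk_mul_card N x)

theorem card_big_eq_one {n : ℕ} (h : ∀ r : ℕ, r.Prime → r ∣ Nat.card G → r < n) :
    Nat.card {g : G // Big n (orderOf g)} = 1 := by
  rw [Nat.card_eq_one_iff_exists]
  refine ⟨⟨1, by rw [orderOf_one]; exact big_one n⟩, fun x => Subtype.ext ?_⟩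
  obtain ⟨x, hx⟩ := x
  change x = 1
  rw [← orderOf_eq_one_iff]
  by_contra hne
  obtain ⟨r, hr, hd⟩ := Nat.exists_prime_and_dvd hne
  exact absurd (hx r hr hd) (not_le.mpr (h r hr (hd.trans (orderOf_dvd_natCard x))))

theorem exists_max_prime {n : ℕ} (h : ¬ ∀ r : ℕ, r.Prime → r ∣ Nat.card G → r < n) :
    ∃ p : ℕ, p.Prime ∧ p ∣ Nat.card G ∧ n ≤ p ∧ ∀ r : ℕ, r.Prime → r ∣ Nat.card G → r ≤ p := by
  push Not at h
  obtain ⟨r, hr, hd, hn⟩ := h
  have hne : (Nat.card G).primeFactors.Nonempty :=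
    ⟨r, Nat.mem_primeFactors.mpr ⟨hr, hd, Nat.card_pos.ne'⟩⟩
  have hm := Nat.mem_primeFactors.mp (Finset.max'_mem _ hne)
  have hle : ∀ s : ℕ, s.Prime → s ∣ Nat.card G → s ≤ (Nat.card G).primeFactors.max' hne :=
    fun s hs hsd => Finset.le_max' _ _ (Nat.mem_primeFactors.mpr ⟨hs, hsd, Nat.card_pos.ne'⟩)
  exact ⟨_, hm.1, hm.2.1, hn.trans (hle r hr hd), hle⟩

/-- the counting shadow of a Sylow tower above `n₀` -/
def TowerCount (n₀ : ℕ) (G : Type u) [Group G] : Prop :=
  ∀ n, n₀ ≤ n → Nat.card {g : G // Big n (orderOf g)} ∣ Nat.card G ∧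
    Big n (Nat.card {g : G // Big n (orderOf g)})

theorem towerCount_of_class (n₀ : ℕ) (𝒞 : ∀ (G : Type u) [Group G], Prop)
    (h𝒞 : ∀ (G : Type u) [Group G] [Finite G], 𝒞 G → ∀ (p : ℕ) [Fact p.Prime], n₀ ≤ p →
      (∀ r : ℕ, r.Prime → r ∣ Nat.card G → r ≤ p) → ∀ P : Sylow p G,
        ∃ _ : (P : Subgroup G).Normal, 𝒞 (G ⧸ (P : Subgroup G)))
    (G : Type u) [Group G] [Finite G] (hG : 𝒞 G) : TowerCount n₀ G := by
  induction hn : Nat.card G using Nat.strong_induction_on generalizing G with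
  | _ m ih =>
  intro n hn₀
  by_cases h : ∀ r : ℕ, r.Prime → r ∣ Nat.card G → r < n
  · rw [card_big_eq_one h]
    exact ⟨one_dvd _, big_one n⟩
  obtain ⟨p, hp, hpd, hnp, hmax⟩ := exists_max_prime h
  have := Fact.mk hp
  have P : Sylow p G := default
  obtain ⟨hP, hq⟩ := h𝒞 G hG p (hn₀.trans hnp) hmax P
  obtain ⟨k, hk⟩ := P.2.exists_card_eq
  have hb : Big n (Nat.card (P : Subgroup G)) := hk ▸ big_pow hp hnp k
  obtain ⟨h1, h2⟩ := ih _ (hn ▸ H1.card_quotient_lt (P.ne_bot_of_dvd_card hpd)) _ hq rfl n hn₀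
  rw [card_big_quotient _ hb]
  refine ⟨?_, hb.mul h2⟩
  rw [Subgroup.card_eq_card_quotient_mul_card_subgroup (P : Subgroup G), mul_comm]
  exact Nat.mul_dvd_mul_right h1 _

theorem isSolvable_of_towerCount (n₀ : ℕ)
    (hbase : ∀ (G : Type u) [Group G] [Finite G],
      (∀ r : ℕ, r.Prime → r ∣ Nat.card G → r < n₀) → Group.IsSolvable G)
    (G : Type u) [Group G] [Finite G] (hG : TowerCount n₀ G) : Group.IsSolvable G := by
  induction hn : Nat.card G using Nat.strong_induction_on generalizing G with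
  | _ m ih =>
  by_cases h : ∀ r : ℕ, r.Prime → r ∣ Nat.card G → r < n₀
  · exact hbase G h
  obtain ⟨p, hp, hpd, hnp, hmax⟩ := exists_max_prime h
  have := Fact.mk hp
  have P : Sylow p G := default
  obtain ⟨h1, h2⟩ := hG p hnp
  have hpow : ∀ m, m ∣ Nat.card G → Big p m → ∃ k, m = p ^ k := fun m hm hb =>
    ⟨_, Nat.eq_prime_pow_of_unique_prime_dvd (ne_zero_of_dvd_ne_zero Nat.card_pos.ne' hm)
      fun {d} hd hdm => le_antisymm (hmax d hd (hdm.trans hm)) (hb d hd hdm)⟩
  have hP : (P : Subgroup G).Normal := by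
    refine normal_sylow_of_card_le P ?_
    have e : Nat.card {g : G // ∃ k, orderOf g = p ^ k} = Nat.card {g : G // Big p (orderOf g)} :=
      Nat.card_congr (Equiv.subtypeEquivRight fun x =>
        ⟨fun ⟨k, hk⟩ => hk ▸ big_pow hp le_rfl k, hpow _ (orderOf_dvd_natCard x)⟩)
    obtain ⟨k, hk⟩ := hpow _ h1 h2
    rw [e]
    rw [hk] at h1 ⊢
    exact Nat.le_of_dvd Nat.card_pos (P.pow_dvd_card_of_pow_dvd_card h1)
  have hq : TowerCount n₀ (G ⧸ (P : Subgroup G)) := by
    intro n hn₀
    by_cases hnp' : n ≤ p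
    · obtain ⟨k, hk⟩ := P.2.exists_card_eq
      have hb : Big n (Nat.card (P : Subgroup G)) := hk ▸ big_pow hp hnp' k
      obtain ⟨h3, h4⟩ := hG n hn₀
      rw [card_big_quotient _ hb] at h3 h4
      refine ⟨?_, h4.of_dvd (Dvd.intro_left _ rfl)⟩
      rw [Subgroup.card_eq_card_quotient_mul_card_subgroup (P : Subgroup G), mul_comm] at h3
      exact Nat.dvd_of_mul_dvd_mul_right Nat.card_pos h3
    · rw [card_big_eq_one fun r hr hd =>
        (hmax r hr (hd.trans (Subgroup.card_quotient_dvd_card _))).trans_lt (not_le.mp hnp')]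
      exact ⟨one_dvd _, big_one n⟩
  have h3 := ih _ (hn ▸ H1.card_quotient_lt (P.ne_bot_of_dvd_card hpd)) _ hq rfl
  have h4 : Group.IsSolvable (P : Subgroup G) := by
    have := P.2.isNilpotent
    infer_instance
  exact Group.isSolvable_of_ker_le_range (P : Subgroup G).subtype (QuotientGroup.mk' (P : Subgroup G))
    (by simp)

theorem TowerCount.of_orderType {H : Type v} [Group H] [Finite H] {n₀ : ℕ} (h : TowerCount n₀ G)
    (hT : ∀ m : ℕ, Nat.card {g : G // orderOf g = m} = Nat.card {h : H // orderOf h = m}) :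
    TowerCount n₀ H := fun n hn => by
  rw [← card_orderOf_pred_eq hT (Big n), ← card_eq_of_orderType hT]
  exact h n hn

omit [Finite G] in
theorem supersolvable_quotient (hG : IsSupersolvable G) (N : Subgroup G) [N.Normal] :
    IsSupersolvable (G ⧸ N) := by
  obtain ⟨n, H, h0, h1, h2, h3⟩ := hG
  refine ⟨n, fun i => (H i).map (QuotientGroup.mk' N), by simp [h0], ?_, fun i => ?_, fun i => ?_⟩
  · simp only [h1]
    exact Subgroup.map_top_of_surjective _ (QuotientGroup.mk'_surjective N)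
  · exact (h2 i).map _ (QuotientGroup.mk'_surjective N)
  · obtain ⟨g, hg⟩ := h3 i
    exact ⟨g, by simp only [hg, Subgroup.map_sup, MonoidHom.map_zpowers]; rfl⟩

theorem supersolvable_exists_normal_prime (hG : IsSupersolvable G) [Nontrivial G] :
    ∃ N : Subgroup G, N.Normal ∧ (Nat.card N).Prime := by
  obtain ⟨n, H, h0, h1, h2, h3⟩ := hG
  have : ∃ g : G, g ≠ 1 ∧ (Subgroup.zpowers g).Normal := by
    by_contra hcon
    push Not at hcon
    have : ∀ i, H i = ⊥ := by
      intro i
      induction i using Fin.induction with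
      | zero => exact h0
      | succ i ih =>
        obtain ⟨g, hg⟩ := h3 i
        rw [ih, bot_sup_eq] at hg
        by_contra hne
        exact hcon g (by rintro rfl; simp at hg; exact hne hg) (hg ▸ h2 _)
    exact absurd ((this _).symm.trans h1) bot_ne_top
  obtain ⟨g, hg1, hg⟩ := this
  obtain ⟨q, hq, hd⟩ := Nat.exists_prime_and_dvd (orderOf_eq_one_iff.not.mpr hg1)
  refine ⟨Subgroup.zpowers (g ^ (orderOf g / q)), ⟨fun x hx y => ?_⟩, ?_⟩
  · obtain ⟨k, rfl⟩ := Subgroup.mem_zpowers_iff.mp hx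
    obtain ⟨j, hj⟩ := Subgroup.mem_zpowers_iff.mp (hg.conj_mem g (Subgroup.mem_zpowers g) y)
    have e : (g ^ j) ^ (orderOf g / q) = (g ^ (orderOf g / q)) ^ j := by
      rw [← zpow_natCast, ← zpow_mul, mul_comm, zpow_mul, zpow_natCast]
    rw [← conj_zpow, ← conj_pow, ← hj, e]
    exact Subgroup.zpow_mem _ (Subgroup.zpow_mem _ (Subgroup.mem_zpowers _) _) _
  · rwa [Nat.card_zpowers, orderOf_pow_orderOf_div (orderOf_pos g).ne' hd]

/-- A `p`-subgroup centralizes a normal cyclic subgroup all of whose prime divisors are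
smaller than `p`. -/
theorem le_centralizer_of_isCyclic_of_lt {p : ℕ} [hp : Fact p.Prime] {P N : Subgroup G}
    (hP : IsPGroup p P) (hPN : P ≤ Subgroup.normalizer (N : Set G)) [IsCyclic N]
    (h : ∀ r : ℕ, r.Prime → r ∣ Nat.card N → r < p) : P ≤ Subgroup.centralizer (N : Set G) := by
  have hc : ¬ p ∣ Nat.card (MulAut N) := by
    rw [IsCyclic.card_mulAut]
    intro hd
    rw [Nat.totient_eq_div_primeFactors_mul] at hd
    rcases (Nat.Prime.dvd_mul hp.out).mp hd with hd | hd
    · exact lt_irrefl _ (h p hp.out (hd.trans (Nat.div_dvd_of_dvd (Nat.prod_primeFactors_dvd _))))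
    · obtain ⟨r, hr, hd⟩ := (Prime.dvd_finsetProd_iff hp.out.prime _).mp hd
      have h1 := Nat.prime_of_mem_primeFactors hr
      have h2 := h r h1 (Nat.dvd_of_mem_primeFactors hr)
      have := Nat.le_of_dvd (by have := h1.two_le; omega) hd
      omega
  intro x hx
  obtain ⟨k, hk⟩ := hP ⟨x, hx⟩
  have hk' : x ^ p ^ k = 1 := congrArg Subtype.val hk
  set a := N.normalizerMonoidHom ⟨x, hPN hx⟩ with ha
  have h1 : a ^ p ^ k = 1 := by
    rw [ha, ← map_pow]
    have : (⟨x, hPN hx⟩ : Subgroup.normalizer (N : Set G)) ^ p ^ k = 1 := Subtype.ext hk'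
    rw [this, map_one]
  have h2 : orderOf a = 1 := Nat.eq_one_of_dvd_coprimes
    (Nat.Coprime.pow_left k ((Nat.Prime.coprime_iff_not_dvd hp.out).mpr hc))
    (orderOf_dvd_of_pow_eq_one h1) (orderOf_dvd_natCard a)
  rw [orderOf_eq_one_iff] at h2
  have h3 : (⟨x, hPN hx⟩ : Subgroup.normalizer (N : Set G)) ∈ N.normalizerMonoidHom.ker := h2
  rw [Subgroup.normalizerMonoidHom_ker] at h3
  exact h3

theorem supersolvable_sylow_normal (hG : IsSupersolvable G) (p : ℕ) [hp : Fact p.Prime]
    (hmax : ∀ r : ℕ, r.Prime → r ∣ Nat.card G → r ≤ p) (P : Sylow p G) :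
    (P : Subgroup G).Normal := by
  induction hn : Nat.card G using Nat.strong_induction_on generalizing G with
  | _ m ih =>
  rcases subsingleton_or_nontrivial G with hs | hs
  · infer_instance
  obtain ⟨N, hN, hq⟩ := supersolvable_exists_normal_prime hG
  have hne : N ≠ ⊥ := by rintro rfl; simp at hq; exact Nat.not_prime_one hq
  have h1 := ih _ (hn ▸ H1.card_quotient_lt hne) (supersolvable_quotient hG N)
    (fun r hr hd => hmax r hr (hd.trans (Subgroup.card_quotient_dvd_card _)))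
    (P.mapSurjective (QuotientGroup.mk'_surjective N)) rfl
  have h2 := h1.comap (QuotientGroup.mk' N)
  rw [Sylow.coe_mapSurjective, Subgroup.comap_map_eq, QuotientGroup.ker_mk'] at h2
  have h3 : N ≤ Subgroup.normalizer ((P : Subgroup G) : Set G) := by
    by_cases hqp : Nat.card N = p
    · exact ((IsPGroup.of_card (n := 1) (by simpa using hqp)).le_sylow_of_normal P).trans
        Subgroup.le_normalizer
    · have : Fact (Nat.card N).Prime := ⟨hq⟩
      have : IsCyclic N := isCyclic_of_prime_card rfl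
      have h4 := le_centralizer_of_isCyclic_of_lt (N := N) P.2 Subgroup.le_normalizer_of_normal
        (fun r hr hd => by
          rw [(Nat.prime_dvd_prime_iff_eq hr hq).mp hd]
          exact lt_of_le_of_ne (hmax _ hq (Subgroup.card_subgroup_dvd_card N)) hqp)
      exact (Subgroup.le_centralizer_iff.mp h4).trans (Subgroup.centralizer_le_normalizer _)
  have h5 : Subgroup.normalizer ((P : Subgroup G) : Set G) ⊔ _ = ⊤ :=
    Sylow.normalizer_sup_eq_top' (N := (P : Subgroup G) ⊔ N) P le_sup_left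
  rw [sup_eq_left.mpr (sup_le Subgroup.le_normalizer h3)] at h5
  exact Subgroup.normalizer_eq_top_iff.mp h5

theorem towerCount_of_supersolvable (hG : IsSupersolvable G) : TowerCount 0 G :=
  towerCount_of_class 0 (fun G _ => IsSupersolvable G) (fun G _ _ hG p _ _ hmax P =>
    ⟨supersolvable_sylow_normal hG p hmax P, @supersolvable_quotient _ _ hG _
      (supersolvable_sylow_normal hG p hmax P)⟩) G hG

end Cfsg.Agent.H25
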