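import Cfsg.Agent.H26.FrobDiv
import Cfsg.Agent.H26.ClassSize
import Cfsg.Agent.BG.S04a
import Cfsg.Agent.H25.OrderType

/-! Counting elements and cyclic subgroups of a given order. -/

set_option autoImplicit false

namespace Cfsg.Agent.H25
open Subgroup Cfsg.Agent.H20 Cfsg.Agent.H21
open scoped commutatorElement

variable {G : Type*} [Group G] [Finite G] {p : ℕ}

theorem zpowers_eq_of_orderOf_eq {x a : G} (h : x ∈ zpowers a) (ho : orderOf x = orderOf a) :
    zpowers x = zpowers a :=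
  eq_of_le_of_card_ge (zpowers_le.2 h) (by rw [Nat.card_zpowers, Nat.card_zpowers, ho])

theorem card_gens (a : G) : Nat.card {x : G // zpowers x = zpowers a} = (orderOf a).totient := by
  classical
  have := Fintype.ofFinite G
  have h1 := IsCyclic.card_orderOf_eq_totient (α := zpowers a) (d := orderOf a)
    (by rw [← Nat.card_eq_fintype_card, Nat.card_zpowers])
  rw [← h1, ← Fintype.card_subtype, ← Nat.card_eq_fintype_card]
  refine Nat.card_congr ⟨fun x => ⟨⟨x.1, x.2.le (mem_zpowers x.1)⟩, ?_⟩,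
    fun x => ⟨x.1.1, zpowers_eq_of_orderOf_eq x.1.2 ?_⟩, fun _ => rfl, fun _ => rfl⟩
  · rw [← orderOf_coe, ← Nat.card_zpowers, ← Nat.card_zpowers a, x.2]
  · rw [orderOf_coe, x.2]

theorem card_order_eq (n : ℕ) (Q : Subgroup G → Prop) :
    Nat.card {x : G // orderOf x = n ∧ Q (zpowers x)} =
      Nat.card {H : Subgroup G // (IsCyclic H ∧ ♯H = n) ∧ Q H} * n.totient := by
  refine H26.card_eq_mul_of_fiber (fun x : {x : G // orderOf x = n ∧ Q (zpowers x)} =>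
    (⟨zpowers x.1, ⟨inferInstance, by rw [Nat.card_zpowers, x.2.1]⟩, x.2.2⟩ :
      {H : Subgroup G // (IsCyclic H ∧ ♯H = n) ∧ Q H})) _ ?_
  rintro ⟨H, ⟨hc, hn⟩, hQ⟩
  obtain ⟨a, rfl⟩ := (Subgroup.isCyclic_iff_exists_zpowers_eq_top H).1 hc
  obtain rfl : orderOf a = n := by rwa [Nat.card_zpowers] at hn
  rw [← card_gens a]
  refine Nat.card_congr ⟨fun x => ⟨x.1.1, congrArg Subtype.val x.2⟩,
    fun x => ⟨⟨x.1, ?_, ?_⟩, Subtype.ext x.2⟩, fun _ => rfl, fun _ => rfl⟩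
  · rw [← Nat.card_zpowers, x.2, Nat.card_zpowers]
  · rw [x.2]; exact hQ

theorem card_order_eq' (n : ℕ) : Nat.card {x : G // orderOf x = n} =
    Nat.card {H : Subgroup G // IsCyclic H ∧ ♯H = n} * n.totient := by
  simpa using card_order_eq (G := G) n (fun _ => True)

theorem totient_dvd_card_order (n : ℕ) : n.totient ∣ Nat.card {x : G // orderOf x = n} := by
  rw [card_order_eq']; exact Dvd.intro_left _ rfl

theorem card_modEq_norm [Fact p.Prime] {P : Subgroup G} (hP : IsPGroup p P) (Q : Subgroup G → Prop)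
    (hQ : ∀ g ∈ P, ∀ H, Q H → Q (cj g H)) :
    Nat.card {H : Subgroup G // Q H} ≡ Nat.card {H : Subgroup G // P ≤ N⟦H⟧ ∧ Q H} [MOD p] := by
  letI : MulAction P {H : Subgroup G // Q H} :=
    { smul := fun g H => ⟨cj g.1 H.1, hQ g g.2 _ H.2⟩
      one_smul := fun H => Subtype.ext (cj_one _)
      mul_smul := fun g h H => Subtype.ext (cj_mul _ _ _) }
  refine (hP.card_modEq_card_fixedPoints _).trans ?_
  rw [Nat.card_congr (β := {H : Subgroup G // P ≤ N⟦H⟧ ∧ Q H})]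
  refine ⟨fun H => ⟨H.1.1, fun g hg => ?_, H.1.2⟩, fun H => ⟨⟨H.1, H.2.2⟩, fun g => Subtype.ext ?_⟩,
    fun _ => rfl, fun _ => rfl⟩
  · exact mem_norm_iff_cj.2 (congrArg Subtype.val (H.2 ⟨g, hg⟩))
  · exact mem_norm_iff_cj.1 (H.2.1 g.2)

theorem mul_pow_eq_of_p2 [hp : Fact p.Prime] (hG : IsPGroup p G) (h2 : p ≠ 2) {V : Subgroup G} [V.Normal]
    (hc : ♯V = p ^ 2) (he : ∀ v ∈ V, v ^ p = 1) (x : G) {v : G} (hv : v ∈ V) : (x * v) ^ p = x ^ p := by
  have hnil : Group.IsNilpotent (⊤ : Subgroup G) := (hG.to_subgroup ⊤).isNilpotent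
  have hV : V ≠ ⊥ := by
    rintro rfl
    rw [card_bot] at hc
    exact (Nat.one_lt_pow two_ne_zero hp.out.one_lt).ne hc
  have h1 := commg_lt_of_nil hnil le_top (le_normalizer_of_normal (H := V)) hV
  have h3 : ⁅⁅V, (⊤ : Subgroup G)⁆, (⊤ : Subgroup G)⁆ = ⊥ := by
    by_contra h3
    have h4 : ⁅V, (⊤ : Subgroup G)⁆ ≠ ⊥ := fun h => h3 (by rw [h, commutator_bot_left])
    have h5 := commg_lt_of_nil hnil le_top (le_normalizer_of_normal (H := ⁅V, (⊤ : Subgroup G)⁆)) h4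
    obtain ⟨a, ha⟩ := (hG.to_subgroup ⁅V, (⊤ : Subgroup G)⁆).exists_card_eq
    obtain ⟨b, hb⟩ := (hG.to_subgroup ⁅⁅V, (⊤ : Subgroup G)⁆, (⊤ : Subgroup G)⁆).exists_card_eq
    have h6 := H21.card_lt h1
    have h7 := H21.card_lt h5
    rw [ha, hc] at h6
    rw [ha, hb] at h7
    have h8 := (Nat.pow_lt_pow_iff_right hp.out.one_lt).1 h6
    have h9 := (Nat.pow_lt_pow_iff_right hp.out.one_lt).1 h7
    obtain rfl : b = 0 := by omega
    exact h3 (card_eq_one.1 hb)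
  have h4 : ⁅v⁻¹, x⁻¹⁆ ∈ ⁅V, (⊤ : Subgroup G)⁆ := commutator_mem_commutator (inv_mem hv) (mem_top _)
  have h5 : ⁅v⁻¹, x⁻¹⁆ ∈ center G := by
    rw [mem_center_iff]
    intro g
    have : ⁅⁅v⁻¹, x⁻¹⁆, g⁆ ∈ (⊥ : Subgroup G) := h3 ▸ commutator_mem_commutator h4 (mem_top _)
    exact (commutatorElement_eq_one_iff_mul_comm.1 (Subgroup.mem_bot.1 this)).symm
  rw [H26.mul_pow_of_central h5 (by simp only [commutatorElement_def]; group), he v hv, mul_one]
  obtain ⟨k, hk⟩ := hp.out.dvd_choose_self two_ne_zero (lt_of_le_of_ne hp.out.two_le h2.symm)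
  rw [hk, pow_mul, he _ (h1.le h4), one_pow, mul_one]

theorem pow_dvd_card_order_pgroup [hp : Fact p.Prime] (hG : IsPGroup p G) (h2 : p ≠ 2) (hc : ¬ IsCyclic G)
    {s : ℕ} (hs : 1 < s) : p ^ s ∣ Nat.card {x : G // orderOf x = p ^ s} := by
  have hodd : Odd ♯(⊤ : Subgroup G) := by
    obtain ⟨k, hk⟩ := (hG.to_subgroup ⊤).exists_card_eq
    rw [hk]; exact (hp.out.odd_of_ne_two h2).pow
  obtain ⟨V, hV, -, hE, hVc⟩ := BG.ex_odd_normal_p2Elem (hG.to_subgroup ⊤) hodd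
    (fun h => hc (isCyclic_of_surjective _ (topEquiv (G := G)).surjective))
  haveI : V.Normal := hV.normal
  have he : ∀ v ∈ V, v ^ p = 1 := hE.2
  refine H26.dvd_card_of_fiber (fun x : {x : G // orderOf x = p ^ s} => zpowers (x.1 : G ⧸ V)) _ (fun a => ?_)
  have hord : ∀ x : G, x ^ p ≠ 1 → orderOf x = p * orderOf (x ^ p) := by
    intro x hx
    have := H26.orderOf_eq_of_pow_eq (e := 1) (x := x) hp.out (by
      rw [pow_one]
      obtain ⟨k, hk⟩ := (IsPGroup.iff_orderOf.1 hG) (x ^ p)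
      rcases k with _ | k
      · exact absurd (orderOf_eq_one_iff.1 hk) hx
      · rw [hk]; exact dvd_pow_self _ (by omega))
    rwa [pow_one] at this
  have hne : ∀ x : G, orderOf x = p ^ s → x ^ p ≠ 1 := by
    intro x hx h
    have := orderOf_dvd_of_pow_eq_one h
    rw [hx] at this
    have h3 := (Nat.pow_dvd_pow_iff_le_right hp.out.one_lt (k := s) (l := 1)).1 (by rwa [pow_one])
    omega
  have key : ∀ x y : G, (y : G ⧸ V) ∈ zpowers (x : G ⧸ V) → y ^ p ∈ zpowers (x ^ p) := by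
    rintro x y ⟨k, hk⟩
    have h1 : (x ^ k)⁻¹ * y ∈ V := QuotientGroup.eq.1 (by rw [QuotientGroup.mk_zpow]; exact hk)
    have h3 := mul_pow_eq_of_p2 hG h2 hVc he (x ^ k) h1
    rw [mul_inv_cancel_left] at h3
    rw [h3, ← zpow_natCast (x ^ k), ← zpow_mul, mul_comm, zpow_mul, zpow_natCast]
    exact zpow_mem (mem_zpowers _) _
  have e : Nat.card {x : {x : G // orderOf x = p ^ s} // zpowers (x.1 : G ⧸ V) = zpowers (a.1 : G ⧸ V)} =
      Nat.card {x : G // zpowers (x : G ⧸ V) = zpowers (a.1 : G ⧸ V)} := by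
    refine Nat.card_congr ⟨fun x => ⟨x.1.1, x.2⟩, fun x => ⟨⟨x.1, ?_⟩, x.2⟩, fun _ => rfl, fun _ => rfl⟩
    have h1 := key a.1 x.1 (x.2.le (mem_zpowers _))
    have h3 := key x.1 a.1 (x.2.ge (mem_zpowers _))
    have h4 : orderOf (x.1 ^ p) = orderOf (a.1 ^ p) :=
      Nat.dvd_antisymm (orderOf_dvd_of_mem_zpowers h1) (orderOf_dvd_of_mem_zpowers h3)
    have h5 := hne a.1 a.2
    rw [hord x.1 (fun h => h5 (orderOf_eq_one_iff.1 (by rw [← h4, h, orderOf_one]))), h4, ← hord a.1 h5, a.2]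
  rw [e, card_comap_pred V (fun z => zpowers z = zpowers (a.1 : G ⧸ V)), card_gens, hVc]
  obtain ⟨j, hj⟩ := (IsPGroup.iff_orderOf.1 (hG.to_quotient V)) (a.1 : G ⧸ V)
  have h1 : p ^ s ∣ p ^ (j + 1) := by
    rw [← a.2, pow_succ, ← hj]
    refine orderOf_dvd_of_pow_eq_one ?_
    rw [pow_mul]
    exact he _ ((QuotientGroup.eq_one_iff _).1 (by rw [QuotientGroup.mk_pow, pow_orderOf_eq_one]))
  have h3 := (Nat.pow_dvd_pow_iff_le_right hp.out.one_lt).1 h1
  rw [hj, Nat.totient_prime_pow hp.out (by omega), ← mul_assoc, ← pow_add]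
  exact Dvd.dvd.mul_right (pow_dvd_pow _ (by omega)) _

theorem dvd_card_cyc_iff [hp : Fact p.Prime] {s : ℕ} (hs : 0 < s) :
    p ^ s ∣ Nat.card {x : G // orderOf x = p ^ s} ↔ p ∣ Nat.card {H : Subgroup G // IsCyclic H ∧ ♯H = p ^ s} := by
  rw [card_order_eq', Nat.totient_prime_pow hp.out hs]
  obtain ⟨s, rfl⟩ : ∃ t, s = t + 1 := ⟨s - 1, by omega⟩
  rw [Nat.add_sub_cancel, pow_succ p s, mul_left_comm, Nat.mul_dvd_mul_iff_left (pow_pos hp.out.pos _)]
  refine Nat.Coprime.dvd_mul_right ?_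
  have := hp.out.one_le
  exact (Nat.coprime_self_sub_right this).2 (Nat.coprime_one_right _)

theorem pow_dvd_card_order [hp : Fact p.Prime] (h2 : p ≠ 2) {P : Subgroup G} (hP : SylowOf p P ⊤)
    (hc : ¬ IsCyclic P) {s : ℕ} (hs : 1 < s) : p ^ s ∣ Nat.card {x : G // orderOf x = p ^ s} := by
  rw [dvd_card_cyc_iff (by omega)]
  have h1 := (dvd_card_cyc_iff (by omega)).1 (pow_dvd_card_order_pgroup hP.isPGroup h2 hc hs)
  have hQ : ∀ {K : Type _} [Group K] [Finite K] (g : K) (H : Subgroup K), IsCyclic H ∧ ♯H = p ^ s →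
      IsCyclic (cj g H) ∧ ♯(cj g H) = p ^ s := fun g H h => ⟨isCyclic_cj.2 h.1, by rw [card_cj, h.2]⟩
  have h3 := card_modEq_norm hP.isPGroup (fun H => IsCyclic H ∧ ♯H = p ^ s) (fun g _ => hQ g)
  have h4 := card_modEq_norm (hP.isPGroup.to_subgroup ⊤) (fun H => IsCyclic H ∧ ♯H = p ^ s) (fun g _ => hQ g)
  refine (h3.dvd_iff dvd_rfl).2 (((h4.dvd_iff dvd_rfl).1 h1).trans (dvd_of_eq ?_))
  refine Nat.card_eq_of_bijective (fun H => ⟨H.1.map P.subtype, ?_, ?_, ?_⟩) ⟨?_, ?_⟩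
  · haveI : H.1.Normal := normalizer_eq_top_iff.1 (top_le_iff.1 H.2.1)
    exact (NormalIn.of_map_subtype H.1 this).norm
  · haveI := H.2.2.1
    exact isCyclic_of_surjective _ (H.1.equivMapOfInjective _ P.subtype_injective).surjective
  · rw [card_map_of_injective P.subtype_injective, H.2.2.2]
  · intro a b h
    exact Subtype.ext (map_injective P.subtype_injective (congrArg Subtype.val h))
  · rintro ⟨H, h5, h6, h7⟩
    have h8 : H ≤ P := hP.pgroup_le_of_norm (IsPGroup.of_card h7) le_top (Or.inr h5)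
    refine ⟨⟨H.subgroupOf P, ?_, ?_, ?_⟩, Subtype.ext (map_subgroupOf_eq_of_le h8)⟩
    · rw [top_le_iff, normalizer_eq_top_iff]
      exact normal_subgroupOf_of_le_normalizer h5
    · exact isCyclic_of_surjective _ (subgroupOfEquivOfLe h8).symm.surjective
    · rw [Nat.card_congr (subgroupOfEquivOfLe h8).toEquiv, h7]

theorem card_isConj_fun (Q : G → Prop) (f : G → G) (hQ : ∀ g x, Q x → Q (g * x * g⁻¹))
    (hf : ∀ g x, f (g * x * g⁻¹) = g * f x * g⁻¹) (c : G) :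
    Nat.card {x : G // Q x ∧ IsConj c (f x)} =
      (centralizer ({c} : Set G)).index * Nat.card {x : G // Q x ∧ f x = c} := by
  rw [H26.index_cent_eq_ncard, ← Nat.card_coe_set_eq]
  refine H26.card_eq_mul_of_fiber (fun x : {x : G // Q x ∧ IsConj c (f x)} =>
    (⟨f x.1, x.2.2⟩ : {z | IsConj c z})) _ ?_
  rintro ⟨y, hy⟩
  obtain ⟨g, rfl⟩ := isConj_iff.mp hy
  refine (Nat.card_eq_of_bijective (fun x => ⟨⟨g * x.1 * g⁻¹, hQ _ _ x.2.1, by rw [hf, x.2.2]; exact hy⟩,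
    Subtype.ext (by simp only [hf, x.2.2])⟩) ⟨?_, ?_⟩).symm
  · intro a b h
    have : g * a.1 * g⁻¹ = g * b.1 * g⁻¹ := congrArg (fun t => t.1.1) h
    exact Subtype.ext (by simpa using this)
  · rintro ⟨⟨x, hx⟩, h⟩
    have h1 : f x = g * c * g⁻¹ := congrArg Subtype.val h
    refine ⟨⟨g⁻¹ * x * g⁻¹⁻¹, hQ _ _ hx.1, by rw [hf, h1]; group⟩, Subtype.ext (Subtype.ext ?_)⟩
    simp [mul_assoc]

/-- elements of order `a * m` with given `a`-th power -/
theorem card_order_mul_pow_eq {a m : ℕ} (h : a.Coprime m) {c : G} (hc : orderOf c = m) :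
    Nat.card {x : G // orderOf x = a * m ∧ x ^ a = c} =
      Nat.card {x : centralizer ({c} : Set G) // orderOf x = a} := by
  have hm : m ≠ 0 := hc ▸ (orderOf_pos c).ne'
  obtain ⟨y, hy, hya⟩ : ∃ y ∈ zpowers c, y ^ a = c := by
    obtain ⟨k, hk⟩ := exists_pow_eq_self_of_coprime (x := c) (n := a) (by rwa [hc])
    exact ⟨c ^ k, pow_mem (mem_zpowers c) k, by rw [← pow_mul, mul_comm, pow_mul, hk]⟩
  have hyo : orderOf y = m := by
    refine Nat.dvd_antisymm (hc ▸ orderOf_dvd_of_mem_zpowers hy) ?_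
    rw [← hc, ← hya]; exact orderOf_pow_dvd _
  have hcm : ∀ x : G, x * c = c * x → Commute x y := by
    intro x hx
    obtain ⟨k, rfl⟩ := hy
    exact Commute.zpow_right hx k
  have hyc : y * c = c * y := (hcm c rfl).symm
  have k1 : ∀ x : {x : centralizer ({c} : Set G) // orderOf x = a},
      orderOf (x.1.1 * y) = a * m ∧ (x.1.1 * y) ^ a = c := by
    intro x
    have h1 : orderOf x.1.1 = a := by rw [orderOf_coe, x.2]
    have h2 := hcm _ (mem_centralizer_singleton_iff.1 x.1.2)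
    constructor
    · rw [h2.orderOf_mul_eq_mul_orderOf_of_coprime (by rwa [h1, hyo]), h1, hyo]
    · rw [h2.mul_pow, hya, orderOf_dvd_iff_pow_eq_one.1 h1.dvd, one_mul]
  refine (Nat.card_eq_of_bijective (fun x => ⟨x.1.1 * y, k1 x⟩) ⟨?_, ?_⟩).symm
  · intro u v huv
    exact Subtype.ext (Subtype.ext (mul_right_cancel (congrArg Subtype.val huv)))
  · rintro ⟨x, h1, h2⟩
    have h3 : x * c = c * x := by rw [← h2]; exact (Commute.self_pow x a)
    have h4 : Commute x y := hcm x h3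
    have h5 : (x * y⁻¹) * c = c * (x * y⁻¹) := Commute.mul_left h3 (Commute.inv_left hyc)
    refine ⟨⟨⟨x * y⁻¹, mem_centralizer_singleton_iff.2 h5⟩, ?_⟩, Subtype.ext (by simp)⟩
    rw [← orderOf_coe]
    show orderOf (x * y⁻¹) = a
    have h6 : orderOf (x * y⁻¹) ∣ a := orderOf_dvd_of_pow_eq_one (by
      rw [h4.inv_right.mul_pow, inv_pow, hya, h2, mul_inv_cancel])
    have h7 := (hcm _ h5).orderOf_mul_eq_mul_orderOf_of_coprime (by rw [hyo]; exact h.coprime_dvd_left h6)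
    rw [inv_mul_cancel_right, h1, hyo] at h7
    exact (Nat.eq_of_mul_eq_mul_right (Nat.pos_of_ne_zero hm) h7).symm

end Cfsg.Agent.H25
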