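/-
Groups whose class sizes are `1`, `m` and `n m`: Camina's two-prime theorem, and the coprime case.
-/
import Cfsg.Agent.H25.Ito4
import Cfsg.Agent.S4127

set_option autoImplicit false
set_option linter.style.haveILetI false

namespace Cfsg.Agent.H25

open Subgroup Cfsg.Agent.H20 Cfsg.Agent.H21
open scoped Pointwise commutatorElement

variable {G : Type*} [Group G] [Finite G]

/-- at least three primes divide `|G : Z(G)|`. -/
def T3 (G : Type*) [Group G] : Prop :=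
  ∀ p q : ℕ, p.Prime → q.Prime → ∃ r : ℕ, r.Prime ∧ r ∣ (center G).index ∧ r ≠ p ∧ r ≠ q

omit [Finite G] in
theorem T3.two (h : T3 G) {p : ℕ} (hp : p.Prime) :
    ∃ s t : ℕ, s.Prime ∧ t.Prime ∧ s ≠ t ∧ s ≠ p ∧ t ≠ p ∧ s ∣ (center G).index ∧ t ∣ (center G).index := by
  obtain ⟨s, hs, h1, h2, -⟩ := h p p hp hp
  obtain ⟨t, ht, h3, h4, h5⟩ := h p s hp hs
  exact ⟨s, t, hs, ht, h5.symm, h2, h4, h1, h3⟩

theorem eq_of_mul_pi {π : Set ℕ} {a b c d : ℕ} (ha : PiNat πᶜ a) (hb : PiNat π b) (hc : PiNat πᶜ c)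
    (hd : PiNat π d) (e : a * b = c * d) : b = d :=
  Nat.dvd_antisymm (hb.dvd_of_dvd_mul_left hc (e ▸ Dvd.intro_left a rfl))
    (hd.dvd_of_dvd_mul_left ha (e ▸ Dvd.intro_left c rfl))

theorem index_sup_pi {π : Set ℕ} {K H : Subgroup G} [K.Normal] (hK : IsPi πᶜ K) (hi : PiNat π K.index) {a b : ℕ}
    (ha : PiNat πᶜ a) (hb : PiNat π b) (e : H.index = a * b) : (H ⊔ K).index = b := by
  refine eq_of_mul_pi (a := H.relIndex (H ⊔ K)) ?_ (hi.of_dvd (index_dvd_of_le le_sup_right)) ha hb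
    ((relIndex_mul_index le_sup_left).trans e)
  rw [relIndex_sup_of_norm' (Or.inl le_normalizer_of_normal)]
  exact hK.relIndex H

theorem le_of_index_pi {π : Set ℕ} {K H : Subgroup G} [K.Normal] (hK : IsPi πᶜ K) (hi : PiNat π H.index) : K ≤ H := by
  refine hK.le_of_relIndex (PiNat.compl_compl.2 (hi.of_dvd ?_))
  rw [← relIndex_sup_of_norm' (Or.inl le_normalizer_of_normal)]
  exact relIndex_dvd_index_of_le le_sup_left

theorem comm_of_sylow {p : ℕ} {u : G} (hu : MinC u) (hup : IsPiElt {p} u) {S : Subgroup G} (hS : SylowOf p S C₁⟦u⟧)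
    (hc : IsMulCommutative S) : IsMulCommutative C₁⟦u⟧ := by
  rw [← hS.sup_eq_of_relIndex (K := C₁⟦u⟧ ⊓ C⟦C₁⟦u⟧⟧) inf_le_left fun s hs hd => ?_]
  · exact comm_sup (comm_center _) hc (inf_le_right.trans (cent_anti hS.le))
  by_contra hsp
  obtain ⟨v, hv, hv', hvs⟩ := exists_elt_not_mem hs hd
  exact hv' ⟨hv, le_cent1_iff.1 (hu.le hup (elt_ne hvs hsp) hv)⟩

theorem core_le {p : ℕ} [Fact p.Prime] {D : Subgroup G} (hD : IsMulCommutative D) (hC : C⟦piCoreOf {p} D⟧ ≤ D) {a : G}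
    (ha : a ∈ D) (hap : IsPiElt {p}ᶜ a) (hS : SylowOf p (piCoreOf {p} D) C₁⟦a⟧) :
    piCoreOf {p} ⊤ ≤ piCoreOf {p} D := by
  set S := piCoreOf {p} D
  set V := piCoreOf {p} (⊤ : Subgroup G)
  haveI : V.Normal := (piCoreOf_normalIn _ _).normal
  have hV : IsPGroup p V := isPGroup_piCoreOf p ⊤
  have e : C⟦S⟧ = D := le_antisymm hC (le_cent_of_comm hD le_rfl (piCoreOf_le _ _))
  have h1 : V ⊓ N⟦S⟧ ≤ N⟦piCoreOf {p}ᶜ D⟧ :=
    norm_piCoreOf _ (inf_le_right.trans (e ▸ norm_le_norm_cent S))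
  have h2 : V ⊓ N⟦S⟧ ≤ C⟦piCoreOf {p}ᶜ D⟧ := commg_eq_bot.1 <| eq_bot_iff.2 <| by
    rw [← (isPi_piCoreOf {p} (⊤ : Subgroup G)).inf_eq_bot (isPi_piCoreOf {p}ᶜ D)]
    exact le_inf ((commutator_mono inf_le_left le_rfl).trans (commg_le_left le_normalizer_of_normal))
      (commg_le_right h1)
  have h3 : V ⊓ N⟦S⟧ ≤ S := hS.pgroup_le_of_norm hV.to_inf_left (h2.trans (cent_le_cent1
    (le_piCoreOf_of_nil (nil_of_comm hD) (zpowers_le.2 ha) (isPi_zpowers.2 hap) (mem_zpowers a)))) (Or.inl inf_le_right)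
  have h4 := eq_of_nilpotent_of_inf_norm_le
    (isPGroup_sup hS.isPGroup hV (Or.inl le_normalizer_of_normal)).isNilpotent le_sup_left (by
      rw [modular_left (Or.inl le_normalizer_of_normal) (le_norm_self S)]; exact sup_le le_rfl h3)
  exact h4 ▸ le_sup_right

theorem exists_second {p : ℕ} [hp : Fact p.Prime] {T P : Subgroup G} (hT : IsPGroup p T) (hP : IsPGroup p P)
    (hn : P ≤ N⟦T⟧) (h : ¬ T ≤ center G) :
    ∃ g ∈ T, g ∉ center G ∧ g ^ p ∈ center G ∧ ∀ x ∈ P, g⁻¹ * (x * g * x⁻¹) ∈ center G := by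
  set f := QuotientGroup.mk' (center G)
  have h1 : T.map f ≠ ⊥ := by rwa [Ne, Subgroup.map_eq_bot_iff, QuotientGroup.ker_mk']
  have h2 := inf_cent_ne_bot_of_pgroup (hT.map f) (hP.map f) (norm_map f hn) h1
  obtain ⟨_, ⟨⟨g, hg, rfl⟩, hc⟩, g1⟩ := exists_prime_order_mem hp.out
    (dvd_card_of_isPGroup (hT.map f).to_inf_left h2)
  refine ⟨g, hg, fun e => ne_one_of_orderOf hp.out g1 ((QuotientGroup.eq_one_iff g).2 e), ?_, fun x hx => ?_⟩
  · rw [← QuotientGroup.eq_one_iff]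
    change f _ = 1
    rw [map_pow, ← g1, pow_orderOf_eq_one]
  · rw [← QuotientGroup.eq_one_iff]
    change f _ = 1
    have := mem_cent.1 hc _ ⟨x, hx, rfl⟩
    simp only [map_mul, map_inv, this]
    group

theorem norm_cent1_of_second {g x : G} (h : g⁻¹ * (x * g * x⁻¹) ∈ center G) : x ∈ N⟦C₁⟦g⟧⟧ := by
  rw [mem_norm_iff_cj, cj_cent1, ← cent1_mul_center (x := g) h, mul_inv_cancel_left]

namespace Rk2

variable {m n : ℕ} (h : Rk2 G m n)
include h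

theorem not_big3 (hG : T3 G) {p : ℕ} (hp : p.Prime) (hn : PiNat {p} n) {y : G} (hy : C₁⟦y⟧.index = m)
    (hc : ∀ s : ℕ, s.Prime → s ≠ p → ∀ v ∈ C₁⟦y⟧, IsPiElt {s} v → v ∈ C⟦C₁⟦y⟧⟧) : False := by
  obtain ⟨s, t, hs, ht, hst, hsp, htp, hsZ, htZ⟩ := T3.two hG hp
  obtain ⟨x, z, hz, hlt⟩ := h.ex
  have hx := (h.lt_iff hz hlt.le hlt.ne).1
  have key : ∀ q : ℕ, q.Prime → q ≠ p → q ∣ (center G).index →
      q ∣ (center G).relIndex C₁⟦y⟧ ∧ q ∣ C₁⟦y⟧.index := fun q hq hqp hd =>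
    ⟨h.relIndex_big hx hy ▸ (h.dvd_small hx hq hd).mul_right n,
      hy ▸ ((Nat.Prime.dvd_mul hq).1 (h.dvd_mul hq hd)).resolve_left fun e => hqp (hn q hq e)⟩
  refine phi hs ht hst (fun v hv hv' hvZ => h.maxC hy v hvZ (le_cent1_iff.2 ?_)) (key s hs hsp hsZ).1
    (key t ht htp htZ).1 (key s hs hsp hsZ).2 (key t ht htp htZ).2
  refine mem_of_forall_pelt hv' hv fun q hq hπ => hc q hq ?_
  rcases hπ with rfl | rfl <;> assumption

theorem prime_eq3 (hG : T3 G) {x v w : G} (hx : C₁⟦x⟧.index = n * m) {p q : ℕ} (hp : p.Prime)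
    (hq : q.Prime) (hv : v ∈ C₁⟦x⟧) (hv' : v ∉ C⟦C₁⟦x⟧⟧) (hvp : IsPiElt {p} v) (hw : w ∈ C₁⟦x⟧)
    (hw' : w ∉ C⟦C₁⟦x⟧⟧) (hwq : IsPiElt {q} w) : p = q := by
  by_contra hpq
  have K1 := fun u => h.not_eq (u := u) hx hv hv' hvp
  have K2 := fun u => h.not_eq (u := u) hx hw hw' hwq
  obtain ⟨a, b, ha, hb, hap, hbp, hab, e⟩ := exists_decomp {p} x
  obtain ⟨c, d, hc, hd, hcq, hdq, hcd, e'⟩ := exists_decomp {q} b
  have hx' := cent1_mul hap hbp hab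
  rw [← e] at hx'
  have hb' := cent1_mul hcq hdq hcd
  rw [← e'] at hb'
  have la := H26.cent_le_cent_of_mem_zpowers ha
  have lb := H26.cent_le_cent_of_mem_zpowers hb
  have lc := H26.cent_le_cent_of_mem_zpowers hc
  have ld := H26.cent_le_cent_of_mem_zpowers hd
  have haZ : a ∉ center G := fun z => K1 b hbp (by rw [hx', H26.cent_eq_top_iff.2 z, top_inf_eq])
  have had : d ∈ C₁⟦a⟧ := mem_cent1.2 (H26.commute_of_mem_zpowers (zpowers_le.2 hb hd) ha)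
  have h1 : C₁⟦a⟧ ≤ C₁⟦d⟧ := h.le_of_ne hap (elt_of_mem_zpowers hbp hd) haZ la (lb.trans ld) had
    (K2 _ (elt_mul (elt_ne hap hpq) hdq had))
  have h2 : C₁⟦x⟧ = C₁⟦a⟧ ⊓ C₁⟦c⟧ := by rw [hx', hb', inf_left_comm, inf_eq_left.2 h1, inf_comm]
  have hcZ : c ∉ center G := fun z => K2 a (elt_ne hap hpq) (by rw [h2, H26.cent_eq_top_iff.2 z, inf_top_eq])
  have hac : c ∈ C₁⟦a⟧ := mem_cent1.2 (H26.commute_of_mem_zpowers (zpowers_le.2 hb hc) ha)
  have h3 : C₁⟦a * c⟧ = C₁⟦x⟧ := (cent1_mul hap (elt_ne hcq (Ne.symm hpq)) hac).trans h2.symm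
  obtain ⟨t, ht, htZ, htp, htq⟩ := hG p q hp hq
  obtain ⟨u, hu, huZ, hut⟩ := exists_elt_not_mem ht (h.dvd_small hx ht htZ)
  have lu : C₁⟦x⟧ ≤ C₁⟦u⟧ := h3 ▸ ((h.minC hx).congr h3).le (π := {t}ᶜ)
    (elt_mul (elt_ne hap htp.symm) (elt_ne hcq htq.symm) hac) (PiNat.compl_compl.2 hut) (h3 ▸ hu)
  have e1 := h.eq_of_ne hap (elt_ne hut htp) haZ huZ la lu (la hu)
    (K2 _ (elt_mul (elt_ne hap hpq) (elt_ne hut htq) (la hu)))
  have e2 := h.eq_of_ne hcq (elt_ne hut htq) hcZ huZ (lb.trans lc) lu (lc (lb hu))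
    (K1 _ (elt_mul (elt_ne hcq (Ne.symm hpq)) (elt_ne hut htp) (lc (lb hu))))
  exact K1 u (elt_ne hut htp) (by rw [h2, e1, e2, inf_idem])

theorem comm_small3 (hG : T3 G) {x : G} (hx : C₁⟦x⟧.index = n * m) : IsMulCommutative C₁⟦x⟧ := by
  by_contra hn
  obtain ⟨p, hp, v, hv, hv', hvp⟩ := exists_pelt_not_mem (mt comm_iff_le_cent.2 hn)
  have hA : ∀ s : ℕ, s.Prime → s ≠ p → ∀ w ∈ C₁⟦x⟧, IsPiElt {s} w → C₁⟦x⟧ ≤ C₁⟦w⟧ := fun s hs hsp w hw hws => by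
    by_contra e
    exact hsp (h.prime_eq3 hG hx hs hp hw (mt le_cent1_iff.2 e) hws hv hv' hvp)
  have K := fun u => h.not_eq (u := u) hx hv hv' hvp
  obtain ⟨s, t, hs, ht, hst, hsp, htp, hsZ, htZ⟩ := T3.two hG hp
  obtain ⟨u, hu, huZ, hus⟩ := exists_elt_not_mem hs (h.dvd_small hx hs hsZ)
  obtain ⟨u', hu', hu'Z, hut⟩ := exists_elt_not_mem ht (h.dvd_small hx ht htZ)
  have lu := hA s hs hsp u hu hus
  have e : C₁⟦u⟧ = C₁⟦u'⟧ := h.eq_of_ne hus (elt_ne hut hst.symm) huZ hu'Z lu (hA t ht htp u' hu' hut) (lu hu')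
    (K _ (elt_mul (elt_ne hus hsp) (elt_ne hut htp) (lu hu')))
  obtain ⟨-, hm, hrel⟩ := h.lt_iff huZ lu (K u (elt_ne hus hsp)).symm
  have key : ∀ q : ℕ, q.Prime → q ≠ p → ∀ w ∈ C₁⟦u⟧, IsPiElt {q} w → w ∈ C⟦C₁⟦u⟧⟧ := by
    intro q hq hqp w hw hwq
    haveI := Fact.mk hq
    obtain ⟨y, r, hrq, hrp, hyr, hyZ, ey⟩ : ∃ (y : G) (r : ℕ), q ≠ r ∧ r ≠ p ∧ IsPiElt {r} y ∧ y ∉ center G ∧
        C₁⟦y⟧ = C₁⟦u⟧ := by
      by_cases hqs : q = s
      exacts [⟨u', t, hqs ▸ hst, htp, hut, hu'Z, e.symm⟩, ⟨u, s, hqs, hsp, hus, huZ, rfl⟩]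
    rw [← ey] at hw lu ⊢
    obtain ⟨A, hA'⟩ := exists_sylowOf q C₁⟦x⟧
    have hAc : A ≤ C⟦C₁⟦y⟧⟧ := fun a ha => by
      have haq := elt_of_pgroup hA'.isPGroup ha
      exact le_cent1_iff.1 (h.le_of_ne hyr (elt_ne haq hrq) hyZ lu (hA q hq hqp a (hA'.le ha) haq) (lu (hA'.le ha))
        (K _ (elt_mul (elt_ne hyr hrp) (elt_ne haq hqp) (lu (hA'.le ha)))))
    by_contra hw'
    have e1 := cent1_mul hyr (elt_ne hwq hrq) hw
    have e2 := (h.lt_iff hyZ (e1 ▸ inf_le_left) fun e => hw' (le_cent1_iff.1 (e ▸ e1 ▸ inf_le_right))).1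
    have hwA : zpowers w ≤ C⟦A⟧ := (zpowers_le.2 hw).trans (cent_symm hAc)
    have := sylow_of_card_eq hA' (e1 ▸ le_inf (hA'.le.trans lu) (cent_zpowers w ▸ cent_symm hwA)) (hx.trans e2.symm)
    exact hw' (hAc (this.pgroup_le_of_norm (pgroup_zpowers hwq) (zpowers_le.2 (e1 ▸ ⟨hw, self_mem_cent1 w⟩))
      (Or.inl (norm_of_cent hwA)) (mem_zpowers w)))
  refine h.not_big3 hG hp (fun q hq hd => ?_) hm key
  by_contra hqp
  obtain ⟨w, hw, hwD, hwq⟩ := exists_elt_not_mem hq (hrel ▸ hd)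
  exact hwD (mem_cent1_comm.1 (le_cent1_iff.2 (key q hq hqp w hw hwq) (lu (self_mem_cent1 x))))

theorem thetaHyp3 (hG : T3 G) {r : ℕ} {y : G} (hyr : IsPiElt {r} y) (hy : y ∉ center G) :
    ThetaHyp C₁⟦y⟧ r n := thetaHyp_sub fun w hw hwr hw' => by
  have e1 := cent1_mul hyr hwr hw
  obtain ⟨e2, -, e3⟩ := h.lt_iff hy (e1 ▸ inf_le_left) fun e => hw' (le_cent1_iff.1 (e ▸ e1 ▸ inf_le_right))
  exact ⟨e1 ▸ h.comm_small3 hG e2, by rw [← e3, e1, inf_comm, inf_relIndex_right]⟩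

theorem piNat3 (hG : T3 G) {r : ℕ} (hr : r.Prime) {x y : G} (hyr : IsPiElt {r} y) (hy : y ∉ center G)
    (hlt : C₁⟦x⟧ < C₁⟦y⟧) : PiNat {r} n := by
  obtain ⟨hx, hm, hrel⟩ := h.lt_iff hy hlt.le hlt.ne
  by_contra hn
  have hdvd : n ∣ C⟦C₁⟦y⟧⟧.relIndex C₁⟦y⟧ :=
    hrel ▸ relIndex_dvd_of_le_left _ (cent_le_cent1 (hlt.le (self_mem_cent1 x)))
  obtain ⟨t, ht, htZ, hti⟩ : ∃ t : ℕ, t.Prime ∧ t ∣ (center G).index ∧ ¬ t ∣ C⟦C₁⟦y⟧⟧.relIndex C₁⟦y⟧ := by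
    by_contra! hh
    obtain ⟨s, t, hs, ht, hst, hsp, htp, hsZ, htZ⟩ := T3.two hG hr
    exact hn ((h.thetaHyp3 hG hyr hy).piNat hr hs ht hst hsp htp (index_center_coe C₁⟦y⟧ ▸ hh s hs hsZ)
      (index_center_coe C₁⟦y⟧ ▸ hh t ht htZ))
  obtain ⟨u, hu, huZ, hut⟩ := exists_elt_not_mem ht (h.relIndex_big hx hm ▸ (h.dvd_small hx ht htZ).mul_right n)
  have e : C₁⟦u⟧ = C₁⟦y⟧ := h.maxC hm u huZ <| le_cent1_iff.2 <|
    (isPi_zpowers.2 hut).le_of_normalIn (zpowers_le.2 hu) (norm_cent (le_norm_self _))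
      ((PiNat.compl_singleton_iff ht).2 hti) (mem_zpowers u)
  obtain ⟨p, hp, hd⟩ := Nat.exists_prime_and_dvd h.one_lt.ne'
  have hp' : PiNat {p} (C⟦C₁⟦y⟧⟧.relIndex C₁⟦y⟧) := fun q hq hqd => by
    by_contra hqp
    have := (h.thetaHyp3 hG hut huZ).piNat ht hp hq (Ne.symm hqp) (fun e => hti (e ▸ hd.trans hdvd))
      (fun e => hti (e ▸ hqd)) (by rw [index_center_coe, e]; exact hd.trans hdvd) (by rwa [index_center_coe, e])
    exact hti (this p hp hd ▸ hd.trans hdvd)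
  exact h.not_big3 hG hp (hp'.of_dvd hdvd) hm fun s hs hsp v hv hvs =>
    (isPi_zpowers.2 hvs).le_of_normalIn (zpowers_le.2 hv) (norm_cent (le_norm_self _))
      (hp'.mono (Set.singleton_subset_iff.2 hsp.symm)) (mem_zpowers v)

theorem not_three (hG : T3 G) : False := by
  obtain ⟨x, y, r, hr, hyr, hy, hlt⟩ := h.ex'
  have hx := (h.lt_iff hy hlt.le hlt.ne).1
  have hn := h.piNat3 hG hr hyr hy hlt
  obtain ⟨s, t, hs, ht, hst, hsp, htp, hsZ, htZ⟩ := T3.two hG hr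
  refine phi hs ht hst (fun v hv hv' hvZ => ?_) (h.dvd_small hx hs hsZ) (h.dvd_small hx ht htZ)
    (hx ▸ h.dvd_mul hs hsZ) (hx ▸ h.dvd_mul ht htZ)
  by_contra hne
  have hle : C₁⟦x⟧ ≤ C₁⟦v⟧ := fun a ha => mem_cent1.2 (comm_iff.1 (h.comm_small3 hG hx) a ha v hv)
  obtain ⟨q, hq, hπ, w, hw, hwq, e⟩ := (h.maxC (h.lt_iff hvZ hle (Ne.symm hne)).2.1).exists_pelt hv' hvZ
  obtain ⟨p, hp, hd⟩ := Nat.exists_prime_and_dvd h.one_lt.ne'
  have e1 : p = q := h.piNat3 hG hq hwq hw (e ▸ lt_of_le_of_ne hle (Ne.symm hne)) p hp hd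
  have e2 : p = r := hn p hp hd
  rcases hπ with rfl | rfl
  exacts [hsp (e1 ▸ e2), htp (e1 ▸ e2)]

theorem dvd_rel {x : G} (hx : x ∉ center G) {t : ℕ} (ht : t.Prime) (hd : t ∣ (center G).index) :
    t ∣ (center G).relIndex C₁⟦x⟧ := by
  rcases h.idx x hx with e | e
  · obtain ⟨z, y, hy, hlt⟩ := h.ex
    have hz := (h.lt_iff hy hlt.le hlt.ne).1
    exact h.relIndex_big hz e ▸ (h.dvd_small hz ht hd).mul_right n
  · exact h.dvd_small e ht hd

theorem one_lt_m : 1 < m := by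
  obtain ⟨x, y, hy, hlt⟩ := h.ex
  have := mt H26.index_cent_eq_one_iff.1 hy
  have := (h.lt_iff hy hlt.le hlt.ne).2.1
  have := h.m_pos
  omega

theorem dvd_center {t : ℕ} (hd : t ∣ n * m) : t ∣ (center G).index := by
  obtain ⟨x, y, hy, hlt⟩ := h.ex
  exact ((h.lt_iff hy hlt.le hlt.ne).1 ▸ hd).trans (index_dvd_of_le (H26.center_le_cent x))

variable {p q : ℕ} (hp : p.Prime) (hq : q.Prime) (hpq : p ≠ q) (hm : PiNat {p} m) (hn : PiNat {q} n)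
include hp hq hpq hm hn

omit [Finite G] h hp hq hm in
theorem n_compl : PiNat {p}ᶜ n := hn.mono (Set.singleton_subset_iff.2 hpq.symm)

omit hq hpq hn in
theorem p_dvd : p ∣ m := by
  obtain ⟨s, hs, hd⟩ := Nat.exists_prime_and_dvd h.one_lt_m.ne'
  exact hm s hs hd ▸ hd

omit [Finite G] hp hpq hm in
theorem q_dvd : q ∣ n := by
  obtain ⟨s, hs, hd⟩ := Nat.exists_prime_and_dvd h.one_lt.ne'
  exact hn s hs hd ▸ hd

theorem small_of_p {y : G} (hyp : IsPiElt {p} y) (hy : y ∉ center G) : C₁⟦y⟧.index = n * m := by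
  refine (h.idx y hy).resolve_left fun e => ?_
  haveI := Fact.mk hp
  have hn' := n_compl hpq hn
  obtain ⟨a, ha⟩ := (PiNat.singleton_iff hp h.m_pos.ne').1 hm
  have hK := hasNormalPComplement_iff_top.1 <| S4127.result (G := G) p a (fun x hx => by
      by_cases hxZ : x ∈ center G
      · rw [H26.index_cent_eq_one_iff.2 hxZ, Nat.dvd_one, pow_eq_one_iff] at hx
        exact hp.ne_one (hx.resolve_right (by omega))
      have hx' : p ^ (a + 1) ∣ n * p ^ a := by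
        rcases h.idx x hxZ with e | e <;> rw [e, ha] at hx
        exacts [hx.mul_left n, hx]
      rw [pow_succ'] at hx'
      exact (PiNat.compl_singleton_iff hp).1 hn' (Nat.dvd_of_mul_dvd_mul_right (pow_pos hp.pos a) hx'))
    ⟨y, (PiNat.singleton_iff hp (orderOf_pos y).ne').1 hyp, e.trans ha⟩
  set K := piCoreOf {p}ᶜ (⊤ : Subgroup G)
  haveI : K.Normal := (piCoreOf_normalIn _ _).normal
  have hi : PiNat {p} K.index := relIndex_top_right K ▸ PiNat.compl_compl.1 hK.piNat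
  have key : ∀ x : G, x ∉ center G → (C₁⟦x⟧ ⊔ K).index = m := fun x hx => by
    rcases h.idx x hx with e | e
    exacts [index_sup_pi hK.isPi hi (PiNat.one _) hm (by rw [e, one_mul]), index_sup_pi hK.isPi hi hn' hm e]
  have hKy : K ≤ C₁⟦y⟧ := le_of_index_pi hK.isPi (e ▸ hm)
  obtain ⟨g, hg, -⟩ := exists_elt_of_dvd_index hp (e ▸ h.p_dvd hp hm)
  obtain ⟨w, hw, hwZ, hwq⟩ := exists_elt_not_mem hq (h.dvd_rel (fun z => hg (H26.center_le_cent y z)) hq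
    (h.dvd_center ((h.q_dvd hq hn).mul_right m)))
  have hwK : w ∈ K := hK.mem_of_normalIn (piCoreOf_normalIn _ _) trivial (elt_ne hwq hpq.symm)
  have e1 := cent1_mul hyp (elt_ne hwq hpq.symm) (hKy hwK)
  have e2 := key (y * w) (not_mem_center_of_le (e1 ▸ inf_le_left) hy)
  have e3 : C₁⟦y * w⟧ ⊔ K = C₁⟦y⟧ := eq_of_le_index (sup_le (e1 ▸ inf_le_left) hKy) (by rw [e2, e])
  have e4 : C₁⟦y * w⟧ ⊔ K = C₁⟦w⟧ ⊔ K :=
    eq_of_le_index (sup_le_sup_right (e1 ▸ inf_le_right) K) (by rw [e2, key w hwZ])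
  exact hg (e3 ▸ e4 ▸ mem_sup_left (mem_cent1_comm.1 hw))

theorem comm_p {u : G} (hup : IsPiElt {p} u) (hu : u ∉ center G) : IsMulCommutative C₁⟦u⟧ := by
  haveI := Fact.mk hp
  haveI := Fact.mk hq
  have hs := h.small_of_p hp hq hpq hm hn hup hu
  obtain ⟨a, ha, haZ, haq⟩ := exists_elt_not_mem hq (h.dvd_rel hu hq (h.dvd_center ((h.q_dvd hq hn).mul_right m)))
  have hle := (h.minC hs).le hup (elt_ne haq hpq.symm) ha
  by_cases e : C₁⟦u⟧ = C₁⟦a⟧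
  · exact (comm_of_minC hpq (h.minC hs) ((h.minC hs).congr e.symm) hup haq ha).2
  obtain ⟨S, hS⟩ := exists_sylowOf p C₁⟦u⟧
  have H : S4034.Hyp q C₁⟦a⟧ := fun x hx => by
    rw [H26.index_cent_subgroup]
    have e1 := cent1_mul haq (((PiNat.compl_singleton_iff_coprime hq).2 (by rwa [orderOf_coe]) : IsPiElt {q}ᶜ (x : G))) x.2
    rw [← inf_relIndex_right, inf_comm, ← e1]
    by_cases e2 : C₁⟦a * x⟧ = C₁⟦a⟧
    · exact ⟨0, by rw [e2, relIndex_self, pow_zero]⟩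
    · rw [(h.lt_iff haZ (e1 ▸ inf_le_left) e2).2.2]
      exact (PiNat.singleton_iff hq (by have := h.one_lt; omega)).1 hn
  refine comm_of_sylow (h.minC hs) hup hS (comm_iff.2 fun x hx y hy => congrArg Subtype.val <|
    S4034.hyp_comm _ H (S.subgroupOf C₁⟦a⟧) ?_ ⟨x, hle (hS.le hx)⟩ hx ⟨y, hle (hS.le hy)⟩ hy)
  rw [card_subgroupOf (hS.le.trans hle)]
  exact coprime_of_isPGroup hS.isPGroup ((Nat.coprime_primes hq hp).2 hpq.symm)

theorem eq_p {u v : G} (hup : IsPiElt {p} u) (hu : u ∉ center G) (hvp : IsPiElt {p} v) (hv : v ∉ center G)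
    (hc : v ∈ C₁⟦u⟧) : C₁⟦u⟧ = C₁⟦v⟧ :=
  eq_of_le_index (fun a ha => mem_cent1.2 (comm_iff.1 (h.comm_p hp hq hpq hm hn hup hu) a ha v hc))
    (by rw [h.small_of_p hp hq hpq hm hn hup hu, h.small_of_p hp hq hpq hm hn hvp hv])

theorem exists_big {u : G} (hup : IsPiElt {p} u) (hu : u ∉ center G) :
    ∃ a ∈ C₁⟦u⟧, IsPiElt {q} a ∧ a ∉ center G ∧ C₁⟦a⟧.index = m ∧ C₁⟦u⟧ ≤ C₁⟦a⟧ ∧
      ∀ S, SylowOf p S C₁⟦u⟧ → SylowOf p S C₁⟦a⟧ := by
  haveI := Fact.mk hp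
  have hs := h.small_of_p hp hq hpq hm hn hup hu
  have h1 := (h.p_dvd hp hm).mul_left n
  have h2 := (h.q_dvd hq hn).mul_right m
  by_contra hh
  refine phi hp hq hpq (fun v hv hv' hvZ => ?_) (h.dvd_rel hu hp (h.dvd_center h1)) (h.dvd_rel hu hq (h.dvd_center h2))
    (hs ▸ h1) (hs ▸ h2)
  by_contra hne
  have hle : C₁⟦u⟧ ≤ C₁⟦v⟧ := fun a ha => mem_cent1.2 (comm_iff.1 (h.comm_p hp hq hpq hm hn hup hu) a ha v hv)
  obtain ⟨-, e1, e2⟩ := h.lt_iff hvZ hle (Ne.symm hne)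
  obtain ⟨s, hs, hπ, w, hw, hws, e⟩ := (h.maxC e1).exists_pelt hv' hvZ
  rw [← e] at e1 e2 hle
  rcases hπ with rfl | rfl
  · exact h.ne (e1.symm.trans (h.small_of_p hp hq hpq hm hn hws hw))
  · exact hh ⟨w, mem_cent1_comm.1 (hle (self_mem_cent1 u)), hws, hw, e1, hle, fun S hS =>
      hS.sylow_trans_not_dvd hle (e2 ▸ (PiNat.compl_singleton_iff hp).1 (n_compl hpq hn))⟩

theorem core_central : piCoreOf {p} ⊤ ≤ center G := fun v hv => by
  haveI := Fact.mk hp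
  by_contra hvZ
  have hvp : IsPiElt {p} v := (isPi_piCoreOf _ _).elt hv
  obtain ⟨P, hP⟩ := exists_sylowOf p (⊤ : Subgroup G)
  refine sylow_not_le hP (h.small_of_p hp hq hpq hm hn hvp hvZ ▸ (h.p_dvd hp hm).mul_left n) fun u hu => ?_
  by_cases huZ : u ∈ center G
  · exact H26.center_le_cent v huZ
  have hup := elt_of_pgroup hP.isPGroup hu
  have hc := h.comm_p hp hq hpq hm hn hup huZ
  obtain ⟨a, ha, haq, -, -, -, hS⟩ := h.exists_big hp hq hpq hm hn hup huZ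
  exact mem_cent1_comm.1 (piCoreOf_le _ _ (core_le hc (cent_le_cent1 (le_piCoreOf_of_nil (nil_of_comm hc)
    (zpowers_le.2 (self_mem_cent1 u)) (isPi_zpowers.2 hup) (mem_zpowers u))) ha (elt_ne haq hpq.symm)
    (hS _ (pCoreOf_sylow_of_nil (nil_of_comm hc))) hv))

theorem big_mem {a : G} (haq : IsPiElt {q} a) (ha : C₁⟦a⟧.index = m) :
    a ∈ piCoreOf {p}ᶜ ⊤ ⊓ C⟦piCoreOf {p}ᶜ (⊤ : Subgroup G)⟧ := by
  haveI := Fact.mk hq
  haveI : (piCoreOf {p}ᶜ (⊤ : Subgroup G)).Normal := (piCoreOf_normalIn _ _).normal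
  have h1 : piCoreOf {p}ᶜ ⊤ ≤ C₁⟦a⟧ := le_of_index_pi (isPi_piCoreOf _ _) (ha ▸ hm)
  have h2 : fittingOf ⊤ ≤ C₁⟦a⟧ := fittingOf_le_of_forall_pCoreOf fun r hr _ => by
    by_cases e : r = p
    · exact (e ▸ h.core_central hp hq hpq hm hn).trans (H26.center_le_cent a)
    · exact (piCoreOf_mono_pi (Set.singleton_subset_iff.2 e) ⊤).trans h1
  have h3 := cent_fittingOf_le (sol_top_iff.2 h.solvable) ⟨trivial, le_cent1_iff.1 h2⟩
  exact ⟨piCoreOf_mono_pi (Set.singleton_subset_iff.2 hpq.symm) ⊤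
    (le_pCoreOf_of_le_fittingOf (zpowers_le.2 h3) (pgroup_zpowers haq) (mem_zpowers a)), le_cent1_iff.1 h1⟩

theorem not_coprime : False := by
  haveI := Fact.mk hp
  have hpm := h.p_dvd hp hm
  set U := piCoreOf {p}ᶜ (⊤ : Subgroup G) with hU
  haveI : U.Normal := (piCoreOf_normalIn _ _).normal
  set W := U ⊓ C⟦U⟧ with hW
  set Y := pPrimePCoreOf p (⊤ : Subgroup G) with hY
  haveI : Y.Normal := (ppcore_normalIn p ⊤).normal
  obtain ⟨P, hP⟩ := exists_sylowOf p (⊤ : Subgroup G)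
  have hT : SylowOf p (P ⊓ Y) Y := hP.inf_normalIn (ppcore_normalIn p ⊤)
  have hTZ : ¬ P ⊓ Y ≤ center G := fun e => by
    have h1 := cent_sylow_ppcore_le (sol_top_iff.2 h.solvable) hT
    have h2 : ⊤ ≤ Y := (le_inf le_rfl (cent_symm (cent_top (G := G) ▸ e))).trans h1
    exact sylow_not_le hP (h.dvd_center (hpm.mul_left n)) ((le_inf le_rfl (le_top.trans h2)).trans e)
  obtain ⟨g, hg, hgZ, -, hg2⟩ := exists_second hT.isPGroup hP.isPGroup
    (norm_inf (le_norm_self P) le_normalizer_of_normal) hTZ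
  have hPD : P ≤ N⟦C₁⟦g⟧⟧ := fun x hx => norm_cent1_of_second (hg2 x hx)
  have hgp := elt_of_pgroup hT.isPGroup hg
  obtain ⟨a, ha, haq, haZ, ham, hle, hS⟩ := h.exists_big hp hq hpq hm hn hgp hgZ
  have hS1 : SylowOf p (P ⊓ C₁⟦g⟧) C₁⟦g⟧ := hP.inf_norm hPD le_top
  have e1 : P ⊓ C₁⟦a⟧ = P ⊓ C₁⟦g⟧ := (hS _ hS1).inf_eq_of_le hP.isPGroup inf_le_left
  have haW := h.big_mem hp hq hpq hm hn haq ham
  have hUa : U ≤ C₁⟦a⟧ := le_cent1_iff.2 haW.2
  set T := P ⊓ Y ⊓ C₁⟦g⟧ with hT'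
  have e2 : Y ⊓ C₁⟦a⟧ = U ⊔ T := by
    have e0 : U ⊔ P ⊓ Y = Y := ppcore_eq_sup hT
    have := modular_left (B := P ⊓ Y) (Or.inr le_normalizer_of_normal) hUa
    rwa [e0, inf_right_comm, e1, inf_right_comm] at this
  haveI : (Y ⊓ C₁⟦a⟧).Normal := by
    refine normalizer_eq_top_iff.1 (top_le_iff.1 ?_)
    rw [← hP.sup_eq_of_relIndex (K := C₁⟦a⟧) le_top (by rwa [relIndex_top_right, ham])]
    refine sup_le (norm_inf le_normalizer_of_normal (le_norm_self _)) ?_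
    rw [e2]
    exact norm_sup le_normalizer_of_normal (norm_inf (norm_inf (le_norm_self P) le_normalizer_of_normal) hPD)
  set X := Y ⊓ C₁⟦a⟧ with hX
  have hWc : IsMulCommutative W := comm_center U
  have hd : (W ⊓ C⟦X⟧) ⊓ ⁅W, X⁆ = ⊥ := by
    have hc : (♯W).Coprime (♯T) := ((isPi_piCoreOf {p}ᶜ ⊤).inf_left _).coprime'
      (isPi_singleton_iff.2 hT.isPGroup.to_inf_left)
    rw [eq_bot_iff, ← coprime_comm_cent_inf_commg hWc le_normalizer_of_normal hc]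
    refine inf_le_inf (inf_le_inf_left _ (cent_anti (e2 ▸ le_sup_right))) ?_
    rw [e2]
    refine commg_sup_right_le (norm_of_cent (cent_symm ((commg_le_left le_normalizer_of_normal).trans inf_le_right)))
      (le_sup_right.trans (sup_le_norm_commg _ _)) ?_ le_rfl
    rw [commg_eq_bot.2 inf_le_right]
    exact bot_le
  have haX : a ∈ W ⊓ C⟦X⟧ := ⟨haW, le_cent1_iff.1 inf_le_right⟩
  by_cases h0 : ⁅W, X⁆ = ⊥
  · obtain ⟨k, hk, hkD⟩ := SetLike.not_le_iff_exists.1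
      (sylow_not_le hP (h.small_of_p hp hq hpq hm hn hgp hgZ ▸ hpm.mul_left n))
    obtain ⟨b, hb, hbq, -, hbm, -⟩ := h.exists_big hp hq hpq hm hn (elt_of_pgroup hP.isPGroup hk)
      fun z => hkD (H26.center_le_cent g z)
    have hbD : b ∈ C₁⟦g⟧ := cent_le_cent1 (show g ∈ X from ⟨hg.2, hle (self_mem_cent1 g)⟩)
      (commg_eq_bot.1 h0 (h.big_mem hp hq hpq hm hn hbq hbm))
    have hle' : C₁⟦g⟧ ≤ C₁⟦b⟧ := fun x hx => mem_cent1.2 (comm_iff.1 (h.comm_p hp hq hpq hm hn hgp hgZ) x hx b hbD)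
    have h3 : SylowOf p (P ⊓ C₁⟦g⟧) C₁⟦b⟧ := hS1.sylow_trans_not_dvd hle' fun e => by
      have h4 := relIndex_mul_index hle'
      rw [hbm, h.small_of_p hp hq hpq hm hn hgp hgZ] at h4
      rw [Nat.eq_of_mul_eq_mul_right h.m_pos h4] at e
      exact (PiNat.compl_singleton_iff hp).1 (n_compl hpq hn) e
    exact hkD ((h3.inf_eq_of_le hP.isPGroup inf_le_left).le ⟨hk, mem_cent1_comm.1 hb⟩).2
  obtain ⟨b, hb, b1⟩ := exists_ne_one h0
  have hbW : b ∈ W := commg_le_left le_normalizer_of_normal hb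
  have key : ∀ x ∈ C₁⟦a * b⟧, x ∈ C₁⟦a⟧ ∧ x ∈ C₁⟦b⟧ := fun x hx => by
    have h1 : a⁻¹ * (x * a * x⁻¹) = b * (x * b * x⁻¹)⁻¹ := by
      have := mem_cent1.1 hx
      calc a⁻¹ * (x * a * x⁻¹) = a⁻¹ * (x * (a * b)) * b⁻¹ * x⁻¹ := by group
        _ = _ := by rw [this]; group
    have h2 : a⁻¹ * (x * a * x⁻¹) ∈ (W ⊓ C⟦X⟧) ⊓ ⁅W, X⁆ :=
      mem_inf.2 ⟨mul_mem (inv_mem haX) (Normal.conj_mem inferInstance a haX x),
        h1 ▸ mul_mem hb (inv_mem (Normal.conj_mem inferInstance b hb x))⟩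
    rw [hd, mem_bot] at h2
    rw [h2, eq_comm, mul_inv_eq_one, eq_mul_inv_iff_mul_eq] at h1
    rw [inv_mul_eq_one, eq_mul_inv_iff_mul_eq] at h2
    exact ⟨mem_cent1.2 h2.symm, mem_cent1.2 h1.symm⟩
  have l1 : C₁⟦a * b⟧ ≤ C₁⟦a⟧ := fun x hx => (key x hx).1
  have l2 : PiNat {p}ᶜ (C₁⟦a * b⟧.relIndex C₁⟦a⟧) := by
    by_cases e : C₁⟦a * b⟧ = C₁⟦a⟧
    · rw [e, relIndex_self]; exact PiNat.one _
    · exact (h.lt_iff haZ l1 e).2.2 ▸ n_compl hpq hn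
  have l3 : X ≤ C₁⟦a * b⟧ := relIndex_eq_one.1 <| PiNat.eq_one (π := {p})
    ((piNat_ppcore p ⊤).of_dvd ((relIndex_dvd_of_le_left X (le_cent1_iff.2 (mul_mem haW.2 hbW.2))).trans
      (relIndex_dvd_of_norm inf_le_left le_normalizer_of_normal))) <| l2.of_dvd <| by
      rw [← relIndex_sup_of_norm (Or.inr le_normalizer_of_normal)]
      exact relIndex_dvd_of_le_right le_sup_right (sup_le inf_le_right l1)
  exact b1 (mem_bot.1 (hd ▸ mem_inf.2 ⟨mem_inf.2 ⟨hbW, le_cent1_iff.1 fun x hx => (key x (l3 hx)).2⟩, hb⟩))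

omit hp hq hpq hm hn in
theorem not_cop (hc : m.Coprime n) : False := by
  refine h.not_three fun p q hp hq => ?_
  by_contra! hh
  obtain ⟨s, hs, hsm⟩ := Nat.exists_prime_and_dvd h.one_lt_m.ne'
  obtain ⟨t, ht, htn⟩ := Nat.exists_prime_and_dvd h.one_lt.ne'
  have k : ∀ r : ℕ, r.Prime → r ∣ m → ¬ r ∣ n := fun r hr h1 h2 => hr.ne_one (Nat.eq_one_of_dvd_coprimes hc h1 h2)
  have hst : s ≠ t := fun e => k s hs hsm (e ▸ htn)
  have a1 := hh s hs (h.dvd_center (hsm.mul_left n))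
  have a2 := hh t ht (h.dvd_center (htn.mul_right m))
  refine h.not_coprime hs ht hst (fun r hr hd => ?_) fun r hr hd => ?_
  · have a3 := hh r hr (h.dvd_center (hd.mul_left n))
    have : r ≠ t := fun e => k r hr hd (e ▸ htn)
    change r = s
    omega
  · have a3 := hh r hr (h.dvd_center (hd.mul_right m))
    have : r ≠ s := fun e => k r hr (e ▸ hsm) hd
    change r = t
    omega

end Rk2

/-- class sizes `1, m, n m`, with no proper inclusion between noncentral centralizers. -/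
structure Fr2 (G : Type*) [Group G] (m n : ℕ) : Prop where
  one_lt : 1 < n
  cop : m.Coprime n
  idx : ∀ x : G, x ∉ center G → C₁⟦x⟧.index = m ∨ C₁⟦x⟧.index = n * m
  max : ∀ x : G, x ∉ center G → MaxC x
  big : ∃ x : G, x ∉ center G ∧ C₁⟦x⟧.index = m
  small : ∃ x : G, x ∉ center G ∧ C₁⟦x⟧.index = n * m

namespace Fr2

variable {m n : ℕ} (h : Fr2 G m n)
include h

omit [Finite G] in
theorem min {x : G} (hx : x ∉ center G) : MinC x := fun y hle =>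
  (h.max y (not_mem_center_of_le hle hx) x hx hle).symm

theorem one_lt_m : 1 < m := by
  obtain ⟨y, hy, e⟩ := h.big
  have := mt H26.index_cent_eq_one_iff.1 hy
  have := C₁⟦y⟧.index_ne_zero_of_finite
  omega

theorem dvd_mul {t : ℕ} (ht : t.Prime) (hd : t ∣ (center G).index) : t ∣ n * m := by
  obtain ⟨x, hx⟩ := exists_dvd_class ht hd
  by_cases hxZ : x ∈ center G
  · rw [H26.index_cent_eq_one_iff.2 hxZ] at hx; exact absurd hx ht.not_dvd_one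
  · rcases h.idx x hxZ with e | e <;> rw [e] at hx
    exacts [hx.mul_left n, hx]

omit [Finite G] in
theorem relIndex_big {x y : G} (hx : C₁⟦x⟧.index = n * m) (hy : C₁⟦y⟧.index = m) (hm : 0 < m) :
    (center G).relIndex C₁⟦y⟧ = n * (center G).relIndex C₁⟦x⟧ := by
  have h1 := relIndex_mul_index (H26.center_le_cent x)
  rw [hx, ← relIndex_mul_index (H26.center_le_cent y), hy, ← mul_assoc] at h1
  exact (Nat.eq_of_mul_eq_mul_right hm h1).symm.trans (mul_comm _ _)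

theorem exists_p : ∃ p : ℕ, p.Prime ∧ PiNat {p} m ∧ ∀ z : G, C₁⟦z⟧.index = n * m →
    PiNat {p} ((center G).relIndex C₁⟦z⟧) ∧ p ∣ (center G).relIndex C₁⟦z⟧ := by
  obtain ⟨z, hz, e⟩ := h.small
  obtain ⟨t, ht, hd⟩ := Nat.exists_prime_and_dvd
    (mt relIndex_eq_one.1 fun hle => hz (hle (self_mem_cent1 z)))
  have h1 : PiNat {t} ((center G).relIndex C₁⟦z⟧) := fun s hs hsd => by
    by_contra hst
    rcases free_cases hz (h.min hz) (h.max z hz) with hc | ⟨r, -, hr⟩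
    · have k : ∀ q : ℕ, q.Prime → q ∣ (center G).relIndex C₁⟦z⟧ → q ∣ C₁⟦z⟧.index := fun q hq hqd =>
        e ▸ h.dvd_mul hq (hqd.trans (relIndex_dvd_index_of_le (H26.center_le_cent z)))
      exact phi hs ht hst (fun v hv _ hvZ => h.max z hz v hvZ fun a ha => mem_cent1.2 (comm_iff.1 hc a ha v hv))
        hsd hd (k s hs hsd) (k t ht hd)
    · exact hst ((hr s hs hsd).trans (hr t ht hd).symm)
  refine ⟨t, ht, fun r hr hrm => ?_, fun w hw => relIndex_center_eq (e.trans hw.symm) ▸ ⟨h1, hd⟩⟩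
  obtain ⟨u, hu, hur⟩ := exists_elt_of_dvd_index hr
    ((e ▸ hrm.mul_left n).trans (index_dvd_of_le (H26.center_le_cent z)))
  have h2 := dvd_relIndex_of_elt hr (self_mem_cent1 u) hu hur
  refine h1 r hr ?_
  rcases h.idx u hu with e' | e'
  · rw [h.relIndex_big e e' (zero_lt_one.trans h.one_lt_m)] at h2
    exact ((Nat.Prime.dvd_mul hr).1 h2).resolve_left fun h3 => hr.ne_one (Nat.eq_one_of_dvd_coprimes h.cop hrm h3)
  · exact relIndex_center_eq (e'.trans e.symm) ▸ h2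

variable {p : ℕ} (hp : p.Prime) (hm : PiNat {p} m) (hs : ∀ z : G, C₁⟦z⟧.index = n * m →
    PiNat {p} ((center G).relIndex C₁⟦z⟧) ∧ p ∣ (center G).relIndex C₁⟦z⟧)
include hp hm hs

omit hp hs in
theorem p_dvd : p ∣ m := by
  obtain ⟨s, hs, hd⟩ := Nat.exists_prime_and_dvd h.one_lt_m.ne'
  exact hm s hs hd ▸ hd

omit hs in
theorem n_compl : PiNat {p}ᶜ n := (PiNat.compl_singleton_iff hp).2 fun e =>
  hp.ne_one (Nat.eq_one_of_dvd_coprimes h.cop (h.p_dvd hm) e)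

omit hm in
theorem exists_elts {x : G} (hx : C₁⟦x⟧.index = m) : (∃ u ∈ C₁⟦x⟧, u ∉ center G ∧ IsPiElt {p} u) ∧
    ∃ q : ℕ, q.Prime ∧ q ∣ n ∧ ∃ u ∈ C₁⟦x⟧, u ∉ center G ∧ IsPiElt {q} u := by
  obtain ⟨z, -, e⟩ := h.small
  have e1 := h.relIndex_big e hx (zero_lt_one.trans h.one_lt_m)
  obtain ⟨q, hq, hd⟩ := Nat.exists_prime_and_dvd h.one_lt.ne'
  exact ⟨exists_elt_not_mem hp (e1 ▸ (hs z e).2.mul_left n), q, hq, hd, exists_elt_not_mem hq (e1 ▸ hd.mul_right _)⟩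

theorem comm {x : G} (hxZ : x ∉ center G) (hx : C₁⟦x⟧.index = m) : IsMulCommutative C₁⟦x⟧ := by
  obtain ⟨⟨u, hu, huZ, hup⟩, q, hq, hd, v, hv, hvZ, hvq⟩ := h.exists_elts hp hs hx
  refine (free_cases hxZ (h.min hxZ) (h.max x hxZ)).resolve_right fun ⟨r, _, hr⟩ => ?_
  have e : p = q := (hr p hp (dvd_relIndex_of_elt hp hu huZ hup)).trans (hr q hq (dvd_relIndex_of_elt hq hv hvZ hvq)).symm
  exact (PiNat.compl_singleton_iff hp).1 (h.n_compl hp hm) (e ▸ hd)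

theorem eq {x : G} (hxZ : x ∉ center G) (hx : C₁⟦x⟧.index = m) {v : G} (hv : v ∈ C₁⟦x⟧) (hvZ : v ∉ center G) :
    C₁⟦v⟧ = C₁⟦x⟧ := h.max x hxZ v hvZ fun a ha => mem_cent1.2 (comm_iff.1 (h.comm hp hm hs hxZ hx) a ha v hv)

theorem unique {x y : G} (hxZ : x ∉ center G) (hx : C₁⟦x⟧.index = m) (hyZ : y ∉ center G) (hy : C₁⟦y⟧.index = m) :
    C₁⟦y⟧ = C₁⟦x⟧ := by
  haveI := Fact.mk hp
  have key : ∀ x : G, x ∉ center G → C₁⟦x⟧.index = m → fittingOf ⊤ ≤ C₁⟦x⟧ := fun x hxZ hx =>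
    fittingOf_le_of_forall_pCoreOf fun r hr _ => by
      haveI : (piCoreOf {r} (⊤ : Subgroup G)).Normal := (piCoreOf_normalIn _ _).normal
      by_cases e : r = p
      · subst e
        have hc := h.comm hp hm hs hxZ hx
        obtain ⟨⟨u, hu, huZ, hup⟩, q, hq, hd, v, hv, hvZ, hvq⟩ := h.exists_elts hp hs hx
        refine (core_le hc ((cent_le_cent1 (le_piCoreOf_of_nil (nil_of_comm hc) (zpowers_le.2 hu) (isPi_zpowers.2 hup)
          (mem_zpowers u))).trans (h.eq hp hm hs hxZ hx hu huZ).le) hv ((h.n_compl hp hm).of_dvd hd |>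
            (PiNat.prime_iff hq).1 |> elt_mono1 hvq) ?_).trans (piCoreOf_le _ _)
        rw [h.eq hp hm hs hxZ hx hv hvZ]
        exact pCoreOf_sylow_of_nil (nil_of_comm hc)
      · exact le_of_index_pi ((isPi_piCoreOf _ _).mono (Set.singleton_subset_iff.2 e)) (hx ▸ hm)
  have hF : ¬ fittingOf ⊤ ≤ center G := fun e => hxZ <| e <|
    cent_fittingOf_le (sol_top_iff.2 (rank_two_solvable h.idx)) ⟨trivial, cent_symm (B := ⊤) (cent_top (G := G) ▸ e) (mem_top x)⟩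
  obtain ⟨v, hv, hvZ⟩ := SetLike.not_le_iff_exists.1 hF
  rw [← h.eq hp hm hs hxZ hx (key x hxZ hx hv) hvZ, h.eq hp hm hs hyZ hy (key y hyZ hy hv) hvZ]

theorem normal {x : G} (hxZ : x ∉ center G) (hx : C₁⟦x⟧.index = m) : C₁⟦x⟧.Normal :=
  normalizer_eq_top_iff.1 <| top_le_iff.1 fun g _ => by
    rw [mem_norm_iff_cj, cj_cent1]
    have e : C₁⟦g * x * g⁻¹⟧.index = m := by rw [← cj_cent1, ← relIndex_top_right, ← cj_top g, relIndex_cj,
      relIndex_top_right, hx]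
    exact h.unique hp hm hs hxZ hx (fun z => h.one_lt_m.ne' (e ▸ H26.index_cent_eq_one_iff.2 z)) e

theorem main {x : G} (hxZ : x ∉ center G) (hx : C₁⟦x⟧.index = m) :
    m = p ∧ p ∣ n - 1 ∧ (center G).relIndex (piCoreOf {p} C₁⟦x⟧) = p := by
  haveI := Fact.mk hp
  haveI := h.normal hp hm hs hxZ hx
  have hc := h.comm hp hm hs hxZ hx
  set E := C₁⟦x⟧ with hE
  set S := piCoreOf {p} E
  set K := piCoreOf {p}ᶜ E
  haveI : S.Normal := (piCoreOf_normalIn_of _ (NormalIn.of_normal E)).normal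
  haveI : K.Normal := (piCoreOf_normalIn_of _ (NormalIn.of_normal E)).normal
  have hS : SylowOf p S E := pCoreOf_sylow_of_nil (nil_of_comm hc)
  have hSK : S ⊔ K = E := piCoreOf_sup_compl_of_nil _ (nil_of_comm hc)
  have hK : IsPi {p}ᶜ K := isPi_piCoreOf _ _
  obtain ⟨P, hP⟩ := exists_sylowOf p (⊤ : Subgroup G)
  have hSP : S ≤ P := hP.normalIn_le hS.isPi (NormalIn.of_normal S)
  have hPE : P ⊓ E = S := hS.inf_eq_of_le hP.isPGroup hSP
  obtain ⟨⟨u, hu, huZ, hup⟩, q, hq, hd, w, hw, hwZ, hwq⟩ := h.exists_elts hp hs hx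
  obtain ⟨v, hv, hvZ, hvp, hv2⟩ := exists_second hS.isPGroup hP.isPGroup le_normalizer_of_normal fun e =>
    huZ (e (hS.mem_of_normalIn (piCoreOf_normalIn _ _) hu hup))
  have hvE : C₁⟦v⟧ = E := h.eq hp hm hs hxZ hx (hS.le hv) hvZ
  set N := S ⊔ center G with hN
  have hNE : N ≤ E := sup_le hS.le (H26.center_le_cent x)
  set f := QuotientGroup.mk' N
  have hf : f.ker = N := QuotientGroup.ker_mk' N
  have conj : ∀ a ∈ P, ∀ b ∈ P, a * (b * v * b⁻¹) * a⁻¹ = a * v * a⁻¹ * (v⁻¹ * (b * v * b⁻¹)) := fun a _ b hb => by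
    have := mem_center_iff.1 (hv2 b hb) a⁻¹
    calc _ = a * v * ((v⁻¹ * (b * v * b⁻¹)) * a⁻¹) := by group
      _ = _ := by rw [← this]; group
  have ker : ∀ a ∈ P, a ∈ C₁⟦v⟧ → f a = 1 := fun a ha ha' =>
    (QuotientGroup.eq_one_iff a).2 (mem_sup_left (hPE ▸ mem_inf.2 ⟨ha, hvE ▸ ha'⟩))
  haveI : IsMulCommutative (P.map f) := comm_iff.2 <| by
    rintro _ ⟨a, ha, rfl⟩ _ ⟨b, hb, rfl⟩
    rw [← map_mul, ← map_mul, ← inv_mul_eq_one, ← map_inv, ← map_mul]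
    refine ker _ (mul_mem (inv_mem (mul_mem ha hb)) (mul_mem hb ha)) (mem_cent1.2 ?_)
    have h1 := conj a ha b hb
    have h2 := conj b hb a ha
    have h3 := mem_center_iff.1 (hv2 b hb) (v⁻¹ * (a * v * a⁻¹))
    have h4 : a * (b * v * b⁻¹) * a⁻¹ = b * (a * v * a⁻¹) * b⁻¹ := by
      rw [h1, h2]
      calc _ = v * (v⁻¹ * (a * v * a⁻¹) * (v⁻¹ * (b * v * b⁻¹))) := by group
        _ = _ := by rw [h3]; group
    calc _ = (a * b)⁻¹ * (b * (a * v * a⁻¹) * b⁻¹) * (b * a) := by group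
      _ = _ := by rw [← h4]; group
  have hpow : ∀ a ∈ P, f a ^ p = 1 := fun a ha => by
    rw [← map_pow]
    refine ker _ (pow_mem ha p) (mem_cent1.2 ?_)
    set c := v⁻¹ * (a * v * a⁻¹) with hc'
    have hcz := mem_center_iff.1 (hv2 a ha)
    have h1 : ∀ k : ℕ, a ^ k * v * (a ^ k)⁻¹ = v * c ^ k := fun k => by
      induction k with
      | zero => simp
      | succ k ih => rw [pow_succ, show a ^ k * a * v * (a ^ k * a)⁻¹ = a ^ k * (a * v * a⁻¹) * (a ^ k)⁻¹ by group,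
          conj _ (pow_mem ha k) a ha, ih, pow_succ, mul_assoc]
    have h2 : c ^ p = 1 := by
      have h3 : (a * v * a⁻¹) ^ p = v ^ p := by rw [conj_pow, mem_center_iff.1 hvp a, mul_inv_cancel_right]
      rwa [show a * v * a⁻¹ = v * c by rw [hc', mul_inv_cancel_left], Commute.mul_pow (hcz v), mul_eq_left] at h3
    have := h1 p
    rwa [h2, mul_one, mul_inv_eq_iff_eq_mul] at this
  have hfpf : ∀ a ∈ P.map f, a ≠ 1 → K.map f ⊓ C₁⟦a⟧ = ⊥ := by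
    rintro _ ⟨a, ha, rfl⟩ a1
    have hz : IsPGroup p (zpowers a) := hP.isPGroup.to_le (zpowers_le.2 ha)
    rw [← cent_zpowers, ← MonoidHom.map_zpowers, ← coprime_map_cent f le_normalizer_of_normal
      (hK.coprime' (isPi_singleton_iff.2 hz)) (Or.inl (sol_of_pgroup hz)), Subgroup.map_eq_bot_iff, hf, cent_zpowers]
    intro k hk
    by_contra hkN
    exact a1 (ker a ha (((h.eq hp hm hs hxZ hx (piCoreOf_le _ _ hk.1) fun z => hkN (mem_sup_right z)).trans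
      hvE.symm).le (mem_cent1_comm.1 hk.2)))
  obtain ⟨z, hzZ, hz⟩ := h.small
  have c1 : N.relIndex K = N.relIndex E := by
    rw [← relIndex_sup_of_norm (Or.inl le_normalizer_of_normal)]
    congr 1
    exact le_antisymm (sup_le (piCoreOf_le _ _) hNE) (hSK ▸ sup_le (le_sup_left.trans le_sup_right) le_sup_left)
  have c2 : (center G).relIndex N = (center G).relIndex S := relIndex_sup_of_norm (Or.inl le_normalizer_of_normal)
  have c3 := relIndex_mul_relIndex (center G) N E le_sup_right hNE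
  rw [h.relIndex_big hz hx (zero_lt_one.trans h.one_lt_m), c2, ← c1, mul_comm] at c3
  have c4 : (center G).relIndex S = (center G).relIndex C₁⟦z⟧ :=
    eq_of_mul_pi (hK.relIndex N) (hS.isPi.relIndex _) (h.n_compl hp hm) (hs z hz).1 c3
  have c5 : ♯(K.map f) = n := by
    rw [c4] at c3
    rw [← relIndex_ker, hf]
    exact Nat.eq_of_mul_eq_mul_right (relIndex_pos _ _) c3
  have c6 : ♯(P.map f) = m := by
    rw [← relIndex_ker, hf, ← inf_relIndex_right, show N ⊓ P = E ⊓ P from le_antisymm (inf_le_inf_right _ hNE)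
      (le_inf (by rw [inf_comm, hPE]; exact le_sup_left) inf_le_right), inf_relIndex_right,
      ← relIndex_sup_of_norm' (Or.inr le_normalizer_of_normal),
      hP.sup_eq_of_relIndex le_top (by rwa [relIndex_top_right, hx]), relIndex_top_right, hx]
  have hK1 : K.map f ≠ ⊥ := fun e => h.one_lt.ne' (by rw [← c5, e, card_bot])
  have hn := norm_map f (show P ≤ N⟦K⟧ from le_normalizer_of_normal)
  haveI := H1.isCyclic_of_fpf hK1 hn hfpf
  have hmp : m = p := by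
    refine Nat.dvd_antisymm ?_ (h.p_dvd hm)
    rw [← c6, ← IsCyclic.exponent_eq_card]
    refine Monoid.exponent_dvd_of_forall_pow_eq_one ?_
    rintro ⟨_, a, ha, rfl⟩
    exact Subtype.ext (hpow a ha)
  have := H1.card_modEq_of_fpf hn hfpf
  rw [c5, c6, hmp] at this
  refine ⟨hmp, (Nat.modEq_iff_dvd' h.one_lt.le).1 this.symm, c4 ▸ Nat.dvd_antisymm ?_ (hs z hz).2⟩
  rw [← hmp, ← hx, ← inf_relIndex_right, show center G ⊓ C₁⟦z⟧ = E ⊓ C₁⟦z⟧ from le_antisymm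
    (inf_le_inf_right _ (H26.center_le_cent x)) (le_inf (fun y hy => ?_) inf_le_right), inf_relIndex_right]
  · exact relIndex_dvd_index_of_normal E _
  by_contra hyZ
  have e1 := h.eq hp hm hs hxZ hx hy.1 hyZ
  have e2 := h.eq hp hm hs hxZ hx (e1 ▸ mem_cent1_comm.1 hy.2) hzZ
  have := h.one_lt
  have := h.one_lt_m
  rw [e2, hx] at hz
  nlinarith

end Fr2

end Cfsg.Agent.H25
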