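/-
A finite group with abelian Sylow 2-subgroups acts as a solvable group on the cosets of a subgroup of 2-power index.
-/
import Cfsg.Agent.H25.Ito6
import Cfsg.Agent.WA.Main
import Cfsg.Agent.S3192
import Cfsg.Agent.H11.Klein
import Cfsg.Agent.H11.JR

set_option autoImplicit false
set_option linter.style.haveILetI false

namespace Cfsg.Agent.H25

open Subgroup Cfsg.Agent.H20 Cfsg.Agent.H21
open scoped Pointwise commutatorElement MatrixGroups

universe u

variable {G : Type*} [Group G] [Finite G]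

theorem relIndex_cent1_lt {H V : Subgroup G} (hn : H ≤ N⟦V⟧) {z : G} (hz : z ∈ V) (z1 : z ≠ 1) :
    C₁⟦z⟧.relIndex H < ♯V := by
  rw [H26.relIndex_cent_eq_ncard]
  refine Set.ncard_lt_ncard (t := (V : Set G)) ⟨?_, fun h => ?_⟩
  · rintro _ ⟨g, hg, rfl⟩
    exact conj_mem_of_norm (hn hg) hz
  · obtain ⟨g, -, e⟩ := h V.one_mem
    exact z1 (by simpa using e)

theorem psl_even_no_hall {F : Type} [Field F] [Fintype F] {n : ℕ} (hn : 2 ≤ n) (hF : Fintype.card F = 2 ^ n)
    (e : G ≃* PSL(2, F)) {H : Subgroup G} (ho : Odd ♯H) (hi : PiNat {2} H.index) : False := by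
  obtain ⟨k, hk⟩ : ∃ k, 2 ^ n = 2 * k + 4 := by
    obtain ⟨j, rfl⟩ := Nat.exists_eq_add_of_le' hn
    have := Nat.one_le_two_pow (n := j)
    exact ⟨2 * 2 ^ j - 2, by rw [pow_add]; omega⟩
  have h2 : (2 : F) = 0 := by
    have := FiniteField.cast_card_eq_zero F
    rw [hF, Nat.cast_pow] at this
    exact_mod_cast (pow_eq_zero_iff (by omega)).1 this
  have hq : Nat.card F = 2 * k + 4 := by rw [Nat.card_eq_fintype_card, hF, hk]
  have hG : Nat.card G = (2 * k + 4) * ((2 * k + 3) * (2 * k + 5)) := by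
    have := H12.card_PSL2 (hF.trans hk)
    rw [show 2 * k + 4 - 1 = 2 * k + 3 from rfl, (Nat.coprime_two_left (n := 2 * k + 3)).2 ⟨k + 1, rfl⟩, one_mul,
      show (2 * k + 4) ^ 2 = (2 * k + 3) * (2 * k + 5) + 1 by ring, Nat.add_sub_cancel] at this
    rw [Nat.card_congr e.toEquiv, this]
  have hodd : ∀ {a : ℕ}, Odd a → PiNat {2}ᶜ a := fun ha =>
    (PiNat.compl_singleton_iff Nat.prime_two).2 ha.not_two_dvd_nat
  have hH : ♯H = (2 * k + 3) * (2 * k + 5) := eq_of_mul_pi (π := {2}ᶜ) (PiNat.compl_compl.2 hi) (hodd ho)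
    (PiNat.compl_compl.2 (hk ▸ PiNat.prime_pow Nat.prime_two (Set.mem_singleton 2) n))
    (hodd (Odd.mul ⟨k + 1, rfl⟩ ⟨k + 2, rfl⟩)) (H.index_mul_card.trans hG)
  have hC : ∀ z : G, z ≠ 1 → ♯C₁⟦z⟧ ≤ 2 * k + 5 := fun z z1 => by
    haveI := H12.PSL_fin_simple (F := F) 2 le_rfl fun _ => by omega
    haveI := e.isSimpleGroup
    have h1 : C₁⟦z⟧.index ≠ 1 := fun h => by
      have hZ := (IsSimpleGroup.eq_bot_or_eq_top_of_normal (center G) inferInstance).resolve_left
        (ne_bot_of_mem (H26.index_cent_eq_one_iff.1 h) z1)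
      have : (2 * k + 4) ^ 2 - 1 ∈ {m : ℕ | ∃ x : PSL(2, F), C₁⟦x⟧.index ≠ 1 ∧ m = C₁⟦x⟧.index} := by
        rw [S3192.set_eq h2 (by omega), hq]; simp
      obtain ⟨x, hx, -⟩ := this
      exact hx (by rw [← e.apply_symm_apply x, S3192.index_equiv]; exact H26.index_cent_eq_one_iff.2 (hZ.ge trivial))
    have h3 : C₁⟦z⟧.index ∈ {m : ℕ | ∃ x : PSL(2, F), C₁⟦x⟧.index ≠ 1 ∧ m = C₁⟦x⟧.index} :=
      ⟨e z, by rwa [S3192.index_equiv], by rw [S3192.index_equiv]⟩
    rw [S3192.set_eq h2 (by omega), hq, show (2 * k + 4) ^ 2 = (2 * k + 3) * (2 * k + 5) + 1 by ring,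
      Nat.add_sub_cancel, show 2 * k + 4 - 1 = 2 * k + 3 from rfl] at h3
    have h4 := C₁⟦z⟧.card_mul_index
    rw [hG] at h4
    have h5 : (2 * k + 4) * (2 * k + 3) ≤ C₁⟦z⟧.index := by
      rcases h3 with h3 | h3 | h3 <;> rw [h3] <;> nlinarith
    by_contra! h6
    nlinarith [Nat.mul_le_mul h6 h5]
  obtain ⟨p, V, -, hV, -, hVH, hVe⟩ := exists_elem_normalIn (NormalIn.refl H) (FT.solvable_of_odd ho)
    fun h => by rw [h, card_bot] at hH; nlinarith
  have key : ∀ z ∈ V, z ≠ 1 → C₁⟦z⟧ ⊓ H = V ∧ ♯V = 2 * k + 5 := fun z hz z1 => by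
    have l1 : V ≤ C₁⟦z⟧ ⊓ H := le_inf (fun a ha => mem_cent1.2 (comm_iff.1 hVe.1 a ha z hz)) hVH.le
    have l2 := card_le l1
    have l3 := (card_le inf_le_left).trans (hC z z1) (a := ♯(C₁⟦z⟧ ⊓ H : Subgroup G))
    have l4 := relIndex_cent1_lt hVH.norm hz z1
    have l5 := card_inf_mul_relIndex C₁⟦z⟧ H
    obtain ⟨j, hj⟩ := odd_of_le ho hVH.le
    have l6 : 2 * k + 3 ≤ C₁⟦z⟧.relIndex H := by
      by_contra! h
      nlinarith [Nat.mul_le_mul l3 (Nat.le_of_lt_succ h)]
    exact ⟨(eq_of_le_card l1 (by omega)).symm, by omega⟩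
  obtain ⟨z, hz, z1⟩ := exists_ne_one hV.1
  have c1 := (key z hz z1).2
  have c2 : V.relIndex H = 2 * k + 3 := by
    have := card_mul_relIndex hVH.le
    rw [c1, hH, mul_comm] at this
    exact Nat.eq_of_mul_eq_mul_right (by omega) this
  obtain ⟨A, hA⟩ := exists_compl_of_coprime hVH (by
    rw [c1, c2, show 2 * k + 5 = 2 + (2 * k + 3) by ring, Nat.coprime_add_self_left]
    exact Nat.coprime_two_left.2 ⟨k + 1, rfl⟩)
  have := H1.card_modEq_of_fpf ((Compl.right_le hA).trans hVH.norm) fun a ha a1 => eq_bot_iff.2 fun v hv => by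
    by_contra v1
    exact a1 (mem_bot.1 (Compl.inf_eq hA ▸ mem_inf.2
      ⟨(key v hv.1 v1).1.le ⟨mem_cent1_comm.1 hv.2, Compl.right_le hA ha⟩, ha⟩))
  rw [← Compl.relIndex_left hA, c1, c2] at this
  have := Nat.le_of_dvd one_pos ((Nat.dvd_add_right dvd_rfl).1 ((Nat.modEq_iff_dvd' (by omega)).1 this.symm :
    2 * k + 3 ∣ 2 * k + 3 + 1))
  omega

theorem sol_of_ab2_hall_aux (n : ℕ) : ∀ (G : Type u) [Group G] [Finite G], Nat.card G < n →
    WA.Ab2 (⊤ : Subgroup G) → ∀ H : Subgroup G, Odd ♯H → PiNat {2} H.index → Group.IsSolvable G := by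
  induction n with
  | zero => intro G _ _ h; omega
  | succ n ih =>
  intro G _ _ hn h2 H ho hi
  have sub : ∀ X : Subgroup G, X ≠ ⊤ → PiNat {2} (H.relIndex X) → Group.IsSolvable X := fun X hX h =>
    ih X (by have := card_lt (lt_top_iff_ne_top.2 hX); rw [card_top'] at this; omega) (h2.mono' le_top).top
      (H.subgroupOf X) (by rw [card_subgroupOf']; exact odd_of_le ho inf_le_left) h
  by_contra hG
  haveI : Nontrivial G := by
    by_contra h
    haveI := not_nontrivial_iff_subsingleton.1 h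
    exact hG inferInstance
  haveI : IsSimpleGroup G := ⟨fun N hN => by
    by_contra! h
    have f := QuotientGroup.mk'_surjective N
    refine hG (sol_top_iff.1 (H1.isSolvable_of_map_mk' (sub N h.2 (hi.of_dvd (relIndex_dvd_index_of_normal_right H N)))
      ?_))
    rw [map_top_of_surjective _ f, sol_top_iff]
    refine ih _ ?_ (map_top_of_surjective _ f ▸ h2.map _) (H.map (QuotientGroup.mk' N))
      (ho.of_dvd_nat (card_map_dvd _ _)) (hi.of_dvd (index_map_dvd _ f))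
    have := one_lt_card h.1
    have h3 := N.card_mul_index
    have := Nat.card_pos (α := G ⧸ N)
    rw [index] at h3
    nlinarith⟩
  have hc : ¬ IsMulCommutative G := fun h => hG (sol_top_iff.1 (sol_of_comm (comm_top_iff.2 h)))
  haveI := Fact.mk Nat.prime_two
  rcases WA.walter hc h2 with ⟨F, _, _, ⟨k, hk, hF⟩, ⟨e⟩⟩ | ⟨F, _, _, hF, -, ⟨e⟩⟩ | ⟨t, E, E₀, F, _, _, ht, hco, hE, hE₀,
    -, -, -, hF, ⟨e⟩⟩
  · exact psl_even_no_hall hk hF e ho hi
  · haveI : IsSimpleGroup (⊤ : Subgroup G) := topEquiv.isSimpleGroup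
    obtain ⟨P⟩ := (inferInstance : Nonempty (Sylow 2 G))
    have h4 := ((WA.QT.of_psl (mt comm_top_iff.1 hc) h2 (Nat.odd_iff.2 (by omega)) (topEquiv.trans e)).kl _
      (H11.isSylIn_top P)).card_four
    have h5 := Nat.le_of_dvd (by omega) (h4 ▸ (sylowOf_top P).dvd_of_piNat hi (card_top' (G := G) ▸ H.index_dvd_card))
    have h6 := (H11.card_dvd_factorial_of_simple (H := H) fun e => hG (FT.solvable_of_odd (by
      rwa [e, card_top'] at ho))).trans (Nat.factorial_dvd_factorial h5)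
    refine hG (H4.isSolvable_of_forall_prime_dvd Nat.prime_two Nat.prime_three fun r hr hd => ?_)
    have := hr.two_le
    have h7 := (hr.dvd_factorial).1 (hd.trans h6)
    interval_cases r
    exacts [Or.inl rfl, Or.inr rfl, absurd hr (by decide)]
  · obtain ⟨P, hP, htP⟩ := exists_sylowOf_ge (pgroup_zpowers (elt_of_orderOf Nat.prime_two ht)) le_top
    have hPC : P ≤ C₁⟦t⟧ := fun a ha => mem_cent1.2 (h2 P le_top hP.isPGroup a ha t (htP (mem_zpowers t)))
    have h3 := sub _ hco.1 (by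
      have h4 := permute_of_prod le_top le_top (hP.prod_of_relIndex le_top (by rwa [relIndex_top_right]))
      have h5 := h4.modular_right hPC
      rw [hP.sup_eq_of_relIndex le_top (by rwa [relIndex_top_right]), top_inf_eq] at h5
      rw [← inf_relIndex_right]
      nth_rw 2 [h5]
      rw [sup_comm, (h4.symm.inf_left hPC).relIndex_sup]
      exact hP.isPi.relIndex _)
    haveI := H12.PSL_fin_simple (F := F) 2 le_rfl fun _ => hF
    haveI := e.isSimpleGroup
    have h4 := IsSimpleGroup.comm_iff_isSolvable.2 (sol_of_le h3 (hE₀.trans hE.2.1))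
    exact H11.psl2_not_comm hF ⟨⟨fun a b => by
      rw [← e.apply_symm_apply a, ← e.apply_symm_apply b, ← map_mul, h4, map_mul]⟩⟩

theorem perfect_le_of_index (h2 : WA.Ab2 (⊤ : Subgroup G)) {H D : Subgroup G} (hi : PiNat {2} H.index)
    (hD : D ≤ ⁅D, D⁆) : D ≤ H := by
  haveI := Fact.mk Nat.prime_two
  set f := QuotientGroup.mk' H.normalCore
  have hf := QuotientGroup.mk'_surjective H.normalCore
  have hk : f.ker ≤ H := (QuotientGroup.ker_mk' H.normalCore).le.trans H.normalCore_le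
  have h2' : WA.Ab2 (⊤ : Subgroup (G ⧸ H.normalCore)) := map_top_of_surjective _ hf ▸ h2.map f
  have hi' : PiNat {2} (H.map f).index := hi.of_dvd (index_map_dvd _ hf)
  have ho : Odd ♯(H.map f) := by
    refine Nat.not_even_iff_odd.1 fun he => ?_
    obtain ⟨t, ht, t2⟩ := exists_prime_order_mem Nat.prime_two he.two_dvd
    obtain ⟨P, hP, htP⟩ := exists_sylowOf_ge (pgroup_zpowers (elt_of_orderOf Nat.prime_two t2)) le_top
    have h3 : normalClosure {t} ≤ H.map f := closure_le _ |>.2 fun y hy => by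
      obtain ⟨s, hs, hy'⟩ := Group.mem_conjugatesOfSet_iff.1 hy
      obtain ⟨g, rfl⟩ := isConj_iff.1 (Set.mem_singleton_iff.1 hs ▸ hy')
      obtain ⟨a, ha, b, hb, rfl⟩ := hP.prod_of_relIndex le_top (by rwa [relIndex_top_right]) g trivial
      rw [show a * b * t * (a * b)⁻¹ = a * (b * t) * b⁻¹ * a⁻¹ by group,
        h2' P le_top hP.isPGroup b hb t (htP (mem_zpowers t)), show a * (t * b) * b⁻¹ * a⁻¹ = a * t * a⁻¹ by group]
      exact mul_mem (mul_mem ha ht) (inv_mem ha)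
    obtain ⟨s, rfl⟩ := hf t
    have h4 : (normalClosure {f s}).comap f ≤ H.normalCore :=
      normal_le_normalCore.2 ((comap_mono h3).trans (by rw [comap_map_eq_self hk]))
    exact ne_one_of_orderOf Nat.prime_two t2 ((QuotientGroup.eq_one_iff s).2 (h4 (subset_normalClosure rfl)))
  have hs := sol_of_ab2_hall_aux _ _ (Nat.lt_succ_self _) h2' _ ho hi'
  have h3 := eq_bot_of_sol_of_le_der (A := D.map f) inferInstance (by rw [← map_commutator]; exact map_mono hD)
  exact ((Subgroup.map_eq_bot_iff D).1 h3).trans hk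

theorem exists_perfect_normal (hG : ¬ Group.IsSolvable G) :
    ∃ D : Subgroup G, D.Normal ∧ ⁅D, D⁆ = D ∧ ¬ Group.IsSolvable D := by
  obtain ⟨D, ⟨hn, hD⟩, hmin⟩ := (wellFounded_lt (α := Subgroup G)).has_min
    {D | D.Normal ∧ ¬ Group.IsSolvable D} ⟨⊤, inferInstance, mt sol_top_iff.1 hG⟩
  refine ⟨D, hn, ?_, hD⟩
  by_contra hne
  refine hmin ⁅D, D⁆ ⟨inferInstance, fun h => hD (H1.isSolvable_of_map_mk' h (sol_of_comm ?_))⟩
    (lt_of_le_of_ne (der_le D) hne)
  rw [comm_iff_le_cent, ← commg_eq_bot, ← map_commutator, Subgroup.map_eq_bot_iff, QuotientGroup.ker_mk']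

end Cfsg.Agent.H25
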