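import Cfsg.Agent.H9.Uniserial
import Cfsg.Agent.H26.FrobDiv
import Cfsg.Agent.H1.Frattini

/-!
# Counting `p`-subgroups modulo `p` (Frobenius)
-/

namespace Cfsg.Agent.H25

open Subgroup

variable {G : Type*} [Group G] [Finite G] {p : ℕ} [hp : Fact p.Prime]

theorem card_order_p_modEq (h : p ∣ Nat.card G) :
    Nat.card {H : Subgroup G // Nat.card H = p} ≡ 1 [MOD p] := by
  have h1 := H26.dvd_card_pow_eq_one h
  have h2 := H9.card_orderOf_eq_prime (L := G) (p := p)
  have h3 : Nat.card {x : G // x ^ p = 1} = Nat.card {x : G // orderOf x = p} + 1 := by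
    change Set.ncard {x : G | x ^ p = 1} = Set.ncard {x : G | orderOf x = p} + 1
    rw [← Set.ncard_insert_of_notMem (a := (1 : G)) (by simpa using hp.out.one_lt.ne)]
    congr 1
    ext x
    simp only [Set.mem_setOf_eq, Set.mem_insert_iff, ← orderOf_dvd_iff_pow_eq_one,
      Nat.dvd_prime hp.out, orderOf_eq_one_iff]
  rw [h3, h2] at h1
  set N := Nat.card {H : Subgroup G // Nat.card H = p}
  have h4 : (p - 1) * N + 1 + N = p * N + 1 := by
    obtain ⟨k, hk⟩ := Nat.exists_eq_add_of_le' hp.out.one_le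
    rw [hk, Nat.add_sub_cancel]; ring
  have h5 : (p - 1) * N + 1 + N ≡ 0 + N [MOD p] := ((Nat.modEq_zero_iff_dvd).2 h1).add_right _
  rw [h4, zero_add] at h5
  exact h5.symm.trans (by simp [Nat.ModEq])

omit [Finite G] hp in
theorem card_over_normal (N : Subgroup G) [N.Normal] (P : Subgroup G → Prop) :
    Nat.card {H : Subgroup G // N ≤ H ∧ P H} =
      Nat.card {K : Subgroup (G ⧸ N) // P (K.comap (QuotientGroup.mk' N))} := by
  refine Nat.card_congr ⟨fun H => ⟨H.1.map (QuotientGroup.mk' N), ?_⟩,
    fun K => ⟨K.1.comap (QuotientGroup.mk' N), QuotientGroup.le_comap_mk' N _, K.2⟩, ?_, ?_⟩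
  · rw [QuotientGroup.comap_map_mk', sup_eq_right.2 H.2.1]; exact H.2.2
  · intro H
    apply Subtype.ext
    simp only
    rw [QuotientGroup.comap_map_mk', sup_eq_right.2 H.2.1]
  · intro K
    exact Subtype.ext (map_comap_eq_self_of_surjective (QuotientGroup.mk'_surjective N) _)

omit [Finite G] hp in
theorem card_under (B : Subgroup G) (P : Subgroup G → Prop) :
    Nat.card {H : Subgroup G // H ≤ B ∧ P H} = Nat.card {K : Subgroup B // P (K.map B.subtype)} := by
  refine Nat.card_congr ⟨fun H => ⟨H.1.subgroupOf B, ?_⟩,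
    fun K => ⟨K.1.map B.subtype, map_subtype_le _, K.2⟩, ?_, ?_⟩
  · rw [map_subgroupOf_eq_of_le H.2.1]; exact H.2.2
  · intro H
    exact Subtype.ext (map_subgroupOf_eq_of_le H.2.1)
  · intro K
    exact Subtype.ext (comap_map_eq_self_of_injective B.subtype_injective _)

theorem card_index_p_modEq_comm {A : Type*} [CommGroup A] [Finite A] (h : p ∣ Nat.card A) :
    Nat.card {H : Subgroup A // H.index = p} ≡ 1 [MOD p] := by
  haveI : NeZero (Monoid.exponent A) := ⟨Monoid.exponent_ne_zero_of_finite⟩
  haveI : Finite (A →* ℂˣ) := Nat.finite_of_card_ne_zero (by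
    rw [CommGroup.card_monoidHom_of_hasEnoughRootsOfUnity]; exact Nat.card_pos.ne')
  have h1 := card_order_p_modEq (G := A →* ℂˣ) (p := p)
    (by rwa [CommGroup.card_monoidHom_of_hasEnoughRootsOfUnity])
  rw [Nat.card_congr ((CommGroup.subgroupOrderIsoSubgroupMonoidHom A ℂ).toEquiv.subtypeEquiv
    (p := fun H => H.index = p) (q := fun K => Nat.card K.ofDual = p) fun H => by
      rw [index, ← CommGroup.card_subgroupOrderIsoSubgroupMonoidHom ℂ H]; rfl)]
  exact h1

theorem card_index_p_modEq (hG : IsPGroup p G) [Nontrivial G] :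
    Nat.card {H : Subgroup G // H.index = p} ≡ 1 [MOD p] := by
  haveI := hG.isNilpotent
  have h1 : Nat.card {H : Subgroup G // H.index = p} =
      Nat.card {H : Subgroup G // _root_.commutator G ≤ H ∧ H.index = p} := by
    refine Nat.card_congr (Equiv.subtypeEquivRight fun H => ⟨fun h => ⟨?_, h⟩, fun h => h.2⟩)
    have hM : IsCoatom H := by
      refine ⟨fun h' => hp.out.one_lt.ne (by rw [← h, h', index_top]), fun K hK => ?_⟩
      have h2 := index_dvd_of_le hK.le
      rw [h] at h2
      rcases (Nat.dvd_prime hp.out).1 h2 with h3 | h3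
      · exact index_eq_one.1 h3
      · exfalso
        have := relIndex_mul_index hK.le
        rw [h3, h, mul_eq_right₀ hp.out.ne_zero, relIndex_eq_one] at this
        exact hK.not_ge this
    exact H1.commutator_le_frattini.trans (H1.le_frattini_iff.1 le_rfl H hM)
  rw [h1, card_over_normal]
  simp only [index_comap_of_surjective _ (QuotientGroup.mk'_surjective _)]
  refine card_index_p_modEq_comm (A := Abelianization G) ?_
  obtain ⟨k, hk⟩ := hG.index (_root_.commutator G)
  change p ∣ (_root_.commutator G).index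
  rw [hk]
  refine dvd_pow_self _ ?_
  rintro rfl
  rw [pow_zero, index_eq_one] at hk
  exact H1.frattini_ne_top (eq_top_iff.2 (hk ▸ H1.commutator_le_frattini))

omit hp in
theorem card_modEq_of_double_count {α β : Type*} [Finite α] [Finite β] (r : α → β → Prop)
    (h1 : ∀ a, Nat.card {b // r a b} ≡ 1 [MOD p]) (h2 : ∀ b, Nat.card {a // r a b} ≡ 1 [MOD p]) :
    Nat.card α ≡ Nat.card β [MOD p] := by
  classical
  haveI := Fintype.ofFinite α
  haveI := Fintype.ofFinite β
  have e : (Σ a, {b // r a b}) ≃ (Σ b, {a // r a b}) :=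
    ⟨fun x => ⟨x.2.1, x.1, x.2.2⟩, fun x => ⟨x.2.1, x.1, x.2.2⟩, fun _ => rfl, fun _ => rfl⟩
  have h3 := Nat.card_congr e
  rw [Nat.card_sigma, Nat.card_sigma] at h3
  have h4 : ∑ a, Nat.card {b // r a b} ≡ ∑ _a : α, 1 [MOD p] :=
    Nat.ModEq.sum fun a _ => h1 a
  have h5 : ∑ b, Nat.card {a // r a b} ≡ ∑ _b : β, 1 [MOD p] :=
    Nat.ModEq.sum fun b _ => h2 b
  simp only [Finset.sum_const, Finset.card_univ, smul_eq_mul, mul_one,
    ← Nat.card_eq_fintype_card] at h4 h5
  exact h4.symm.trans (h3 ▸ h5)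

theorem card_down_modEq {B : Subgroup G} {k : ℕ} (hB : Nat.card B = p ^ (k + 1)) :
    Nat.card {A : Subgroup G // A ≤ B ∧ Nat.card A = p ^ k} ≡ 1 [MOD p] := by
  rw [card_under]
  haveI : Nontrivial B := Finite.one_lt_card_iff_nontrivial.1 (by
    rw [hB]; exact Nat.one_lt_pow (Nat.succ_ne_zero _) hp.out.one_lt)
  have h := card_index_p_modEq (IsPGroup.of_card hB)
  rw [← Nat.card_congr (Equiv.subtypeEquivRight (p := fun H : Subgroup B => H.index = p) fun H => ?_)]
  · exact h
  rw [card_map_of_injective B.subtype_injective]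
  have h1 := H.index_mul_card
  rw [hB, pow_succ'] at h1
  constructor
  · intro h2
    rw [h2] at h1
    exact Nat.eq_of_mul_eq_mul_left hp.out.pos h1
  · intro h2
    rw [h2] at h1
    exact Nat.eq_of_mul_eq_mul_right (pow_pos hp.out.pos _) h1

theorem card_up_modEq {A : Subgroup G} {k : ℕ} (hA : Nat.card A = p ^ k)
    (hd : p ^ (k + 1) ∣ Nat.card G) :
    Nat.card {B : Subgroup G // A ≤ B ∧ Nat.card B = p ^ (k + 1)} ≡ 1 [MOD p] := by
  have h1 : Nat.card {B : Subgroup G // A ≤ B ∧ Nat.card B = p ^ (k + 1)} =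
      Nat.card {B : Subgroup G // B ≤ normalizer (A : Set G) ∧
        (A ≤ B ∧ Nat.card B = p ^ (k + 1))} := by
    refine Nat.card_congr (Equiv.subtypeEquivRight fun B => ⟨fun h => ⟨?_, h⟩, fun h => h.2⟩)
    have h2 : (A.subgroupOf B).index = p := by
      have := (A.subgroupOf B).index_mul_card
      rw [H1.card_subgroupOf_of_le h.1, hA, h.2, pow_succ'] at this
      exact Nat.eq_of_mul_eq_mul_right (pow_pos hp.out.pos _) this
    have h3 : (A.subgroupOf B).Normal := by
      refine normal_of_index_eq_minFac_card ?_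
      rw [h2, h.2, hp.out.pow_minFac (Nat.succ_ne_zero _)]
    exact (normal_subgroupOf_iff_le_normalizer h.1).1 h3
  rw [h1, card_under]
  have h2 : Nat.card {K : Subgroup (normalizer (A : Set G)) //
      A ≤ K.map (normalizer (A : Set G)).subtype ∧
        Nat.card (K.map (normalizer (A : Set G)).subtype) = p ^ (k + 1)} =
      Nat.card {K : Subgroup (normalizer (A : Set G)) //
        A.subgroupOf (normalizer (A : Set G)) ≤ K ∧ Nat.card K = p ^ (k + 1)} := by
    refine Nat.card_congr (Equiv.subtypeEquivRight fun K => ?_)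
    rw [card_map_of_injective (subtype_injective _)]
    refine and_congr_left fun _ => ⟨fun h => ?_, fun h => ?_⟩
    · exact (comap_mono h).trans (comap_map_eq_self_of_injective (subtype_injective _) _).le
    · exact (map_subgroupOf_eq_of_le le_normalizer).ge.trans (map_mono h)
  rw [h2, card_over_normal]
  have h3 := card_order_p_modEq
    (G := normalizer (A : Set G) ⧸ A.subgroupOf (normalizer (A : Set G)))
    (Sylow.prime_dvd_card_quotient_normalizer hd hA)
  rw [← Nat.card_congr (Equiv.subtypeEquivRight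
    (p := fun H : Subgroup (normalizer (A : Set G) ⧸ A.subgroupOf (normalizer (A : Set G))) =>
      Nat.card H = p) fun H => ?_)]
  · exact h3
  have h4 : Nat.card (H.comap (QuotientGroup.mk' (A.subgroupOf (normalizer (A : Set G))))) =
      Nat.card (A.subgroupOf (normalizer (A : Set G))) * Nat.card H :=
    QuotientGroup.card_preimage_mk _ _
  rw [h4, H1.card_subgroupOf_of_le le_normalizer, hA, pow_succ]
  exact (Nat.mul_right_inj (pow_ne_zero _ hp.out.ne_zero)).symm

theorem card_subgroups_modEq (k : ℕ) (hd : p ^ k ∣ Nat.card G) :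
    Nat.card {H : Subgroup G // Nat.card H = p ^ k} ≡ 1 [MOD p] := by
  induction k with
  | zero =>
    have : Nat.card {H : Subgroup G // Nat.card H = p ^ 0} = 1 := by
      rw [Nat.card_eq_one_iff_exists]
      exact ⟨⟨⊥, by simp⟩, fun H => Subtype.ext (card_eq_one.1 (by simpa using H.2))⟩
    rw [this]
  | succ k ih =>
    refine Nat.ModEq.trans (Nat.ModEq.symm ?_) (ih ((pow_dvd_pow p k.le_succ).trans hd))
    refine card_modEq_of_double_count (fun A B => A.1 ≤ B.1) (fun A => ?_) (fun B => ?_)
    · rw [Nat.card_congr (Equiv.subtypeSubtypeEquivSubtypeInter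
        (fun B : Subgroup G => Nat.card B = p ^ (k + 1)) (fun B => A.1 ≤ B))]
      simp only [and_comm (a := Nat.card _ = _)]
      exact card_up_modEq A.2 hd
    · rw [Nat.card_congr (Equiv.subtypeSubtypeEquivSubtypeInter
        (fun A : Subgroup G => Nat.card A = p ^ k) (fun A => A ≤ B.1))]
      simp only [and_comm (a := Nat.card _ = _)]
      exact card_down_modEq B.2

open scoped Pointwise in
theorem card_normal_modEq (hG : IsPGroup p G) (P : Subgroup G → Prop)
    (hP : ∀ (g : G) H, P H → P (MulAut.conj g • H)) :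
    Nat.card {H : Subgroup G // P H} ≡ Nat.card {H : Subgroup G // H.Normal ∧ P H} [MOD p] := by
  letI : MulAction G {H : Subgroup G // P H} :=
    { smul := fun g H => ⟨MulAut.conj g • H.1, hP g _ H.2⟩
      one_smul := fun H => Subtype.ext (by
        change MulAut.conj (1 : G) • H.1 = H.1
        rw [map_one, one_smul])
      mul_smul := fun g h H => Subtype.ext (by
        change MulAut.conj (g * h) • H.1 = MulAut.conj g • MulAut.conj h • H.1
        rw [map_mul, mul_smul]) }
  refine (hG.card_modEq_card_fixedPoints _).trans ?_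
  rw [Nat.card_congr (β := {H : Subgroup G // H.Normal ∧ P H})]
  refine ⟨fun H => ⟨H.1.1, ?_, H.1.2⟩, fun H => ⟨⟨H.1, H.2.2⟩, fun g => Subtype.ext ?_⟩,
    fun _ => rfl, fun _ => rfl⟩
  · refine ⟨fun n hn g => ?_⟩
    have : MulAut.conj g • H.1.1 = H.1.1 := congrArg Subtype.val (H.2 g)
    rw [← this]
    exact smul_mem_pointwise_smul n (MulAut.conj g) _ hn
  · haveI := H.2.1
    exact Normal.conj_smul_eq_self g H.1

end Cfsg.Agent.H25
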