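import Cfsg.Agent.H25.SmallP
import Cfsg.Agent.H25.SubCount
import Cfsg.Agent.H1.Frattini

/-! `p`-groups with an abelian or extraspecial subgroup of index `p`. -/

set_option autoImplicit false

namespace Cfsg.Agent.H25

open Subgroup Cfsg.Agent.H20 Cfsg.Agent.H21
open scoped commutatorElement

variable {G : Type*} [Group G] [Finite G] {p : ℕ} [hp : Fact p.Prime]

theorem normal_of_index_p (hG : IsPGroup p G) {A : Subgroup G} (hi : A.index = p) : A.Normal := by
  obtain ⟨n, hn⟩ := IsPGroup.iff_card.mp hG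
  apply Subgroup.normal_of_index_eq_minFac_card
  have : n ≠ 0 := by
    rintro rfl
    have := A.index_dvd_card
    rw [hn, hi, pow_zero] at this
    exact hp.out.one_lt.ne' (Nat.dvd_one.mp this)
  rw [hi, hn, Nat.Prime.pow_minFac hp.out this]

theorem exists_sup_zpowers_of_index {A : Subgroup G} (hi : A.index = p) :
    ∃ x, x ∉ A ∧ A ⊔ zpowers x = ⊤ := by
  have : A ≠ ⊤ := by rintro rfl; rw [index_top] at hi; exact hp.out.one_lt.ne hi
  obtain ⟨x, -, hx⟩ := SetLike.exists_of_lt (lt_top_iff_ne_top.mpr this)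
  refine ⟨x, hx, ?_⟩
  rcases eq_or_eq_top_of_index_prime hi (le_sup_left : A ≤ A ⊔ zpowers x) with h1 | h1
  · exact absurd (h1 ▸ mem_sup_right (mem_zpowers x)) hx
  · exact h1

theorem center_le_of_ab_index (hna : ¬ IsMulCommutative G) {A : Subgroup G} (hA : IsMulCommutative A)
    (hi : A.index = p) : center G ≤ A := by
  rcases eq_or_eq_top_of_index_prime hi (le_sup_left : A ≤ A ⊔ center G) with h1 | h1
  · exact h1 ▸ le_sup_right
  · exfalso
    apply hna
    rw [← comm_top_iff, ← h1]
    exact comm_sup hA inferInstance (cent_symm (by rw [← cent_top]; exact cent_anti le_top))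

/-- If `A` is an abelian normal subgroup and `G = A⟨x⟩` then `|A| = |C_A(x)| |G'|`. -/
theorem card_eq_of_ab_normal {A : Subgroup G} [hn : A.Normal] (hA : IsMulCommutative A) {x : G}
    (hx : A ⊔ zpowers x = ⊤) : ♯A = ♯(A ⊓ C₁⟦x⟧) * ♯(_root_.commutator G) := by
  have hc := comm_iff.mp hA
  let φ : A →* G :=
    { toFun := fun a => a * x * (a : G)⁻¹ * x⁻¹
      map_one' := by simp
      map_mul' := fun a b => by
        have h1 : x * (a : G)⁻¹ * x⁻¹ ∈ A := hn.conj_mem _ (inv_mem a.2) x
        have h2 : (b : G) * x * (b : G)⁻¹ * x⁻¹ ∈ A := by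
          have := mul_mem b.2 (hn.conj_mem _ (inv_mem b.2) x)
          simpa [mul_assoc] using this
        simp only [coe_mul]
        calc (a : G) * b * x * ((a : G) * b)⁻¹ * x⁻¹
            = a * ((b * x * (b : G)⁻¹ * x⁻¹) * (x * (a : G)⁻¹ * x⁻¹)) := by group
          _ = _ := by rw [hc _ h2 _ h1]; group }
  have hφ : ∀ a : A, φ a = a * x * (a : G)⁻¹ * x⁻¹ := fun _ => rfl
  have hker : φ.ker = (A ⊓ C₁⟦x⟧).subgroupOf A := by
    ext a
    rw [MonoidHom.mem_ker, hφ, mem_subgroupOf, mem_inf, mem_cent1, mul_inv_eq_one, mul_inv_eq_iff_eq_mul]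
    simp
  have hRA : φ.range ≤ A := by
    rintro _ ⟨a, rfl⟩
    have := mul_mem a.2 (hn.conj_mem _ (inv_mem a.2) x)
    simpa [hφ, mul_assoc] using this
  have hRn : ⊤ ≤ N⟦φ.range⟧ := by
    rw [← hx]
    refine sup_le (le_norm_of_comm hA le_rfl hRA) (zpowers_le.mpr (mem_norm_of_forall ?_))
    rintro _ ⟨a, rfl⟩
    exact ⟨⟨x * a * x⁻¹, hn.conj_mem _ a.2 x⟩, by simp only [hφ]; group⟩
  have hrange : φ.range = _root_.commutator G := by
    apply le_antisymm
    · rintro _ ⟨a, rfl⟩
      exact commutator_mem_commutator (mem_top _) (mem_top _)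
    · have h1 : ⁅A, zpowers x⁆ ≤ φ.range := by
        rw [← quo_le_cent_iff (le_top.trans hRn) (le_top.trans hRn), quo_zpowers (hRn (mem_top x)), cent_zpowers]
        intro z hz
        obtain ⟨a, ha, haN, rfl⟩ := mem_quo.mp hz
        have hxN := hRn (mem_top x)
        rw [mem_cent1, ← mul_inv_eq_one, mul_inv_rev, ← mul_assoc, ← cos_inv haN, ← cos_inv hxN,
          ← cos_mul haN hxN, ← cos_mul (hRn (mem_top _)) (hRn (mem_top _)),
          ← cos_mul (hRn (mem_top _)) (hRn (mem_top _)), cos_eq_one_iff (hRn (mem_top _))]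
        exact ⟨⟨a, ha⟩, rfl⟩
      rw [_root_.commutator_def, ← quo_comm_iff hRn, ← hx, quo_sup (le_top.trans hRn) (le_top.trans hRn)]
      exact comm_sup (quo_comm hA _) (quo_comm inferInstance _)
        ((quo_le_cent_iff (le_top.trans hRn) (le_top.trans hRn)).mpr h1)
  rw [← hrange, ← card_subgroupOf (inf_le_left : A ⊓ C₁⟦x⟧ ≤ A), ← hker, φ.ker.card_eq_card_quotient_mul_card_subgroup,
    mul_comm, Nat.card_congr (QuotientGroup.quotientKerEquivRange φ).toEquiv]

theorem index_center_of_ab_index (hG : IsPGroup p G) (hna : ¬ IsMulCommutative G) {A : Subgroup G}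
    (hA : IsMulCommutative A) (hi : A.index = p) : (center G).index = p * ♯(_root_.commutator G) := by
  haveI := normal_of_index_p hG hi
  obtain ⟨x, -, hx⟩ := exists_sup_zpowers_of_index hi
  have h1 := card_eq_of_ab_normal hA hx
  have h2 : A ⊓ C₁⟦x⟧ = center G := by
    apply le_antisymm
    · rw [← cent_top, ← hx]
      exact le_cent_sup (le_cent_of_comm hA inf_le_left le_rfl) (by rw [cent_zpowers]; exact inf_le_right)
    · exact le_inf (center_le_of_ab_index hna hA hi) fun z hz => mem_cent1.mpr (mem_center_iff.mp hz x).symm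
  have h3 := (center G).card_mul_index
  rw [← A.card_mul_index, h1, h2, hi, mul_assoc] at h3
  rw [Nat.eq_of_mul_eq_mul_left (card_pos _) h3, mul_comm]

theorem inf_le_center_of_ab_index {A B : Subgroup G} (hA : IsMulCommutative A) (hi : A.index = p)
    (hB : IsMulCommutative B) (hBi : B.index = p) (hne : B ≠ A) : A ⊓ B ≤ center G := by
  have : A ⊔ B = ⊤ := by
    rcases eq_or_eq_top_of_index_prime hi (le_sup_left : A ≤ A ⊔ B) with h1 | h1
    · rcases eq_or_eq_top_of_index_prime hBi (h1 ▸ le_sup_right : B ≤ A) with h2 | h2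
      · exact absurd h2.symm hne
      · rw [h2, top_sup_eq]
    · exact h1
  rw [← cent_top, ← this]
  exact le_cent_sup (le_cent_of_comm hA inf_le_left le_rfl) (le_cent_of_comm hB inf_le_right le_rfl)

end Cfsg.Agent.H25
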