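import Cfsg.Agent.H21.Base5
import Cfsg.Agent.H2.Subnormal

/-! Baer's theorem on left Engel elements; elements generating nilpotent subgroups. -/

set_option autoImplicit false

namespace Cfsg.Agent.H25

open Subgroup Cfsg.Agent.H20 Cfsg.Agent.H21
open scoped commutatorElement

universe u

/-- The Engel sequence `[x, g, …, g]`. -/
def engel {G : Type*} [Group G] (g x : G) (n : ℕ) : G := (fun a => a * g * a⁻¹ * g⁻¹)^[n] x

theorem engel_zero {G : Type*} [Group G] (g x : G) : engel g x 0 = x := rfl

theorem engel_succ {G : Type*} [Group G] (g x : G) (n : ℕ) :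
    engel g x (n + 1) = engel g x n * g * (engel g x n)⁻¹ * g⁻¹ := Function.iterate_succ_apply' _ _ _

theorem foldl_eq_engel {G : Type*} [Group G] (g x : G) (n : ℕ) :
    (List.replicate n g).foldl (fun a b => a * b * a⁻¹ * b⁻¹) x = engel g x n := by
  induction n generalizing x with
  | zero => rfl
  | succ n ih => rw [List.replicate_succ, List.foldl_cons, ih]; rfl

theorem map_engel {G H : Type*} [Group G] [Group H] (f : G →* H) (g x : G) (n : ℕ) :
    f (engel g x n) = engel (f g) (f x) n := by
  induction n with
  | zero => rfl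
  | succ n ih => simp [engel_succ, ih]

theorem engel_subnormal (n : ℕ) : ∀ (G : Type u) [Group G] [Finite G], Nat.card G ≤ n → ∀ g : G,
    (∀ x, ∃ k, engel g x k = 1) → (zpowers g).IsSubnormal := by
  induction n with
  | zero => intro G _ _ h; exact absurd (Nat.card_pos (α := G)) (by omega)
  | succ n ih =>
    intro G _ _ hG g hg
    have h1 : ∀ H : Subgroup G, zpowers g ≤ H → H ≠ ⊤ → H10.SubnormalIn (zpowers g) H := by
      intro H hH hne
      have hc : ♯H < Nat.card G := card_top' (G := G) ▸ card_lt (lt_top_iff_ne_top.mpr hne)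
      have := ih H (by omega) ⟨g, hH (mem_zpowers g)⟩ fun x => by
        obtain ⟨k, hk⟩ := hg x
        exact ⟨k, Subtype.ext ((map_engel H.subtype _ _ k).trans hk)⟩
      have h2 := H10.SubnormalIn.map_subtype this
      rwa [MonoidHom.map_zpowers] at h2
    by_contra hn
    obtain ⟨M, hM, hgM, hmax⟩ := H2.exists_greatest_of_forall_subnormalIn h1 hn
    have hN : N⟦M⟧ = M := by
      by_contra hne
      have : N⟦M⟧ = ⊤ := by
        by_contra h2
        exact hne (le_antisymm (hmax _ (hgM.trans (le_norm_self M)) h2) (le_norm_self M))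
      exact hn ((h1 M hgM hM).isSubnormal (normalizer_eq_top_iff.mp this).isSubnormal)
    have key : ∀ y, y * g * y⁻¹ * g⁻¹ ∈ M → y ∈ M := by
      intro y hy
      have h2 : y * g * y⁻¹ ∈ M := by simpa using mul_mem hy (hgM (mem_zpowers g))
      have h3 : cj y⁻¹ M ≤ M := hmax _ (zpowers_le.mpr (mem_cj.mpr (by simpa using h2))) (by simpa using hM)
      have := mem_norm_of_cj_le h3
      rw [hN] at this
      simpa using this
    apply hM
    rw [eq_top_iff]
    intro x _
    obtain ⟨k, hk⟩ := hg x
    have : ∀ k, engel g x k ∈ M → x ∈ M := by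
      intro k
      induction k with
      | zero => exact id
      | succ k ih2 => intro h; rw [engel_succ] at h; exact ih2 (key _ h)
    exact this k (hk ▸ one_mem M)

variable {G : Type*} [Group G] [Finite G]

theorem mem_fitting_iff_engel (g : G) : g ∈ fittingSubgroup G ↔ ∀ x, ∃ k, engel g x k = 1 := by
  constructor
  · intro hg x
    obtain ⟨n, hn⟩ := (Subgroup.isNilpotent_iff_lowerCentralSeries _).mp (nil_fittingSubgroup (G := G))
    have : ∀ k, engel g x (k + 1) ∈ (fittingSubgroup G).lowerCentralSeries k := by
      intro k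
      induction k with
      | zero => exact mul_mem (fittingSubgroup_normal.conj_mem g hg x) (inv_mem hg)
      | succ k ih => rw [engel_succ, Subgroup.lowerCentralSeries_succ]; exact commutator_mem_commutator ih hg
    exact ⟨n + 1, by simpa [hn] using this n⟩
  · intro h
    exact H10.le_fitting_of_subnormal (engel_subnormal _ G le_rfl g h) (nil_of_cyclic inferInstance)
      (mem_zpowers g)

/-- A nontrivial `p`-element commuting with all `p'`-elements forces a nontrivial centre. -/
theorem center_ne_bot_of_comm_coprime {p : ℕ} [hp : Fact p.Prime] {g : G} (hg : orderOf g = p)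
    (h : ∀ x : G, ¬ p ∣ orderOf x → x * g = g * x) : center G ≠ ⊥ := by
  let S : Set G := {x | ¬ p ∣ orderOf x}
  let C := centralizer S
  have hC : C ⊴ ⊤ := ⟨le_top, fun y _ => mem_norm_of_forall fun c hc => by
    rw [mem_centralizer_iff] at hc ⊢
    intro x hx
    have := hc (y⁻¹ * x * y) (by
      have e := (MulAut.conj y⁻¹).orderOf_eq x
      simp only [MulAut.conj_apply, inv_inv] at e
      simpa [S, e] using hx)
    calc x * (y * c * y⁻¹) = y * (y⁻¹ * x * y * c) * y⁻¹ := by group
      _ = _ := by rw [this]; group⟩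
  obtain ⟨P, hP⟩ := exists_sylowOf p (⊤ : Subgroup G)
  have h1 := Hall.sylow_ne_bot (Hall.inf_normalIn hP hC)
    (hg ▸ orderOf_dvd_card_of_mem (show g ∈ C from fun x hx => h x hx))
  have hPp := Hall.isPGroup hP
  have h2 := inf_cent_ne_bot_of_pgroup (hPp.to_le (inf_le_left : P ⊓ C ≤ P)) hPp
    (norm_inf (le_norm_self P) (le_top.trans hC.2)) h1
  intro hZ
  apply h2
  rw [eq_bot_iff, ← hZ, ← cent_top, cent_comm]
  apply le_of_forall_sylow
  intro q hq _
  haveI := Fact.mk hq
  by_cases hpq : q = p
  · subst hpq; exact ⟨P, hP, cent_symm inf_le_right⟩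
  · obtain ⟨Q, hQ⟩ := exists_sylowOf q (⊤ : Subgroup G)
    refine ⟨Q, hQ, le_cent_iff.mpr fun a ha b hb => hb.1.2 a fun hd => hpq ?_⟩
    exact (isPiElt_iff.mp ((Hall.isPi hQ).elt ha) p hp.out hd).symm

theorem exists_mem_ucs (n : ℕ) : ∀ (G : Type u) [Group G] [Finite G], Nat.card G ≤ n → ∀ g : G,
    (∀ x, Group.IsNilpotent (closure ({x, g} : Set G))) → ∃ k, g ∈ Subgroup.upperCentralSeries G k := by
  induction n with
  | zero => intro G _ _ h; exact absurd (Nat.card_pos (α := G)) (by omega)
  | succ n ih =>
    intro G _ _ hG g hg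
    by_cases h1 : g = 1
    · exact ⟨0, h1 ▸ one_mem _⟩
    obtain ⟨X, hX, hp⟩ := exists_prime_subgroup_of_ne_bot (show zpowers g ≠ ⊥ by simpa using h1)
    haveI := Fact.mk hp
    obtain ⟨z, hz, ho⟩ := exists_prime_order_mem hp (dvd_refl ♯X)
    have hZ := center_ne_bot_of_comm_coprime ho fun x hx => by
      have := cent_of_nil_coprime (hg x) (A := zpowers x) (B := zpowers z)
        (zpowers_le.mpr (subset_closure (by simp)))
        (zpowers_le.mpr (zpowers_le.mpr (subset_closure (by simp)) (hX hz)))
        (by rw [Nat.card_zpowers, Nat.card_zpowers, ho]; exact (hp.coprime_iff_not_dvd.mpr hx).symm)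
      exact le_cent_iff.mp this x (mem_zpowers x) z (mem_zpowers z)
    have hlt : Nat.card (G ⧸ center G) < Nat.card G := by
      rw [← (center G).card_mul_index, index_eq_card]
      have := one_lt_card hZ
      have h2 : 0 < Nat.card (G ⧸ center G) := Nat.card_pos
      nlinarith
    obtain ⟨k, hk⟩ := ih (G ⧸ center G) (by omega) g fun x => by
      obtain ⟨x, rfl⟩ := QuotientGroup.mk_surjective x
      have := nil_map (QuotientGroup.mk' (center G)) (hg x)
      rwa [MonoidHom.map_closure, Set.image_pair] at this
    exact ⟨k + 1, by rw [← Subgroup.comap_upperCentralSeries_quotient_center]; exact hk⟩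

omit [Finite G] in
theorem nil_closure_of_mem_ucs {g : G} {k : ℕ} (hg : g ∈ Subgroup.upperCentralSeries G k) (x : G) :
    Group.IsNilpotent (closure ({x, g} : Set G)) := by
  set H := closure ({x, g} : Set G) with hH
  have h1 : ⁅H, H⁆ ≤ Subgroup.upperCentralSeries G k := by
    have hN : ∀ A : Subgroup G, A ≤ N⟦Subgroup.upperCentralSeries G k⟧ := fun A => le_top.trans (NormalIn.of_normal _).2
    have : H ≤ zpowers x ⊔ Subgroup.upperCentralSeries G k := by
      rw [hH, closure_le]
      rintro _ (rfl | rfl)
      · exact mem_sup_left (mem_zpowers _)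
      · exact mem_sup_right hg
    refine (commutator_mono this this).trans ?_
    rw [← quo_comm_iff (hN _), quo_sup_self (hN _)]
    exact quo_comm inferInstance _
  have h2 : ∀ i, H.lowerCentralSeries (i + 1) ≤ Subgroup.upperCentralSeries G (k - i) := by
    intro i
    induction i with
    | zero => exact h1
    | succ i ih =>
      rw [Subgroup.lowerCentralSeries_succ]
      refine (commutator_mono ih le_top).trans ?_
      rcases Nat.eq_zero_or_pos (k - i) with h | h
      · rw [h, Subgroup.upperCentralSeries_zero, commutator_bot_left]; exact bot_le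
      · rw [show k - i = k - (i + 1) + 1 by omega]
        exact commutator_upperCentralSeries_top_le G _
  exact isNilpotent_of_lowerCentralSeries_eq_bot (n := k + 1) (by simpa using h2 k)

end Cfsg.Agent.H25
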