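/-
Groups whose noncentral `r'`-elements all have the same class size.
-/
import Cfsg.Agent.H25.Ito2

set_option autoImplicit false
set_option linter.style.haveILetI false

namespace Cfsg.Agent.H25

open Subgroup Cfsg.Agent.H20 Cfsg.Agent.H21
open scoped Pointwise commutatorElement

variable {G : Type*} [Group G] [Finite G]

/-- Every noncentral `r'`-element has class size `n`, and two primes other than `r` divide `|G : Z(G)|`. -/
structure Th (G : Type*) [Group G] (r n : ℕ) : Prop where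
  idx : ∀ x : G, IsPiElt {r}ᶜ x → x ∉ center G → C₁⟦x⟧.index = n
  two : ∀ a : ℕ, ∃ s : ℕ, s.Prime ∧ s ≠ r ∧ s ≠ a ∧ s ∣ (center G).index

namespace Th

variable {r n : ℕ} (h : Th G r n)
include h

theorem dvd {x : G} (hx : IsPiElt {r}ᶜ x) (hxZ : x ∉ center G) {p : ℕ} (hp : p.Prime) (hpr : p ≠ r)
    (hd : p ∣ (center G).index) : p ∣ (center G).relIndex C₁⟦x⟧ := by
  obtain ⟨u, huZ, hu⟩ := exists_elt_of_dvd_index hp hd
  rw [relIndex_center_eq ((h.idx x hx hxZ).trans (h.idx u (elt_mono1 hu hpr) huZ).symm)]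
  exact dvd_relIndex_of_elt hp (self_mem_cent1 u) huZ hu

theorem le_of_ne {a : ℕ} {x v : G} (hx : IsPiElt {r}ᶜ x) (hxa : IsPiElt {a} x) (hxZ : x ∉ center G)
    (hv : IsPiElt {r}ᶜ v) (hva : IsPiElt {a}ᶜ v) (hc : v ∈ C₁⟦x⟧) : C₁⟦x⟧ ≤ C₁⟦v⟧ := by
  have e := cent1_mul hxa hva hc
  have := eq_of_le_index (e ▸ inf_le_left : C₁⟦x * v⟧ ≤ C₁⟦x⟧) (by
    rw [h.idx x hx hxZ, h.idx _ (elt_mul hx hv hc) (not_mem_center_of_le (e ▸ inf_le_left) hxZ)])
  exact this ▸ e ▸ inf_le_right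

theorem le {x v : G} (hx : IsPiElt {r}ᶜ x) (hxZ : x ∉ center G) (hv : IsPiElt {r}ᶜ v) (hc : v ∈ C₁⟦x⟧) :
    C₁⟦x⟧ ≤ C₁⟦v⟧ := by
  obtain ⟨a, ha, har, y, hy, hyZ, hya⟩ := exists_ppart hx hxZ
  have hy' := elt_mono1 hya har
  have e : C₁⟦x⟧ = C₁⟦y⟧ :=
    eq_of_le_index (H26.cent_le_cent_of_mem_zpowers hy) (by rw [h.idx x hx hxZ, h.idx y hy' hyZ])
  obtain ⟨s, hs, hsr, hsa, hd⟩ := h.two a
  obtain ⟨u, hu, huZ, hus⟩ := exists_elt_not_mem hs (h.dvd hy' hyZ hs hsr hd)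
  have hu' := elt_mono1 (ρ := {r}ᶜ) hus hsr
  have e' : C₁⟦y⟧ = C₁⟦u⟧ := eq_of_le_index (h.le_of_ne hy' hya hyZ hu' (elt_ne hus hsa) hu)
    (by rw [h.idx u hu' huZ, h.idx y hy' hyZ])
  rw [e] at hc ⊢
  refine le_cent1_iff.2 (mem_of_forall_pelt hv hc fun b _ hb w hw hwb => le_cent1_iff.1 ?_)
  by_cases hba : b = a
  · exact e' ▸ h.le_of_ne hu' hus huZ (elt_mono1 hwb hb) (elt_ne hwb (hba ▸ hsa.symm)) (e' ▸ hw)
  · exact h.le_of_ne hy' hya hyZ (elt_mono1 hwb hb) (elt_ne hwb hba) hw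

theorem eq {x v : G} (hx : IsPiElt {r}ᶜ x) (hxZ : x ∉ center G) (hv : IsPiElt {r}ᶜ v) (hvZ : v ∉ center G)
    (hc : v ∈ C₁⟦x⟧) : C₁⟦v⟧ = C₁⟦x⟧ :=
  (eq_of_le_index (h.le hx hxZ hv hc) ((h.idx x hx hxZ).trans (h.idx v hv hvZ).symm).le).symm

theorem not_two {x : G} (hx : IsPiElt {r}ᶜ x) (hxZ : x ∉ center G) {p q : ℕ} (hp : p.Prime) (hq : q.Prime)
    (hpq : p ≠ q) (hpr : p ≠ r) (hqr : q ≠ r) (h1 : p ∣ n) (h2 : q ∣ n) : False := by
  rw [← h.idx x hx hxZ] at h1 h2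
  have hd := index_dvd_of_le (H26.center_le_cent x)
  refine phi hp hq hpq (fun v hv hv' hvZ => h.eq hx hxZ (elt_mono hv' ?_) hvZ hv) (h.dvd hx hxZ hp hpr (h1.trans hd))
    (h.dvd hx hxZ hq hqr (h2.trans hd)) h1 h2
  rintro _ (rfl | rfl) <;> assumption

theorem cent_eq {x : G} (hx : IsPiElt {r}ᶜ x) (hxZ : x ∉ center G) {U : Subgroup G} (hU : IsPi {r}ᶜ U)
    (hUZ : ¬ U ≤ center G) (hle : U ≤ C₁⟦x⟧) : C⟦U⟧ = C₁⟦x⟧ := by
  obtain ⟨u, hu, huZ⟩ := SetLike.not_le_iff_exists.1 hUZ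
  exact le_antisymm (h.eq hx hxZ (hU.elt hu) huZ (hle hu) ▸ cent_le_cent1 hu)
    (cent_symm fun a ha => le_cent1_iff.1 (h.le hx hxZ (hU.elt ha) (hle ha)))

theorem psi (hr : r.Prime) {s t : ℕ} (hs : s.Prime) (ht : t.Prime) (hsr : s ≠ r) (htr : t ≠ r) (hsn : s ∣ n)
    (hsZ : s ∣ (center G).index) (htn : ¬ t ∣ n) (htZ : t ∣ (center G).index) : False := by
  haveI := Fact.mk hr
  haveI := Fact.mk hs
  haveI := Fact.mk ht
  have hst : s ≠ t := fun e => htn (e ▸ hsn)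
  obtain ⟨S, hS⟩ := exists_sylowOf s (⊤ : Subgroup G)
  obtain ⟨g, hg, hgZ, hSD, hgi⟩ := exists_second_center hS hsZ
  have hgs := elt_of_pgroup hS.isPGroup hg
  have hg' : IsPiElt {r}ᶜ g := elt_mono1 hgs hsr
  set D := C₁⟦g⟧ with hD
  have hDn : D.index = n := h.idx g hg' hgZ
  have hn : ∀ p : ℕ, p.Prime → p ∣ n → p ≠ s → p = r := fun p hp hd hps => by
    by_contra hpr; exact h.not_two hg' hgZ hp hs hps hpr hsr hd hsn
  have hT : ∀ x, IsPiElt {r}ᶜ x → x ∉ center G → ∃ T, SylowOf t T ⊤ ∧ C⟦T⟧ = C₁⟦x⟧ := fun x hx hxZ => by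
    obtain ⟨T, hT, hle⟩ := sylow_le_of_not_dvd ht (h.idx x hx hxZ ▸ htn)
    exact ⟨T, hT, h.cent_eq hx hxZ (hT.isPi.mono (Set.singleton_subset_iff.2 htr)) (sylow_not_le hT htZ) hle⟩
  obtain ⟨T, hTs, hTD⟩ := hT g hg' hgZ
  -- the normal closure of `g` is solvable
  obtain ⟨L, hLn, hLs, hgL⟩ : ∃ L : Subgroup G, L.Normal ∧ Group.IsSolvable L ∧ g ∈ L := by
    set f := QuotientGroup.mk' (center G)
    have h1 := H26.index_cent_map_dvd (QuotientGroup.mk'_surjective (center G)) g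
    obtain ⟨k, hk⟩ := (PiNat.singleton_iff hr C₁⟦f g⟧.index_ne_zero_of_finite).1 fun p hp hd =>
      hn p hp (hDn ▸ hd.trans h1) fun e => hgi (e ▸ hd)
    refine ⟨(normalClosure {f g}).comap f, inferInstance,
      H1.isSolvable_of_map_mk' (N := center G) (sol_of_comm inferInstance) ?_, subset_normalClosure rfl⟩
    rw [map_comap_eq_self_of_surjective (QuotientGroup.mk'_surjective _)]
    exact kazarin _ hr hk
  have hZn : (⊤ : Subgroup G) ≤ N⟦center G⟧ := (NormalIn.of_normal _).norm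
  set W := coreMod {r} (center G) ⊤ with hW
  haveI hWn : W.Normal := (coreMod_normalIn _ hZn).normal
  have hZW : center G ≤ W := self_le_coreMod _ (NormalIn.of_normal _)
  have hWr : PiNat {r} ((center G).relIndex W) := piNat_coreMod _ hZn
  have hgW : g ∉ W := fun e => hsr (hWr s hs (dvd_relIndex_of_elt hs e hgZ hgs))
  obtain ⟨V, v, hv, hVn, hWV, hVW, hVv⟩ : ∃ (V : Subgroup G) (v : ℕ), v.Prime ∧ V.Normal ∧ W ≤ V ∧ ¬ V ≤ W ∧
      PiNat {v} (W.relIndex V) := by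
    set f := QuotientGroup.mk' W
    have hf := QuotientGroup.mk'_surjective W
    obtain ⟨v, hv, h1⟩ := exists_pCoreOf_ne_bot (sol_map f hLs)
      (ne_bot_of_mem (mem_map_of_mem f hgL) fun e => hgW ((QuotientGroup.eq_one_iff g).1 e))
    haveI := (piCoreOf_normalIn_of {v} (@NormalIn.of_normal _ _ (L.map f) (hLn.map f hf))).normal
    refine ⟨(piCoreOf {v} (L.map f)).comap f, v, hv, inferInstance, ?_, fun hle => h1 ?_, ?_⟩
    · conv_lhs => rw [← QuotientGroup.ker_mk' W]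
      exact ker_le_comap _ _
    · rw [← map_comap_eq_self_of_surjective hf (piCoreOf {v} (L.map f)), Subgroup.map_eq_bot_iff,
        QuotientGroup.ker_mk']
      exact hle
    · have := Subgroup.relIndex_ker ((piCoreOf {v} (L.map f)).comap f) f
      rw [QuotientGroup.ker_mk', map_comap_eq_self_of_surjective hf] at this
      rw [this]
      exact isPi_piCoreOf _ _
  haveI := Fact.mk hv
  have hZV := relIndex_mul_relIndex _ _ _ hZW hWV
  have hvr : v ≠ r := by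
    rintro rfl
    exact hVW (le_coreMod (NormalIn.of_normal V) (hZV ▸ hWr.mul hVv))
  obtain ⟨U, hU, hUD⟩ : ∃ U, SylowOf v U V ∧ U ≤ D := by
    by_cases hvs : v = s
    · subst hvs
      refine ⟨S ⊓ V, hS.inf_normalIn (NormalIn.of_normal V), ?_⟩
      have hTn : S ≤ N⟦T⟧ := by
        have hTD' : T ≤ D := by
          obtain ⟨T', hT', hle⟩ := sylow_le_of_not_dvd ht (hDn ▸ htn)
          obtain ⟨k, -, rfl⟩ := hT'.exists_cj_eq hTs
          rw [hD, ← hTD]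
          rw [← cj_cent, cj_le_cj]
          exact cent_symm fun a ha => le_cent1_iff.1 (hle.trans (h.le hg' hgZ
            ((hT'.isPi.mono (Set.singleton_subset_iff.2 htr)).elt ha) (hle ha)))
        exact hSD.trans ((hTs.of_le hTD' le_top).norm_le_norm (NormalIn.of_cent hTD' hTD.ge))
      rw [hD, ← hTD]
      refine coprime_cent_of_stable (N := T ⊓ V) (coprime_of_isPGroup_ne (hTs.isPGroup.to_le inf_le_left)
        (hS.isPGroup.to_le inf_le_left) hst.symm) (le_inf (commg_le_left (inf_le_left.trans hTn))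
          ((commutator_mono le_rfl inf_le_right).trans (commutator_le_right _ _))) (cent_symm ?_)
      refine ((hTs.isPi.inf_left V).le_of_normalIn inf_le_right (le_top.trans hZn) ?_).trans
        (by rw [← cent_top]; exact cent_anti le_top)
      rw [← hZV]
      exact (hWr.mono (Set.singleton_subset_iff.2 htr.symm)).mul (hVv.mono (Set.singleton_subset_iff.2 hst))
    · obtain ⟨Q, hQ, hle⟩ := sylow_le_of_not_dvd hv (D := D) fun hd => hvr (hn v hv (hDn ▸ hd) hvs)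
      exact ⟨Q ⊓ V, hQ.inf_normalIn (NormalIn.of_normal V), inf_le_left.trans hle⟩
  have hWU : W ⊔ U = V := hU.sup_eq_of_relIndex hWV hVv
  have hUC : C⟦U⟧ = D := h.cent_eq hg' hgZ (hU.isPi.mono (Set.singleton_subset_iff.2 hvr))
    (fun e => hVW (hWU ▸ sup_le le_rfl (e.trans hZW))) hUD
  have hND : N⟦U⟧ ≤ N⟦D⟧ := hUC ▸ norm_le_norm_cent U
  have hE : ⊤ ≤ N⟦W ⊔ D⟧ := by
    have h1 : N⟦D⟧ ≤ N⟦W ⊔ D⟧ := norm_sup (le_top.trans (NormalIn.of_normal W).norm) le_rfl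
    rw [← hU.frattini (NormalIn.of_normal V), ← hWU]
    exact sup_le (sup_le (norm_of_le le_sup_left) (norm_of_le (hUD.trans le_sup_right)))
      (inf_le_right.trans (hND.trans h1))
  have hsE : s ∣ (W ⊔ D).index := by
    have h1 := relIndex_mul_index (le_sup_right : D ≤ W ⊔ D)
    rw [hDn, relIndex_sup_of_norm (Or.inr (le_top.trans (NormalIn.of_normal W).norm))] at h1
    refine ((Nat.Prime.dvd_mul hs).1 (h1 ▸ hsn)).resolve_left fun hd => hsr (hWr s hs ?_)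
    exact hd.trans (relIndex_dvd_of_le_left _ (H26.center_le_cent g))
  obtain ⟨x, hxE, hx⟩ := exists_elt_of_dvd_index hs hsE
  have hxZ : x ∉ center G := fun e => hxE (mem_sup_left (hZW e))
  obtain ⟨T', hT', hT'C⟩ := hT x (elt_mono1 hx hsr) hxZ
  obtain ⟨k, -, rfl⟩ := hTs.exists_cj_eq hT'
  rw [← cj_cent, hTD] at hT'C
  exact hxE (cj_le_of_mem_norm (hE (mem_top k)) le_sup_right (hT'C ▸ self_mem_cent1 x))

theorem piNat (hr : r.Prime) {x : G} (hx : IsPiElt {r}ᶜ x) (hxZ : x ∉ center G) : PiNat {r} n := by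
  intro p hp hd
  by_contra hpr
  obtain ⟨t, ht, htr, htp, htZ⟩ := h.two p
  exact h.psi hr hp ht hpr htr hd ((h.idx x hx hxZ ▸ hd).trans (index_dvd_of_le (H26.center_le_cent x)))
    (h.not_two hx hxZ hp ht htp.symm hpr htr hd) htZ

end Th

end Cfsg.Agent.H25
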