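import Cfsg.Agent.H21.Base5

/-! Soft subgroups of finite p-groups. -/

set_option autoImplicit false

namespace Cfsg.Agent.H25

open Subgroup Cfsg.Agent.H20 Cfsg.Agent.H21
open scoped commutatorElement

universe u
variable {G : Type*} [Group G] [Finite G] {p : ℕ} [hp : Fact p.Prime]

theorem soft_between {A B C : Subgroup G} (h : A.relIndex C = p) (h1 : A ≤ B) (h2 : B ≤ C) : B = A ∨ B = C := by
  rcases (Nat.dvd_prime hp.out).1 (h ▸ Dvd.intro _ (relIndex_mul_relIndex A B C h1 h2)) with e | e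
  · exact Or.inl (le_antisymm (relIndex_eq_one.1 e) h1)
  · right
    have := relIndex_mul_relIndex A B C h1 h2
    rw [h, e] at this
    exact le_antisymm h2 (relIndex_eq_one.1 ((Nat.mul_eq_left hp.out.ne_zero).1 this))

omit [Finite G] in
theorem soft_norm_map (W : Subgroup G) [W.Normal] {K : Subgroup G} (h : W ≤ K) :
    N⟦K.map (QuotientGroup.mk' W)⟧ = N⟦K⟧.map (QuotientGroup.mk' W) := by
  have := comap_normalizer_eq_of_surjective (K.map (QuotientGroup.mk' W)) (QuotientGroup.mk'_surjective W)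
  rw [comap_map_eq, QuotientGroup.ker_mk', sup_eq_left.2 h] at this
  rw [← this, map_comap_eq_self_of_surjective (QuotientGroup.mk'_surjective W)]

omit [Finite G] in
theorem soft_relIndex_map (W : Subgroup G) [W.Normal] {A B : Subgroup G} (h : W ≤ A) (h' : W ≤ B) :
    (A.map (QuotientGroup.mk' W)).relIndex (B.map (QuotientGroup.mk' W)) = A.relIndex B := by
  rw [relIndex_map_map, QuotientGroup.ker_mk', sup_eq_left.2 h, sup_eq_left.2 h']

omit [Finite G] in
theorem soft_le_of_map (W : Subgroup G) [W.Normal] {A B : Subgroup G} (h : W ≤ B)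
    (e : A.map (QuotientGroup.mk' W) ≤ B.map (QuotientGroup.mk' W)) : A ≤ B := by
  have := map_le_iff_le_comap.1 e
  rwa [comap_map_eq, QuotientGroup.ker_mk', sup_eq_left.2 h] at this

omit [Finite G] in
theorem soft_commg_le (W : Subgroup G) [W.Normal] {A B : Subgroup G} :
    A.map (QuotientGroup.mk' W) ≤ C⟦B.map (QuotientGroup.mk' W)⟧ ↔ ⁅A, B⁆ ≤ W := by
  rw [← commg_eq_bot, ← map_commutator, Subgroup.map_eq_bot_iff, QuotientGroup.ker_mk']

structure Soft (p : ℕ) (E : Subgroup G) : Prop where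
  comm : E ≤ C⟦E⟧
  cent : C⟦E⟧ ≤ E
  idx : E.relIndex N⟦E⟧ = p

namespace Soft
variable {E : Subgroup G} (h : Soft p E)
include h

theorem not_le : ¬ N⟦E⟧ ≤ E := fun e => hp.out.one_lt.ne' (h.idx ▸ relIndex_eq_one.2 e)

theorem ne_top : E ≠ ⊤ := fun e => h.not_le (le_top.trans e.ge)

theorem center_le : center G ≤ E := cent_top (G := G) ▸ (cent_anti le_top).trans h.cent

theorem norm_le (hG : IsPGroup p G) {K : Subgroup G} (hK : E ≤ K) (hne : K ≠ E) : N⟦E⟧ ≤ K := by
  have := lt_inf_norm_of_isPGroup (hG.to_subgroup K) (lt_of_le_of_ne hK hne.symm)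
  rcases soft_between h.idx this.le inf_le_right with e | e
  · exact (this.ne' e).elim
  · exact e.ge.trans inf_le_left

theorem inf_le {k : G} (hk : k ∈ N⟦N⟦E⟧⟧) (hk' : k ∉ N⟦E⟧) : E ⊓ cj k E ≤ C⟦N⟦E⟧⟧ := by
  rcases soft_between h.idx (le_sup_left (b := cj k E))
    (sup_le (le_norm_self E) (cj_le_of_mem_norm hk (le_norm_self E))) with e | e
  · exact (hk' (mem_norm_of_cj_le (le_sup_right.trans e.le))).elim
  · rw [← e]
    exact le_cent_sup (inf_le_left.trans h.comm) (inf_le_right.trans (cent_cj k h.comm))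

theorem idx2 (hG : IsPGroup p G) (hN : N⟦E⟧ ≠ ⊤) : N⟦E⟧.relIndex N⟦N⟦E⟧⟧ = p := by
  have l := lt_inf_norm_of_isPGroup (hG.to_subgroup ⊤) (lt_top_iff_ne_top.2 hN)
  rw [top_inf_eq] at l
  obtain ⟨g, g1, g2⟩ := SetLike.exists_of_lt l
  set Z := C⟦N⟦E⟧⟧ with hZ
  have zE : Z ≤ E := (cent_anti (le_norm_self E)).trans h.cent
  have i : Z.relIndex N⟦E⟧ ≤ p * p := by
    refine (relIndex_le_of_le_left (h.inf_le g1 g2) (relIndex_ne_zero _ _)).trans (relIndex_inf_le.trans ?_)
    have := relIndex_cj g E N⟦E⟧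
    rw [cj_eq_of_mem_norm g1] at this
    rw [this, h.idx]
  obtain ⟨x, x1, x2⟩ : ∃ x ∈ E, x ∉ Z := by
    by_contra hc
    push Not at hc
    exact h.not_le ((cent_symm hc).trans h.cent)
  have nz : N⟦N⟦E⟧⟧ ≤ N⟦Z⟧ := norm_le_norm_cent _
  let ψ : (↥N⟦N⟦E⟧⟧ ⧸ N⟦E⟧.subgroupOf N⟦N⟦E⟧⟧) → (↥N⟦E⟧ ⧸ Z.subgroupOf N⟦E⟧) := fun q =>
    QuotientGroup.mk ⟨q.out * x * (q.out : G)⁻¹, conj_mem_of_norm q.out.2 (le_norm_self E x1)⟩
  have inj : Function.Injective ψ := fun a b e => by
    have e1 : ((a.out : G) * x * (a.out : G)⁻¹)⁻¹ * (b.out * x * (b.out : G)⁻¹) ∈ Z :=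
      mem_subgroupOf.1 (QuotientGroup.eq.1 e)
    have e2 := conj_mem_of_norm' (nz a.out.2) e1
    rw [← a.out_eq', ← b.out_eq', QuotientGroup.eq, mem_subgroupOf]
    by_contra hc
    have k1 := (a.out⁻¹ * b.out).2
    set k : G := ((a.out⁻¹ * b.out : ↥N⟦N⟦E⟧⟧) : G) with hk
    have e3 : k * x * k⁻¹ ∈ E := by
      have := E.mul_mem x1 (zE e2)
      convert this using 1
      simp only [hk, coe_mul, coe_inv]; group
    have := conj_mem_of_norm' (nz k1) (h.inf_le k1 hc ⟨e3, conj_mem_cj.2 x1⟩)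
    exact x2 (by convert this using 1; group)
  have ns : (QuotientGroup.mk 1 : ↥N⟦E⟧ ⧸ Z.subgroupOf N⟦E⟧) ∉ Set.range ψ := by
    rintro ⟨a, e⟩
    have e1 : ((a.out : G) * x * (a.out : G)⁻¹)⁻¹ * 1 ∈ Z :=
      mem_subgroupOf.1 (QuotientGroup.eq.1 e)
    have := conj_mem_of_norm' (nz a.out.2) (Z.inv_mem e1)
    exact x2 (by convert this using 1; group)
  have lt : N⟦E⟧.relIndex N⟦N⟦E⟧⟧ < Z.relIndex N⟦E⟧ := by
    classical
    have := Fintype.ofFinite (↥N⟦N⟦E⟧⟧ ⧸ N⟦E⟧.subgroupOf N⟦N⟦E⟧⟧)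
    have := Fintype.ofFinite (↥N⟦E⟧ ⧸ Z.subgroupOf N⟦E⟧)
    have := Fintype.card_lt_of_injective_of_notMem ψ inj ns
    rwa [← Nat.card_eq_fintype_card, ← Nat.card_eq_fintype_card] at this
  obtain ⟨n, hn⟩ := (hG.to_subgroup N⟦N⟦E⟧⟧).index (N⟦E⟧.subgroupOf N⟦N⟦E⟧⟧)
  have hn' : N⟦E⟧.relIndex N⟦N⟦E⟧⟧ = p ^ n := hn
  have n0 : n ≠ 0 := by
    rintro rfl
    exact l.not_ge (relIndex_eq_one.1 (by simpa using hn'))
  have : p ^ n < p ^ 2 := by rw [pow_two, ← hn']; omega
  have := (Nat.pow_lt_pow_iff_right hp.out.one_lt).1 this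
  rw [hn', show n = 1 by omega, pow_one]

theorem quotB (hG : IsPGroup p G) (hN : N⟦E⟧ ≠ ⊤) (W : Subgroup G) [W.Normal] (hW : W ≤ E)
    (hd : ⁅N⟦E⟧, N⟦E⟧⁆ ≤ W) : Soft p (N⟦E⟧.map (QuotientGroup.mk' W)) := by
  have w := hW.trans (le_norm_self E)
  refine ⟨(soft_commg_le W).2 hd, ?_, ?_⟩
  · rw [← map_comap_eq_self_of_surjective (QuotientGroup.mk'_surjective W) C⟦_⟧]
    refine map_mono (norm_of_commg_le ?_)
    rw [commutator_comm]
    exact ((commutator_mono le_rfl (le_norm_self E)).trans ((soft_commg_le W).1 (map_comap_le _ _))).trans hW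
  · rw [soft_norm_map W w, soft_relIndex_map W w (w.trans (le_norm_self _)), h.idx2 hG hN]

theorem cases (W : Subgroup G) [W.Normal] (hW : W ≤ E) :
    Soft p (E.map (QuotientGroup.mk' W)) ∨ ⁅N⟦E⟧, N⟦E⟧⁆ ≤ W := by
  have hf := QuotientGroup.mk'_surjective W
  set C := C⟦E.map (QuotientGroup.mk' W)⟧.comap (QuotientGroup.mk' W) with hC
  have c1 : E ≤ C := map_le_iff_le_comap.1 (cent_map _ h.comm)
  have c2 : C ≤ N⟦E⟧ := norm_of_commg_le (by
    rw [commutator_comm]; exact ((soft_commg_le W).1 (map_comap_le _ _)).trans hW)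
  rcases soft_between h.idx c1 c2 with e | e
  · refine Or.inl ⟨cent_map _ h.comm, ?_, ?_⟩
    · rw [← map_comap_eq_self_of_surjective hf C⟦_⟧, ← hC, e]
    · rw [soft_norm_map W hW, soft_relIndex_map W hW (hW.trans (le_norm_self _)), h.idx]
  · right
    obtain ⟨x, x1, x2⟩ := SetLike.exists_of_lt (lt_of_le_of_ne (le_norm_self E) fun e => h.not_le e.ge)
    have s : E ⊔ zpowers x = N⟦E⟧ := (soft_between h.idx le_sup_left (sup_le (le_norm_self E)
      (zpowers_le.2 x1))).resolve_left fun e => x2 (e.le (mem_sup_right (mem_zpowers x)))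
    rw [← soft_commg_le, ← s, Subgroup.map_sup, ← comm_iff_le_cent]
    refine comm_sup (comm_iff_le_cent.2 (cent_map _ h.comm)) (by rw [MonoidHom.map_zpowers]; infer_instance)
      (cent_symm ((map_mono ((zpowers_le.2 x1).trans e.ge)).trans (map_comap_le _ _)))

theorem sub {D : Subgroup G} (hD : N⟦E⟧ ≤ D) : Soft p (E.subgroupOf D) := by
  have e := (le_norm_self E).trans hD
  refine ⟨fun a ha => mem_cent.2 fun b hb => Subtype.ext (mem_cent.1 (h.comm ha) b hb), fun a ha =>
    h.cent (mem_cent.2 fun b hb => congrArg Subtype.val (mem_cent.1 ha ⟨b, e hb⟩ hb)), ?_⟩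
  rw [← subgroupOf_normalizer_eq e, relIndex_subgroupOf hD, h.idx]

end Soft

theorem soft_card_lt (W : Subgroup G) [W.Normal] (h0 : W ≠ ⊥) : Nat.card (G ⧸ W) < Nat.card G := by
  rw [card_eq_card_quotient_mul_card_subgroup W]
  exact lt_mul_of_one_lt_right Nat.card_pos (one_lt_card h0)

theorem Soft.center_ne (hG : IsPGroup p G) {E : Subgroup G} (h : Soft p E) : center G ≠ ⊥ := by
  have : Nontrivial G := by
    by_contra hc
    have := not_nontrivial_iff_subsingleton.1 hc
    exact h.ne_top (Subsingleton.elim _ _)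
  exact (Subgroup.nontrivial_iff_ne_bot _).1 hG.center_nontrivial

theorem Soft.tower (n : ℕ) : ∀ (G : Type u) [Group G] [Finite G], Nat.card G = n → IsPGroup p G →
    ∀ E : Subgroup G, Soft p E → (∀ K L : Subgroup G, E ≤ K → E ≤ L → K ≤ L ∨ L ≤ K) ∧
      ∀ K : Subgroup G, E ≤ K → K ≠ ⊤ → K.relIndex N⟦K⟧ = p := by
  induction n using Nat.strong_induction_on with
  | _ n ih =>
  rintro G _ _ rfl hG E h
  have key : ∀ F : Subgroup G, center G ≤ F → Soft p (F.map (QuotientGroup.mk' (center G))) →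
      (∀ K L : Subgroup G, F ≤ K → F ≤ L → K ≤ L ∨ L ≤ K) ∧
      ∀ K : Subgroup G, F ≤ K → K ≠ ⊤ → K.relIndex N⟦K⟧ = p := fun F hF s => by
    obtain ⟨a, b⟩ := ih _ (soft_card_lt _ (h.center_ne hG)) _ rfl (hG.to_quotient _) _ s
    refine ⟨fun K L hK hL => (a _ _ (map_mono hK) (map_mono hL)).imp (soft_le_of_map _ (hF.trans hL))
      (soft_le_of_map _ (hF.trans hK)), fun K hK ht => ?_⟩
    have w := hF.trans hK
    rw [← b _ (map_mono hK) fun e => ht (top_le_iff.1 (soft_le_of_map _ w (le_top.trans e.ge))),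
      soft_norm_map _ w, soft_relIndex_map _ w (w.trans (le_norm_self K))]
  rcases h.cases (center G) h.center_le with s | s
  · exact key E h.center_le s
  by_cases hN : N⟦E⟧ = ⊤
  · have : ∀ K, E ≤ K → K = E ∨ K = ⊤ := fun K hK => hN ▸ soft_between h.idx hK (le_top.trans hN.ge)
    refine ⟨fun K L hK hL => ?_, fun K hK ht => ?_⟩
    · rcases this K hK with e | e
      · exact Or.inl (e.le.trans hL)
      · exact Or.inr (le_top.trans e.ge)
    · rw [(this K hK).resolve_right ht, h.idx]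
  obtain ⟨a, b⟩ := key _ (h.center_le.trans (le_norm_self E)) (h.quotB hG hN _ h.center_le s)
  refine ⟨fun K L hK hL => ?_, fun K hK ht => ?_⟩
  · by_cases e : K = E
    · exact Or.inl (e.le.trans hL)
    by_cases e' : L = E
    · exact Or.inr (e'.le.trans hK)
    exact a K L (h.norm_le hG hK e) (h.norm_le hG hL e')
  · by_cases e : K = E
    · rw [e, h.idx]
    exact b K (h.norm_le hG hK e) ht

theorem Soft.der_le (n : ℕ) : ∀ (G : Type u) [Group G] [Finite G], Nat.card G = n → IsPGroup p G →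
    ∀ E : Subgroup G, Soft p E → ∀ K : Subgroup G, E ≤ K → K ≠ ⊤ → ⁅N⟦E⟧, N⟦E⟧⁆ ≤ C⟦K⟧ := by
  induction n using Nat.strong_induction_on with
  | _ n ih =>
  rintro G _ _ rfl hG E h K hK ht
  rcases h.cases (center G) h.center_le with s | s
  swap
  · exact s.trans (cent_top (G := G) ▸ cent_anti le_top)
  obtain ⟨M, hM, km⟩ := (eq_top_or_exists_le_coatom K).resolve_left ht
  have := hG.isNilpotent
  have : M.Normal := NormalizerCondition.normal_of_coatom M normalizerCondition_of_isNilpotent hM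
  have em := hK.trans km
  have w := h.center_le.trans em
  obtain ⟨a, b⟩ := Soft.tower _ G rfl hG E h
  have i := ih _ (soft_card_lt _ (h.center_ne hG)) _ rfl (hG.to_quotient _) _ s (M.map (QuotientGroup.mk' _))
    (map_mono em) fun e => hM.1 (top_le_iff.1 (soft_le_of_map _ w (le_top.trans e.ge)))
  rw [soft_norm_map _ h.center_le, ← map_commutator, map_le_iff_le_comap] at i
  have : (M.map (QuotientGroup.mk' (center G))).Normal := Normal.map inferInstance _ (QuotientGroup.mk'_surjective _)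
  set Y := C⟦M.map (QuotientGroup.mk' (center G))⟧.comap (QuotientGroup.mk' (center G)) with hY
  have yn : Y.Normal := Normal.comap inferInstance _
  have ye : Y ≤ E := soft_le_of_map _ h.center_le ((map_comap_le _ _).trans ((cent_anti (map_mono em)).trans s.cent))
  intro z hz
  have c : ∀ g : G, E ≤ cj g C₁⟦z⟧ := fun g => by
    rw [cj_cent1]
    exact le_cent1_iff.2 (h.comm (ye (yn.conj_mem z (i hz) g)))
  have c1 : E ≤ C₁⟦z⟧ := by simpa using c 1
  have nt : N⟦C₁⟦z⟧⟧ = ⊤ := eq_top_iff.2 fun g _ => mem_norm_iff_cj.2 (by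
    rcases a _ _ (c g) c1 with e | e
    · exact eq_of_le_card e (card_cj _ _).ge
    · exact (eq_of_le_card e (card_cj _ _).le).symm)
  refine le_cent1_iff.1 (km.trans ?_)
  rcases a _ _ em c1 with e | e
  · exact e
  · have := b _ c1 fun e' => hM.1 (top_le_iff.1 (e'.ge.trans e))
    rw [nt] at this
    exact ((soft_between this e le_top).resolve_right hM.1).le

omit [Finite G] hp in
theorem soft_class_eq {H : Type*} [Group H] [Group.IsNilpotent G] (e : G ≃* H) :
    Group.nilpotencyClass H = Group.nilpotencyClass G := by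
  have := Group.nilpotent_of_surjective e.toMonoidHom e.surjective
  exact le_antisymm (Group.nilpotencyClass_le_of_surjective e.toMonoidHom e.surjective)
    (Group.nilpotencyClass_le_of_surjective e.symm.toMonoidHom e.symm.surjective)

theorem Soft.cls (i : ℕ) : ∀ (G : Type u) [Group G] [Finite G], IsPGroup p G →
    ∀ E : Subgroup G, Soft p E → ∀ (K : Subgroup G) [K.Normal], E ≤ K → K ≠ ⊤ → E.relIndex K = p ^ i →
      Group.nilpotencyClass K = i + 1 := by
  induction i with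
  | zero =>
    intro G _ _ hG E h K _ hK _ e
    obtain rfl : K = E := le_antisymm (relIndex_eq_one.1 (by simpa using e)) hK
    have := (hG.to_subgroup K).isNilpotent
    have h1 := Group.IsNilpotent.nilpotencyClass_le_one_iff.2 (comm_iff_le_cent.2 h.comm)
    have h0 : Group.nilpotencyClass K ≠ 0 := fun e => by
      have := Group.nilpotencyClass_zero_iff_subsingleton.1 e
      exact h.center_ne hG (eq_bot_iff.2 (h.center_le.trans (eq_bot_of_subsingleton K).le))
    omega
  | succ i ih =>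
    intro G _ _ hG E h K _ hK ht e
    have ne : K ≠ E := by
      rintro rfl
      rw [relIndex_self] at e
      exact (Nat.one_lt_pow (Nat.succ_ne_zero i) hp.out.one_lt).ne e
    have nk := h.norm_le hG hK ne
    have we : C⟦K⟧ ≤ E := (cent_anti hK).trans h.cent
    have s := h.quotB hG (fun e => ht (top_le_iff.1 (e.ge.trans nk))) C⟦K⟧ we (Soft.der_le _ G rfl hG E h K hK ht)
    have : (K.map (QuotientGroup.mk' C⟦K⟧)).Normal := Normal.map inferInstance _ (QuotientGroup.mk'_surjective _)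
    have c := ih _ (hG.to_quotient _) _ s (K.map (QuotientGroup.mk' C⟦K⟧)) (map_mono nk)
      (fun e => ht (top_le_iff.1 (soft_le_of_map _ (we.trans hK) (le_top.trans e.ge)))) (by
        rw [soft_relIndex_map _ (we.trans (le_norm_self E)) (we.trans hK)]
        have := relIndex_mul_relIndex E N⟦E⟧ K (le_norm_self E) nk
        rw [e, h.idx, pow_succ'] at this
        exact Nat.eq_of_mul_eq_mul_left hp.out.pos this)
    have := (hG.to_subgroup K).isNilpotent
    have : Nontrivial K := (Subgroup.nontrivial_iff_ne_bot _).2 fun e =>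
      h.center_ne hG (eq_bot_iff.2 ((h.center_le.trans hK).trans e.le))
    have hk : ((QuotientGroup.mk' C⟦K⟧).subgroupMap K).ker = center K := by
      ext x
      rw [MonoidHom.mem_ker, mem_center_iff, Subtype.ext_iff]
      change QuotientGroup.mk' C⟦K⟧ x = 1 ↔ _
      rw [QuotientGroup.mk'_apply, QuotientGroup.eq_one_iff, mem_cent]
      exact ⟨fun a b => Subtype.ext (a b b.2), fun a b hb => congrArg Subtype.val (a ⟨b, hb⟩)⟩
    rw [Group.nilpotencyClass_eq_quotient_center_plus_one, ← c, soft_class_eq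
      ((QuotientGroup.quotientMulEquivOfEq hk.symm).trans (QuotientGroup.quotientKerEquivOfSurjective _
        (MonoidHom.subgroupMap_surjective _ K)))]

theorem Soft.cls' (hG : IsPGroup p G) {E : Subgroup G} (h : Soft p E) {i : ℕ} {K : Subgroup G} (hK : E ≤ K)
    (ht : K ≠ ⊤) (e : E.relIndex K = p ^ i) : Group.nilpotencyClass K = i + 1 := by
  have nk : N⟦E⟧ ≤ N⟦K⟧ := by
    by_cases e : K = E
    · rw [e]
    · exact (h.norm_le hG hK e).trans (le_norm_self K)
  have l := lt_inf_norm_of_isPGroup (hG.to_subgroup ⊤) (lt_top_iff_ne_top.2 ht)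
  rw [top_inf_eq] at l
  have := (hG.to_subgroup K).isNilpotent
  rw [← Soft.cls i _ (hG.to_subgroup N⟦K⟧) _ (h.sub nk) (K.subgroupOf N⟦K⟧) (comap_mono hK)
    (fun e => l.not_ge (subgroupOf_eq_top.1 e)) (by rw [relIndex_subgroupOf l.le, e]),
    soft_class_eq (subgroupOfEquivOfLe l.le).symm]

end Cfsg.Agent.H25
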