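import Cfsg.Agent.H25.TopCl
import Cfsg.Agent.H25.Ito7
import Cfsg.Agent.H25.Soft
import Cfsg.Agent.H26.Baer
import Cfsg.Agent.S4127

/-! Groups with class sizes `1, n, m, nm` for coprime `n, m`. -/

set_option autoImplicit false

namespace Cfsg.Agent.H25

open Subgroup Cfsg.Agent.H20 Cfsg.Agent.H21 Cfsg.Agent.H2.CS
open scoped Pointwise commutatorElement

variable {G : Type*} [Group G] [Finite G]

omit [Finite G] in
theorem cam_center {x : G} (h : cs x = 1) : x ∈ center G := mem_center_of_top (index_eq_one.1 h).ge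

theorem cam_dvd_index {s : ℕ} (hs : s.Prime) {v : G} (h : IsPiElt {s} v) (hz : v ∉ center G) :
    s ∣ (center G).index := by
  simpa using dvd_relIndex_of_elt hs (mem_top v) hz h

omit [Finite G] in
theorem cam_inf_index {a b : G} : (C₁⟦a⟧ ⊓ C₁⟦b⟧).index = C₁⟦b⟧.relIndex C₁⟦a⟧ * cs a := by
  rw [← inf_relIndex_left, relIndex_mul_index inf_le_left]

structure Q4 (G : Type*) [Group G] (n m : ℕ) : Prop where
  one_n : 1 < n
  one_m : 1 < m
  cop : n.Coprime m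
  all : ∀ g : G, cs g = 1 ∨ cs g = n ∨ cs g = m ∨ cs g = n * m
  exn : ∃ g : G, cs g = n
  exm : ∃ g : G, cs g = m
  exw : ∃ g : G, cs g = n * m

namespace Q4
variable {n m : ℕ} (h : Q4 G n m)
include h

omit [Finite G] in
theorem symm : Q4 G m n :=
  ⟨h.one_m, h.one_n, h.cop.symm, fun g => by have := h.all g; rw [mul_comm]; tauto, h.exm, h.exn,
    by rw [mul_comm]; exact h.exw⟩

omit [Finite G] in
theorem not_both {r : ℕ} (hr : r.Prime) (h1 : r ∣ n) (h2 : r ∣ m) : False :=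
  hr.one_lt.ne' (Nat.eq_one_of_dvd_coprimes h.cop h1 h2)

omit [Finite G] in
theorem not_nm : ¬ n ∣ m := fun e => h.one_n.ne' (Nat.eq_one_of_dvd_coprimes h.cop dvd_rfl e)

omit [Finite G] in
theorem dvd (g : G) : cs g ∣ n * m := by
  rcases h.all g with e | e | e | e <;> rw [e]
  exacts [one_dvd _, dvd_mul_right _ _, dvd_mul_left _ _]

omit [Finite G] in
theorem eq_m {g : G} (hd : cs g ∣ m) (hz : g ∉ center G) : cs g = m := by
  rcases h.all g with e | e | e | e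
  · exact (hz (cam_center e)).elim
  · exact (h.not_nm (e ▸ hd)).elim
  · exact e
  · exact (h.not_nm ((dvd_mul_right _ _).trans (e ▸ hd))).elim

omit [Finite G] in
theorem of_dvd {g : G} (hd : m ∣ cs g) : cs g = m ∨ cs g = n * m := by
  rcases h.all g with e | e | e | e
  · exact (h.one_m.ne' (Nat.dvd_one.1 (e ▸ hd))).elim
  · exact (h.symm.not_nm (e ▸ hd)).elim
  · exact Or.inl e
  · exact Or.inr e

omit [Finite G] in
theorem nc {g : G} (hd : m ∣ cs g) : g ∉ center G := fun e =>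
  h.one_m.ne' (Nat.dvd_one.1 (cs_center e ▸ hd))

theorem min {w : G} (hw : cs w = n * m) : MinC w := fun b hb =>
  eq_of_le_index hb ((Nat.le_of_dvd (hw ▸ cs_pos w) (h.dvd b)).trans hw.ge)

theorem ex_pelt : ∃ (q : ℕ) (y : G), q.Prime ∧ IsPiElt {q} y ∧ cs y = m := by
  obtain ⟨g, hg⟩ := h.exm
  have : MaxC g := fun z hz l => (eq_of_le_index l (hg.trans (h.eq_m (hg ▸ cs_dvd l) hz).symm).le).symm
  obtain ⟨s, hs, -, v, -, v1, v2⟩ := this.exists_pelt (elt_univ g) (h.nc hg.symm.dvd)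
  exact ⟨s, v, hs, v1, (congrArg index v2).trans hg⟩

theorem prime_dvd {r : ℕ} (hr : r.Prime) (hd : r ∣ (center G).index) : r ∣ n ∨ r ∣ m := by
  obtain ⟨g, hg⟩ := exists_dvd_class hr hd
  exact (Nat.Prime.dvd_mul hr).1 (hg.trans (h.dvd g))

theorem rel {q : ℕ} {y v : G} (hy : IsPiElt {q} y) (hm : cs y = m) (hv : v ∈ C₁⟦y⟧) (hq : IsPiElt {q}ᶜ v)
    (hz : v ∉ C⟦C₁⟦y⟧⟧) : C₁⟦v⟧.relIndex C₁⟦y⟧ = n := by
  have e : cs (y * v) = C₁⟦v⟧.relIndex C₁⟦y⟧ * m := by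
    rw [← hm, ← cam_inf_index, ← cent1_mul hy hq hv]
  rcases h.of_dvd (g := y * v) (e ▸ dvd_mul_left _ _) with e' | e'
  · rw [e'] at e
    exact (hz (le_cent1_iff.1 (relIndex_eq_one.1 ((Nat.mul_eq_right h.one_m.ne_bot).1 e.symm)))).elim
  · exact Nat.eq_of_mul_eq_mul_right h.one_m.bot_lt (e.symm.trans e')

theorem th {q : ℕ} (hq : q.Prime) {y v : G} (hy : IsPiElt {q} y) (hm : cs y = m) (hv : v ∈ C₁⟦y⟧)
    (hq' : IsPiElt {q}ᶜ v) (hz : v ∉ C⟦C₁⟦y⟧⟧) : n ∣ C⟦C₁⟦y⟧⟧.relIndex C₁⟦y⟧ ∧ (PiNat {q} n ∨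
      ∃ a, ∀ s : ℕ, s.Prime → s ∣ C⟦C₁⟦y⟧⟧.relIndex C₁⟦y⟧ → s = q ∨ s = a) := by
  refine ⟨h.rel hy hm hv hq' hz ▸ relIndex_dvd_of_le_left _ (cent_le_cent1 hv), ?_⟩
  by_contra hc
  push Not at hc
  have co : ∀ {x : C₁⟦y⟧}, IsPiElt {q}ᶜ x ↔ IsPiElt {q}ᶜ (x : G) := by
    intro x; rw [isPiElt_iff, isPiElt_iff, orderOf_coe]
  refine hc.1 (Th.piNat (G := C₁⟦y⟧) ⟨fun x x1 x2 => ?_, fun a => ?_⟩ hq (x := ⟨v, hv⟩) (co.2 hq')
    (mt mem_center_coe.1 hz))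
  · rw [H26.index_cent_subgroup]
    exact h.rel hy hm x.2 (co.1 x1) (mt mem_center_coe.2 x2)
  · obtain ⟨s, s1, s2, s3, s4⟩ := hc.2 a
    exact ⟨s, s1, s3, s4, by rwa [index_center_coe]⟩

theorem nat_step {q : ℕ} (hq : q.Prime) (hd : q ∣ m) {y : G} (hy : IsPiElt {q} y) (hm : cs y = m) :
    ∃ (s : ℕ) (x : G), s.Prime ∧ s ∣ n ∧ PiNat {s} n ∧ IsPiElt {s} x ∧ cs x = n := by
  obtain ⟨p, x, hp, x1, x2, x3⟩ : ∃ (p : ℕ) (x : G), p.Prime ∧ IsPiElt {p} x ∧ cs x = n ∧ x ∈ C₁⟦y⟧ := by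
    obtain ⟨p, x, hp, x1, x2⟩ := h.symm.ex_pelt
    obtain ⟨g, hg⟩ := exists_conj_mem_of_not_dvd hq (D := C₁⟦x⟧) (fun e => h.not_both hq (x2 ▸ e) hd) hy
    refine ⟨p, g⁻¹ * x * g⁻¹⁻¹, hp, elt_conj' x1 _, by rw [cs_conj, x2], mem_cent1_comm.1 ?_⟩
    rw [← cj_cent1, mem_cj]
    simpa using hg
  have key : ∀ s : ℕ, s.Prime → s ∣ n → p ≠ s →
      (∀ u ∈ C₁⟦y⟧, IsPiElt {s} u → PiNat {s} (C₁⟦u⟧.relIndex C₁⟦y⟧)) → False := fun s hs sn ps hu => by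
    have := Fact.mk hs
    have := Fact.mk hp
    obtain ⟨S, hS, sl⟩ := sylow_le_of_not_dvd hs (D := C₁⟦y⟧) fun e => h.not_both hs sn (hm ▸ e)
    have s1 := hS.of_le sl le_top
    refine not_dvd_index_of_sylow hS (D := C₁⟦x⟧) (subgroupOf_eq_top.1
      (H4.eq_top_of_forall_exists_conj_mem (C₁⟦x⟧.subgroupOf S) fun u => ?_)) (sn.trans x2.symm.dvd)
    have i := hu u (sl u.2) (elt_of_pgroup hS.isPGroup u.2)
    rw [← inf_relIndex_right] at i
    obtain ⟨R, hR⟩ := exists_sylowOf p (C₁⟦(u : G)⟧ ⊓ C₁⟦y⟧)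
    obtain ⟨k, k1, k2⟩ := (hR.sylow_trans_not_dvd inf_le_right (i.not_dvd' hp ps)).exists_cj_le
      (pgroup_zpowers x1) (zpowers_le.2 x3)
    obtain ⟨c, c1, t, t1, rfl⟩ := s1.prod_of_relIndex inf_le_right i k k1
    have e := mem_cent1.1 (hR.le (k2 (conj_mem_cj.2 (mem_zpowers x)))).1
    have e' := mem_cent1.1 c1.1
    refine ⟨⟨t, t1⟩⁻¹, mem_subgroupOf.2 (mem_cent1.2 ?_)⟩
    change t⁻¹ * u * t⁻¹⁻¹ * x = x * (t⁻¹ * u * t⁻¹⁻¹)
    calc _ = t⁻¹ * c⁻¹ * (c * u) * c⁻¹ * (c * t * x * (c * t)⁻¹) * c * t := by group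
      _ = t⁻¹ * c⁻¹ * (u * (c * t * x * (c * t)⁻¹)) * c * t := by rw [e']; group
      _ = x * t⁻¹ * c⁻¹ * (u * c) * t := by rw [← e]; group
      _ = _ := by rw [← e']; group
  have nq : ∀ s : ℕ, s.Prime → s ∣ n → s ≠ q := fun s hs e e' => h.not_both hs e (e' ▸ hd)
  obtain ⟨s, hs, sn⟩ := Nat.exists_prime_and_dvd h.one_n.ne'
  by_cases hc : ∀ v ∈ C₁⟦y⟧, IsPiElt {q}ᶜ v → v ∈ C⟦C₁⟦y⟧⟧
  · exfalso
    by_cases ps : p = s
    · have := cs_dvd (le_cent1_iff.2 (hc x x3 (elt_ne x1 (ps ▸ nq s hs sn))))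
      exact h.not_nm (by rwa [x2, hm] at this)
    · exact key s hs sn ps fun u hu us => by
        rw [relIndex_eq_one.2 (le_cent1_iff.2 (hc u hu (elt_ne us (nq s hs sn))))]
        exact PiNat.one _
  push Not at hc
  obtain ⟨v, v1, v2, v3⟩ := hc
  obtain ⟨i, a | ⟨a, ha⟩⟩ := h.th hq hy hm v1 v2 v3
  · exact (nq s hs sn (a s hs sn)).elim
  have b : ∀ r : ℕ, r.Prime → r ∣ n → r = a := fun r hr e => (ha r hr (e.trans i)).resolve_left (nq r hr e)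
  have pn : PiNat {s} n := fun r hr e => (b r hr e).trans (b s hs sn).symm
  by_cases ps : p = s
  · exact ⟨s, x, hs, sn, pn, ps ▸ x1, x2⟩
  refine (key s hs sn ps fun u hu us => ?_).elim
  by_cases uz : u ∈ C⟦C₁⟦y⟧⟧
  · rw [relIndex_eq_one.2 (le_cent1_iff.2 uz)]
    exact PiNat.one _
  · rwa [h.rel hy hm hu (elt_ne us (nq s hs sn)) uz]

theorem compl {s : ℕ} (hs : s.Prime) (sn : s ∣ n) (pn : PiNat {s} n) {x : G} (x1 : IsPiElt {s} x) (x2 : cs x = n) :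
    ∃ N : Subgroup G, N.Normal ∧ IsPiHallOf {s}ᶜ N ⊤ := by
  have := Fact.mk hs
  obtain ⟨b, hb⟩ := (PiNat.singleton_iff hs h.one_n.ne_bot).1 pn
  obtain ⟨P, N, n1, n2⟩ := S4127.result (G := G) s b (fun g e => by
    have := e.trans (h.dvd g)
    rw [hb, pow_succ] at this
    exact h.not_both hs sn (Nat.dvd_of_mul_dvd_mul_left (pow_pos hs.pos b) this))
    ⟨x, (PiNat.singleton_iff hs (orderOf_pos x).ne').1 (isPiElt_iff.1 x1), x2.trans hb⟩
  exact ⟨N, n1, (sylowOf_top P).compl (Compl.iff_isComplement'.2 n2.symm)⟩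

theorem central {s t : ℕ} (pn : PiNat {s} n) (pm : PiNat {t} m) {g : G} (h1 : IsPiElt {s}ᶜ g)
    (h2 : IsPiElt {t}ᶜ g) : g ∈ center G := by
  by_contra hz
  obtain ⟨r, hr, r1, v, v1, v2, v3⟩ := exists_ppart h1 hz
  rcases h.prime_dvd hr (cam_dvd_index hr v3 v2) with e | e
  · exact r1 (pn r hr e)
  · exact mem_of_elt hr (elt_of_mem_zpowers h2 v1) v3 (fun e => v2 (e ▸ one_mem _)) (pm r hr e)

theorem natural {q : ℕ} (hq : q.Prime) (hd : q ∣ m) {y : G} (hy : IsPiElt {q} y) (hm : cs y = m) :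
    Group.IsNilpotent G ∧ IsPrimePow n ∧ IsPrimePow m := by
  obtain ⟨s, x, hs, sn, pn, x1, x2⟩ := h.nat_step hq hd hy hm
  obtain ⟨t, z, ht, tm, pm, z1, z2⟩ := h.symm.nat_step hs sn x1 x2
  obtain ⟨N, n1, n2⟩ := h.compl hs sn pn x1 x2
  obtain ⟨M, m1, m2⟩ := h.symm.compl ht tm pm z1 z2
  have st : s ≠ t := fun e => h.not_both hs sn (e ▸ tm)
  have c : ∀ u w : G, IsPiElt {s} u → IsPiElt {t} w → w ∈ C₁⟦u⟧ := fun u w hu hw => by
    have a := n2.mem_of_normalIn (NormalIn.of_normal N) (mem_top w) (elt_ne hw st.symm)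
    have b := m2.mem_of_normalIn (NormalIn.of_normal M) (mem_top u) (elt_ne hu st)
    refine comm_of_central hu (elt_ne hw st.symm) (h.central pn pm
      (n2.isPi.elt (mul_mem (n1.conj_mem w a u) (inv_mem a))) (m2.isPi.elt ?_))
    have := mul_mem b (m1.conj_mem _ (inv_mem b) w)
    convert this using 1; group
  have pp : ∀ k r : ℕ, r.Prime → 1 < k → PiNat {r} k → IsPrimePow k := fun k r hr hk e => by
    obtain ⟨b, rfl⟩ := (PiNat.singleton_iff hr hk.ne_bot).1 e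
    exact hr.isPrimePow.pow (by rintro rfl; simp at hk)
  refine ⟨?_, pp n s hs h.one_n pn, pp m t ht h.one_m pm⟩
  have : Group.IsNilpotent (⊤ : Subgroup G) := nilpotent_of_forall_sylow_normalIn fun r hr R hR => ⟨le_top, by
    have := Fact.mk hr
    refine (index_eq_one.1 (by_contra fun e => ?_)).ge
    obtain ⟨k, hk, kd⟩ := Nat.exists_prime_and_dvd e
    obtain ⟨v, v1, v2⟩ := exists_elt_of_dvd_index hk kd
    have rk : k ≠ r := by
      rintro rfl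
      exact not_dvd_index_of_sylow hR (le_norm_self R) kd
    refine v1 (cent_le_norm R (H21.mem_cent.2 fun u hu => mem_cent1.1 ?_))
    have u1 := elt_of_pgroup hR.isPGroup hu
    by_cases uz : u ∈ center G
    · exact center_le_centralizer _ uz
    by_cases vz : v ∈ center G
    · exact mem_cent1_comm.1 (center_le_centralizer _ vz)
    rcases h.prime_dvd hr (cam_dvd_index hr u1 uz) with e1 | e1 <;>
      rcases h.prime_dvd hk (cam_dvd_index hk v2 vz) with e2 | e2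
    · exact (rk ((pn k hk e2).trans (pn r hr e1).symm)).elim
    · exact mem_cent1_comm.1 (c u v (pn r hr e1 ▸ u1) (pm k hk e2 ▸ v2))
    · exact c v u (pn k hk e2 ▸ v2) (pm r hr e1 ▸ u1)
    · exact (rk ((pm k hk e2).trans (pm r hr e1).symm)).elim⟩
  exact Group.nilpotent_of_mulEquiv topEquiv

theorem gam {w : G} (hw : cs w = n * m) (g : G) :
    (center G).relIndex C₁⟦g⟧ * cs g = (center G).relIndex C₁⟦w⟧ * (n * m) := by
  rw [← hw, relIndex_mul_index (center_le_centralizer _), relIndex_mul_index (center_le_centralizer _)]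

theorem ex_of_gam {w : G} (hw : cs w = n * m) {r : ℕ} (hr : r.Prime) (hd : r ∣ (center G).relIndex C₁⟦w⟧)
    (g : G) : ∃ v ∈ C₁⟦g⟧, v ∉ center G ∧ IsPiElt {r} v := by
  obtain ⟨k, hk⟩ := h.dvd g
  have := h.gam hw g
  rw [hk, mul_comm (cs g), ← mul_assoc] at this
  exact exists_elt_not_mem hr (Nat.eq_of_mul_eq_mul_right (cs_pos g) this ▸ hd.mul_right k)

theorem gam_step (un : ∀ (q : ℕ) (y : G), q.Prime → q ∣ m → IsPiElt {q} y → cs y ≠ m) {w : G} (hw : cs w = n * m)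
    {r : ℕ} (hr : r.Prime) (hd : r ∣ (center G).relIndex C₁⟦w⟧) (rm : r ∣ m) :
    ∃ q : ℕ, q.Prime ∧ q ∣ n ∧ q ∣ (center G).relIndex C₁⟦w⟧ ∧ PiNat {q} n := by
  obtain ⟨q, y, hq, y1, y2⟩ := h.ex_pelt
  have yz := h.nc y2.symm.dvd
  have qm : ¬ q ∣ m := fun e => un q y hq e y1 y2
  have qn := (h.prime_dvd hq (cam_dvd_index hq y1 yz)).resolve_right qm
  obtain ⟨v, v1, v2, v3⟩ := h.ex_of_gam hw hr hd y
  have rq : r ≠ q := fun e => qm (e ▸ rm)
  have vz : v ∉ C⟦C₁⟦y⟧⟧ := fun e => un r v hr rm v3 (h.eq_m (y2 ▸ cs_dvd (le_cent1_iff.2 e)) v2)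
  refine ⟨q, hq, qn, ?_, ?_⟩
  · have i := dvd_relIndex_of_elt hq (mem_cent1_comm.1 v1) yz y1
    have e := h.gam hw v
    rcases h.all v with a | a | a | a
    · exact (v2 (cam_center a)).elim
    · rw [a, mul_comm n, ← mul_assoc] at e
      rw [Nat.eq_of_mul_eq_mul_right h.one_n.bot_lt e] at i
      exact ((Nat.Prime.dvd_mul hq).1 i).resolve_right qm
    · exact (un r v hr rm v3 a).elim
    · rw [a] at e
      rwa [← Nat.eq_of_mul_eq_mul_right (Nat.mul_pos h.one_n.bot_lt h.one_m.bot_lt) e]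
  · obtain ⟨i, a | ⟨a, ha⟩⟩ := h.th hq y1 y2 v1 (elt_ne v3 rq) vz
    · exact a
    have : (C⟦C₁⟦y⟧⟧.subgroupOf C₁⟦y⟧).Normal := normal_subgroupOf_of_le_normalizer (norm_cent (le_norm_self _))
    have ra : r = a := (ha r hr (by
      have := dvd_relIndex_of_elt (A := C⟦C₁⟦y⟧⟧.subgroupOf C₁⟦y⟧) hr (mem_top (⟨v, v1⟩ : C₁⟦y⟧)) vz
        (by rw [isPiElt_iff, ← orderOf_coe]; exact isPiElt_iff.1 v3)
      rwa [relIndex_top_right] at this)).resolve_left rq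
    exact fun s hs e => (ha s hs (e.trans i)).resolve_right fun e' => h.not_both hs e (e' ▸ ra ▸ rm)

end Q4

end Cfsg.Agent.H25
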