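import Cfsg.Agent.H25.Cam4

/-! Groups with class sizes `1, n, m, nm` for coprime `n, m`: the remaining case. -/

set_option autoImplicit false

namespace Cfsg.Agent.H25

open Subgroup Cfsg.Agent.H20 Cfsg.Agent.H21 Cfsg.Agent.H2.CS
open scoped Pointwise commutatorElement

variable {G : Type*} [Group G] [Finite G]

structure Un (G : Type*) [Group G] (n m p q : ℕ) : Prop where
  q4 : Q4 G n m
  hp : p.Prime
  hq : q.Prime
  pm : PiNat {p} m
  qn : PiNat {q} n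
  up : ∀ v : G, IsPiElt {p} v → cs v ≠ m
  uq : ∀ v : G, IsPiElt {q} v → cs v ≠ n
  gp : ∀ g : G, ∃ v ∈ C₁⟦g⟧, v ∉ center G ∧ IsPiElt {p} v
  gq : ∀ g : G, ∃ v ∈ C₁⟦g⟧, v ∉ center G ∧ IsPiElt {q} v

namespace Un
variable {n m p q : ℕ} (h : Un G n m p q)
include h

omit [Finite G] in
theorem symm : Un G m n q p := ⟨h.q4.symm, h.hq, h.hp, h.qn, h.pm, h.uq, h.up, h.gq, h.gp⟩

omit [Finite G] in
theorem q_dvd : q ∣ n := by
  obtain ⟨s, hs, e⟩ := Nat.exists_prime_and_dvd h.q4.one_n.ne'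
  exact h.qn s hs e ▸ e

omit [Finite G] in
theorem ne : p ≠ q := fun e => h.q4.not_both h.hq h.q_dvd (e ▸ h.symm.q_dvd)

theorem prime {r : ℕ} (hr : r.Prime) (hd : r ∣ (center G).index) : r = p ∨ r = q :=
  (h.q4.prime_dvd hr hd).symm.imp (h.pm r hr) (h.qn r hr)

theorem sol : Group.IsSolvable G := by
  by_contra hc
  obtain ⟨r, hr, r1, r2, r3⟩ := third_prime hc h.hp h.hq
  exact (h.prime hr r1).elim r2 r3

omit [Finite G] in
theorem cases {u : G} (hu : IsPiElt {q} u) (hz : u ∉ center G) : cs u = m ∨ cs u = n * m := by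
  rcases h.q4.all u with e | e | e | e
  · exact (hz (cam_center e)).elim
  · exact (h.uq u hu e).elim
  · exact Or.inl e
  · exact Or.inr e

theorem core_elt {u : G} (hu : u ∈ piCoreOf {q} (⊤ : Subgroup G)) : IsPiElt {q} u := (isPi_piCoreOf _ _).elt hu

theorem pxq {u v : G} (hu : IsPiElt {q} u) (hw : cs u = n * m) (hv : IsPiElt {p} v) (hc : v ∈ C₁⟦u⟧) :
    piCoreOf {q} ⊤ ≤ C₁⟦v⟧ := by
  have := Fact.mk h.hq
  have := (piCoreOf_normalIn {q} (⊤ : Subgroup G)).normal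
  rw [← cent_zpowers]
  refine cent_symm (coprime_pxq (pgroup_zpowers hu) (isPGroup_piCoreOf q ⊤)
    ((isPi_compl_singleton_iff_coprime h.hq).1 (isPi_zpowers.2 (elt_ne hv h.ne)))
    (zpowers_le.2 (by rw [cent_zpowers]; exact mem_cent1_comm.1 hc)) le_normalizer_of_normal le_normalizer_of_normal ?_)
  rw [cent_zpowers, cent_zpowers]
  exact inf_le_right.trans ((h.q4.min hw).le hu (elt_ne hv h.ne) hc)

theorem core_le {u : G} (hu : IsPiElt {q} u) : piCoreOf {q} ⊤ ≤ C₁⟦u⟧ := by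
  have := (piCoreOf_normalIn {q} (⊤ : Subgroup G)).normal
  have k : ∀ D : Subgroup G, piCoreOf {q} ⊤ ≤ D → ¬ q ∣ C₁⟦u⟧.relIndex D → piCoreOf {q} ⊤ ≤ C₁⟦u⟧ :=
    fun D hD e => (isPi_piCoreOf _ _).le_of_relIndex ((PiNat.compl_singleton_iff h.hq).2 fun e' => e (e'.trans (by
      rw [← relIndex_subgroupOf hD]
      exact relIndex_dvd_index_of_normal_right _ _)))
  by_cases hz : u ∈ center G
  · exact le_top.trans (index_eq_one.1 (cs_center hz)).ge
  rcases h.cases hu hz with e | e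
  · exact k ⊤ le_top (by
      rw [relIndex_top_right]; exact fun a => h.q4.not_both h.hq h.q_dvd (a.trans e.dvd))
  obtain ⟨v, v1, v2, v3⟩ := h.gp u
  refine k _ (h.pxq hu e v3 v1) fun a => ?_
  have i := h.q4.dvd (v * u)
  rw [show cs (v * u) = _ from congrArg index (cent1_mul v3 (elt_ne hu h.ne.symm) (mem_cent1_comm.1 v1)),
    cam_inf_index] at i
  obtain ⟨k, hk⟩ : n ∣ cs v := by
    rcases h.symm.cases v3 v2 with b | b
    exacts [b.symm.dvd, b ▸ dvd_mul_left _ _]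
  rw [hk, mul_comm n k, ← mul_assoc, mul_comm n] at i
  exact h.q4.not_both h.hq h.q_dvd ((a.mul_right k).trans (Nat.dvd_of_mul_dvd_mul_right h.q4.one_n.bot_lt i))

theorem mem_core {v : G} (hv : IsPiElt {p} v) (hc : piCoreOf {q} ⊤ ≤ C₁⟦v⟧) : v ∈ piCoreOf {p} ⊤ := by
  have := Fact.mk h.hp
  have := h.sol
  have f : fittingOf ⊤ ≤ C₁⟦v⟧ := fittingOf_le_of_forall_pCoreOf fun r hr _ => by
    by_cases e : r = p
    · exact e ▸ h.symm.core_le hv
    by_cases e' : r = q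
    · exact e' ▸ hc
    intro g hg
    by_contra a
    exact (h.prime hr (cam_dvd_index hr ((isPi_piCoreOf _ _).elt hg) fun z => a (center_le_centralizer _ z))).elim e e'
  exact zpowers_le.1 (le_pCoreOf_of_le_fittingOf (zpowers_le.2
    (cent_fittingOf_le inferInstance ⟨mem_top v, le_cent1_iff.1 f⟩)) (pgroup_zpowers hv))

theorem cs_core {u : G} (hu : u ∈ piCoreOf {q} (⊤ : Subgroup G)) (hz : u ∉ center G) : cs u = m := by
  refine (h.cases (h.core_elt hu) hz).resolve_right fun e => ?_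
  obtain ⟨t, t1, t2⟩ := exists_elt_of_dvd_index h.hq (A := C₁⟦u⟧) ((h.q_dvd.mul_right m).trans e.symm.dvd)
  exact t1 (mem_cent1_comm.1 (h.core_le t2 hu))

theorem not_central : ¬ piCoreOf {q} ⊤ ≤ center G := fun hz => by
  have := Fact.mk h.hp
  have := (piCoreOf_normalIn {p} (⊤ : Subgroup G)).normal
  obtain ⟨s, y, hs, y1, y2⟩ := h.q4.ex_pelt
  have yz := h.q4.nc y2.symm.dvd
  obtain rfl : s = q := (h.prime hs (cam_dvd_index hs y1 yz)).resolve_left fun e => h.up y (e ▸ y1) y2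
  obtain ⟨a, a1, a2, a3⟩ := h.gp y
  have av := h.mem_core a3 (hz.trans (center_le_centralizer _))
  set V := piCoreOf {p} (⊤ : Subgroup G) with hV
  have vc : IsMulCommutative V := comm_iff_le_cent.2 fun v hv => le_cent1_iff.1 (h.symm.core_le (h.symm.core_elt hv))
  have co : (♯V).Coprime ♯(zpowers y) := (isPi_piCoreOf _ _).coprime (isPi_zpowers.2 (elt_ne y1 h.ne.symm))
  have i := coprime_comm_commg_inf_cent vc le_normalizer_of_normal co
  rw [cent_zpowers] at i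
  obtain ⟨b, b1, b2⟩ : ∃ b ∈ ⁅V, zpowers y⁆, b ≠ 1 := by
    by_contra hc
    push Not at hc
    have := commg_eq_bot.1 (eq_bot_iff.2 hc)
    rw [cent_zpowers] at this
    exact yz (hz (h.symm.mem_core y1 this))
  have bv : b ∈ V := commg_le_left le_normalizer_of_normal b1
  have by' : b ∉ C₁⟦y⟧ := fun e => b2 (i.le ⟨b1, e⟩)
  have idx : ∀ v ∈ V, v ∉ center G → (C₁⟦v⟧ ⊓ C₁⟦y⟧).index = n * m := fun v hv e => by
    have e' := h.symm.cs_core hv e
    rw [H26.index_inf_of_coprime (by rw [show C₁⟦v⟧.index = n from e', show C₁⟦y⟧.index = m from y2]; exact h.q4.cop)]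
    exact congrArg₂ _ e' y2
  have k : ∀ g ∈ C₁⟦a * b⟧ ⊓ C₁⟦y⟧, g ∈ C₁⟦a⟧ ∧ g ∈ C₁⟦b⟧ := fun g hg => by
    have e := mem_cent1.1 hg.1
    have e1 : a⁻¹ * (g * a * g⁻¹) = b * (g * b * g⁻¹)⁻¹ := by
      calc _ = a⁻¹ * (g * (a * b)) * g⁻¹ * (g * b * g⁻¹)⁻¹ := by group
        _ = _ := by rw [e]; group
    have e2 : a⁻¹ * (g * a * g⁻¹) = 1 := i.le <| mem_inf.2 ⟨e1 ▸ mul_mem b1 (inv_mem (conj_mem_of_norm (norm_commutator
      le_normalizer_of_normal (norm_of_cent (cent_zpowers y).ge) hg.2) b1)),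
      mul_mem (inv_mem a1) (mul_mem (mul_mem hg.2 a1) (inv_mem hg.2))⟩
    rw [e2, eq_comm, mul_inv_eq_one, eq_mul_inv_iff_mul_eq] at e1
    rw [inv_mul_eq_one, eq_mul_inv_iff_mul_eq] at e2
    exact ⟨mem_cent1.2 e2.symm, mem_cent1.2 e1.symm⟩
  have i1 := idx _ (mul_mem av bv) fun e => by' (by simpa using mul_mem (inv_mem a1) (center_le_centralizer _ e))
  have e1 := eq_of_le_index (A := C₁⟦a * b⟧ ⊓ C₁⟦y⟧) (B := C₁⟦a⟧ ⊓ C₁⟦y⟧) (fun g hg => ⟨(k g hg).1, hg.2⟩)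
    (i1.trans (idx a av a2).symm).le
  exact by' (mem_cent1_comm.1 (k y (e1.ge ⟨mem_cent1_comm.1 a1, self_mem_cent1 y⟩)).2)

theorem core_comm : piCoreOf {p} (⊤ : Subgroup G) ≤ C⟦piCoreOf {q} (⊤ : Subgroup G)⟧ := by
  have := (piCoreOf_normalIn {p} (⊤ : Subgroup G)).normal
  have := (piCoreOf_normalIn {q} (⊤ : Subgroup G)).normal
  exact cent_of_coprime le_normalizer_of_normal le_normalizer_of_normal ((isPi_piCoreOf _ _).coprime
    ((isPi_piCoreOf _ _).compl_singleton h.ne))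

theorem cs_out {t : G} (ht : IsPiElt {q} t) (hn : ¬ piCoreOf {p} ⊤ ≤ C₁⟦t⟧) : cs t = m := by
  have := Fact.mk h.hp
  refine (h.cases ht fun z => hn (le_top.trans (index_eq_one.1 (cs_center z)).ge)).resolve_right fun e => hn ?_
  obtain ⟨u, u1, u2⟩ := SetLike.not_le_iff_exists.1 h.not_central
  obtain ⟨T, hT⟩ := exists_sylowOf p C₁⟦t⟧
  have tv : T ≤ piCoreOf {p} ⊤ := fun v hv => by
    have v1 := elt_of_pgroup hT.isPGroup hv
    exact h.mem_core v1 (h.pxq ht e v1 (hT.le hv))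
  have d := card_dvd (h.core_comm.trans (cent_le_cent1 u1))
  have e1 := card_mul_index C₁⟦u⟧
  have e2 := card_mul_index C₁⟦t⟧
  rw [show C₁⟦u⟧.index = m from h.cs_core u1 u2] at e1
  rw [show C₁⟦t⟧.index = n * m from e, ← e1, ← mul_assoc] at e2
  rw [← Nat.eq_of_mul_eq_mul_right h.q4.one_m.bot_lt e2] at d
  have := hT.dvd_of_piNat (isPi_piCoreOf {p} ⊤).piNat ((isPi_piCoreOf {p} ⊤).piNat.dvd_of_dvd_mul_right
    (h.qn.mono fun r (hr : r = q) (e : r = p) => h.ne (e.symm.trans hr)) d)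
  exact (eq_of_le_card tv (Nat.le_of_dvd (card_pos T) this)).ge.trans hT.le

theorem cent_eq {V : Subgroup G} [V.Normal] (hV : V = piCoreOf {q} ⊤) {t : G} (ht : IsPiElt {q} t)
    (hn : ¬ piCoreOf {p} ⊤ ≤ C₁⟦t⟧) : C₁⟦t⟧ = C₁⟦QuotientGroup.mk' V t⟧.comap (QuotientGroup.mk' V) := by
  have := Fact.mk h.hp
  have := Fact.mk h.hq
  have l : ∀ c : G, C₁⟦c⟧ ≤ C₁⟦QuotientGroup.mk' V c⟧.comap (QuotientGroup.mk' V) := fun c g hg =>
    mem_cent1.2 (by rw [← map_mul, ← map_mul, mem_cent1.1 hg])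
  set E := C₁⟦QuotientGroup.mk' V t⟧.comap (QuotientGroup.mk' V) with hE
  obtain ⟨R, hR⟩ := exists_sylowOf p E
  have vq : IsPGroup q V := hV ▸ isPGroup_piCoreOf q ⊤
  obtain ⟨a, a1, c, c1, e⟩ := coprime_prod_of_commg_le (K := zpowers t) (N := V) (A := R) le_normalizer_of_normal
    (coprime_of_isPGroup_ne vq hR.isPGroup h.ne.symm) (Or.inl (have := hR.isPGroup.isNilpotent; inferInstance))
    ((soft_commg_le V).1 (cent_symm (by
      rw [MonoidHom.map_zpowers, cent_zpowers]; exact map_le_iff_le_comap.2 hR.le))) t (mem_zpowers t)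
  have ec : c = a⁻¹ * t := by rw [← e]; group
  have c2 : IsPiElt {q} c := ec ▸ elt_mul (elt_of_pgroup vq (inv_mem a1)) ht
    (mem_cent1_comm.1 (h.core_le ht (hV ▸ inv_mem a1)))
  have c3 := h.cs_out c2 fun b => hn (le_cent1_iff.2 (e ▸ mul_mem (cent_symm h.core_comm (hV ▸ a1))
    (le_cent1_iff.1 b)))
  have c4 : C₁⟦c⟧ ≤ E := by
    have : QuotientGroup.mk' V c = QuotientGroup.mk' V t := by
      rw [← e, map_mul, QuotientGroup.mk'_apply V a, (QuotientGroup.eq_one_iff a).2 a1, one_mul]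
    rw [hE, ← this]
    exact l c
  have c5 : C₁⟦c⟧.relIndex E = 1 := (h.pm.of_dvd (c3 ▸ relIndex_dvd_index_of_le c4)).eq_one
    (hR.piNat.of_dvd (relIndex_dvd_of_le_left _ (le_cent1_iff.2 c1)))
  refine eq_of_le_index (l t) ?_
  rw [← le_antisymm c4 (relIndex_eq_one.1 c5)]
  exact ((h.cs_out ht hn).trans c3.symm).le

theorem false : False := by
  have := (piCoreOf_normalIn {q} (⊤ : Subgroup G)).normal
  obtain ⟨u, u1, u2⟩ := SetLike.not_le_iff_exists.1 h.not_central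
  obtain ⟨v, v1, v2⟩ := SetLike.not_le_iff_exists.1 h.symm.not_central
  obtain ⟨t, t1, t2⟩ := exists_elt_of_dvd_index h.hq (A := C₁⟦v⟧) (h.q_dvd.trans (h.symm.cs_core v1 v2).symm.dvd)
  have hn : ¬ piCoreOf {p} ⊤ ≤ C₁⟦t⟧ := fun e => t1 (mem_cent1_comm.1 (e v1))
  have vu := h.core_comm.trans (cent_le_cent1 u1)
  have e1 := h.cent_eq rfl t2 hn
  have e2 := h.cent_eq rfl (elt_mul t2 (h.core_elt u1) (h.core_le t2 u1)) fun e => hn (le_cent1_iff.2 (by
    simpa using mul_mem (le_cent1_iff.1 e) (inv_mem (le_cent1_iff.1 vu))))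
  rw [map_mul, QuotientGroup.mk'_apply _ u, (QuotientGroup.eq_one_iff u).2 u1, mul_one, ← e1] at e2
  have l : C₁⟦t⟧ ≤ C₁⟦u⟧ := fun g hg => mem_cent1_comm.1 (by
    simpa using mul_mem (inv_mem (mem_cent1_comm.1 hg)) (mem_cent1_comm.1 (e2.ge hg)))
  exact hn (vu.trans (eq_of_le_index l ((h.cs_out t2 hn).trans (h.cs_core u1 u2).symm).le).ge)

end Un

theorem Q4.main {n m : ℕ} (h : Q4 G n m) : Group.IsNilpotent G ∧ IsPrimePow n ∧ IsPrimePow m := by
  by_cases h1 : ∃ (q : ℕ) (y : G), q.Prime ∧ q ∣ m ∧ IsPiElt {q} y ∧ cs y = m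
  · obtain ⟨q, y, a, b, c, d⟩ := h1
    exact h.natural a b c d
  by_cases h2 : ∃ (q : ℕ) (y : G), q.Prime ∧ q ∣ n ∧ IsPiElt {q} y ∧ cs y = n
  · obtain ⟨q, y, a, b, c, d⟩ := h2
    obtain ⟨a, b, c⟩ := h.symm.natural a b c d
    exact ⟨a, c, b⟩
  push Not at h1 h2
  obtain ⟨w, hw⟩ := h.exw
  have hw' : cs w = m * n := hw.trans (mul_comm _ _)
  obtain ⟨r, hr, rd⟩ := Nat.exists_prime_and_dvd (n := (center G).relIndex C₁⟦w⟧) fun e =>
    h.nc (hw ▸ dvd_mul_left _ _) (relIndex_eq_one.1 e (self_mem_cent1 w))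
  obtain ⟨r, hr, rm, rd⟩ : ∃ r : ℕ, r.Prime ∧ r ∣ m ∧ r ∣ (center G).relIndex C₁⟦w⟧ := by
    rcases h.prime_dvd hr (rd.trans (relIndex_dvd_index_of_le (center_le_centralizer _))) with e | e
    · obtain ⟨p, a, b, c, -⟩ := h.symm.gam_step h2 hw' hr rd e
      exact ⟨p, a, b, c⟩
    · exact ⟨r, hr, e, rd⟩
  obtain ⟨q, hq, qn, qd, q1⟩ := h.gam_step h1 hw hr rd rm
  obtain ⟨p, hp, pm, pd, p1⟩ := h.symm.gam_step h2 hw' hq qd qn
  exact (Un.false ⟨h, hp, hq, p1, q1, fun v => h1 p v hp pm, fun v => h2 q v hq qn, h.ex_of_gam hw hp pd,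
    h.ex_of_gam hw hq qd⟩).elim

end Cfsg.Agent.H25
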