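import Cfsg.Agent.H25.Comp6
import Cfsg.Agent.H1.Generation

/-! Fitting height of solvable groups with fixed point free automorphisms of prime power order. -/

set_option autoImplicit false
set_option linter.style.haveILetI false

namespace Cfsg.Agent.H25

open Subgroup Cfsg.Agent.H20 Cfsg.Agent.H21 Cfsg.Agent.BG
open scoped commutatorElement

universe u

section chain

variable {G : Type*} [Group G]

/-- a normal series of length `k` from `B` to the whole group with nilpotent factors. -/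
def ChainFrom (B : Subgroup G) (k : ℕ) : Prop :=
  ∃ F : ℕ → Subgroup G, F 0 = B ∧ F k = ⊤ ∧ Monotone F ∧ (∀ i, (F i).Normal) ∧
    ∀ i < k, ∃ j, (F (i + 1)).lowerCentralSeries j ≤ F i

theorem ChainFrom.top : ChainFrom (⊤ : Subgroup G) 0 :=
  ⟨fun _ => ⊤, rfl, rfl, monotone_const, fun _ => inferInstance, fun _ h => absurd h (Nat.not_lt_zero _)⟩

theorem ChainFrom.cons {B M : Subgroup G} {k j : ℕ} (h : ChainFrom M k) (hB : B.Normal) (hle : B ≤ M)
    (hj : M.lowerCentralSeries j ≤ B) : ChainFrom B (k + 1) := by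
  obtain ⟨F, h0, h1, h2, h3, h4⟩ := h
  refine ⟨fun i => Nat.casesOn i B F, rfl, h1, monotone_nat_of_le_succ fun i => ?_, fun i => ?_, fun i hi => ?_⟩
  · cases i with
    | zero => exact hle.trans h0.ge
    | succ i => exact h2 (Nat.le_succ i)
  · cases i with
    | zero => exact hB
    | succ i => exact h3 i
  · cases i with
    | zero => exact ⟨j, by simpa [h0] using hj⟩
    | succ i => exact h4 i (by omega)

theorem ChainFrom.comap {M : Subgroup G} [M.Normal] {k : ℕ} (h : ChainFrom (⊥ : Subgroup (G ⧸ M)) k) :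
    ChainFrom M k := by
  obtain ⟨F, h0, h1, h2, h3, h4⟩ := h
  refine ⟨fun i => (F i).comap (QuotientGroup.mk' M), ?_, ?_, fun i j h => comap_mono (h2 h),
    fun i => (h3 i).comap _, fun i hi => ?_⟩
  · simp [h0]
  · simp [h1]
  · obtain ⟨j, hj⟩ := h4 i hi
    refine ⟨j, map_le_iff_le_comap.1 ?_⟩
    rwa [map_lowerCentralSeries, map_comap_eq_self_of_surjective (QuotientGroup.mk'_surjective M)]

theorem ChainFrom.fin {k : ℕ} (h : ChainFrom (⊥ : Subgroup G) k) :
    ∃ F : Fin (k + 1) → Subgroup G, F 0 = ⊥ ∧ F (Fin.last k) = ⊤ ∧ Monotone F ∧ (∀ i, (F i).Normal) ∧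
      ∀ i : Fin k, ∃ j : ℕ, (F i.succ).lowerCentralSeries j ≤ F i.castSucc := by
  obtain ⟨F, h0, h1, h2, h3, h4⟩ := h
  exact ⟨fun i => F i, h0, h1, fun i j h => h2 h, fun i => h3 i, fun i => h4 i i.2⟩

theorem ChainFrom.of_nil {M : Subgroup G} {k : ℕ} (h : ChainFrom M k) (hM : Group.IsNilpotent M) :
    ChainFrom (⊥ : Subgroup G) (k + 1) := by
  obtain ⟨j, hj⟩ := (isNilpotent_iff_lowerCentralSeries M).1 hM
  exact h.cons inferInstance bot_le hj.le

theorem ChainFrom.of_lcs [Finite G] {M : Subgroup G} [M.Normal] {k j : ℕ} (h : ChainFrom M k)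
    (hM : M.lowerCentralSeries j ≤ fittingOf ⊤) : ChainFrom (⊥ : Subgroup G) (k + 2) :=
  haveI := (fittingOf_normalIn (⊤ : Subgroup G)).normal
  (h.cons (B := fittingOf ⊤ ⊓ M) inferInstance inf_le_right
    (le_inf hM (lowerCentralSeries_le_self M j))).of_nil (nil_of_le (nil_fittingOf _) inf_le_left)

end chain

section aut

variable {G : Type*} [Group G] [Finite G]

theorem fpf_quot {A : Type*} [Group A] (φ : A →* MulAut G) (N : Subgroup G) [N.Normal]
    (hN : ∀ a, ∀ n ∈ N, φ a n ∈ N) {a : A} (ha : ∀ g, φ a g = g → g = 1) (x : G ⧸ N)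
    (hx : H1.quotAut φ N hN a x = x) : x = 1 := by
  obtain ⟨x, rfl⟩ := QuotientGroup.mk_surjective x
  rw [H1.quotAut_mk, eq_comm, QuotientGroup.eq] at hx
  let c : N → N := fun n => ⟨(n : G)⁻¹ * φ a n, mul_mem (inv_mem n.2) (hN a n n.2)⟩
  have hc : Function.Injective c := fun m n h => by
    have h1 : (m : G)⁻¹ * φ a m = (n : G)⁻¹ * φ a n := congrArg Subtype.val h
    refine Subtype.ext (mul_inv_eq_one.1 (ha _ ?_))
    rw [map_mul, map_inv, ← mul_inv_cancel_left (m : G) (φ a m), h1]; group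
  obtain ⟨n, hn⟩ := Finite.injective_iff_surjective.1 hc ⟨_, hx⟩
  have h1 : (n : G)⁻¹ * φ a n = x⁻¹ * φ a x := congrArg Subtype.val hn
  have h2 := ha (x * (n : G)⁻¹) (by rw [map_mul, map_inv, ← mul_inv_cancel_left x (φ a x), ← h1]; group)
  rw [QuotientGroup.eq_one_iff, mul_inv_eq_one.1 h2]
  exact n.2

theorem hol_fpf {A : Type*} [Group A] (φ : A →* MulAut G) (h : ∀ g, (∀ a, φ a g = g) → g = 1) :
    (⊤ : Subgroup G).map (Hol.l φ) ⊓ C⟦(⊤ : Subgroup A).map (Hol.r φ)⟧ = ⊥ := by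
  rw [eq_bot_iff]
  rintro _ ⟨⟨g, -, rfl⟩, h1⟩
  rw [h g fun a => Hol.l_mem_cent_iff.1 h1 a (mem_top a), map_one]
  exact one_mem _

/-- one step of the inductions on the order of the automorphism -/
theorem exists_step {p n : ℕ} [hp : Fact p.Prime] (hG : Group.IsSolvable G) (σ : MulAut G)
    (hσ : σ ^ p ^ (n + 1) = 1) (hfpf : ∀ g, σ g = g → g = 1) :
    ∃ (M : Subgroup G) (_ : M.Normal) (τ : MulAut (G ⧸ M)), τ ^ p ^ n = 1 ∧ (∀ g, τ g = g → g = 1) ∧
      (p ≠ 2 ∨ n ≤ 1 → Group.IsNilpotent M) ∧ (p = 2 → ∃ j, M.lowerCentralSeries j ≤ fittingOf ⊤) := by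
  let φ := (zpowers σ).subtype
  let s : zpowers σ := ⟨σ, mem_zpowers σ⟩
  let K := (⊤ : Subgroup G).map (Hol.l φ)
  let R := (⊤ : Subgroup (zpowers σ)).map (Hol.r φ)
  let T := (zpowers (s ^ p ^ n)).map (Hol.r φ)
  have hK : Group.IsSolvable K := sol_map _ (sol_top_iff.2 hG)
  have hn : R ≤ N⟦K⟧ := Hol.le_norm_top _
  have hRc : IsCyclic R := cyclic_map _ (cyclic_top_iff.2 inferInstance)
  have hcard : ♯R ∣ p ^ (n + 1) := by
    rw [Hol.card_r_top, Nat.card_zpowers]; exact orderOf_dvd_of_pow_eq_one hσ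
  have hRp : IsPGroup p R := by
    obtain ⟨i, -, hi⟩ := (Nat.dvd_prime_pow hp.out).1 hcard
    exact IsPGroup.of_card hi
  have hTR : T ≤ R := map_mono le_top
  have hTp : ♯T ∣ p := by
    rw [Hol.card_r, Nat.card_zpowers]
    exact orderOf_dvd_of_pow_eq_one (Subtype.ext (by rw [← pow_mul, ← pow_succ]; exact hσ))
  have hT : ∀ x ∈ R, x ≠ 1 → T ≤ zpowers x := fun x hx h1 => by
    rcases (Nat.dvd_prime hp.out).1 hTp with h | h
    · rw [eq_bot_of_card h]; exact bot_le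
    · exact (prime_inf_eq_bot_or_le (h ▸ hp.out)).resolve_left (inf_ne_bot_of_cyclic_pgroup hRc hRp hTR
        (zpowers_le.2 hx) (ne_bot_of_card_prime (h ▸ hp.out)) (ne_bot_of_mem (mem_zpowers x) h1))
  have hf : K ⊓ C⟦R⟧ = ⊥ := hol_fpf φ fun g h => hfpf g (h s)
  have hX : ⁅K, T⁆ ≤ K := commg_le_left (hTR.trans hn)
  have hM : (⁅K, T⁆.comap (Hol.l φ)).map (Hol.l φ) = ⁅K, T⁆ :=
    map_comap_eq_self (hX.trans (MonoidHom.range_eq_map _).ge)
  set M := ⁅K, T⁆.comap (Hol.l φ)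
  haveI : M.Normal := normalIn_top_iff.1 ((normalIn_map_iff (Hol.l_inj φ)).1
    (hM ▸ commg_normalIn_left (hTR.trans hn)))
  have hN : ∀ a, ∀ x ∈ M, φ a x ∈ M := fun a => Hol.le_norm_iff.1 (hM ▸ norm_commutator hn
    (le_norm_of_comm (comm_of_cyclic hRc) le_rfl hTR)) a (mem_top a)
  refine ⟨M, inferInstance, H1.quotAut φ M hN s, ?_, fpf_quot φ M hN hfpf, fun h => ?_, fun h => ?_⟩
  · rw [← map_pow]
    ext x
    obtain ⟨x, rfl⟩ := QuotientGroup.mk_surjective x
    rw [H1.quotAut_mk, MulAut.one_apply, eq_comm, QuotientGroup.eq, mem_comap, map_mul, ← Hol.conj, map_inv]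
    have h1 : Hol.l φ x ∈ K := mem_map_of_mem _ (mem_top x)
    have h2 : Hol.r φ (s ^ p ^ n) ∈ T := mem_map_of_mem _ (mem_zpowers _)
    have := commutator_mem_commutator (inv_mem h1) h2
    simpa [commutatorElement_def, mul_assoc] using this
  · rw [← isNilpotent_map_iff (Hol.l_inj φ), hM]
    refine nil_of_le (nil_fittingOf K) (cyc_le_fitting hK hn (comm_of_cyclic hRc) hRp hTR hT ?_ hf)
    by_cases h2 : p = 2
    · subst h2
      have h3 := h.resolve_left fun h => h rfl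
      exact Or.inr ((Nat.le_of_dvd (by positivity) hcard).trans
        (Nat.pow_le_pow_right two_pos (show n + 1 ≤ 2 by omega)))
    · exact Or.inl h2
  · obtain ⟨j, hj⟩ := gross_le_fitting hK (comm_of_cyclic hRc) hTR hT (h ▸ hTp) hn (coprime_of_fpf hRp hn hf) hf
    exact ⟨j, (map_le_map_iff_inj (Hol.l_inj φ)).1 (by rwa [map_lowerCentralSeries, hM, map_fittingOf (Hol.l_inj φ)])⟩

theorem exists_nil_comm_of_four (hG : Group.IsSolvable G) (σ : MulAut G) (hσ : σ ^ 4 = 1)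
    (hfpf : ∀ g, σ g = g → g = 1) : Group.IsNilpotent (_root_.commutator G) := by
  obtain ⟨M, _, τ, h1, h2, h3, -⟩ := exists_step (p := 2) (n := 1) hG σ hσ hfpf
  refine nil_of_le (h3 (Or.inr le_rfl)) (commutator_le.2 fun a _ b _ => ?_)
  rw [← QuotientGroup.eq_one_iff]
  exact commutatorElement_eq_one_iff_commute.2 (MonoidHom.FixedPointFree.commute_all_of_involutive (φ := τ) h2
    (fun x => DFunLike.congr_fun h1 x) (a : G ⧸ M) b)

end aut

theorem chain_odd {p : ℕ} [Fact p.Prime] (hp : p ≠ 2) (n : ℕ) : ∀ {G : Type u} [Group G] [Finite G],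
    Group.IsSolvable G → ∀ σ : MulAut G, σ ^ p ^ n = 1 → (∀ g, σ g = g → g = 1) →
      ChainFrom (⊥ : Subgroup G) n := by
  induction n with
  | zero =>
    intro G _ _ _ σ h1 h2
    rw [pow_zero, pow_one] at h1
    rw [show (⊥ : Subgroup G) = ⊤ from (eq_bot_iff.2 fun g _ => h2 g (by rw [h1]; rfl)).symm]
    exact ChainFrom.top
  | succ n ih =>
    intro G _ _ hG σ h1 h2
    obtain ⟨M, _, τ, h3, h4, h5, -⟩ := exists_step hG σ h1 h2
    exact (ih inferInstance τ h3 h4).comap.of_nil (h5 (Or.inl hp))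

theorem chain_two (n : ℕ) : ∀ {G : Type u} [Group G] [Finite G],
    Group.IsSolvable G → ∀ σ : MulAut G, σ ^ 2 ^ (n + 2) = 1 → (∀ g, σ g = g → g = 1) →
      ChainFrom (⊥ : Subgroup G) (2 * n + 2) := by
  induction n with
  | zero =>
    intro G _ _ hG σ h1 h2
    exact (ChainFrom.top.cons (B := _root_.commutator G) (j := 1) inferInstance le_top le_rfl).of_nil
      (exists_nil_comm_of_four hG σ h1 h2)
  | succ n ih =>
    intro G _ _ hG σ h1 h2
    obtain ⟨M, _, τ, h3, h4, -, h5⟩ := exists_step hG σ h1 h2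
    obtain ⟨j, hj⟩ := h5 rfl
    exact (ih inferInstance τ h3 h4).comap.of_lcs hj

theorem chain_ward {G : Type*} [Group G] [Finite G] (hG : Group.IsSolvable G) {p : ℕ} [Fact p.Prime]
    (A : Subgroup (MulAut G)) (hA : IsElementaryAbelian p A) (hcard : Nat.card A = p ^ 2)
    (hfpf : ∀ g : G, (∀ a ∈ A, a g = g) → g = 1) : ChainFrom (⊥ : Subgroup G) 2 := by
  let φ := A.subtype
  obtain ⟨j, hj⟩ := ward_le_fitting (p := p) (K := (⊤ : Subgroup G).map (Hol.l φ))
    (A := (⊤ : Subgroup A).map (Hol.r φ)) (sol_map _ (sol_top_iff.2 hG))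
    (elem_map ⟨comm_iff.2 fun a _ b _ => Subtype.ext (comm_iff.1 hA.1 a a.2 b b.2),
      fun x _ => Subtype.ext (hA.2 x x.2)⟩ _) (by rw [Hol.card_r_top, hcard]) (Hol.le_norm_top _)
    (hol_fpf φ fun g h => hfpf g fun a ha => h ⟨a, ha⟩)
  exact ChainFrom.top.of_lcs (j := j) ((map_le_map_iff_inj (Hol.l_inj φ)).1
    (by rwa [map_lowerCentralSeries, map_fittingOf (Hol.l_inj φ)]))

end Cfsg.Agent.H25
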