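import Mathlib
import Cfsg.Agent.H2.Basic
import Cfsg.Agent.H3.HallCompl

/-! Minimal covers of groups by proper subgroups. -/

namespace Cfsg.Agent.H25

open scoped Matrix

universe u
variable {G : Type u} [Group G]

/-- Replacing members of a minimal cover: two members inside one proper subgroup coincide. -/
theorem eq_of_min_cover {𝓐 : Finset (Subgroup G)}
    (h1 : (∀ A ∈ 𝓐, A ≠ ⊤) ∧ (∀ g : G, ∃ A ∈ 𝓐, g ∈ A))
    (h2 : ∀ 𝓑 : Finset (Subgroup G), (∀ A ∈ 𝓑, A ≠ ⊤) ∧ (∀ g : G, ∃ A ∈ 𝓑, g ∈ A) →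
      𝓐.card ≤ 𝓑.card) {A B M : Subgroup G} (hA : A ∈ 𝓐) (hB : B ∈ 𝓐) (hM : M ≠ ⊤)
    (hAM : A ≤ M) (hBM : B ≤ M) : A = B := by
  classical
  by_contra hne
  have h3 := h2 (insert M ((𝓐.erase A).erase B)) ⟨fun C hC => ?_, fun g => ?_⟩
  · have h4 := Finset.card_insert_le M ((𝓐.erase A).erase B)
    have h5 : B ∈ 𝓐.erase A := Finset.mem_erase.mpr ⟨Ne.symm hne, hB⟩
    have h6 := Finset.card_erase_add_one h5
    have h7 := Finset.card_erase_add_one hA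
    omega
  · rcases Finset.mem_insert.mp hC with rfl | hC
    · exact hM
    · exact h1.1 C (Finset.mem_of_mem_erase (Finset.mem_of_mem_erase hC))
  · obtain ⟨C, hC, hg⟩ := h1.2 g
    by_cases e1 : C = A
    · exact ⟨M, Finset.mem_insert_self _ _, hAM (e1 ▸ hg)⟩
    by_cases e2 : C = B
    · exact ⟨M, Finset.mem_insert_self _ _, hBM (e2 ▸ hg)⟩
    exact ⟨C, Finset.mem_insert_of_mem (Finset.mem_erase.mpr ⟨e2, Finset.mem_erase.mpr ⟨e1, hC⟩⟩),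
      hg⟩

theorem no_nilpotent_min_cover (x y : G) (M : Subgroup G) (hM : M ≠ ⊤)
    (hx : ∀ A : Subgroup G, Group.IsNilpotent A → x ∈ A → A ≤ M)
    (hy : ∀ A : Subgroup G, Group.IsNilpotent A → y ∈ A → A ≤ M)
    (hxy : ∀ A : Subgroup G, Group.IsNilpotent A → x ∈ A → y ∈ A → False) :
    ¬ ∃ 𝓐 : Finset (Subgroup G), ((∀ A ∈ 𝓐, A ≠ ⊤) ∧ (∀ g : G, ∃ A ∈ 𝓐, g ∈ A)) ∧
      (∀ 𝓑 : Finset (Subgroup G), (∀ A ∈ 𝓑, A ≠ ⊤) ∧ (∀ g : G, ∃ A ∈ 𝓑, g ∈ A) →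
        𝓐.card ≤ 𝓑.card) ∧ (∀ A ∈ 𝓐, Group.IsNilpotent A) := by
  rintro ⟨𝓐, h1, h2, h3⟩
  obtain ⟨A, hA, hxA⟩ := h1.2 x
  obtain ⟨B, hB, hyB⟩ := h1.2 y
  have := eq_of_min_cover h1 h2 hA hB hM (hx A (h3 A hA) hxA) (hy B (h3 B hB) hyB)
  exact hxy A (h3 A hA) hxA (this ▸ hyB)

theorem le_of_nilpotent_of_normalizer {A D : Subgroup G} (hA : Group.IsNilpotent A)
    (h : ∀ n ∈ A, n ∈ Subgroup.normalizer ((A ⊓ D : Subgroup G) : Set G) → n ∈ D) : A ≤ D := by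
  by_contra hcon
  have h1 : A ⊓ D < A := lt_of_le_of_ne inf_le_left fun e => hcon (e ▸ inf_le_right)
  obtain ⟨n, hn, hn'⟩ := SetLike.exists_of_lt (H2.lt_inf_normalizer_of_isNilpotent hA h1)
  exact hn' ⟨hn.1, h n hn.1 hn.2⟩

theorem commute_of_nilpotent_of_pow [Finite G] {p : ℕ} [hp : Fact p.Prime] {A : Subgroup G}
    (hA : Group.IsNilpotent A) {a x : G} (ha : a ∈ A) (hx : x ∈ A) (hk : ∃ k, a ^ p ^ k = 1)
    (hc : (orderOf x).Coprime p) : a * x = x * a := by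
  obtain ⟨k, hk⟩ := hk
  have h1 : IsPGroup p (Subgroup.zpowers a) := by
    obtain ⟨j, -, hj⟩ := (Nat.dvd_prime_pow hp.out).mp (orderOf_dvd_of_pow_eq_one hk)
    exact IsPGroup.of_card (n := j) (by rw [Nat.card_zpowers, hj])
  obtain ⟨Q, hQ, hle⟩ := H3.exists_sylowIn_le h1 (Subgroup.zpowers_le.mpr ha)
  exact Subgroup.mem_centralizer_iff.mp (hQ.mem_centralizer_of_isNilpotent hA hx hc) a
    (hle (Subgroup.mem_zpowers a))

theorem nilpotent_conj {A : Subgroup G} (hA : Group.IsNilpotent A) (g : G) :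
    Group.IsNilpotent (A.map (MulAut.conj g).toMonoidHom) := H1.isNilpotent_map _ hA

/-- If every nilpotent subgroup through `x` lies in `M`, the same holds for `M`-conjugates. -/
theorem le_of_nilpotent_conj {x u : G} {M : Subgroup G} (hu : u ∈ M)
    (hx : ∀ A : Subgroup G, Group.IsNilpotent A → x ∈ A → A ≤ M) (A : Subgroup G)
    (hA : Group.IsNilpotent A) (hy : u * x * u⁻¹ ∈ A) : A ≤ M := by
  have h1 := hx _ (nilpotent_conj hA u⁻¹) (H1.mem_map_conj.mpr (by simpa using hy))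
  intro a ha
  have h2 : u⁻¹ * a * u ∈ M := h1 (H1.mem_map_conj.mpr (by simpa [mul_assoc] using ha))
  have := M.mul_mem (M.mul_mem hu h2) (M.inv_mem hu)
  simpa [mul_assoc] using this

/-- stabilizer of the line spanned by a nonzero vector -/
def lineStab {ι F : Type*} [Fintype ι] [DecidableEq ι] [Field F] (v : ι → F) :
    Subgroup (GL ι F) where
  carrier := {g | ∃ c : F, c ≠ 0 ∧ (g : Matrix ι ι F) *ᵥ v = c • v}
  mul_mem' := by
    rintro g h ⟨c, hc, e⟩ ⟨d, hd, e'⟩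
    refine ⟨d * c, mul_ne_zero hd hc, ?_⟩
    rw [Units.val_mul, ← Matrix.mulVec_mulVec, e', Matrix.mulVec_smul, e, smul_smul]
  one_mem' := ⟨1, one_ne_zero, by simp⟩
  inv_mem' := by
    rintro g ⟨c, hc, e⟩
    refine ⟨c⁻¹, inv_ne_zero hc, ?_⟩
    have : ((g⁻¹ : GL ι F) : Matrix ι ι F) *ᵥ ((g : Matrix ι ι F) *ᵥ v) = v := by
      rw [Matrix.mulVec_mulVec, ← Units.val_mul, inv_mul_cancel, Units.val_one, Matrix.one_mulVec]
    rw [e, Matrix.mulVec_smul] at this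
    conv_rhs => rw [← this]
    rw [smul_smul, inv_mul_cancel₀ hc, one_smul]

theorem mem_lineStab {ι F : Type*} [Fintype ι] [DecidableEq ι] [Field F] {v : ι → F}
    {g : GL ι F} : g ∈ lineStab v ↔ ∃ c : F, c ≠ 0 ∧ (g : Matrix ι ι F) *ᵥ v = c • v := Iff.rfl

theorem mem_lineStab_of_smul {ι F : Type*} [Fintype ι] [DecidableEq ι] [Field F] {v : ι → F}
    (hv : v ≠ 0) {g : GL ι F} {c : F} (h : (g : Matrix ι ι F) *ᵥ v = c • v) : g ∈ lineStab v := by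
  refine ⟨c, fun hc => hv ?_, h⟩
  have : ((g⁻¹ : GL ι F) : Matrix ι ι F) *ᵥ ((g : Matrix ι ι F) *ᵥ v) = v := by
    rw [Matrix.mulVec_mulVec, ← Units.val_mul, inv_mul_cancel, Units.val_one, Matrix.one_mulVec]
  rw [← this, h, hc, zero_smul, Matrix.mulVec_zero]

end Cfsg.Agent.H25
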