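import Cfsg.Agent.H21.Base5
import Cfsg.Agent.H25.Cover

/-! Nilpotent minimal covers of centerless groups: abelian Sylow subgroups. -/

set_option autoImplicit false

namespace Cfsg.Agent.H25

open Subgroup Cfsg.Agent.H20 Cfsg.Agent.H21

variable {G : Type*} [Group G] [Finite G]

/-- A minimal cover by nilpotent subgroups of a centerless group. -/
structure NMC (𝓐 : Finset (Subgroup G)) : Prop where
  hZ : center G = ⊥
  h1 : (∀ A ∈ 𝓐, A ≠ ⊤) ∧ (∀ g : G, ∃ A ∈ 𝓐, g ∈ A)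
  h2 : ∀ 𝓑 : Finset (Subgroup G), (∀ A ∈ 𝓑, A ≠ ⊤) ∧ (∀ g : G, ∃ A ∈ 𝓑, g ∈ A) → 𝓐.card ≤ 𝓑.card
  h3 : ∀ A ∈ 𝓐, Group.IsNilpotent ↥A

theorem isPGroup_zpowers_of_mem' {p : ℕ} {P : Subgroup G} (hP : IsPGroup p P) {x : G} (hx : x ∈ P) :
    IsPGroup p (zpowers x) := hP.to_le (zpowers_le.mpr hx)

theorem le_cent1_of_nil_of_ab {p : ℕ} [Fact p.Prime] {P A : Subgroup G} (hP : SylowOf p P ⊤)
    (hab : IsMulCommutative P) (hA : Group.IsNilpotent A) {x : G} (hx : IsPGroup p (zpowers x))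
    (hxA : x ∈ A) : A ≤ C₁⟦x⟧ := by
  rw [← piCoreOf_sup_compl_of_nil {p} hA]
  have hx' : zpowers x ≤ piCoreOf {p} A := le_pCoreOf_of_nil hA (zpowers_le.mpr hxA) hx
  rw [← cent_zpowers]
  refine sup_le ?_ (cent_symm (hx'.trans (piCoreOf_cent_compl {p} A)))
  obtain ⟨g, -, hg⟩ := Hall.exists_cj_le hP (isPGroup_piCoreOf p A) le_top
  have hc : IsMulCommutative (piCoreOf {p} A) := by
    have := comm_of_le hg hab
    rw [comm_iff_le_cent, ← cj_cent, cj_le_cj, ← comm_iff_le_cent] at this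
    exact this
  exact le_cent_of_comm hc le_rfl hx'

namespace NMC

variable {𝓐 : Finset (Subgroup G)} (h : NMC 𝓐) {p : ℕ} [hp : Fact p.Prime] {P : Subgroup G}
  (hP : SylowOf p P ⊤) (hab : IsMulCommutative P)
include h hP hab

theorem eq_of_mem {A B : Subgroup G} (hA : A ∈ 𝓐) (hB : B ∈ 𝓐) {x : G} (hx : IsPGroup p (zpowers x))
    (h1 : x ≠ 1) (hxA : x ∈ A) (hxB : x ∈ B) : A = B := by
  refine eq_of_min_cover h.h1 h.h2 hA hB (M := C₁⟦x⟧) ?_
    (le_cent1_of_nil_of_ab hP hab (h.h3 A hA) hx hxA) (le_cent1_of_nil_of_ab hP hab (h.h3 B hB) hx hxB)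
  intro ht
  apply h1
  rw [← Subgroup.mem_bot, ← h.hZ, mem_center_iff]
  intro g
  exact mem_cent1.mp (ht ▸ mem_top g)

theorem exists_le (hc : IsCyclic P ∨ ¬ IsElementaryAbelian p P) : ∃ A ∈ 𝓐, P ≤ A := by
  rcases hc with hc | hc
  · obtain ⟨x, hx⟩ := (Subgroup.isCyclic_iff_exists_zpowers_eq_top P).mp hc
    obtain ⟨A, hA, hxA⟩ := h.h1.2 x
    exact ⟨A, hA, hx ▸ zpowers_le.mpr hxA⟩
  · have : ∃ x ∈ P, x ^ p ≠ 1 := by
      by_contra hh
      push Not at hh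
      exact hc ⟨hab, hh⟩
    obtain ⟨x, hx, hxp⟩ := this
    obtain ⟨A, hA, hxA⟩ := h.h1.2 x
    have hPp := Hall.isPGroup hP
    have key : ∀ z ∈ P, z ^ p = 1 → z ∈ A := by
      intro z hz hzp
      obtain ⟨B, hB, hxB⟩ := h.h1.2 (x * z)
      have e : (x * z) ^ p = x ^ p := by
        rw [(show Commute x z from comm_iff.mp hab x hx z hz).mul_pow, hzp, mul_one]
      have : A = B := h.eq_of_mem hP hab hA hB (isPGroup_zpowers_of_mem' hPp (pow_mem hx p)) hxp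
        (pow_mem hxA p) (e ▸ pow_mem hxB p)
      subst this
      simpa using mul_mem (inv_mem hxA) hxB
    refine ⟨A, hA, fun z hz => ?_⟩
    by_cases hz1 : z = 1
    · rw [hz1]; exact one_mem _
    obtain ⟨B, hB, hzB⟩ := h.h1.2 z
    have hne : zpowers z ≠ ⊥ := by simpa using hz1
    obtain ⟨w, hw, hwo⟩ := exists_prime_order_mem hp.out
      (dvd_card_of_isPGroup (isPGroup_zpowers_of_mem' hPp hz) hne)
    have hwP : w ∈ P := zpowers_le.mpr hz hw
    have hw1 : w ≠ 1 := by rintro rfl; rw [orderOf_one] at hwo; exact hp.out.one_lt.ne hwo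
    have : A = B := h.eq_of_mem hP hab hA hB (isPGroup_zpowers_of_mem' hPp hwP) hw1
      (key w hwP (hwo ▸ pow_orderOf_eq_one w)) (zpowers_le.mpr hzB hw)
    exact this ▸ hzB

theorem cent_eq (h1 : P ≠ ⊥) {A : Subgroup G} (hA : A ∈ 𝓐) (hle : P ≤ A) : C⟦P⟧ = A := by
  have hPp := Hall.isPGroup hP
  apply le_antisymm
  · intro c hc
    have hn : Group.IsNilpotent (zpowers c) := nil_of_cyclic inferInstance
    have : zpowers c ≤ A := by
      rw [← piCoreOf_sup_compl_of_nil {p} hn]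
      have hcc : zpowers c ≤ C⟦P⟧ := zpowers_le.mpr hc
      refine sup_le ((Hall.pgroup_le_of_norm hP (isPGroup_piCoreOf p _) le_top
        (Or.inl (norm_of_cent ((piCoreOf_le _ _).trans hcc)))).trans hle) fun d hd => ?_
      obtain ⟨x, hx, hx1⟩ := exists_ne_one h1
      have hdx : Commute x d := mem_cent.mp (hcc (piCoreOf_le _ _ hd)) x hx
      obtain ⟨B, hB, hdB⟩ := h.h1.2 (x * d)
      have hcop : (orderOf x).Coprime (orderOf d) :=
        ((Hall.isPi hP).elt hx |> isPiElt_iff.mp).coprime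
          ((isPi_piCoreOf {p}ᶜ (zpowers c)).elt hd |> isPiElt_iff.mp)
      have hxB : x ∈ B := by
        have e : (x * d) ^ orderOf d = x ^ orderOf d := by rw [hdx.mul_pow, pow_orderOf_eq_one, mul_one]
        have h2 : x ^ orderOf d ∈ B := e ▸ pow_mem hdB _
        exact zpowers_le.mpr h2 (mem_zpowers_pow_iff.mpr hcop.symm)
      have : A = B := h.eq_of_mem hP hab hA hB (isPGroup_zpowers_of_mem' hPp hx) hx1 (hle hx) hxB
      subst this
      simpa using mul_mem (inv_mem hxB) hdB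
    exact this (mem_zpowers c)
  · rw [le_cent_iff]
    intro a ha x hx
    exact mem_cent1.mp (le_cent1_of_nil_of_ab hP hab (h.h3 A hA) (isPGroup_zpowers_of_mem' hPp hx) (hle hx) ha)

theorem cent_cj_mem (h1 : P ≠ ⊥) (hc : IsCyclic P ∨ ¬ IsElementaryAbelian p P) (g : G) :
    C⟦cj g P⟧ ∈ 𝓐 := by
  have hP' : SylowOf p (cj g P) ⊤ := Hall.cj_of_mem hP (mem_top g)
  have hab' : IsMulCommutative (cj g P) := by
    rw [comm_iff_le_cent, ← cj_cent, cj_le_cj, ← comm_iff_le_cent]; exact hab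
  have hc' : IsCyclic (cj g P) ∨ ¬ IsElementaryAbelian p (cj g P) := by
    rcases hc with hc | hc
    · exact Or.inl (cyclic_map _ hc)
    · refine Or.inr fun hh => hc ⟨hab, fun a ha => ?_⟩
      have := hh.2 _ (conj_mem_cj.mpr ha)
      rw [conj_pow] at this
      simpa using this
  obtain ⟨B, hB, hle⟩ := h.exists_le hP' hab' hc'
  rw [h.cent_eq hP' hab' (by simpa using h1) hB hle]
  exact hB

omit h in
theorem mem_norm_of_cent_eq {g : G} (e : C⟦P⟧ = C⟦cj g P⟧) : g ∈ N⟦P⟧ := by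
  apply mem_norm_of_cj_le
  refine Hall.pgroup_le_of_norm hP (H21.isPGroup_cj.mpr (Hall.isPGroup hP)) le_top
    (Or.inl (norm_of_cent ?_))
  rw [e, ← cj_cent, cj_le_cj, ← comm_iff_le_cent]; exact hab

theorem le_norm (h1 : P ≠ ⊥) (hc : IsCyclic P ∨ ¬ IsElementaryAbelian p P) {M : Subgroup G}
    (hM : M ≠ ⊤) (hle : C⟦P⟧ ≤ M) : M ≤ N⟦P⟧ := by
  intro g hg
  apply mem_norm_of_cent_eq hP hab
  have h0 := h.cent_cj_mem hP hab h1 hc 1
  rw [cj_one] at h0
  refine eq_of_min_cover h.h1 h.h2 h0 (h.cent_cj_mem hP hab h1 hc g) hM hle ?_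
  rw [← cj_cent]
  exact cj_le_of_mem hg hle

theorem isCoatom_norm (hn : ¬ P.Normal) (hc : IsCyclic P ∨ ¬ IsElementaryAbelian p P) :
    IsCoatom N⟦P⟧ := by
  have h1 : P ≠ ⊥ := by rintro rfl; exact hn inferInstance
  refine ⟨fun ht => hn (normalizer_eq_top_iff.mp ht), fun M hM => ?_⟩
  by_contra hne
  exact hM.not_ge (h.le_norm hP hab h1 hc hne ((cent_le_norm P).trans hM.le))

theorem not_dvd_inf (hn : ¬ P.Normal) (hc : IsCyclic P ∨ ¬ IsElementaryAbelian p P) {g : G}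
    (hg : g ∉ N⟦P⟧) : ¬ p ∣ ♯(N⟦P⟧ ⊓ cj g N⟦P⟧) := by
  have h1 : P ≠ ⊥ := by rintro rfl; exact hn inferInstance
  intro hd
  obtain ⟨x, hx, hxo⟩ := exists_prime_order_mem hp.out hd
  have hxp : IsPGroup p (zpowers x) := isPGroup_of_card_prime (by rw [Nat.card_zpowers, hxo])
  have hx1 : x ≠ 1 := by rintro rfl; rw [orderOf_one] at hxo; exact hp.out.one_lt.ne hxo
  have hP' : SylowOf p (cj g P) ⊤ := Hall.cj_of_mem hP (mem_top g)
  have k1 : x ∈ P := zpowers_le.mp (Hall.pgroup_le_of_norm hP hxp le_top (Or.inl (zpowers_le.mpr hx.1)))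
  have k2 : x ∈ cj g P := zpowers_le.mp (Hall.pgroup_le_of_norm hP' hxp le_top
    (Or.inl (zpowers_le.mpr (cj_norm g P ▸ hx.2))))
  apply hg
  apply mem_norm_of_cent_eq hP hab
  have h0 := h.cent_cj_mem hP hab h1 hc 1
  rw [cj_one] at h0
  refine h.eq_of_mem hP hab h0 (h.cent_cj_mem hP hab h1 hc g) hxp hx1 (comm_iff_le_cent.mp hab k1) ?_
  rw [← cj_cent]
  exact cj_mono g (comm_iff_le_cent.mp hab) k2

end NMC

end Cfsg.Agent.H25
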