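import Mathlib
import Cfsg.Agent.H25.Cover

/-! Nilpotent subgroups of general linear groups through unipotent elements. -/

namespace Cfsg.Agent.H25

open scoped Matrix Pointwise

theorem isPGroup_zpowers_of_pow {G : Type*} [Group G] {p : ℕ} [hp : Fact p.Prime] {a : G}
    (hk : ∃ k, a ^ p ^ k = 1) : IsPGroup p (Subgroup.zpowers a) := by
  obtain ⟨k, hk⟩ := hk
  obtain ⟨j, -, hj⟩ := (Nat.dvd_prime_pow hp.out).mp (orderOf_dvd_of_pow_eq_one hk)
  exact IsPGroup.of_card (n := j) (by rw [Nat.card_zpowers, hj])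

theorem mem_sylowIn_of_nilpotent {G : Type*} [Group G] [Finite G] {p : ℕ} [Fact p.Prime]
    {Q A : Subgroup G} (hQ : H3.SylowIn p Q A) (hA : Group.IsNilpotent A) {s : G} (hs : s ∈ A)
    (hk : ∃ k, s ^ p ^ k = 1) : s ∈ Q := by
  obtain ⟨h, hh, hle⟩ := hQ.exists_conj_le (isPGroup_zpowers_of_pow hk)
    (Subgroup.zpowers_le.mpr hs)
  have h1 := H3.conj_smul_le_iff.mp hle s (Subgroup.mem_zpowers s)
  exact (Subgroup.mem_normalizer_iff.mp (hQ.le_normalizer_of_isNilpotent hA hh) s).mpr h1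

variable {ι F : Type*} [Fintype ι] [DecidableEq ι] [Field F]

theorem nilpotent_le_lineStab [Finite F] {p : ℕ} [hp : Fact p.Prime] [CharP F p] {x : GL ι F}
    (hx : ∃ k, x ^ p ^ k = 1) {v : ι → F} (hv : v ≠ 0) (hfix : (x : Matrix ι ι F) *ᵥ v = v)
    (huniq : ∀ w, (x : Matrix ι ι F) *ᵥ w = w → ∃ c : F, w = c • v) {A : Subgroup (GL ι F)}
    (hA : Group.IsNilpotent A) (hxA : x ∈ A) : A ≤ lineStab v := by
  intro g hg
  obtain ⟨s, t, hs, ht, hk, hto, hst⟩ := H3.exists_p_part p g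
  rw [hst]
  refine Subgroup.mul_mem _ ?_ ?_
  · obtain ⟨Q, hQ, hle⟩ := H3.exists_sylowIn_le (isPGroup_zpowers_of_pow hx)
      (Subgroup.zpowers_le.mpr hxA)
    have hsQ := mem_sylowIn_of_nilpotent hQ hA (Subgroup.zpowers_le.mpr hg hs) hk
    have hd : p ∣ Nat.card (ι → F) := by
      have h1 : addOrderOf v = p := addOrderOf_eq_prime (by
        rw [← Nat.cast_smul_eq_nsmul F, CharP.cast_eq_zero, zero_smul]) hv
      exact h1 ▸ addOrderOf_dvd_natCard v
    obtain ⟨b, hb, hb0⟩ := hQ.isPGroup.exists_fixed_point_of_prime_dvd_card_of_fixed_point (ι → F)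
      hd (a := 0) (fun g => smul_zero _)
    obtain ⟨c, rfl⟩ := huniq b (hb ⟨x, hle (Subgroup.mem_zpowers x)⟩)
    have hc : c ≠ 0 := by rintro rfl; simp at hb0
    have h2 : (s : Matrix ι ι F) *ᵥ (c • v) = c • v := hb ⟨s, hsQ⟩
    rw [Matrix.mulVec_smul] at h2
    exact ⟨1, one_ne_zero, by rw [one_smul]; exact smul_right_injective _ hc h2⟩
  · have h1 := commute_of_nilpotent_of_pow hA hxA (Subgroup.zpowers_le.mpr hg ht) hx hto
    obtain ⟨c, hc⟩ := huniq ((t : Matrix ι ι F) *ᵥ v) (by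
      rw [Matrix.mulVec_mulVec, ← Units.val_mul, h1, Units.val_mul, ← Matrix.mulVec_mulVec, hfix])
    exact mem_lineStab_of_smul hv hc

theorem det_eq_one_of_pow {p : ℕ} [hp : Fact p.Prime] [CharP F p] {x : GL ι F}
    (hx : ∃ k, x ^ p ^ k = 1) : (x : Matrix ι ι F).det = 1 := by
  obtain ⟨k, hk⟩ := hx
  have h1 : (x : Matrix ι ι F).det ^ p ^ k = 1 := by
    rw [← Matrix.det_pow, ← Units.val_pow_eq_pow_val, hk, Units.val_one, Matrix.det_one]
  have h2 : ((x : Matrix ι ι F).det - 1) ^ p ^ k = 0 := by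
    rw [sub_pow_char_pow, h1, one_pow, sub_self]
  exact sub_eq_zero.mp (pow_eq_zero_iff (pow_ne_zero k hp.out.ne_zero) |>.mp h2)

theorem mem_range_toGL_iff {x : GL ι F} :
    x ∈ (Matrix.SpecialLinearGroup.toGL : Matrix.SpecialLinearGroup ι F →* GL ι F).range ↔
      (x : Matrix ι ι F).det = 1 := by
  constructor
  · rintro ⟨y, rfl⟩
    exact y.2
  · intro h
    exact ⟨⟨x, h⟩, Units.ext rfl⟩

theorem exists_unipotent [Nonempty ι] {p : ℕ} [hp : Fact p.Prime] [CharP F p]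
    {N : Matrix ι ι F} {n : ℕ} (hN : N ^ n = 0) :
    ∃ x : GL ι F, (x : Matrix ι ι F) = 1 + N ∧ ∃ k, x ^ p ^ k = 1 := by
  have h1 : (1 + N) ^ p ^ n = 1 := by
    rw [add_pow_char_pow_of_commute _ _ (Commute.one_left N), one_pow,
      pow_eq_zero_of_le (Nat.lt_pow_self hp.out.one_lt).le hN, add_zero]
  exact ⟨Units.ofPowEqOne _ _ h1 (pow_ne_zero _ hp.out.ne_zero), rfl, n, Units.pow_ofPowEqOne _ _⟩

/-- inverse transpose -/
def invTranspose (ι F : Type*) [Fintype ι] [DecidableEq ι] [Field F] : GL ι F →* GL ι F where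
  toFun g := ⟨((g⁻¹ : GL ι F) : Matrix ι ι F)ᵀ, (g : Matrix ι ι F)ᵀ, by
      rw [← Matrix.transpose_mul, ← Units.val_mul, mul_inv_cancel, Units.val_one,
        Matrix.transpose_one], by
      rw [← Matrix.transpose_mul, ← Units.val_mul, inv_mul_cancel, Units.val_one,
        Matrix.transpose_one]⟩
  map_one' := Units.ext (by simp)
  map_mul' g h := Units.ext (by
    simp only [mul_inv_rev, Units.val_mul, Matrix.transpose_mul])

theorem coe_invTranspose_inv (g : GL ι F) :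
    ((invTranspose ι F g⁻¹ : GL ι F) : Matrix ι ι F) = (g : Matrix ι ι F)ᵀ := rfl

theorem center_le_lineStab {v : ι → F} (hv : v ≠ 0) : Subgroup.center (GL ι F) ≤ lineStab v := by
  intro g hg
  obtain ⟨c, hc⟩ := Matrix.GeneralLinearGroup.mem_center_iff_val_mem_range_scalar.mp hg
  refine mem_lineStab_of_smul hv (c := c) ?_
  rw [← hc]
  ext i
  simp [Matrix.mulVec_diagonal]

/-- preimage in `H` of a subgroup of a subgroup of `H / Z(H)` -/
def liftSub {H : Type*} [Group H] {G : Subgroup (H ⧸ Subgroup.center H)} (A : Subgroup G) :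
    Subgroup H := (A.map G.subtype).comap (QuotientGroup.mk' _)

theorem mem_liftSub {H : Type*} [Group H] {G : Subgroup (H ⧸ Subgroup.center H)} {A : Subgroup G}
    {g : H} (hg : (g : H ⧸ Subgroup.center H) ∈ G) : g ∈ liftSub A ↔ (⟨g, hg⟩ : G) ∈ A := by
  constructor
  · rintro ⟨a, ha, e⟩
    have : a = ⟨g, hg⟩ := Subtype.ext e
    exact this ▸ ha
  · intro h
    exact ⟨_, h, rfl⟩

theorem nilpotent_liftSub {H : Type*} [Group H] {G : Subgroup (H ⧸ Subgroup.center H)}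
    {A : Subgroup G} (hA : Group.IsNilpotent A) : Group.IsNilpotent (liftSub A) := by
  have := H1.isNilpotent_map G.subtype hA
  refine Subgroup.isNilpotent_of_ker_le_center
    ((QuotientGroup.mk' (Subgroup.center H)).subgroupComap (A.map G.subtype)) fun g hg => ?_
  have h1 : (g : H) ∈ Subgroup.center H := by
    rw [← QuotientGroup.eq_one_iff]
    exact congrArg Subtype.val hg
  exact Subgroup.mem_center_iff.mpr fun y => Subtype.ext (Subgroup.mem_center_iff.mp h1 y)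

/-- image in `G` of a subgroup of `H` -/
def downSub {H : Type*} [Group H] (G : Subgroup (H ⧸ Subgroup.center H)) (L : Subgroup H) :
    Subgroup G := (L.map (QuotientGroup.mk' _)).subgroupOf G

theorem mem_downSub_of_mem {H : Type*} [Group H] {G : Subgroup (H ⧸ Subgroup.center H)}
    {L : Subgroup H} {g : H} (hg : (g : H ⧸ Subgroup.center H) ∈ G) (h : g ∈ L) :
    (⟨g, hg⟩ : G) ∈ downSub G L := ⟨g, h, rfl⟩

theorem mem_downSub {H : Type*} [Group H] {G : Subgroup (H ⧸ Subgroup.center H)}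
    {L : Subgroup H} (hL : Subgroup.center H ≤ L) {g : H} (hg : (g : H ⧸ Subgroup.center H) ∈ G) :
    (⟨g, hg⟩ : G) ∈ downSub G L ↔ g ∈ L := by
  refine ⟨?_, mem_downSub_of_mem hg⟩
  rintro ⟨a, ha, e⟩
  have : a⁻¹ * g ∈ Subgroup.center H := QuotientGroup.eq.mp e
  exact (L.mul_mem_cancel_left (L.inv_mem ha)).mp (hL this)

theorem le_downSub {H : Type*} [Group H] {G : Subgroup (H ⧸ Subgroup.center H)}
    {A : Subgroup G} {L : Subgroup H} (h : liftSub A ≤ L) : A ≤ downSub G L := by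
  rintro ⟨a, ha⟩ haA
  obtain ⟨g, rfl⟩ := QuotientGroup.mk_surjective a
  exact mem_downSub_of_mem ha (h ((mem_liftSub ha).mpr haA))

theorem false_of_min_cover_redundant {G : Type*} [Group G] {𝓐 : Finset (Subgroup G)}
    (h1 : (∀ A ∈ 𝓐, A ≠ ⊤) ∧ (∀ g : G, ∃ A ∈ 𝓐, g ∈ A))
    (h2 : ∀ 𝓑 : Finset (Subgroup G), (∀ A ∈ 𝓑, A ≠ ⊤) ∧ (∀ g : G, ∃ A ∈ 𝓑, g ∈ A) →
      𝓐.card ≤ 𝓑.card) {A₀ : Subgroup G} (hA : A₀ ∈ 𝓐) (f : Subgroup G → Subgroup G)
    (hf : ∀ A ∈ 𝓐, A ≤ f A ∧ f A ≠ ⊤) (h : ∀ g ∈ A₀, ∃ A ∈ 𝓐, A ≠ A₀ ∧ g ∈ f A) : False := by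
  classical
  have h3 := h2 ((𝓐.erase A₀).image f) ⟨fun C hC => ?_, fun g => ?_⟩
  · have h4 := Finset.card_image_le (s := 𝓐.erase A₀) (f := f)
    have h7 := Finset.card_erase_add_one hA
    omega
  · obtain ⟨A, hA', rfl⟩ := Finset.mem_image.mp hC
    exact (hf A (Finset.mem_of_mem_erase hA')).2
  · obtain ⟨C, hC, hg⟩ := h1.2 g
    by_cases e1 : C = A₀
    · obtain ⟨A, hA1, hA2, hA3⟩ := h g (e1 ▸ hg)
      exact ⟨f A, Finset.mem_image_of_mem f (Finset.mem_erase.mpr ⟨hA2, hA1⟩), hA3⟩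
    · exact ⟨f C, Finset.mem_image_of_mem f (Finset.mem_erase.mpr ⟨e1, hC⟩), (hf C hC).1 hg⟩

end Cfsg.Agent.H25
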