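import Cfsg.Agent.H25.SEmod
import Cfsg.Agent.H3.PGroup1
import Cfsg.Agent.H20.Quo

/-! Derived lengths of `p`-subgroups of symmetric and linear groups. -/

set_option autoImplicit false

namespace Cfsg.Agent.H25

open Subgroup Cfsg.Agent.H20 Cfsg.Agent.H21 Module
open scoped commutatorElement

universe u

section PG
variable {G : Type*} [Group G] [Finite G] {p : ℕ} [hp : Fact p.Prime]

theorem derived_le_of_index (hG : IsPGroup p G) (k : ℕ) :
    ∀ H : Subgroup G, H.index < p ^ (k + 1) → derivedSeries G k ≤ H := by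
  have step : ∀ H : Subgroup G, H ≠ ⊤ → ∃ K : Subgroup G, K.index * p ≤ H.index ∧ ⁅K, K⁆ ≤ H := by
    intro H hH
    obtain ⟨g, hg, hgH⟩ := SetLike.exists_of_lt
      (lt_inf_norm_of_isPGroup (hG.to_subgroup ⊤) (lt_top_iff_ne_top.mpr hH))
    have hg := hg.2
    have hlt : H < H ⊔ zpowers g := lt_of_le_of_ne le_sup_left fun e => hgH (e ▸ mem_sup_right (mem_zpowers g))
    refine ⟨H ⊔ zpowers g, ?_, ?_⟩
    · rw [← relIndex_mul_index hlt.le, mul_comm]
      refine Nat.mul_le_mul_right _ (Nat.le_of_dvd (relIndex_pos _ _) ?_)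
      obtain ⟨n, hn⟩ := (hG.to_subgroup (H ⊔ zpowers g)).index (H.subgroupOf _)
      rw [relIndex, hn]
      refine dvd_pow_self p fun e => hlt.not_ge (subgroupOf_eq_top.mp (index_eq_one.mp ?_))
      rw [hn, e, pow_zero]
    · refine (quo_comm_iff (sup_le le_normalizer (zpowers_le.mpr hg))).mp ?_
      rw [quo_self_sup (zpowers_le.mpr hg)]
      exact quo_comm inferInstance H
  induction k with
  | zero =>
    intro H hH
    by_contra hne
    obtain ⟨K, h1, -⟩ := step H fun e => hne (e ▸ le_top)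
    have := Nat.pos_of_ne_zero (K.index_ne_zero_of_finite)
    rw [zero_add, pow_one] at hH
    nlinarith
  | succ k ih =>
    intro H hH
    rcases eq_or_ne H ⊤ with rfl | hne
    · exact le_top
    obtain ⟨K, h1, h2⟩ := step H hne
    have := ih K (Nat.lt_of_mul_lt_mul_right (a := p) (by rw [← pow_succ]; omega))
    exact (commutator_mono this this).trans h2

theorem derived_eq_bot_of_perm (hG : IsPGroup p G) {α : Type*} [Finite α] (f : G →* Equiv.Perm α)
    (hf : Function.Injective f) {k : ℕ} (h : Nat.card α < p ^ (k + 1)) : derivedSeries G k = ⊥ := by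
  letI := MulAction.compHom α f
  refine eq_bot_iff.mpr fun g hg => hf (by
    rw [map_one]
    ext x
    refine derived_le_of_index hG k (MulAction.stabilizer G x) (lt_of_le_of_lt ?_ h) hg
    rw [MulAction.index_stabilizer]
    exact Set.ncard_le_card _)

omit [Finite G] in
theorem derived_ne_bot_of_injective {D : Type*} [Group D] (f : D →* G) (hf : Function.Injective f) {k : ℕ}
    (h : derivedSeries D k ≠ ⊥) : derivedSeries G k ≠ ⊥ := fun e =>
  h ((map_eq_bot_iff_of_injective _ hf).mp (le_bot_iff.mp (e ▸ map_derivedSeries_le_derivedSeries f k)))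

theorem derived_ne_bot_sylow (P : Sylow p G) {D : Type*} [Group D] (hD : IsPGroup p D) (f : D →* G)
    (hf : Function.Injective f) {k : ℕ} (h : derivedSeries D k ≠ ⊥) : derivedSeries P k ≠ ⊥ := by
  obtain ⟨Q, hQ⟩ := (hD.of_surjective _ f.rangeRestrict_surjective).exists_le_sylow
  refine derived_ne_bot_of_injective ((Q.equiv P).toMonoidHom.comp ((inclusion hQ).comp f.rangeRestrict))
    ((Q.equiv P).injective.comp ((inclusion_injective hQ).comp fun a b e => hf (congrArg Subtype.val e))) h

omit [Finite G] in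
theorem derived_succ_ne_bot {D : Type*} [Group D] {B : Subgroup G} (π : B →* D)
    (h : ∀ d, ∃ b : B, (b : G) ∈ commutator G ∧ π b = d) {k : ℕ} (hk : derivedSeries D k ≠ ⊥) :
    derivedSeries G (k + 1) ≠ ⊥ := by
  have key : ∀ j, derivedSeries D j ≤ pmap π (derivedSeries G (j + 1) ⊓ B) := by
    intro j
    induction j with
    | zero =>
      intro d _
      obtain ⟨b, h1, h2⟩ := h d
      exact mem_pmap.mpr ⟨b, ⟨h1, b.2⟩, h2⟩
    | succ j ih =>
      refine (commutator_mono ih ih).trans ?_
      rw [← pmap_commg π inf_le_right inf_le_right]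
      exact pmap_mono π (le_inf (commutator_mono inf_le_left inf_le_left)
        (commg_le_of_le inf_le_right inf_le_right))
  intro e
  have := key k
  rw [e, bot_inf_eq, pmap_bot] at this
  exact hk (le_bot_iff.mp this)

end PG

section Wr
variable {D Q : Type*} [Group D] [Group Q]

theorem derived_wreath [Nontrivial Q] {k : ℕ} (hk : derivedSeries D k ≠ ⊥) :
    derivedSeries (D ≀ᵣ Q) (k + 1) ≠ ⊥ := by
  classical
  obtain ⟨c, hc⟩ := exists_ne (1 : Q)
  refine derived_succ_ne_bot (B := (RegularWreathProduct.rightHom (D := D) (Q := Q)).ker)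
    (MonoidHom.mk' (fun w => w.1.left 1) fun a b => ?_) (fun d => ?_) hk
  · have : a.1.right = 1 := a.2
    simp [this]
  · refine ⟨⟨⁅(⟨Pi.mulSingle 1 d, 1⟩ : D ≀ᵣ Q), RegularWreathProduct.inl c⁆, ?_⟩,
      commutator_mem_commutator (mem_top _) (mem_top _), ?_⟩
    · simp [commutatorElement_def]
    · simp [commutatorElement_def, hc]

theorem isPGroup_wreath {p : ℕ} [hp : Fact p.Prime] [Finite D] [Finite Q] (hD : IsPGroup p D)
    (hQ : IsPGroup p Q) : IsPGroup p (D ≀ᵣ Q) := by
  obtain ⟨a, ha⟩ := hD.exists_card_eq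
  obtain ⟨b, hb⟩ := hQ.exists_card_eq
  exact IsPGroup.of_card (n := a * p ^ b + b) (by rw [RegularWreathProduct.card, ha, hb]; ring)

theorem exists_perm_derived (p : ℕ) [hp : Fact p.Prime] (k : ℕ) :
    ∃ (D : Type) (_ : Group D) (_ : Finite D) (α : Type) (_ : Finite α) (f : D →* Equiv.Perm α),
      Function.Injective f ∧ IsPGroup p D ∧ Nat.card α = p ^ (k + 1) ∧ derivedSeries D k ≠ ⊥ := by
  have hC : IsPGroup p (Multiplicative (ZMod p)) := IsPGroup.of_card (n := 1) (by simp)
  induction k with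
  | zero =>
    exact ⟨Multiplicative (ZMod p), inferInstance, inferInstance, Multiplicative (ZMod p), inferInstance,
      MulAction.toPermHom _ _, MulAction.toPerm_injective, hC, by simp, by simp⟩
  | succ k ih =>
    obtain ⟨D, _, _, α, _, f, h1, h2, h3, h4⟩ := ih
    letI := MulAction.compHom α f
    haveI : FaithfulSMul D α := ⟨fun h => h1 (Equiv.ext h)⟩
    haveI : Nonempty α := (Nat.card_pos_iff.mp (h3 ▸ pow_pos hp.out.pos _)).1
    exact ⟨D ≀ᵣ Multiplicative (ZMod p), inferInstance, inferInstance, α × Multiplicative (ZMod p),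
      inferInstance, RegularWreathProduct.toPerm _ _ _, RegularWreathProduct.toPermInj _ _ _,
      isPGroup_wreath h2 hC, by simp [h3, pow_succ], derived_wreath h4⟩

theorem exists_lin_derived (p : ℕ) [hp : Fact p.Prime] (F : Type u) [Field F] {e : ℕ} (he : 0 < e)
    (c : GL (Fin e) F) (hc : orderOf c = p) (k : ℕ) :
    ∃ (D : Type u) (_ : Group D) (_ : Finite D) (V : Type u) (_ : AddCommGroup V) (_ : Module F V)
      (_ : FiniteDimensional F V) (f : D →* Module.End F V),
      Function.Injective f ∧ IsPGroup p D ∧ finrank F V = e * p ^ k ∧ derivedSeries D k ≠ ⊥ := by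
  have hC : IsPGroup p (Multiplicative (ZMod p)) := IsPGroup.of_card (n := 1) (by simp)
  induction k with
  | zero =>
    have h1 : Nat.card (zpowers c) = p := by rw [Nat.card_zpowers, hc]
    haveI : Finite (zpowers c) := Nat.finite_of_card_ne_zero (h1 ▸ hp.out.ne_zero)
    haveI : Nontrivial (zpowers c) := Finite.one_lt_card_iff_nontrivial.mp (h1 ▸ hp.out.one_lt)
    refine ⟨zpowers c, inferInstance, inferInstance, Fin e → F, inferInstance, inferInstance, inferInstance,
      (Matrix.toLinAlgEquiv' : Matrix (Fin e) (Fin e) F ≃ₐ[F] _).toMulEquiv.toMonoidHom.comp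
        ((Units.coeHom _).comp (zpowers c).subtype), fun a b h => Subtype.ext (Units.ext
        ((Matrix.toLinAlgEquiv' : Matrix (Fin e) (Fin e) F ≃ₐ[F] _).injective h)), IsPGroup.of_card (n := 1) (by rw [h1, pow_one]),
        by simp, by simp⟩
  | succ k ih =>
    classical
    obtain ⟨D, _, _, V, _, _, _, f, h1, h2, h3, h4⟩ := ih
    haveI : Nontrivial V := Module.nontrivial_of_finrank_pos (R := F) (h3 ▸ mul_pos he (pow_pos hp.out.pos _))
    let g : D ≀ᵣ Multiplicative (ZMod p) →* Module.End F (Multiplicative (ZMod p) → V) :=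
      { toFun := fun w => LinearMap.pi fun x => f (w.left x) ∘ₗ LinearMap.proj (w.right⁻¹ * x)
        map_one' := by ext; simp
        map_mul' := fun a b => LinearMap.ext fun v => funext fun x => by simp [mul_assoc] }
    refine ⟨D ≀ᵣ Multiplicative (ZMod p), inferInstance, inferInstance, Multiplicative (ZMod p) → V,
      inferInstance, inferInstance, inferInstance, g, (injective_iff_map_eq_one g).mpr fun w hw => ?_,
      isPGroup_wreath h2 hC, by simp [finrank_pi_fintype, h3, pow_succ, mul_comm, mul_left_comm],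
      derived_wreath h4⟩
    have h5 : ∀ (v : Multiplicative (ZMod p) → V) x, f (w.left x) (v (w.right⁻¹ * x)) = v x := fun v x =>
      congrFun (LinearMap.congr_fun hw v) x
    have h6 : w.right = 1 := by
      by_contra hne
      obtain ⟨v, hv⟩ := exists_ne (0 : V)
      have := h5 (Pi.single 1 v) 1
      rw [Pi.single_eq_of_ne (by simpa using hne), map_zero, Pi.single_eq_same] at this
      exact hv this.symm
    refine RegularWreathProduct.ext (funext fun x => h1 ?_) h6
    ext v
    simpa using h5 (fun _ => v) x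

end Wr

section Lin
variable {G K W : Type*} [Group G] [Finite G] [Field K] [AddCommGroup W] [Module K W]
  [FiniteDimensional K W] {p : ℕ} [hp : Fact p.Prime]

omit [Finite G] in
theorem card_le_finrank_of_chars {ι : Type*} [Finite ι] (ρ : G →* Module.End K W) (v : ι → W)
    (hv : ∀ i, v i ≠ 0) (ψ : ι → G →* K) (hψ : ∀ i y, ρ y (v i) = ψ i y • v i)
    (hinj : Function.Injective ψ) : Nat.card ι ≤ finrank K W := by
  haveI := Fintype.ofFinite ι
  have hli : LinearIndependent K v := by
    rw [Fintype.linearIndependent_iff]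
    intro c hc0 s₀
    obtain ⟨f, hf1⟩ := Module.Projective.exists_dual_eq_one K (hv s₀)
    have h5 := Fintype.linearIndependent_iff.mp ((linearIndependent_monoidHom G K).comp ψ hinj)
      (fun s => c s * f (v s)) (by
        ext y
        have := congrArg (fun w => f (ρ y w)) hc0
        simp only [map_sum, map_smul, hψ, map_zero, smul_eq_mul] at this
        simp only [Finset.sum_apply, Pi.smul_apply, Function.comp_apply, smul_eq_mul, Pi.zero_apply]
        rw [← this]
        exact Finset.sum_congr rfl fun s _ => by ring) s₀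
    rwa [hf1, mul_one] at h5
  rw [Nat.card_eq_fintype_card]
  exact hli.fintype_card_le_finrank

theorem derived_eq_bot_of_rep [IsAlgClosed K] (ρ : G →* Module.End K W) (hρ : Function.Injective ρ)
    (hG : IsPGroup p G) (hK : (p : K) ≠ 0) {q : ℕ} (hq : ¬ p ∣ q) (φ : W → W)
    (h1 : ∀ g w, φ (ρ g w) = ρ g (φ w)) (h2 : ∀ (c : K) w, φ (c • w) = c ^ q • φ w)
    (h3 : ∀ w, φ w = 0 → w = 0) :
    derivedSeries G (Nat.log p (finrank K W / orderOf (q : ZMod p)) + 1) = ⊥ := by
  classical
  obtain ⟨A, hAn, hAc, -, hA⟩ := H3.exists_selfCentralizing_normal_abelian hG ⊥ inferInstance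
  set k := Nat.log p (finrank K W / orderOf (q : ZMod p))
  obtain ⟨s, hs⟩ := hG.exists_card_eq
  have hq0 : (q : ZMod p) ≠ 0 := mt (ZMod.natCast_eq_zero_iff q p).mp hq
  have he : 0 < orderOf (q : ZMod p) := (isOfFinOrder_iff_pow_eq_one.mpr
    ⟨p - 1, by have := hp.out.two_le; omega, ZMod.pow_card_sub_one_eq_one hq0⟩).orderOf_pos
  suffices h : derivedSeries G k ≤ A from le_bot_iff.mp ((commutator_mono h h).trans (commg_eq_bot.mpr
    (le_centralizer_iff_isMulCommutative.mpr hAc)).le)
  refine fun g hg => hA fun a ha => ?_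
  by_contra hne
  have hy : g * a * g⁻¹ * a⁻¹ ∈ A := mul_mem (hAn.conj_mem a ha g) (inv_mem ha)
  obtain ⟨v, hv, hv0, χ, hχ⟩ := exists_char_of_comm ρ hAc (U₀ := LinearMap.range (ρ (g * a * g⁻¹ * a⁻¹) - 1))
    (fun e => hne (by
      have : g * a * g⁻¹ * a⁻¹ = 1 := hρ (by rw [map_one, ← sub_eq_zero]; exact LinearMap.range_eq_bot.mp e)
      rw [mul_inv_eq_one, mul_inv_eq_iff_eq_mul] at this
      exact this.symm))
    (fun y hy' v hv => map_mem_range_of_comm (by rw [← map_mul, ← map_mul, comm_iff.mp hAc y hy' _ hy]) hv)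
  have hpw : ∀ x : G, x ^ p ^ s = 1 := fun x => hs ▸ pow_card_eq_one'
  have h4 : χ ⟨_, hy⟩ ≠ 1 := fun e => hv0 (eq_zero_of_fix_range (ρ _) (m := p ^ s)
    (by rw [← map_pow, hpw, map_one]) (by simpa using fun h => absurd h hK) hv (by simpa [e] using hχ ⟨_, hy⟩))
  let χ' : A →* Kˣ := χ.toHomUnits
  have hχ' : ∀ y, χ' y ^ p ^ s = 1 := fun y => by
    rw [← map_pow, show y ^ p ^ s = 1 from Subtype.ext (hpw y), map_one]
  let St : Subgroup G :=
    { carrier := {x | ∀ y : A, χ' (MulAut.conjNormal x y) = χ' y}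
      one_mem' := fun y => by simp
      mul_mem' := fun {a b} ha hb y => by rw [map_mul, MulAut.mul_apply, ha, hb]
      inv_mem' := fun {a} ha y => by rw [← ha, ← MulAut.mul_apply, ← map_mul]; simp }
  have hSt : St.index * orderOf (q : ZMod p) ≤ finrank K W := by
    have hit : ∀ (j : ℕ) (w : W), w ≠ 0 → φ^[j] w ≠ 0 := fun j => by
      induction j with
      | zero => exact fun w hw => hw
      | succ j ih => exact fun w hw => ih _ (mt (h3 w) hw)
    have hit2 : ∀ (j : ℕ) (y : G) (c : K) (w : W), ρ y w = c • w → ρ y (φ^[j] w) = c ^ q ^ j • φ^[j] w :=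
      fun j y => by
      induction j with
      | zero => exact fun c w hw => by simpa using hw
      | succ j ih =>
        intro c w hw
        rw [Function.iterate_succ_apply, ih (c ^ q) (φ w) (by rw [← h1, hw, h2]), ← pow_mul, ← pow_succ']
    have := card_le_finrank_of_chars (ι := (G ⧸ St) × Fin (orderOf (q : ZMod p))) (ρ.comp A.subtype)
      (fun i => φ^[i.2] (ρ i.1.out v)) (fun i => hit _ _ fun e => hv0 (by
        have := congrArg (ρ i.1.out⁻¹) e
        rwa [← Module.End.mul_apply, ← map_mul, inv_mul_cancel, map_one, map_zero] at this))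
      (fun i => (powMonoidHom (q ^ (i.2 : ℕ))).comp (χ.comp (MulAut.conjNormal i.1.out⁻¹).toMonoidHom))
      (fun i y => hit2 _ _ _ _ (by
        rw [← map_smul]
        change _ = ρ _ (χ (MulAut.conjNormal i.1.out⁻¹ y) • v)
        rw [← hχ, MulAut.conjNormal_apply, ← Module.End.mul_apply, ← Module.End.mul_apply, ← map_mul,
          ← map_mul]
        congr 2
        simp [mul_assoc])) ?_
    · rwa [Nat.card_prod, Nat.card_fin] at this
    rintro ⟨i, j⟩ ⟨i', j'⟩ e
    set x := i.out⁻¹ * i'.out with hx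
    have e1 : ∀ z : A, χ' (MulAut.conjNormal x z) ^ q ^ (j : ℕ) = χ' z ^ q ^ (j' : ℕ) := fun z => by
      have := DFunLike.congr_fun e (MulAut.conjNormal i'.out z)
      refine Units.ext ?_
      simp only [MonoidHom.comp_apply, powMonoidHom_apply, MulEquiv.coe_toMonoidHom, ← MulAut.mul_apply,
        ← map_mul, inv_mul_cancel, map_one, MulAut.one_apply] at this
      simpa [χ', hx] using this
    have e2 : ∀ (n : ℕ) (z : A), χ' (MulAut.conjNormal (x ^ n) z) ^ q ^ ((j : ℕ) * n) =
        χ' z ^ q ^ ((j' : ℕ) * n) := fun n z => by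
      induction n with
      | zero => simp
      | succ n ih =>
        rw [pow_succ', map_mul, MulAut.mul_apply, mul_add_one, mul_add_one, pow_add, pow_add, mul_comm (q ^ _),
          pow_mul, e1, ← pow_mul, mul_comm (q ^ _), pow_mul, ih, ← pow_mul]
    have e3 := e2 (p ^ s) ⟨_, hy⟩
    rw [hpw, map_one, MulAut.one_apply, pow_eq_pow_iff_modEq] at e3
    have e4 := (ZMod.natCast_eq_natCast_iff _ _ _).mpr (e3.of_dvd
      (prime_dvd_orderOf_of_pow_eq_one hp.out (hχ' _) fun e => h4 (congrArg Units.val e)))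
    rw [Nat.cast_pow, Nat.cast_pow, pow_mul, pow_mul, ZMod.pow_card_pow, ZMod.pow_card_pow] at e4
    obtain rfl : j = j' := Fin.ext (pow_injOn_Iio_orderOf j.2 j'.2 e4)
    refine Prod.ext ?_ rfl
    change i = i'
    rw [← i.out_eq', ← i'.out_eq']
    refine QuotientGroup.eq.mpr fun z => ?_
    have e5 : (χ' (MulAut.conjNormal x z) * (χ' z)⁻¹) ^ q ^ (j : ℕ) = 1 := by
      rw [mul_pow, e1, ← mul_pow]; simp
    have e6 : (χ' (MulAut.conjNormal x z) * (χ' z)⁻¹) ^ p ^ s = 1 := by
      rw [mul_pow, hχ', inv_pow, hχ']; simp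
    have e7 := pow_gcd_eq_one.mpr ⟨e5, e6⟩
    rw [(((Nat.Prime.coprime_iff_not_dvd hp.out).mpr hq).symm.pow _ _).gcd_eq_one, pow_one] at e7
    exact mul_inv_eq_one.mp e7
  have h5 := derived_le_of_index hG k St (lt_of_le_of_lt ((Nat.le_div_iff_mul_le he).mpr hSt)
    (Nat.lt_pow_succ_log_self hp.out.one_lt _)) hg ⟨a, ha⟩
  apply h4
  have h6 : χ' (MulAut.conjNormal g ⟨a, ha⟩ * (⟨a, ha⟩ : A)⁻¹) = 1 := by rw [map_mul, h5, map_inv, mul_inv_cancel]
  exact congrArg Units.val h6

omit [FiniteDimensional K W] in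
theorem exists_fixed_mod_charP [CharP K p] (ρ : G →* Module.End K W) (hG : IsPGroup p G)
    {U : Submodule K W} (hU : U ≠ ⊤) (hi : ∀ g, ∀ v ∈ U, ρ g v ∈ U) :
    ∃ v, v ∉ U ∧ ∀ g, ρ g v - v ∈ U := by
  let S : W → Subgroup G := fun v =>
    { carrier := {g | ρ g v - v ∈ U}
      one_mem' := by simp
      mul_mem' := fun {a b} ha hb => by
        have := add_mem (hi a _ hb) ha
        simpa using this
      inv_mem' := fun {a} ha => by
        have := neg_mem (hi a⁻¹ _ ha)
        rw [map_sub, ← Module.End.mul_apply, ← map_mul] at this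
        simpa using this }
  obtain ⟨w, hw⟩ : ∃ w, w ∉ U := by
    by_contra h
    push Not at h
    exact hU (eq_top_iff.mpr fun w _ => h w)
  obtain ⟨_, ⟨v, hv, rfl⟩, hmax⟩ := (wellFounded_gt (α := Subgroup G)).has_min (S '' {v | v ∉ U})
    ⟨_, w, hw, rfl⟩
  refine ⟨v, hv, fun g => ?_⟩
  by_contra hg
  obtain ⟨x, hx, hxS⟩ := SetLike.exists_of_lt (lt_inf_norm_of_isPGroup (hG.to_subgroup ⊤)
    (lt_top_iff_ne_top.mpr fun e : S v = ⊤ => hg (e ▸ mem_top g : g ∈ S v)))
  obtain ⟨n, hn⟩ := hG x
  haveI : Nontrivial W := nontrivial_of_ne v 0 fun e => hv (e ▸ zero_mem U)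
  haveI := charP_of_injective_algebraMap (algebraMap K (Module.End K W)).injective p
  have hnil : ((ρ x - 1) ^ p ^ n) v ∈ U := by
    rw [sub_pow_char_pow_of_commute _ _ (Commute.one_right _), ← map_pow, hn, map_one]; simp
  have hex : ∃ m : ℕ, ((ρ x - 1) ^ m) v ∈ U := ⟨_, hnil⟩
  classical
  obtain ⟨m, hm⟩ : ∃ m, Nat.find hex = m + 1 := Nat.exists_eq_succ_of_ne_zero fun e => hv (by
    simpa [e] using Nat.find_spec hex)
  have h1 : ∀ j : ℕ, S v ≤ S (((ρ x - 1) ^ j) v) := fun j => by
    induction j with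
    | zero => exact le_rfl
    | succ j ih =>
      intro y hy
      have h2 := hi x _ (ih ((mem_normalizer_iff.mp (inv_mem hx.2) y).mp hy))
      have h3 := sub_mem h2 (ih hy)
      change ρ y _ - _ ∈ U
      rw [pow_succ', Module.End.mul_apply]
      rw [map_sub, ← Module.End.mul_apply, ← map_mul, show x * (x⁻¹ * y * x⁻¹⁻¹) = y * x by group,
        map_mul] at h3
      convert h3 using 1
      simp only [LinearMap.sub_apply, Module.End.one_apply, map_sub, Module.End.mul_apply]
      abel
  refine hmax _ ⟨((ρ x - 1) ^ m) v, Nat.find_min hex (by omega), rfl⟩ (lt_of_le_of_ne (h1 m) fun e => hxS ?_)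
  rw [e]
  have := Nat.find_spec hex
  rw [hm, pow_succ', Module.End.mul_apply] at this
  exact this

theorem derived_eq_bot_of_charP [CharP K p] (ρ : G →* Module.End K W) (hρ : Function.Injective ρ)
    (hG : IsPGroup p G) {k : ℕ} (hk : finrank K W ≤ 2 ^ k) : derivedSeries G k = ⊥ := by
  obtain ⟨U, hU0, hU⟩ : ∃ U : ℕ → Submodule K W, U 0 = ⊥ ∧
      ∀ n v, v ∈ U (n + 1) ↔ ∀ g, ρ g v - v ∈ U n :=
    ⟨fun n => Nat.rec ⊥ (fun _ X => ⨅ g, X.comap (ρ g - 1)) n, rfl, fun n v => by simp⟩
  have inv : ∀ n g, ∀ v ∈ U n, ρ g v ∈ U n := fun n => by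
    induction n with
    | zero => intro g v hv; obtain rfl : v = 0 := by simpa [hU0] using hv
              simp
    | succ n ih =>
      intro g v hv
      refine (hU _ _).mpr fun h => ?_
      have := ih g _ ((hU _ _).mp hv (g⁻¹ * h * g))
      rwa [map_sub, ← Module.End.mul_apply, ← map_mul, show g * (g⁻¹ * h * g) = h * g by group,
        map_mul] at this
  have rk : ∀ n : ℕ, U n = ⊤ ∨ n ≤ finrank K ↥(U n) := fun n => by
    induction n with
    | zero => simp
    | succ n ih =>
      have hle : U n ≤ U (n + 1) := fun v hv => (hU _ _).mpr fun g => sub_mem (inv n g v hv) hv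
      by_cases h : U n = ⊤
      · exact Or.inl (top_le_iff.mp (h ▸ hle))
      · obtain ⟨v, hv, hv'⟩ := exists_fixed_mod_charP ρ hG h (inv n)
        have := Submodule.finrank_lt_finrank_of_lt (lt_of_le_of_ne hle fun e => hv (e ▸ (hU _ _).mpr hv'))
        exact Or.inr (lt_of_le_of_lt (ih.resolve_left h) this)
  let T : ℕ → Subgroup G := fun m =>
    { carrier := {g | ∀ i, ∀ v ∈ U (i + m), ρ g v - v ∈ U i}
      one_mem' := by simp
      mul_mem' := fun {a b} ha hb i v hv => by
        have := add_mem (inv i a _ (hb i v hv)) (ha i v hv)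
        simpa using this
      inv_mem' := fun {a} ha i v hv => by
        have := neg_mem (inv i a⁻¹ _ (ha i v hv))
        rw [map_sub, ← Module.End.mul_apply, ← map_mul] at this
        simpa using this }
  have key : ∀ j, derivedSeries G j ≤ T (2 ^ j) := fun j => by
    induction j with
    | zero => exact fun g _ i v hv => (hU _ _).mp hv g
    | succ j ih =>
      refine commutator_le.mpr fun a ha b hb i v hv => ?_
      have hw := inv _ (a⁻¹ * b⁻¹) v hv
      rw [pow_succ, mul_two, ← add_assoc] at hw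
      have h1 := sub_mem (ih ha i _ (ih hb _ _ hw)) (ih hb i _ (ih ha _ _ hw))
      convert h1 using 1
      simp only [map_sub, ← Module.End.mul_apply, ← map_mul, commutatorElement_def]
      rw [show b * (a * (a⁻¹ * b⁻¹)) = 1 by group, map_one, Module.End.one_apply, ← mul_assoc, ← mul_assoc]
      abel
  refine eq_bot_iff.mpr fun g hg => hρ ?_
  rw [map_one]
  ext v
  have h1 : U (0 + 2 ^ k) = ⊤ := (rk _).elim id fun h =>
    Submodule.eq_top_of_finrank_eq (le_antisymm (Submodule.finrank_le _) (by omega))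
  exact sub_eq_zero.mp (by simpa [hU0] using key k hg 0 v (h1 ▸ Submodule.mem_top))

end Lin

/-- Extension of scalars of the natural module. -/
noncomputable def glEnd {F K : Type*} [Field F] [Field K] (f : F →+* K) (n : ℕ) :
    GL (Fin n) F →* Module.End K (Fin n → K) :=
  (Matrix.toLinAlgEquiv' : Matrix (Fin n) (Fin n) K ≃ₐ[K] _).toMulEquiv.toMonoidHom.comp
    (f.mapMatrix.toMonoidHom.comp (Units.coeHom _))

theorem glEnd_apply {F K : Type*} [Field F] [Field K] (f : F →+* K) (n : ℕ) (g : GL (Fin n) F)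
    (v : Fin n → K) (i : Fin n) : glEnd f n g v i = ∑ j, f (g.1 i j) * v j := rfl

theorem glEnd_injective {F K : Type*} [Field F] [Field K] (f : F →+* K) (n : ℕ) :
    Function.Injective (glEnd f n) := fun a b h => Units.ext (Matrix.map_injective f.injective
  ((Matrix.toLinAlgEquiv' : Matrix (Fin n) (Fin n) K ≃ₐ[K] _).injective h))

end Cfsg.Agent.H25
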