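import Cfsg.Agent.FV.A8
import Cfsg.Agent.H10.LBal
import Cfsg.Agent.H10.FT
import Cfsg.Agent.H10.Sig2
import Cfsg.Agent.H1.ThompsonFPF
import Cfsg.Agent.H21.Base5

/-! A perfect group `L = [L,R]` acting coprimely together with `R` of prime order on `Y` and
centralizing `C_Y(R)` centralizes `Y`. -/

set_option autoImplicit false

namespace Cfsg.Agent.H25.FE

open Subgroup Cfsg.Agent.H20 Cfsg.Agent.H21
open scoped commutatorElement

universe u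

section basic
variable {X : Type*} [Group X] [Finite X] {P R Y L Z : Subgroup X}

/-- Thompson: if `C_P(R) ≤ Z(P)` then `P` is solvable. -/
theorem sol_of_cent_le (hr : (♯R).Prime) (hRP : R ≤ N⟦P⟧) (hc : (♯P).Coprime (♯R))
    (h : P ⊓ C⟦R⟧ ≤ C⟦P⟧) : Group.IsSolvable P := by
  set Z := P ⊓ C⟦P⟧ with hZ
  have hZP : Z ≤ P := inf_le_left
  have hPZ : P ≤ N⟦Z⟧ := norm_inf_cent (le_norm_self P) (le_norm_self P)
  have hRZ : R ≤ N⟦Z⟧ := norm_inf_cent hRP hRP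
  have hcZ : (♯Z).Coprime (♯R) := coprime_of_le_left hc hZP
  have hq := coprime_quo_cent hZP hRZ hcZ (Or.inl (sol_of_card_prime hr))
  rw [quo_eq_bot (le_inf inf_le_left h)] at hq
  have hcard : ♯(quo R Z) = ♯R := card_quo_of_disjoint hRZ (inf_eq_bot_coprime hcZ.symm)
  have hr' : (♯(quo R Z)).Prime := hcard ▸ hr
  obtain ⟨y, hy, hy1⟩ := exists_ne_one (ne_bot_of_card_prime hr')
  have hz := eq_zpowers_of_card_prime hr' hy hy1
  have hn : Group.IsNilpotent (quo P Z) := by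
    refine H1.isNilpotent_of_fpf (y := y) (quo_norm Z hRP hy) ?_ ?_
    · rw [← Nat.card_zpowers, hz]; exact hr'
    · have := cent1_eq_of_card_prime hr' hy hy1
      rw [show centralizer ({y} : Set (Cos Z)) = C₁⟦y⟧ from rfl, this]; exact hq.symm
  exact solvable_of_quo hPZ (sol_of_comm (comm_center P)) (sol_of_nil hn)

/-- The case that `L` induces inner automorphisms. -/
theorem inner (hr : (♯R).Prime) (hRY : R ≤ N⟦Y⟧) (hc : (♯Y).Coprime (♯R)) (hRL : R ≤ N⟦L⟧)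
    (hL : ⁅L, L⁆ = L) (hC : L ≤ C⟦Y ⊓ C⟦R⟧⟧) (h : L ≤ Y ⊔ C⟦Y⟧) : L ≤ C⟦Y⟧ := by
  set P := Y ⊓ (L ⊔ C⟦Y⟧) with hP
  have hRP : R ≤ N⟦P⟧ := norm_inf hRY (norm_sup hRL (norm_cent hRY))
  have hs : Group.IsSolvable P := by
    refine sol_of_cent_le hr hRP (coprime_of_le_left hc inf_le_left) ?_
    refine cent_symm (inf_le_right.trans (sup_le (hC.trans (cent_anti ?_)) (cent_anti ?_)))
    · exact inf_le_inf_right _ inf_le_left
    · exact inf_le_left.trans inf_le_left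
  refine H10.le_of_perfect_of_le_sup_solvable hL ?_
    (inf_le_left.trans (norm_cent (le_norm_self Y))) hs
  have := modular_right (A := Y) (B := C⟦Y⟧) (C := L ⊔ C⟦Y⟧)
    (Or.inl (norm_cent (le_norm_self Y))) le_sup_right
  rw [sup_comm, ← this]
  exact le_inf h le_sup_left

end basic

/-- The hypotheses. -/
structure Hyp {X : Type*} [Group X] (R L Y : Subgroup X) : Prop where
  rp : (♯R).Prime
  cY : (♯Y).Coprime (♯R)
  cL : (♯L).Coprime (♯R)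
  nY : R ≤ N⟦Y⟧
  nL : R ≤ N⟦L⟧
  lY : L ≤ N⟦Y⟧
  perf : ⁅L, L⁆ = L
  comm : ⁅L, R⁆ = L
  cen : L ≤ C⟦Y ⊓ C⟦R⟧⟧

def Tn (n : ℕ) : Prop :=
  ∀ {X : Type u} [Group X] [Finite X] (R L Y : Subgroup X), ♯Y = n → Hyp R L Y → L ≤ C⟦Y⟧

section step
variable {X : Type u} [Group X] [Finite X] {R L Y Z : Subgroup X}

theorem Hyp.sub (h : Hyp R L Y) (ih : ∀ m < ♯Y, Tn.{u} m) (hZ : Z < Y) (h1 : R ≤ N⟦Z⟧)
    (h2 : L ≤ N⟦Z⟧) : L ≤ C⟦Z⟧ :=
  ih _ (card_lt hZ) R L Z rfl ⟨h.rp, coprime_of_le_left h.cY hZ.le, h.cL, h1, h.nL, h2, h.perf,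
    h.comm, h.cen.trans (cent_anti (inf_le_inf_right _ hZ.le))⟩

theorem Hyp.quot (h : Hyp R L Y) (ih : ∀ m < ♯Y, Tn.{u} m) (hZ : Z < Y) (h0 : Z ≠ ⊥)
    (hY : Y ≤ N⟦Z⟧) (h1 : R ≤ N⟦Z⟧) (h2 : L ≤ N⟦Z⟧) : L ≤ C⟦Y⟧ := by
  have hcZ : (♯Z).Coprime (♯R) := coprime_of_le_left h.cY hZ.le
  have hcard : ♯(quo R Z) = ♯R := card_quo_of_disjoint h1 (inf_eq_bot_coprime hcZ.symm)
  have hq := coprime_quo_cent hZ.le h1 hcZ (Or.inl (sol_of_card_prime h.rp))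
  have k := ih _ (card_quo_lt ⟨hZ.le, hY⟩ h0) (quo R Z) (quo L Z) (quo Y Z) rfl
    ⟨hcard ▸ h.rp, hcard ▸ coprime_quo h.cY Z, hcard ▸ coprime_quo h.cL Z, quo_norm Z h.nY,
      quo_norm Z h.nL, quo_norm Z h.lY, by rw [← quo_commg h2 h2, h.perf],
      by rw [← quo_commg h2 h1, h.comm], by rw [← hq]; exact quo_cent Z h.cen⟩
  have k2 : ⁅Y, L⁆ ≤ Z := (quo_le_cent_iff hY h2).1 (cent_symm k)
  have k3 := h.sub ih hZ h1 h2
  exact cent_symm (commg_eq_bot.1 (H10.commutator_eq_bot_of_perfect h.perf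
    (commg_eq_bot.2 (k2.trans (cent_symm k3)))))

theorem Hyp.solv (h : Hyp R L Y) (hs : Group.IsSolvable Y) (h0 : Y ≠ ⊥)
    (hm : ∀ Z ≤ Y, Y ≤ N⟦Z⟧ → R ≤ N⟦Z⟧ → L ≤ N⟦Z⟧ → Z = ⊥ ∨ Z = Y) : L ≤ C⟦Y⟧ := by
  have hab : Y ≤ C⟦Y⟧ := by
    rcases hm ⁅Y, Y⁆ (der_le Y) (norm_der (le_norm_self Y)) (norm_der h.nY) (norm_der h.lY) with e | e
    · exact commg_eq_bot.1 e
    · exact absurd e (der_lt_of_sol hs h0).ne
  obtain ⟨p, hp, hne⟩ := exists_pCoreOf_ne_bot hs h0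
  haveI := Fact.mk hp
  have hP : IsPGroup p Y := by
    rcases hm _ (piCoreOf_le {p} Y) (norm_piCoreOf _ (le_norm_self Y)) (norm_piCoreOf _ h.nY)
      (norm_piCoreOf _ h.lY) with e | e
    · exact absurd e hne
    · rw [← e]; exact isPGroup_piCoreOf p Y
  rcases hm (Y ⊓ C⟦L⟧) inf_le_left (norm_of_cent (hab.trans (cent_anti inf_le_left)))
    (norm_inf_cent h.nY h.nL) (norm_inf_cent h.lY (le_norm_self L)) with e | e
  · have hf : Y ⊓ C⟦R⟧ = ⊥ := eq_bot_iff.2 (e ▸ le_inf inf_le_left (cent_symm h.cen))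
    have k := FV.thm_M p Y L R hP h.lY h.nY h.nL h.rp h.cL hf
    rw [h.comm, H24.pResidualOf_eq_self_of_perfect h.perf] at k
    rw [← H24.pResidualOf_eq_self_of_perfect (p := p) h.perf, H24.pResidualOf_eq_closure,
      closure_le]
    exact fun x hx => k.mem_of_coprime hx.1 hx.2
  · exact cent_symm (e ▸ inf_le_right)

theorem Hyp.nonsolv (h : Hyp R L Y) (ih : ∀ m < ♯Y, Tn.{u} m) (hs : ¬ Group.IsSolvable Y)
    (hm : ∀ Z ≤ Y, Y ≤ N⟦Z⟧ → R ≤ N⟦Z⟧ → L ≤ N⟦Z⟧ → Z = ⊥ ∨ Z = Y) : L ≤ C⟦Y⟧ := by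
  haveI : Fact (Nat.Prime 2) := ⟨Nat.prime_two⟩
  have sR : Group.IsSolvable R := sol_of_card_prime h.rp
  have hO : H10.OqOf 2 Y = ⊥ := by
    rw [H10.OqOf_def, map_pPrimeCore]
    rcases hm _ (piCoreOf_le {2}ᶜ Y) (norm_piCoreOf _ (le_norm_self Y)) (norm_piCoreOf _ h.nY)
      (norm_piCoreOf _ h.lY) with e | e
    · exact e
    · refine absurd (H10.oddSolv Y ?_) hs
      have := (isPi_compl_singleton_iff Nat.prime_two).1 (isPi_piCoreOf {2}ᶜ Y)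
      rw [e] at this
      exact Nat.not_even_iff_odd.1 (fun h2 => this (even_iff_two_dvd.1 h2))
  have key : ∀ S J : Subgroup X, SylowOf 2 S Y → ⁅J, J⁆ = J → J ≤ N⟦Y⟧ → J ≤ C⟦S⟧ → J ≤ C⟦Y⟧ :=
    fun S J hS h1 h2 h3 =>
      H10.oddSolv.le_centralizer hO (H1.isSylowIn_iff_isPiHallOf.2 hS) h1 h2 h3
  set M := Y ⊓ C⟦L⟧ with hM
  have hRM : R ≤ N⟦M⟧ := norm_inf_cent h.nY h.nL
  obtain ⟨S0, hS0, hRS0⟩ := exists_inv_sylow 2 hRM (coprime_of_le_left h.cY inf_le_left) (Or.inl sR)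
  have hLS0 : L ≤ C⟦S0⟧ := cent_symm (hS0.le.trans inf_le_right)
  by_cases h0 : S0 = ⊥
  swap
  · refine key S0 L (hS0.of_norm_le (hS0.le.trans inf_le_left) ?_) h.perf h.lY hLS0
    refine le_inf inf_le_left (cent_symm (h.sub ih (lt_of_le_of_ne inf_le_left fun e => ?_)
      (norm_inf_norm h.nY hRS0) (norm_inf_norm h.lY (norm_of_cent hLS0))))
    rcases hm S0 (hS0.le.trans inf_le_left) (e ▸ inf_le_right) hRS0 (norm_of_cent hLS0) with e2 | e2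
    · exact h0 e2
    · exact hs (e2 ▸ sol_of_pgroup hS0.isPGroup)
  obtain ⟨S, hS, hRS⟩ := exists_inv_sylow 2 h.nY h.cY (Or.inl sR)
  have hSR : S ⊓ C⟦R⟧ = ⊥ := by
    have h1 : S ⊓ C⟦R⟧ ≤ M := le_inf (inf_le_left.trans hS.le)
      (cent_symm (h.cen.trans (cent_anti (inf_le_inf_right _ hS.le))))
    have h2 := hS0.pgroup_card_dvd (hS.isPGroup.to_le inf_le_left) h1
    rw [h0, card_bot] at h2
    exact eq_bot_of_card (Nat.dvd_one.1 h2)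
  have hYn : Y ⊴ Y ⊔ L := ⟨le_sup_left, sup_le (le_norm_self Y) h.lY⟩
  have hfr := hS.frattini hYn
  obtain ⟨J, ⟨hRJ, hLJ⟩, hJ, hmin⟩ := H10.exists_minimal_of
    (Φ := fun J : Subgroup X => R ≤ N⟦J⟧ ∧ L ≤ J ⊔ Y) (U := (Y ⊔ L) ⊓ N⟦S⟧)
    ⟨norm_inf_norm (norm_sup h.nY h.nL) hRS, by rw [sup_comm, hfr]; exact le_sup_right⟩
  have hJY : J ≤ N⟦Y⟧ := (hJ.trans inf_le_left).trans hYn.2
  have hq : quo L Y ≤ quo J Y := (quo_le_quo_iff h.lY hJY).2 hLJ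
  have hJp : ⁅J, J⁆ = J := by
    refine hmin _ ⟨norm_der hRJ, (quo_le_quo_iff h.lY ((der_le J).trans hJY)).1 ?_⟩ (der_le J)
    rw [quo_commg hJY hJY, ← h.perf, quo_commg h.lY h.lY]
    exact commutator_mono hq hq
  have hJR : ⁅J, R⁆ = J := by
    refine hmin _ ⟨norm_commutator hRJ (le_norm_self R),
      (quo_le_quo_iff h.lY ((commg_le_left hRJ).trans hJY)).1 ?_⟩ (commg_le_left hRJ)
    rw [quo_commg hJY h.nY, ← h.comm, quo_commg h.lY h.nY]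
    exact commutator_mono hq le_rfl
  have hSY : S < Y := lt_of_le_of_ne hS.le fun e => hs (e ▸ sol_of_pgroup hS.isPGroup)
  have hJS : J ≤ C⟦S⟧ := ih _ (card_lt hSY) R J S rfl ⟨h.rp, coprime_of_le_left h.cY hS.le,
    coprime_of_le_left (coprime_sup_left h.cY h.cL (Or.inr h.lY)) (hJ.trans inf_le_left), hRS, hRJ,
    hJ.trans inf_le_right, hJp, hJR, by rw [hSR, cent_bot]; exact le_top⟩
  have hJC := key S J hS hJp hJY hJS
  exact inner h.rp h.nY h.cY h.nL h.perf h.cen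
    (hLJ.trans (sup_le (hJC.trans le_sup_right) le_sup_left))

end step

theorem tn (n : ℕ) : Tn.{u} n := by
  induction n using Nat.strong_induction_on with
  | _ n ih =>
  intro X _ _ R L Y hn h
  subst hn
  by_cases h0 : Y = ⊥
  · rw [h0, cent_bot]; exact le_top
  by_cases hm : ∀ Z ≤ Y, Y ≤ N⟦Z⟧ → R ≤ N⟦Z⟧ → L ≤ N⟦Z⟧ → Z = ⊥ ∨ Z = Y
  · by_cases hs : Group.IsSolvable Y
    · exact h.solv hs h0 hm
    · exact h.nonsolv ih hs hm
  · push Not at hm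
    obtain ⟨Z, h1, h2, h3, h4, h5, h6⟩ := hm
    exact h.quot ih (lt_of_le_of_ne h1 h6) h5 h2 h3 h4

/-- A perfect group `L = [L,R]` that centralizes `C_Y(R)` centralizes `Y`. -/
theorem Hyp.cent {X : Type*} [Group X] [Finite X] {R L Y : Subgroup X} (h : Hyp R L Y) :
    L ≤ C⟦Y⟧ := tn _ R L Y rfl h

end Cfsg.Agent.H25.FE
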