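import Cfsg.Agent.H25.FE1
import Cfsg.Agent.H10.Pump

/-! Families of commuting quasisimple subgroups invariant under `R C_G(R)` lie in the layer. -/

set_option autoImplicit false

namespace Cfsg.Agent.H25.FE

open Subgroup Cfsg.Agent.H20 Cfsg.Agent.H21
open scoped commutatorElement

variable {X : Type*} [Group X] [Finite X] {G R Y K J : Subgroup X} {S : Set (Subgroup X)}

/-- Pairwise commuting quasisimple subgroups. -/
structure Com (S : Set (Subgroup X)) : Prop where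
  qs : ∀ K ∈ S, IsQuasisimple K
  com : ∀ K ∈ S, ∀ L ∈ S, K ≠ L → ⁅K, L⁆ = ⊥

omit [Finite X] in
theorem Com.mono (h : Com S) {T : Set (Subgroup X)} (hT : T ⊆ S) : Com T :=
  ⟨fun K hK => h.qs K (hT hK), fun K hK L hL => h.com K (hT hK) L (hT hL)⟩

omit [Finite X] in
theorem Com.norm (h : Com S) (hK : K ∈ S) : sSup S ≤ N⟦K⟧ := sSup_le fun L hL => by
  by_cases e : L = K
  · exact e ▸ le_norm_self L
  · exact norm_of_cent (commg_eq_bot.1 (h.com L hL K hK e))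

omit [Finite X] in
theorem Com.compOf (h : Com S) (hK : K ∈ S) : H10.CompOf K (sSup S) :=
  ⟨.of_normal (le_sSup hK) (h.norm hK), h.qs K hK⟩

omit [Finite X] in
theorem Com.perfect (h : Com S) : ⁅sSup S, sSup S⁆ = sSup S :=
  le_antisymm (der_le _) (sSup_le fun K hK => (H10.QS.perfect (h.qs K hK)).ge.trans
    (commutator_mono (le_sSup hK) (le_sSup hK)))

omit [Finite X] in
/-- `[U,K] ≤ W ⊓ Y` with `K ≰ Y` forces `[U,K] = 1`. -/
theorem Com.cent (h : Com S) (hK : K ∈ S) {U : Subgroup X} (hKY : K ≤ N⟦Y⟧)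
    (h1 : ⁅U, K⁆ ≤ sSup S ⊓ Y) (hn : ¬ K ≤ Y) : U ≤ C⟦K⟧ := by
  rcases (h.compOf hK).le_or_of_normalizes (U := sSup S ⊓ Y) inf_le_left
    (norm_inf (norm_of_le (le_sSup hK)) hKY) with e | e
  · exact absurd (e.trans inf_le_right) hn
  · refine commg_eq_bot.1 (H10.commutator_eq_bot_of_perfect (H10.QS.perfect (h.qs K hK)) ?_)
    exact commg_eq_bot.2 (h1.trans (cent_symm (commg_eq_bot.1 e)))

/-- The setting: `S` is invariant under `R C_G(R)` and no member centralizes `R`. -/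
structure Fam (G R : Subgroup X) (S : Set (Subgroup X)) : Prop extends Com S where
  rp : (♯R).Prime
  cop : (♯G).Coprime (♯R)
  nG : R ≤ N⟦G⟧
  le : ∀ K ∈ S, K ≤ G
  inv : ∀ g ∈ R ⊔ (G ⊓ C⟦R⟧), ∀ K ∈ S, cj g K ∈ S
  nc : ∀ K ∈ S, ¬ K ≤ C⟦R⟧

theorem Fam.le_or (h : Fam G R S) (hY : Y ≤ G) (hRY : R ≤ N⟦Y⟧) (hn : ∀ K ∈ S, K ≤ N⟦Y⟧)
    (hK : K ∈ S) : K ≤ Y ∨ K ≤ C⟦Y⟧ := by
  by_cases hKY : K ≤ Y
  · exact Or.inl hKY
  right
  set T : Set (Subgroup X) := {K | K ∈ S ∧ ¬ K ≤ Y} with hT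
  have hc : Com T := h.toCom.mono fun _ h => h.1
  have hRL : R ≤ N⟦sSup T⟧ := norm_sSup_of_cj fun x hx A hA =>
    ⟨h.inv x ((le_sup_left : R ≤ _) hx) A hA.1, fun e => hA.2 (by
      rw [cj_le_iff, cj_eq_of_mem_norm (hRY (R.inv_mem hx))] at e; exact e)⟩
  have k : sSup T ≤ C⟦Y⟧ := by
    refine Hyp.cent (R := R) ⟨h.rp, coprime_of_le_left h.cop hY,
      coprime_of_le_left h.cop (sSup_le fun A hA => h.le A hA.1), hRY, hRL,
      sSup_le fun A hA => hn A hA.1, hc.perfect, le_antisymm (commg_le_left hRL) ?_, ?_⟩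
    · refine sSup_le fun A hA => ?_
      by_contra hne
      refine h.nc A hA.1 (cent_symm (hc.cent (Y := ⁅sSup T, R⁆) hA
        ((le_sSup hA).trans (le_sup_left.trans (sup_le_norm_commg _ _))) (le_inf ?_ ?_) hne))
      · exact (commutator_mono le_rfl (le_sSup hA)).trans (commg_le_right hRL)
      · rw [commutator_comm]; exact commutator_mono (le_sSup hA) le_rfl
    · refine sSup_le fun A hA => cent_symm (h.toCom.cent hA.1 (hn A hA.1) (le_inf ?_ ?_) hA.2)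
      · refine (commutator_mono le_rfl (le_sSup hA.1)).trans (commg_le_right ?_)
        exact norm_sSup_of_cj fun x hx B hB =>
          h.inv x ((le_sup_right : G ⊓ C⟦R⟧ ≤ _) ⟨hY hx.1, hx.2⟩) B hB
      · exact (commutator_mono inf_le_left le_rfl).trans (commg_le_left (hn A hA.1))
  exact (le_sSup (show K ∈ T from ⟨hK, hKY⟩)).trans k

theorem Fam.le_layer (h : Fam G R S) (hK : K ∈ S) : K ≤ H10.LayOf G := by
  rcases h.le_or H10.FstarOf_le (H10.le_normalizer_FstarOf h.nG)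
    (fun A hA => H10.le_normalizer_FstarOf (norm_of_le (h.le A hA))) hK with e | e
  · rw [H10.FstarOf_eq] at e
    exact H10.le_of_perfect_of_le_sup_solvable (H10.QS.perfect (h.qs K hK)) e
      (H10.le_normalizer_LayOf (norm_of_le H10.FitOf_le)) H10.FitOf_solvable
  · exact absurd ((le_inf (h.le K hK) e).trans (H10.inf_centralizer_FstarOf_le_FitOf G))
      (H10.QS.not_le_solvable (h.qs K hK) H10.FitOf_solvable)

omit [Finite X] in
theorem norm_cent_self (G R : Subgroup X) : R ⊔ (G ⊓ C⟦R⟧) ≤ N⟦C⟦R⟧⟧ :=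
  sup_le (norm_cent (le_norm_self R)) (norm_of_le inf_le_right)

theorem layer_le {H : Subgroup X} (rp : (♯R).Prime) (cop : (♯G).Coprime (♯R)) (nG : R ≤ N⟦G⟧)
    (hHG : H ≤ G) (hH : R ⊔ (G ⊓ C⟦R⟧) ≤ N⟦H⟧) (hHR : ⁅H, R⁆ = H) :
    H10.LayOf H ≤ H10.LayOf G := by
  have hF : Fam G R {K | H10.CompOf K H ∧ ¬ K ≤ C⟦R⟧} :=
    { qs := fun K hK => hK.1.qs
      com := fun K hK L hL => hK.1.commutator_eq_bot hL.1
      rp := rp, cop := cop, nG := nG
      le := fun K hK => hK.1.le.trans hHG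
      inv := fun g hg K hK => ⟨hK.1.conj (hH hg), fun e => hK.2 (by
        rw [cj_le_iff, cj_eq_of_mem_norm (norm_cent_self G R (inv_mem hg))] at e; exact e)⟩
      nc := fun K hK => hK.2 }
  set T : Set (Subgroup X) := {K | H10.CompOf K H ∧ ¬ K ≤ H10.LayOf G} with hT
  have h1 : R ≤ C⟦sSup T⟧ := cent_symm (sSup_le fun K hK => by
    by_contra hn
    exact hK.2 (hF.le_layer ⟨hK.1, hn⟩))
  have h2 : H ≤ N⟦sSup T⟧ := norm_sSup_of_cj fun x hx A hA =>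
    ⟨hA.1.conj (le_norm_self H hx), fun e => hA.2 (by
      rw [cj_le_iff, cj_eq_of_mem_norm
        (H10.le_normalizer_LayOf (norm_of_le hHG) (H.inv_mem hx))] at e; exact e)⟩
  have h3 : H ≤ C⟦sSup T⟧ := hHR.ge.trans
    ((commutator_mono le_rfl h1).trans (commg_le_right (norm_cent h2)))
  refine H10.LayOf_le_iff.2 fun K hK => ?_
  by_contra hn
  exact H10.QS.not_le_centralizer hK.qs
    (hK.le.trans (h3.trans (cent_anti (le_sSup (show K ∈ T from ⟨hK, hn⟩)))))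

omit [Finite X] in
theorem comp_le_or {U : Subgroup X} (hJ : IsQuasisimple J) (hU : U ≤ J ⊔ C⟦J⟧) (D : Subgroup X)
    (hD : J ≤ D ⊔ C⟦J⟧) (h1 : D ≤ N⟦U⟧) (h2 : D ≤ N⟦J⟧) (hn : ¬ U ≤ C⟦J⟧) : J ≤ U ⊔ C⟦J⟧ := by
  have hc : H10.CompOf J (J ⊔ C⟦J⟧) :=
    ⟨.of_normal le_sup_left (sup_le (le_norm_self J) (cent_le_norm J)), hJ⟩
  rcases hc.le_or_of_normalizes (U := U ⊔ C⟦J⟧) (sup_le hU le_sup_right)
    (hD.trans (sup_le (norm_sup h1 (norm_cent h2)) (norm_of_le le_sup_right))) with e | e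
  · exact e
  · exact absurd (cent_symm ((commg_eq_bot.1 e).trans (cent_anti le_sup_left))) hn

theorem lay_le_sup (hJ : H10.CompOf J G) : H10.LayOf G ≤ J ⊔ C⟦J⟧ :=
  hJ.LayOf_eq_sup_centralizer.le.trans (sup_le_sup_left inf_le_left _)

section nn
variable (h : Fam G R S) (hJ : H10.CompOf J G) (hR : ¬ R ≤ N⟦J⟧)
include h hJ hR

theorem Fam.diag : J ≤ (H10.orbSup J R ⊓ C⟦R⟧) ⊔ C⟦J⟧ := by
  refine (hJ.diag h.nG ?_).2.trans (sup_le_sup_right (der_le _) _)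
  rcases prime_inf_eq_bot_or_le (A := N⟦J⟧) h.rp with e | e
  · exact e.le.trans bot_le
  · exact absurd e hR

theorem Fam.onto (hK : K ∈ S) (hn : ¬ K ≤ C⟦J⟧) : J ≤ K ⊔ C⟦J⟧ := by
  have hW : sSup S ≤ H10.LayOf G := sSup_le fun A hA => h.le_layer hA
  have hD : H10.orbSup J R ≤ H10.LayOf G := hJ.orbSup_le_LayOf h.nG
  have h1 : J ≤ sSup S ⊔ C⟦J⟧ := by
    refine comp_le_or hJ.qs (hW.trans (lay_le_sup hJ)) _ (h.diag hJ hR) ?_
      (inf_le_left.trans (hD.trans hJ.LayOf_le_normalizer)) fun e => hn ((le_sSup hK).trans e)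
    exact norm_sSup_of_cj fun x hx B hB =>
      h.inv x ((le_sup_right : G ⊓ C⟦R⟧ ≤ _) ⟨H10.LayOf_le (hD hx.1), hx.2⟩) B hB
  exact comp_le_or hJ.qs ((h.le_layer hK).trans (lay_le_sup hJ)) _ h1 (h.toCom.norm hK)
    (hW.trans hJ.LayOf_le_normalizer) hn

theorem Fam.uniq {L : Subgroup X} (hK : K ∈ S) (hn : ¬ K ≤ C⟦J⟧) (hL : L ∈ S)
    (hn' : ¬ L ≤ C⟦J⟧) : K = L := by
  by_contra hne
  have h1 := h.onto hJ hR hK hn
  have h2 := h.onto hJ hR hL hn'
  have nK : K ≤ N⟦C⟦J⟧⟧ := norm_cent ((h.le_layer hK).trans hJ.LayOf_le_normalizer)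
  have nL : L ≤ N⟦C⟦J⟧⟧ := norm_cent ((h.le_layer hL).trans hJ.LayOf_le_normalizer)
  refine H10.QS.not_le_centralizer hJ.qs (hJ.perfect.ge.trans ((commutator_mono h1 h2).trans ?_))
  refine commg_sup_left_le nK (le_norm_self _) ?_ (commg_le_left (sup_le nL (le_norm_self _)))
  refine commg_sup_right_le nL (le_norm_self _) ?_ (commg_le_right nK)
  rw [h.com K hK L hL hne]; exact bot_le

theorem Fam.eq_comp (hK : K ∈ S) (hn : ¬ K ≤ C⟦J⟧) (hKY : K ≤ H10.orbSup J R) : K = J := by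
  have hKp := H10.QS.perfect (h.qs K hK)
  have hKJ : K ≤ N⟦J⟧ := (h.le_layer hK).trans hJ.LayOf_le_normalizer
  have hD : H10.orbSup J R ≤ H10.LayOf G := hJ.orbSup_le_LayOf h.nG
  by_cases hRK : R ≤ N⟦K⟧
  · exfalso
    set U := K ⊓ C⟦R⟧ with hU
    have hDK : H10.orbSup J R ⊓ C⟦R⟧ ≤ N⟦K⟧ := fun d hd => by
      refine mem_norm_iff_cj.2 (h.uniq hJ hR
        (h.inv d ((le_sup_right : G ⊓ C⟦R⟧ ≤ _) ⟨H10.LayOf_le (hD hd.1), hd.2⟩) K hK) ?_ hK hn)
      intro e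
      rw [cj_le_iff, cj_eq_of_mem_norm
        (norm_cent (hD.trans hJ.LayOf_le_normalizer) (inv_mem hd.1))] at e
      exact hn e
    have hUJ : ¬ U ≤ C⟦J⟧ := fun e => H10.QS.not_solvable (h.qs K hK)
      (sol_of_cent_le h.rp hRK (coprime_of_le_left h.cop (h.le K hK))
        (((le_inf inf_le_right e).trans H10.inf_centralizer_le_centralizer_orbSup).trans
          (cent_anti hKY)))
    have h1 : J ≤ U ⊔ C⟦J⟧ := comp_le_or hJ.qs
      (inf_le_left.trans ((h.le_layer hK).trans (lay_le_sup hJ))) _ (h.diag hJ hR)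
      (norm_inf hDK (norm_of_le inf_le_right))
      (inf_le_left.trans (hD.trans hJ.LayOf_le_normalizer)) hUJ
    have h2 : K ≤ U ⊔ (C⟦J⟧ ⊓ K) := by
      rw [← modular_left (Or.inl (norm_cent (inf_le_left.trans hKJ))) inf_le_left]
      exact le_inf ((h.le_layer hK).trans ((lay_le_sup hJ).trans (sup_le h1 le_sup_right))) le_rfl
    have h3 : C⟦J⟧ ⊓ K ≤ K ⊓ C⟦K⟧ := by
      rcases H10.QS.normal_cases (h.qs K hK) (N := C⟦J⟧ ⊓ K) inf_le_right
        (norm_inf (norm_cent hKJ) (le_norm_self K)) with e | e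
      · exact le_inf inf_le_right (commg_eq_bot.1 e)
      · exact absurd (e.ge.trans inf_le_left) hn
    exact h.nc K hK ((H10.le_of_perfect_of_le_sup_solvable hKp (h2.trans (sup_le_sup_left h3 _))
      (norm_of_cent (inf_le_right.trans (cent_anti inf_le_left)))
      (sol_of_comm (comm_center K))).trans inf_le_right)
  · set B := sSup {A | H10.CompOf A G ∧ A ≠ J ∧ K ≤ C⟦A⟧} with hB
    have hJB : J ≤ C⟦B⟧ := cent_symm (sSup_le fun A hA =>
      commg_eq_bot.1 (hA.1.commutator_eq_bot hJ hA.2.1))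
    have hKB : K ≤ C⟦B⟧ := cent_symm (sSup_le fun A hA => cent_symm hA.2.2)
    have h1 : H10.orbSup J R ≤ J ⊔ B := H10.orbSup_le_iff.2 fun a ha => by
      by_cases e : cj a J = J
      · exact e.le.trans le_sup_left
      refine le_trans (le_sSup (show cj a J ∈ {A | H10.CompOf A G ∧ A ≠ J ∧ K ≤ C⟦A⟧} from
        ⟨hJ.conj (h.nG ha), e, ?_⟩)) le_sup_right
      by_contra hc
      have h2 : cj a⁻¹ K = K := by
        refine h.uniq hJ hR (h.inv _ ((le_sup_left : R ≤ _) (R.inv_mem ha)) K hK) (fun e2 => hc ?_)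
          hK hn
        have := cent_cj a e2
        rwa [cj_cj_inv] at this
      rcases prime_inf_eq_bot_or_le (A := N⟦K⟧) h.rp with e3 | e3
      · have : a⁻¹ ∈ R ⊓ N⟦K⟧ := ⟨R.inv_mem ha, mem_norm_iff_cj.2 h2⟩
        rw [e3, mem_bot, inv_eq_one] at this
        exact e (by rw [this, cj_one])
      · exact hRK e3
    have h2 : K ≤ J := by
      refine H10.le_of_perfect_of_le_sup_solvable hKp (S := B ⊓ C⟦B⟧) ?_
        (norm_of_cent (inf_le_left.trans (cent_symm hJB))) (sol_of_comm (comm_center B))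
      rw [← modular_left (Or.inl (norm_of_cent hJB)) hJB]
      exact le_inf (hKY.trans h1) hKB
    refine le_antisymm h2 (H10.le_of_perfect_of_le_sup_solvable hJ.perfect (S := J ⊓ C⟦J⟧) ?_
      (norm_of_cent (inf_le_right.trans (cent_anti h2))) (sol_of_comm (comm_center J)))
    rw [inf_comm, ← modular_left (Or.inl (norm_cent hKJ)) h2]
    exact le_inf (h.onto hJ hR hK hn) le_rfl

end nn

theorem Fam.tri (h : Fam G R S) (hK : K ∈ S) :
    H10.CompOf K G ∨ ∃ J, H10.CompOf J G ∧ R ≤ N⟦J⟧ ∧ K ≤ J := by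
  obtain ⟨J, hJ, hn⟩ := H10.exists_compOf_not_commute (H10.QS.perfect (h.qs K hK))
    (H10.QS.ne_bot (h.qs K hK)) (h.le_layer hK)
  have hD : H10.orbSup J R ≤ H10.LayOf G := hJ.orbSup_le_LayOf h.nG
  have hKY : K ≤ H10.orbSup J R := by
    refine (h.le_or (hD.trans H10.LayOf_le) H10.le_normalizer_orbSup (fun A hA => ?_) hK).resolve_right
      fun e => hn (e.trans (cent_anti H10.le_orbSup))
    exact (h.le_layer hA).trans (norm_iSup fun u => (hJ.conj (h.nG u.2)).LayOf_le_normalizer)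
  by_cases hR : R ≤ N⟦J⟧
  · exact Or.inr ⟨J, hJ, hR, H10.orbSup_eq_of_le_normalizer hR ▸ hKY⟩
  · exact Or.inl (h.eq_comp hJ hR hK hn hKY ▸ hJ)

theorem trichotomy (rp : (♯R).Prime) (cop : (♯G).Coprime (♯R)) (nG : R ≤ N⟦G⟧) (hKG : K ≤ G)
    (hq : IsQuasisimple K) (hc : ∀ g ∈ R ⊔ (G ⊓ C⟦R⟧), cj g K ≠ K → ⁅K, cj g K⁆ = ⊥) :
    H10.CompOf K (G ⊓ C⟦R⟧) ∨ H10.CompOf K G ∨ ∃ J, H10.CompOf J G ∧ R ≤ N⟦J⟧ ∧ K ≤ J := by
  set A := R ⊔ (G ⊓ C⟦R⟧) with hA
  set T : Set (Subgroup X) := {L | ∃ g ∈ A, cj g K = L} with hT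
  have hKT : K ∈ T := ⟨1, A.one_mem, cj_one K⟩
  have hinv : ∀ g ∈ A, ∀ L ∈ T, cj g L ∈ T := by
    rintro g hg _ ⟨a, ha, rfl⟩
    exact ⟨g * a, A.mul_mem hg ha, cj_mul g a K⟩
  have hAG : A ≤ N⟦G⟧ := sup_le nG (norm_of_le inf_le_left)
  have hcom : Com T := by
    refine ⟨?_, ?_⟩
    · rintro _ ⟨a, -, rfl⟩
      exact H10.QS.map_of_injective hq (MulAut.conj a).injective
    · rintro _ ⟨a, ha, rfl⟩ _ ⟨b, hb, rfl⟩ hne
      have := hc (a⁻¹ * b) (A.mul_mem (A.inv_mem ha) hb) fun e => hne (by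
        rw [cj_mul, cj_eq_iff, inv_inv] at e; exact e.symm)
      rw [← cj_eq_bot (g := a), cj_commutator, cj_mul, cj_cj_inv] at this
      exact this
  by_cases hKR : K ≤ C⟦R⟧
  · left
    refine (hcom.compOf hKT).trans (.of_normal (sSup_le ?_) (norm_sSup_of_cj fun x hx =>
      hinv x ((le_sup_right : G ⊓ C⟦R⟧ ≤ _) hx)))
    rintro _ ⟨a, ha, rfl⟩
    exact cj_le_of_mem_norm (norm_inf hAG (norm_cent_self G R) ha) (le_inf hKG hKR)
  · right
    refine Fam.tri (S := T) ⟨hcom, rp, cop, nG, ?_, hinv, ?_⟩ hKT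
    · rintro _ ⟨a, ha, rfl⟩
      exact cj_le_of_mem_norm (hAG ha) hKG
    · rintro _ ⟨a, ha, rfl⟩ e
      rw [cj_le_iff, cj_eq_of_mem_norm (norm_cent_self G R (inv_mem ha))] at e
      exact hKR e

end Cfsg.Agent.H25.FE
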