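import Mathlib
import Cfsg.Agent.H8.Deg5
import Cfsg.Agent.H2.RDeg

/-!
Relative degree sets: twisting by linear characters, the Taketa argument for p-parts.
-/

set_option autoImplicit false
set_option linter.dupNamespace false

namespace Cfsg.Agent.H25.Gar

open Cfsg Cfsg.Agent.H4 Cfsg.Agent.H5 Cfsg.Agent.H8 Cfsg.Agent.H2.RDeg Cfsg.Agent.H3
open scoped commutatorElement

noncomputable scoped instance (priority := high) finF (H : Type*) [Group H] [Finite H] :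
    Fintype H := Fintype.ofFinite H

section arith

theorem exists_split {o d : ℕ} (h : o.Coprime d) (n : ℕ) (hn : n ≠ 0) :
    ∃ a b, n = a * b ∧ a.Coprime d ∧ o.Coprime b := by
  induction n using induction_on_primes with
  | zero => exact absurd rfl hn
  | one => exact ⟨1, 1, rfl, by simp, by simp⟩
  | prime_mul p n hp ih =>
    obtain ⟨a, b, rfl, h1, h2⟩ := ih (by rintro rfl; simp at hn)
    by_cases hpo : p ∣ o
    · exact ⟨p * a, b, by ring, Nat.Coprime.mul_left (h.coprime_dvd_left hpo) h1, h2⟩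
    · exact ⟨a, p * b, by ring, h1,
        Nat.Coprime.mul_right ((hp.coprime_iff_not_dvd.2 hpo).symm) h2⟩

theorem exists_dvd_add {a d : ℕ} (h : a.Coprime d) (ha : a ≠ 0) : ∃ u, a ∣ u * d + 1 := by
  obtain ⟨u, hu⟩ : ∃ u, d * u ≡ 1 [MOD a] := by
    rcases Nat.lt_or_ge 1 a with h1 | h1
    · obtain ⟨m, -, hm⟩ := Nat.exists_mul_mod_eq_one_of_coprime h.symm h1
      exact ⟨m, by rw [Nat.ModEq, hm, Nat.mod_eq_of_lt h1]⟩
    · obtain rfl : a = 1 := by omega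
      exact ⟨0, Nat.modEq_one⟩
  refine ⟨(a - 1) * u, (Nat.modEq_zero_iff_dvd).1 ?_⟩
  have h1 : (a - 1) * u * d + 1 ≡ (a - 1) * 1 + 1 [MOD a] := by
    rw [mul_assoc, mul_comm u d]; exact (hu.mul_left _).add_right _
  refine h1.trans ?_
  rw [mul_one, Nat.sub_add_cancel (Nat.pos_of_ne_zero ha)]
  exact Nat.modEq_zero_iff_dvd.2 dvd_rfl

end arith

section twist
variable {N G : Type*} [Group N] [Group G] [Finite N] [Finite G]

/-- `θ` has determinant `δ * lam ^ d` with `δ` of order prime to the order of `lam`. -/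
structure Tw (θ : N → ℂ) (d : ℕ) (lam : N →* ℂˣ) (o : ℕ) : Prop where
  irr : IsIrrCharacter N θ
  deg : θ 1 = d
  pow : lam ^ o = 1
  cop : o.Coprime d
  det : ∃ (δ : N →* ℂˣ) (j : ℕ), o.Coprime j ∧ δ ^ j = 1 ∧ detHom θ = δ * lam ^ d

theorem tw_alg {A : Type*} [CommGroup A] {x y : A} {a b u d : ℕ} (h : x ^ (a * b) = 1)
    (hu : a ∣ u * d + 1) : (x ^ (u * d + 1)) ^ b = 1 ∧ (x ^ u * y) ^ d * x = x ^ (u * d + 1) * y ^ d := by
  constructor
  · obtain ⟨k, hk⟩ := hu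
    rw [hk, ← pow_mul, show a * k * b = a * b * k by ring, pow_mul, h, one_pow]
  · rw [mul_pow, ← pow_mul, pow_succ]; exact mul_right_comm _ _ _

theorem exists_tw {θ : N → ℂ} (hθ : IsIrrCharacter N θ) {d : ℕ} (hd : θ 1 = d) {lam : N →* ℂˣ}
    {o : ℕ} (ho : lam ^ o = 1) (hc : o.Coprime d) : ∃ ν : N →* ℂˣ, Tw (lin ν * θ) d lam o := by
  obtain ⟨a, b, hab, h1, h2⟩ := exists_split hc (Nat.card N) Nat.card_pos.ne'
  obtain ⟨u, hu⟩ := exists_dvd_add h1 (by rintro rfl; simp at hab)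
  have h3 := tw_alg (A := N →* ℂˣ) (x := detHom θ) (y := lam) (hab ▸ linear_pow_card _) hu
  refine ⟨detHom θ ^ u * lam, lin_mul_irr hθ _, by simp [hd, lin], ho, hc, _, b, h2, h3.1, ?_⟩
  rw [detHom_linear_mul _ hθ.isCharacter hd]
  exact h3.2

theorem tw_self {lam : N →* ℂˣ} {o : ℕ} (ho : lam ^ o = 1) : Tw (lin lam) 1 lam o :=
  ⟨isIrrCharacter_linear lam, by simp, ho, by simp, 1, 1, by simp, by ext; simp, by
    rw [detHom_linear]; ext; simp⟩

theorem detHom_cj (E : NEmb N G) {θ : N → ℂ} (hθ : IsCharacter N θ) (g : G) (n : N) :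
    detHom (E.cj θ g) n = detHom θ (E.act g n) :=
  DFunLike.congr_fun (detHom_comp hθ (E.actEquiv g).toMonoidHom) n

variable {θ : N → ℂ} {d o : ℕ} {lam : N →* ℂˣ}

theorem Tw.det_pow (h : Tw θ d lam o) : ∃ j, o.Coprime j ∧ ∀ n, detHom θ n ^ j = lam n ^ (d * j) := by
  obtain ⟨δ, j, h1, h2, h3⟩ := h.det
  refine ⟨j, h1, fun n => ?_⟩
  have h4 : δ n ^ j = 1 := by rw [← MonoidHom.pow_apply, h2]; rfl
  rw [h3, MonoidHom.mul_apply, mul_pow, h4, one_mul, MonoidHom.pow_apply, pow_mul]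

theorem Tw.inertia_le (h : Tw θ d lam o) (E : NEmb N G) : E.inertia θ ≤ E.inertia (lin lam) := by
  intro g hg
  obtain ⟨j, h1, h2⟩ := h.det_pow
  refine E.mem_inertia.2 fun n => congrArg Units.val ?_
  have h3 := detHom_cj E h.irr.isCharacter g n
  rw [E.mem_inertia_iff_cj.1 hg] at h3
  have h4 : ∀ m, lam m ^ o = 1 := fun m => by rw [← MonoidHom.pow_apply, h.pow]; rfl
  rw [← mul_inv_eq_one]
  refine eq_one_of_coprime (h.cop.mul_right h1) ?_ ?_
  · rw [mul_pow, inv_pow, h4, h4]; simp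
  · rw [mul_pow, inv_pow, ← h2, ← h2, h3]; simp

theorem Tw.ext0 (h : Tw θ d lam o) (E : NEmb N G) (hinv : ∀ g n, lam (E.act g n) = lam n) {c : ℕ}
    (hc : Over E c θ) (hoc : o.Coprime c) : lam ∈ E.resL.range := by
  obtain ⟨χ, h1, hc, h2⟩ := hc
  obtain ⟨e, he⟩ := (h1.isCharacter.comp E.f).classInner_nat h.irr.isCharacter
  have h3 := E.clifford_degree h1 h.irr h2
  have h4 := E.clifford h1 h.irr h2
  rw [he] at h4
  rw [he, hc, h.deg] at h3
  have h3' : c = e * (E.inertia θ).index * d := by exact_mod_cast h3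
  obtain ⟨j, h5, h6⟩ := h.det_pow
  have h7 : (detHom χ).comp E.f = (∏ φ ∈ E.orbit θ, detHom φ) ^ e := by
    rw [← detHom_sum _ (fun φ => φ) (orbit_char h.irr),
      ← detHom_natCast_smul (isCharacter_sum _ _ (orbit_char h.irr)), ← h4,
      detHom_comp h1.isCharacter]
  refine NEmb.mem_of_coprime _ (hoc.mul_right h5) (by rw [h.pow]; exact one_mem _) ?_
  refine E.mem_resL_range.2 ⟨detHom χ ^ j, fun n => ?_⟩
  have h8 := DFunLike.congr_fun h7 n
  rw [MonoidHom.comp_apply, MonoidHom.pow_apply, MonoidHom.finset_prod_apply] at h8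
  rw [MonoidHom.pow_apply, MonoidHom.pow_apply, h8, ← pow_mul, mul_comm e j, pow_mul,
    ← Finset.prod_pow, Finset.prod_congr rfl (g := fun _ => lam n ^ (d * j)) (fun φ hφ => by
      obtain ⟨g, rfl⟩ := E.mem_orbit.1 hφ
      rw [detHom_cj E h.irr.isCharacter, h6, hinv]), Finset.prod_const, E.card_orbit, ← pow_mul,
    ← pow_mul, h3']
  congr 1; ring

theorem over_dvd {E : NEmb N G} (hθ : IsIrrCharacter N θ) (hd : θ 1 = d) {c : ℕ}
    (h : Over E c θ) : (E.inertia θ).index * d ∣ c := by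
  obtain ⟨χ, h1, hc, h2⟩ := h
  obtain ⟨e, he⟩ := (h1.isCharacter.comp E.f).classInner_nat hθ.isCharacter
  have h3 := E.clifford_degree h1 hθ h2
  rw [he, hc, hd] at h3
  have h3' : c = e * (E.inertia θ).index * d := by exact_mod_cast h3
  exact ⟨e, by rw [h3']; ring⟩

theorem over_deg_dvd {E : NEmb N G} (hθ : IsIrrCharacter N θ) (hd : θ 1 = d) {c : ℕ}
    (h : Over E c θ) : d ∣ c := (Dvd.intro_left _ rfl).trans (over_dvd hθ hd h)

theorem over_restrict {E : NEmb N G} (hθ : IsIrrCharacter N θ) {c : ℕ} (h : Over E c θ)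
    (T : Subgroup G) (hNT : ∀ n, E.f n ∈ T) (hT : E.inertia θ ≤ T) :
    ∃ c', c = T.index * c' ∧ Over (E.restrict T hNT) c' θ := by
  obtain ⟨χ, h1, hc, h2⟩ := h
  obtain ⟨ψ, h3, h4, h5⟩ := E.exists_indFun_eq_of_inertia_le hθ T hNT hT h1 h2
  obtain ⟨c', -, hc'⟩ := h3.exists_degree
  refine ⟨c', ?_, ψ, h3, hc', ?_⟩
  · rw [← h4, indFun_one, hc'] at hc; exact_mod_cast hc.symm
  · change classInner (fun n => ψ ⟨E.f n, hNT n⟩) θ ≠ 0
    rw [h5]; exact h2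

theorem over_mem_cd {E : NEmb N G} {c : ℕ} (h : Over E c θ) : c ∈ charDegrees G := by
  obtain ⟨χ, h1, hc, -⟩ := h
  exact mem_cd_of h1 hc

theorem exists_not_dvd {χ : G → ℂ} (hχ : IsCharacter G χ) {n z : ℕ} (hn : χ 1 = n) (hz : ¬ z ∣ n) :
    ∃ (ψ : G → ℂ) (m : ℕ), IsIrrCharacter G ψ ∧ ψ 1 = m ∧ ¬ z ∣ m ∧ classInner χ ψ ≠ 0 := by
  by_contra h
  push Not at h
  apply hz
  rw [← charDegree_eq_of hn, charDegree_eq_sum_nin hχ]
  refine Finset.dvd_sum fun η _ => ?_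
  by_cases h1 : nin χ η = 0
  · simp [h1]
  · replace h1 := (nin_ne_zero_iff hχ η.2.isCharacter).1 h1
    refine Dvd.dvd.mul_left (by_contra fun h2 => h1 (h _ _ η.2 ?_ h2)) _
    exact (irr_coe_charDegree η).symm

end twist

section normal
variable {G : Type*} [Group G] [Finite G]

/-- degree `c` occurs over `θ` -/
abbrev Ov (N : Subgroup G) [N.Normal] (c : ℕ) (θ : N → ℂ) : Prop := Over (NEmb.ofNormal N) c θ

/-- inertia group -/
abbrev In (N : Subgroup G) [N.Normal] (θ : N → ℂ) : Subgroup G := (NEmb.ofNormal N).inertia θ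

/-- `η` is a constituent of the restriction of `θ` -/
abbrev Un {M N : Subgroup G} [M.Normal] (h : M ≤ N) (θ : N → ℂ) (η : M → ℂ) : Prop :=
  classInner (fun m => θ ((NEmb.ofLeNormal h).f m)) η ≠ 0

variable {M N : Subgroup G} [M.Normal] [N.Normal] {c d o : ℕ} {θ : N → ℂ} {η : M → ℂ}

theorem Ov.down (h : M ≤ N) (hθ : IsIrrCharacter N θ) (hη : IsIrrCharacter M η) (h1 : Ov N c θ)
    (h2 : Un h θ η) : Ov M c η := by
  obtain ⟨χ, hχ, hc, h3⟩ := h1
  exact ⟨χ, hχ, hc, inner_comp_ne_zero_of_constituent (NEmb.ofLeNormal h).f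
    (hχ.isCharacter.comp (NEmb.ofNormal N).f) hθ h3 hη.isCharacter h2⟩

theorem Ov.up (h : M ≤ N) (h1 : Ov M c η) :
    ∃ θ : N → ℂ, IsIrrCharacter N θ ∧ Ov N c θ ∧ Un h θ η := by
  obtain ⟨χ, hχ, hc, h3⟩ := h1
  obtain ⟨θ, h4, h5, h6⟩ := exists_constituent_inner_comp_ne_zero (NEmb.ofLeNormal h).f
    (hχ.isCharacter.comp (NEmb.ofNormal N).f).isClassFunction h3
  exact ⟨θ, h4, ⟨χ, hχ, hc, h5⟩, h6⟩

omit [N.Normal] in
theorem exists_un (h : M ≤ N) (hθ : IsIrrCharacter N θ) :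
    ∃ η : M → ℂ, IsIrrCharacter M η ∧ Un h θ η := exists_irr_under_hom _ hθ

theorem le_In (hθ : IsIrrCharacter N θ) : N ≤ In N θ := fun n hn =>
  (NEmb.ofNormal N).f_mem_inertia hθ.isClassFunction ⟨n, hn⟩

omit [N.Normal] in
theorem rel_iff : c ∈ relCharDegrees N ↔
    ∃ χ, IsIrrCharacter G χ ∧ χ 1 = c ∧ ¬ N ≤ charKer χ := by
  constructor
  · rintro ⟨χ, ⟨x, hx, h1⟩, rfl⟩
    exact ⟨χ, χ.2, (irr_coe_charDegree χ).symm, fun h => h1 (apply_of_mem_charKer (h hx))⟩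
  · rintro ⟨χ, hχ, hc, h⟩
    refine ⟨⟨χ, hχ⟩, ?_, charDegree_eq_of hc⟩
    by_contra h1
    push Not at h1
    exact h fun x hx => hχ.isCharacter.mem_charKer.2 (h1 x hx)

omit [M.Normal] [N.Normal] in
theorem rel_mono (h : M ≤ N) (hc : c ∈ relCharDegrees M) : c ∈ relCharDegrees N := by
  obtain ⟨χ, h1, h2, h3⟩ := rel_iff.1 hc
  exact rel_iff.2 ⟨χ, h1, h2, fun h4 => h3 (h.trans h4)⟩

omit [N.Normal] in
theorem rel_cd (hc : c ∈ relCharDegrees N) : c ∈ charDegrees G := by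
  obtain ⟨χ, h1, h2, -⟩ := rel_iff.1 hc
  exact mem_cd_of h1 h2

omit [N.Normal] in
theorem exists_rel (h : N ≠ ⊥) : ∃ c, c ∈ relCharDegrees N := by
  by_contra h1
  push Not at h1
  refine h (eq_bot_of_forall_le_charKer fun χ hχ => by_contra fun h2 => ?_)
  obtain ⟨c, -, hc⟩ := hχ.exists_degree
  exact h1 c (rel_iff.2 ⟨χ, hχ, hc, h2⟩)

theorem rel_of_ov (hθ : IsIrrCharacter N θ) (h1 : θ ≠ fun _ => 1) (h : Ov N c θ) :
    c ∈ relCharDegrees N := mem_rel.2 ⟨θ, hθ, h1, h⟩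

theorem rel_der_of_ov (hθ : IsIrrCharacter N θ) (hd : θ 1 = d) (h1 : d ≠ 1) (h : Ov N c θ) :
    c ∈ relCharDegrees (⁅N, N⁆ : Subgroup G) :=
  mem_rel_der hθ (by rw [hd]; exact_mod_cast h1) h

theorem ne_one_of_un (h : M ≤ N) (hθ : IsIrrCharacter N θ) (hη : IsIrrCharacter M η)
    (h2 : Un h θ η) (h3 : M ≤ ⁅N, N⁆) (h4 : η ≠ fun _ => 1) (hd : θ 1 = d) : d ≠ 1 := by
  rintro rfl
  have h7 : θ 1 = 1 := by simpa using hd
  have h8 : (fun x => θ ((NEmb.ofLeNormal h).f x)) = fun _ => 1 := by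
    ext x
    rw [← h7]
    refine apply_of_mem_charKer (hθ.commutator_le_charKer_iff.mpr h7 ?_)
    obtain ⟨y, hy, e⟩ := (Subgroup.map_subtype_commutator N).ge (h3 x.2)
    rwa [← (Subtype.ext e : y = (NEmb.ofLeNormal h).f x)]
  rw [Un, h8] at h2
  exact h4 (isIrrCharacter_one.eq_of_classInner_ne_zero hη h2).symm

theorem exists_of_rel_der (hc : c ∈ relCharDegrees (⁅N, N⁆ : Subgroup G)) :
    ∃ (θ : N → ℂ) (d : ℕ), IsIrrCharacter N θ ∧ θ 1 = d ∧ d ≠ 1 ∧ Ov N c θ := by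
  obtain ⟨η, hη, h1, h2⟩ := mem_rel.1 hc
  have hle : (⁅N, N⁆ : Subgroup G) ≤ N := Subgroup.commutator_le_left N N
  obtain ⟨θ, hθ, h3, h4⟩ := Ov.up hle h2
  obtain ⟨d, -, hd⟩ := hθ.exists_degree
  exact ⟨θ, d, hθ, hd, ne_one_of_un hle hθ hη h4 le_rfl h1 hd, h3⟩

theorem ne_one_of_deg (hd : θ 1 = d) (h1 : d ≠ 1) : θ ≠ fun _ => 1 := fun h => h1 (by
  rw [h] at hd; exact Nat.cast_eq_one.1 hd.symm)

theorem exists_nonlinear (h : ⁅N, N⁆ ≠ (⊥ : Subgroup G)) :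
    ∃ (θ : N → ℂ) (d c : ℕ), IsIrrCharacter N θ ∧ θ 1 = d ∧ d ≠ 1 ∧ Ov N c θ := by
  obtain ⟨c, hc⟩ := exists_rel h
  obtain ⟨θ, d, h1⟩ := exists_of_rel_der hc
  exact ⟨θ, d, c, h1⟩

/-- extension of the linear character to a subgroup of its inertia group -/
theorem Tw.extT {lam : N →* ℂˣ} (h : Tw θ d lam o) (hc : Ov N c θ) (T : Subgroup G)
    (h1 : In N θ ≤ T) (h2 : T ≤ In N (lin lam)) :
    ∃ c', c = T.index * c' ∧ d ∣ c' ∧ (o.Coprime c' →
      ∃ μ : T →* ℂˣ, ∀ n : N, μ ⟨n, h1 (le_In h.irr n.2)⟩ = lam n) := by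
  have hNT : ∀ n, (NEmb.ofNormal N).f n ∈ T := fun n => h1 (le_In h.irr n.2)
  obtain ⟨c', h3, h4⟩ := over_restrict h.irr hc T hNT h1
  refine ⟨c', h3, over_deg_dvd h.irr h.deg h4, fun h5 => ?_⟩
  exact (NEmb.mem_resL_range _).1 (h.ext0 ((NEmb.ofNormal N).restrict T hNT) (fun g n => Units.ext
    ((NEmb.mem_inertia (NEmb.ofNormal N)).1 (h2 g.2) n)) h4 h5)

theorem Tw.dvd {lam : N →* ℂˣ} (h : Tw θ d lam o) (hc : Ov N c θ) :
    (In N (lin lam)).index * d ∣ c := by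
  obtain ⟨c', h1, h2, -⟩ := h.extT hc _ (h.inertia_le _) le_rfl
  rw [h1]; exact Nat.mul_dvd_mul_left _ h2

theorem ov_of_ext {lam : N →* ℂˣ} (μ : In N (lin lam) →* ℂˣ)
    (hμ : ∀ n : N, μ ⟨n, le_In (isIrrCharacter_linear lam) n.2⟩ = lam n) {b : ℕ}
    (hb : b ∈ charDegrees (In N (lin lam) ⧸ N.subgroupOf (In N (lin lam)))) :
    Ov N ((In N (lin lam)).index * b) (lin lam) := by
  obtain ⟨χ, h1, h2, h3⟩ := exists_over_inertia (isIrrCharacter_linear lam) (e := 1) (by simp)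
    (le_In (isIrrCharacter_linear lam)) le_rfl (isCharacter_linear μ)
    (fun n => congrArg Units.val (hμ n)) hb
  rw [mul_one] at h2
  exact ⟨χ, h1, h2, h3⟩

theorem Tw.ov {lam : N →* ℂˣ} (h : Tw θ d lam o) (hc : Ov N c θ) (hoc : o.Coprime c) {b : ℕ}
    (hb : b ∈ charDegrees (In N (lin lam) ⧸ N.subgroupOf (In N (lin lam)))) :
    Ov N ((In N (lin lam)).index * b) (lin lam) := by
  obtain ⟨c', h1, -, h3⟩ := h.extT hc _ (h.inertia_le _) le_rfl
  obtain ⟨μ, hμ⟩ := h3 (hoc.coprime_dvd_right ⟨_, by rw [h1, mul_comm]⟩)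
  exact ov_of_ext μ hμ hb

theorem Tw.ov1 {lam : N →* ℂˣ} (h : Tw θ d lam o) (hc : Ov N c θ) (hoc : o.Coprime c) :
    Ov N (In N (lin lam)).index (lin lam) := by
  have := h.ov hc hoc one_mem_cd
  rwa [mul_one] at this

omit [N.Normal] in
theorem exists_lin_prime {p : ℕ} (hp : p.Prime) (h : p ∣ (⁅N, N⁆ : Subgroup G).relIndex N) :
    ∃ lam : N →* ℂˣ, lam ≠ 1 ∧ lam ^ p = 1 := by
  have := Fact.mk hp
  rw [← index_comm, ← card_monoidHom_units] at h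
  have hfin : Finite (N →* ℂˣ) := Nat.finite_of_card_ne_zero (by
    rw [card_monoidHom_units]; exact Subgroup.index_ne_zero_of_finite)
  obtain ⟨x, hx⟩ := exists_prime_orderOf_dvd_card' p h
  refine ⟨x, fun h1 => hp.ne_one ?_, hx ▸ pow_orderOf_eq_one x⟩
  rw [← hx, h1, orderOf_one]

omit [N.Normal] [Finite G] in
theorem lin_pow_relIndex (lam : N →* ℂˣ) : lam ^ (⁅N, N⁆ : Subgroup G).relIndex N = 1 := by
  rw [← index_comm]
  exact linear_pow_index lam _ fun n hn => Abelianization.commutator_subset_ker lam hn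

omit [M.Normal] [N.Normal] [Finite G] in
/-- a linear character of a subgroup of the derived group that extends is trivial -/
theorem eq_one_of_ext (h : M ≤ N) (h3 : M ≤ ⁅N, N⁆) {lam : M →* ℂˣ} (μ : N →* ℂˣ)
    (hμ : ∀ m : M, μ ⟨m, h m.2⟩ = lam m) : lam = 1 := by
  ext1 m
  rw [← hμ]
  obtain ⟨y, hy, e⟩ := (Subgroup.map_subtype_commutator N).ge (h3 m.2)
  rw [← (Subtype.ext e : y = ⟨m, h m.2⟩)]
  exact Abelianization.commutator_subset_ker μ hy

theorem rel_map_iff {B : Subgroup G} [B.Normal] {K : Subgroup G} :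
    c ∈ relCharDegrees (K.map (QuotientGroup.mk' B)) ↔
      ∃ χ, IsIrrCharacter G χ ∧ χ 1 = c ∧ B ≤ charKer χ ∧ ¬ K ≤ charKer χ := by
  rw [rel_iff]
  constructor
  · rintro ⟨ξ, h1, h2, h3⟩
    refine ⟨_, h1.inflate, h2, le_charKer_inflate ξ, fun h4 => h3 ?_⟩
    rintro _ ⟨k, hk, rfl⟩
    have h5 := apply_of_mem_charKer (h4 hk)
    exact h1.isCharacter.mem_charKer.2 h5
  · rintro ⟨χ, h1, h2, h3, h4⟩
    obtain ⟨ξ, h5, h6⟩ := exists_irr_inflate (QuotientGroup.mk' B) (QuotientGroup.mk'_surjective B)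
      h1 (fun k hk => apply_of_mem_charKer (h3 ((QuotientGroup.eq_one_iff k).1 hk)))
    refine ⟨ξ, h5, by rw [← h2, h6]; rfl, fun h7 => h4 fun k hk => ?_⟩
    refine h1.isCharacter.mem_charKer.2 ?_
    rw [h6]
    exact apply_of_mem_charKer (h7 ⟨k, hk, rfl⟩)

end normal

end Cfsg.Agent.H25.Gar
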