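import Mathlib
import Cfsg.Agent.H25.Gar1

/-!
Relative Taketa and Thompson lemmas.
-/

set_option autoImplicit false
set_option linter.dupNamespace false

namespace Cfsg.Agent.H25.Gar

open Cfsg Cfsg.Agent.H4 Cfsg.Agent.H5 Cfsg.Agent.H8 Cfsg.Agent.H2.RDeg Cfsg.Agent.H3
open scoped commutatorElement

variable {G : Type*} [Group G] [Finite G]

theorem ker_of_res {D K : Subgroup G} {χ : G → ℂ} (hχ : IsCharacter G χ) {ξ : K → ℂ}
    (hξ : IsIrrCharacter K ξ) (h : classInner (fun k : K => χ k) ξ ≠ 0) (hD : D ≤ charKer χ) :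
    D.subgroupOf K ≤ charKer ξ := fun x hx =>
  (hχ.restrict K).charKer_le_of_constituent hξ h
    ((hχ.restrict K).mem_charKer.2 (apply_of_mem_charKer (hD hx)))

theorem ker_of_con {D K : Subgroup G} [D.Normal] (hDK : D ≤ K) {χ : G → ℂ}
    (hχ : IsIrrCharacter G χ) {ξ : K → ℂ} (hξ : IsIrrCharacter K ξ)
    (h : classInner (fun k : K => χ k) ξ ≠ 0) (hD : D.subgroupOf K ≤ charKer ξ) :
    D ≤ charKer χ := by
  have h1 : (fun x => ξ ((Subgroup.inclusion hDK) x)) = ξ 1 • fun _ : D => (1 : ℂ) := by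
    ext x
    simp only [Pi.smul_apply, smul_eq_mul, mul_one]
    exact apply_of_mem_charKer (hD (show Subgroup.inclusion hDK x ∈ D.subgroupOf K from x.2))
  have h2 := inner_comp_ne_zero_of_constituent (Subgroup.inclusion hDK) (hχ.isCharacter.restrict K)
    hξ h isIrrCharacter_one.isCharacter (by
      rw [h1, classInner_smul_left, isIrrCharacter_one.classInner_self, mul_one]
      obtain ⟨d, hd, h3⟩ := hξ.exists_degree
      rw [h3]; exact_mod_cast hd.ne')
  have h3 := ((NEmb.ofNormal D).inner_res_one_ne_zero_iff hχ).1 h2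
  exact fun x hx => hχ.isCharacter.mem_charKer.2 (h3 ⟨x, hx⟩)

theorem exists_ind {K : Subgroup G} {ξ : K → ℂ} (hξ : IsIrrCharacter K ξ) {e z : ℕ} (he : ξ 1 = e)
    (hz : ¬ z ∣ K.index * e) : ∃ (χ : G → ℂ) (x : ℕ), IsIrrCharacter G χ ∧ χ 1 = x ∧ ¬ z ∣ x ∧
      x ≤ K.index * e ∧ classInner (fun k : K => χ k) ξ ≠ 0 := by
  have hc := isCharacter_indFun K hξ.isCharacter
  have hd : indFun K ξ 1 = (K.index * e : ℕ) := by rw [indFun_one, he]; push_cast; rfl
  obtain ⟨χ, x, h1, h2, h3, h4⟩ := exists_not_dvd hc hd hz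
  refine ⟨χ, x, h1, h2, h3, ?_, ?_⟩
  · have := degree_le_of_constituent hc h1 h4
    rw [h2, hd] at this
    exact_mod_cast this
  · rwa [inner_indFun_left _ _ h1.isClassFunction,
      hξ.isCharacter.classInner_comm (h1.isCharacter.restrict K)] at h4

theorem exists_ind_rel {K N : Subgroup G} {ξ : K → ℂ} (hξ : IsIrrCharacter K ξ) {e z : ℕ}
    (he : ξ 1 = e) (hz : ¬ z ∣ K.index * e) (hN : ¬ N.subgroupOf K ≤ charKer ξ) :
    ∃ x ∈ relCharDegrees N, ¬ z ∣ x ∧ x ≤ K.index * e := by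
  obtain ⟨χ, x, h1, h2, h3, h4, h5⟩ := exists_ind hξ he hz
  exact ⟨x, rel_iff.2 ⟨χ, h1, h2, fun h6 => hN (ker_of_res h1.isCharacter hξ h5 h6)⟩, h3, h4⟩

theorem not_pow_succ_dvd {p a n : ℕ} (hp : p.Prime) (hn : ¬ p ∣ n) : ¬ p ^ (a + 1) ∣ n * p ^ a := by
  intro h
  rw [pow_succ, mul_comm n] at h
  exact hn (Nat.dvd_of_mul_dvd_mul_left (pow_pos hp.pos a) h)

variable {p : ℕ} [hp : Fact p.Prime]

theorem le_sup_sylow {A N : Subgroup G} [A.Normal] [N.Normal] (hN : ∀ n ∈ N, ∃ k, n ^ p ^ k ∈ A)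
    (P : Sylow p G) : N ≤ A ⊔ P := by
  have hs := QuotientGroup.mk'_surjective A
  haveI : (N.map (QuotientGroup.mk' A)).Normal := Subgroup.Normal.map inferInstance _ hs
  have h1 : IsPGroup p (N.map (QuotientGroup.mk' A)) := by
    rintro ⟨_, n, hn, rfl⟩
    obtain ⟨k, hk⟩ := hN n hn
    refine ⟨k, Subtype.ext ?_⟩
    change QuotientGroup.mk' A n ^ p ^ k = 1
    rw [← map_pow]; exact (QuotientGroup.eq_one_iff _).2 hk
  have h2 := (H1.le_pCore h1).trans (H1.pCore_le_sylow (P.mapSurjective hs))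
  rw [Sylow.coe_mapSurjective, Subgroup.map_le_map_iff, QuotientGroup.ker_mk', sup_comm] at h2
  exact h2

theorem relIndex_sup_pow {A P : Subgroup G} [A.Normal] (hP : IsPGroup p P) :
    ∃ k, A.relIndex (A ⊔ P) = p ^ k := by
  rw [H1.relIndex_sup_of_le_normalizer Subgroup.le_normalizer_of_normal]
  obtain ⟨k, hk⟩ := IsPGroup.iff_card.1 hP
  obtain ⟨a, -, ha⟩ := (Nat.dvd_prime_pow hp.out).1 (hk ▸ Subgroup.relIndex_dvd_card A P)
  exact ⟨a, ha⟩

theorem lemP {A N : Subgroup G} [A.Normal] [N.Normal] (hA : ⁅A, A⁆ = ⊥)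
    (hN : ∀ n ∈ N, ∃ k, n ^ p ^ k ∈ A) (hne : N ≠ ⊥) :
    ∃ a, (∃ x ∈ relCharDegrees N, ¬ p ^ (a + 1) ∣ x) ∧
      ∀ y ∈ relCharDegrees (⁅N, N⁆ : Subgroup G), p ^ (a + 1) ∣ y := by
  classical
  let P : Sylow p G := default
  set K : Subgroup G := A ⊔ P with hK
  have hNK : N ≤ K := le_sup_sylow hN P
  obtain ⟨k, hk⟩ := relIndex_sup_pow (A := A) P.2
  have hc : ∀ a ∈ A.subgroupOf K, ∀ b ∈ A.subgroupOf K, a * b = b * a := fun a ha b hb =>
    Subtype.ext (commutatorElement_eq_one_iff_mul_comm.1 (Subgroup.mem_bot.1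
      (hA ▸ Subgroup.commutator_mem_commutator ha hb)))
  haveI := isNilpotent_quotient_of_index (A := A.subgroupOf K) hp.out hk
  have hdeg : ∀ (ξ : K → ℂ) (m : ℕ), IsIrrCharacter K ξ → ξ 1 = m → ∃ b, m = p ^ b := fun ξ m h1 h2 => by
    have h3 := cd_dvd_index_of_comm hc (mem_cd_of h1 h2)
    rw [show (A.subgroupOf K).index = p ^ k from hk] at h3
    obtain ⟨b, -, hb⟩ := (Nat.dvd_prime_pow hp.out).1 h3
    exact ⟨b, hb⟩
  have hex : ∃ b, ∃ ξ : K → ℂ, IsIrrCharacter K ξ ∧ ξ 1 = (p ^ b : ℕ) ∧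
      ¬ N.subgroupOf K ≤ charKer ξ := by
    have h1 : N.subgroupOf K ≠ ⊥ := by
      rwa [Ne, Subgroup.subgroupOf_eq_bot, disjoint_iff, inf_eq_left.2 hNK]
    obtain ⟨c, hc⟩ := exists_rel h1
    obtain ⟨ξ, h2, h3, h4⟩ := rel_iff.1 hc
    obtain ⟨b, rfl⟩ := hdeg ξ c h2 h3
    exact ⟨b, ξ, h2, h3, h4⟩
  have hKi : ¬ p ∣ K.index := fun h => P.not_dvd_index (h.trans (Subgroup.index_dvd_of_le le_sup_right))
  refine ⟨Nat.find hex, ?_, fun y hy => by_contra fun hy' => ?_⟩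
  · obtain ⟨ξ, h1, h2, h3⟩ := Nat.find_spec hex
    obtain ⟨x, h4, h5, -⟩ := exists_ind_rel h1 h2 (not_pow_succ_dvd hp.out hKi) h3
    exact ⟨x, h4, h5⟩
  obtain ⟨χ, h1, h2, h3⟩ := rel_iff.1 hy
  obtain ⟨ξ, m, h4, h5, h6, h7⟩ := exists_not_dvd (h1.isCharacter.restrict K) (n := y) h2 hy'
  obtain ⟨b, rfl⟩ := hdeg ξ m h4 h5
  have hb : b ≤ Nat.find hex := by
    by_contra h8
    exact h6 (pow_dvd_pow p (by omega))
  have hle : (⁅N, N⁆ : Subgroup G) ≤ K := (Subgroup.commutator_le_left N N).trans hNK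
  refine h3 (ker_of_con hle h1 h4 h7 ?_)
  have h8 : (⁅N, N⁆ : Subgroup G).subgroupOf K = ⁅N.subgroupOf K, N.subgroupOf K⁆ := by
    apply Subgroup.map_injective K.subtype_injective
    rw [Subgroup.map_commutator, Subgroup.map_subgroupOf_eq_of_le hle,
      Subgroup.map_subgroupOf_eq_of_le hNK]
  rw [h8]
  obtain ⟨H, lam, -, rfl⟩ := exists_indFun_linear_of_abelian_nilpotent (A.subgroupOf K) hc h4
  refine taketa_step lam fun ψ hψ h9 => by_contra fun h10 => ?_
  obtain ⟨b', hb'⟩ := hdeg ψ _ hψ hψ.isCharacter.charDegree_cast.symm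
  have h11 : H.index = p ^ b := by
    rw [indFun_one] at h5
    simp only [map_one, Units.val_one, mul_one] at h5
    exact_mod_cast h5
  rw [h11, hb', pow_lt_pow_iff_right₀ hp.out.one_lt] at h9
  exact Nat.find_min hex (h9.trans_le hb) ⟨ψ, hψ, by rw [← hb', hψ.isCharacter.charDegree_cast], h10⟩

theorem lemP' {N V : Subgroup G} [N.Normal] (hN : IsPGroup p N) (h : ¬ N ≤ V) :
    ∃ x ∈ relCharDegrees N, ∃ s, ¬ p ^ (s + 1) ∣ x ∧ p ^ (s + 1) ∣ V.index := by
  let P₀ : Sylow p V := default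
  obtain ⟨P, hP⟩ := (P₀.2.map V.subtype).exists_le_sylow
  set U := (P₀ : Subgroup V).map V.subtype with hU
  have hUV : U ≤ V := Subgroup.map_subtype_le _
  have hNP : N ≤ P := (H1.le_pCore hN).trans (H1.pCore_le_sylow P)
  obtain ⟨ψ, h1, h2, h3⟩ : ∃ ψ, IsIrrCharacter P ψ ∧ charDegree ψ < (U.subgroupOf P).index ∧
      ¬ N.subgroupOf P ≤ charKer ψ := by
    by_contra h1
    push Not at h1
    have h2 := le_of_forall_small h1
    exact h fun n hn => hUV (h2 (show (⟨n, hNP hn⟩ : P) ∈ N.subgroupOf P from hn))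
  obtain ⟨s, hs⟩ := exists_pow_of_mem_cd P.2 (charDegree_mem_cd h1)
  obtain ⟨k, hk⟩ := IsPGroup.iff_card.1 P.2
  obtain ⟨r, -, hr⟩ := (Nat.dvd_prime_pow hp.out).1 (hk ▸ (U.subgroupOf P).index_dvd_card)
  obtain ⟨x, h4, h5, -⟩ := exists_ind_rel h1 (e := p ^ s)
    (by rw [← hs, h1.isCharacter.charDegree_cast]) (not_pow_succ_dvd hp.out P.not_dvd_index) h3
  refine ⟨x, h4, s, h5, ?_⟩
  rw [hs, hr, pow_lt_pow_iff_right₀ hp.out.one_lt] at h2
  have h6 : p ^ r ∣ U.relIndex V * V.index := by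
    rw [Subgroup.relIndex_mul_index hUV, ← Subgroup.relIndex_mul_index hP, ← hr]
    exact Dvd.intro _ rfl
  have h7 : ¬ p ∣ U.relIndex V := by
    rw [hU, Subgroup.relIndex, Subgroup.subgroupOf,
      Subgroup.comap_map_eq_self_of_injective V.subtype_injective]
    exact P₀.not_dvd_index
  exact (pow_dvd_pow p h2).trans
    (((hp.out.coprime_iff_not_dvd.2 h7).pow_left r).dvd_of_dvd_mul_left h6)

/-- `O^p(N)` as a subgroup of `G` -/
def Op (p : ℕ) (N : Subgroup G) : Subgroup G := (pResidual p N).map N.subtype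

instance Op_normal (p : ℕ) (N : Subgroup G) [N.Normal] : (Op p N).Normal :=
  ConjAct.normal_of_characteristic_of_normal

omit [Finite G] hp in
theorem Op_le (N : Subgroup G) : Op p N ≤ N := Subgroup.map_subtype_le _

theorem pow_mem_Op {N : Subgroup G} (n : G) (hn : n ∈ N) : ∃ k, n ^ p ^ k ∈ Op p N := by
  obtain ⟨k, hk⟩ := exists_pow_coprime_orderOf p (⟨n, hn⟩ : N)
  exact ⟨k, _, mem_pResidual_of_coprime hk, rfl⟩

theorem relIndex_Op (N : Subgroup G) : ∃ k, (Op p N).relIndex N = p ^ k := by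
  rw [Op, Subgroup.relIndex, Subgroup.subgroupOf,
    Subgroup.comap_map_eq_self_of_injective N.subtype_injective]
  exact exists_index_pResidual

theorem not_dvd_lin_Op (N : Subgroup G) (lam : Op p N →* ℂˣ) : ¬ p ∣ orderOf lam := by
  refine not_dvd_orderOf_linear ?_ lam
  let e := Subgroup.equivMapOfInjective (pResidual p N) N.subtype N.subtype_injective
  have := pResidual_map_of_surjective (p := p) (f := e.toMonoidHom) e.surjective
  rw [pResidual_pResidual, Subgroup.map_top_of_surjective _ e.surjective] at this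
  exact this.symm

theorem not_dvd_relIndex_Op (N : Subgroup G) :
    ¬ p ∣ (⁅Op p N, Op p N⁆ : Subgroup G).relIndex (Op p N) := fun h => by
  obtain ⟨lam, h1, h2⟩ := exists_lin_prime hp.out h
  refine not_dvd_lin_Op N lam ?_
  rw [orderOf_eq_prime h2 h1]

theorem Op_lt {N : Subgroup G} (h : p ∣ (⁅N, N⁆ : Subgroup G).relIndex N) : Op p N < N := by
  refine lt_of_le_of_ne (Op_le N) fun h1 => not_dvd_relIndex_Op (p := p) N ?_
  rwa [h1]

theorem dvd_relIndex_of_Op_lt {N : Subgroup G} (h : Op p N < N) :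
    p ∣ (⁅N, N⁆ : Subgroup G).relIndex N := by
  rw [← index_comm]
  by_contra h1
  let P : Sylow p N := default
  have h2 : (P : Subgroup N) ≤ commutator N := fun x hx => by
    obtain ⟨k, hk⟩ := P.2 ⟨x, hx⟩
    have hk' : x ^ p ^ k = 1 := congrArg Subtype.val hk
    exact NEmb.mem_of_coprime _ ((hp.out.coprime_iff_not_dvd.2 h1).pow_left k)
      (by rw [hk']; exact one_mem _) ((commutator N).pow_index_mem x)
  have h3 := pResidual_eq_top_of_le_commutator P h2
  refine h.ne ?_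
  rw [Op, h3, ← MonoidHom.range_eq_map, Subgroup.range_subtype]

theorem thompson {N : Subgroup G} [N.Normal]
    (h : ∀ c ∈ relCharDegrees (⁅N, N⁆ : Subgroup G), p ∣ c) : ¬ p ∣ Nat.card (Op p N) := by
  classical
  intro hL
  set L := Op p N with hLdef
  let P : Sylow p G := default
  have hPN : (P : Subgroup G) ≤ Subgroup.normalizer (L : Set G) := Subgroup.le_normalizer_of_normal
  have h1 : (Nat.card L : ZMod p) = ∑ θ : IrrCharacter L, (charDegree θ.1 : ZMod p) ^ 2 := by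
    have h2 := sum_irr_degree_sq (G := L)
    simp only [← irr_coe_charDegree] at h2
    have h3 : ∑ θ : IrrCharacter L, charDegree θ.1 ^ 2 = Nat.card L := by exact_mod_cast h2
    rw [← h3]; push_cast; rfl
  have key : ∀ θ : IrrCharacter L, SInv P θ.1 → ¬ p ∣ charDegree θ.1 → charDegree θ.1 = 1 := by
    intro θ hθ1 hθ3
    let H := L ⊔ (P : Subgroup G)
    let E := NEmb.ofLeNormal (le_sup_left : L ≤ H)
    obtain ⟨a, ha⟩ : ∃ a, E.f.range.index = p ^ a := by
      rw [NEmb.ofLeNormal_index]; exact relIndex_sup_pow P.2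
    obtain ⟨φ, hφ, h3, -⟩ := E.exists_canonical_ext θ.2 (fun g n => by
        obtain ⟨k, hk, s, hs, e⟩ := (H1.mem_sup_of_le_normalizer_left hPN).1 g.2
        exact EInv.mul (hPN hs) (eInv_of_mem hk θ.2.isClassFunction) (hθ1 s hs) _ _ (by
          rw [e]; rfl))
      (irr_coe_charDegree θ).symm
      (by rw [ha]; exact ((Nat.Prime.coprime_iff_not_dvd hp.out).2 hθ3).pow_left a)
      (by rw [ha, detOrder_eq]
          exact ((Nat.Prime.coprime_iff_not_dvd hp.out).2 (not_dvd_lin_Op N _)).pow_left a)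
    have h4 : φ 1 = (charDegree θ.1 : ℕ) := by rw [← map_one E.f, h3, irr_coe_charDegree]
    by_contra h5
    obtain ⟨x, h6, h7, -⟩ := exists_ind_rel (N := ⁅N, N⁆) hφ h4 (z := p) (fun h5 =>
      ((Nat.Prime.dvd_mul hp.out).1 h5).elim
        (fun h6 => P.not_dvd_index (h6.trans (Subgroup.index_dvd_of_le le_sup_right))) hθ3)
      (fun h6 => h5 (by
        rw [irr_charDegree_eq_one_iff, ← θ.2.commutator_le_charKer_iff]
        intro y hy
        have h8 : (y : G) ∈ ⁅N, N⁆ := Subgroup.commutator_mono (Op_le N) (Op_le N)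
          ((Subgroup.map_subtype_commutator L).le ⟨y, hy, rfl⟩)
        rw [θ.2.isCharacter.mem_charKer, ← h3, ← h3, map_one]
        exact apply_of_mem_charKer (h6 (show E.f y ∈ (⁅N, N⁆ : Subgroup G).subgroupOf H from h8))))
    exact h7 (h x h6)
  have h2 := sum_irr_eq_sum_sInv P.2 hPN
    (fun θ => if charDegree θ.1 = 1 then (1 : ZMod p) else 0) (fun x hx χ => by
      congr 2; unfold charDegree; rw [cjI_apply, map_one])
  rw [sum_irr_eq_sum_sInv P.2 hPN _ (fun x hx χ => by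
    congr 2; unfold charDegree; rw [cjI_apply, map_one]), (ZMod.natCast_eq_zero_iff _ _).2 hL,
    Finset.sum_congr rfl (g := fun θ => if charDegree θ.1 = 1 then (1 : ZMod p) else 0)
      (fun θ hθ => by
        by_cases h3 : p ∣ charDegree θ.1
        · rw [(ZMod.natCast_eq_zero_iff _ _).2 h3, if_neg fun h4 => hp.out.ne_one (by
            rw [h4] at h3; exact Nat.dvd_one.1 h3)]; simp
        · rw [key θ (Finset.mem_filter.1 hθ).2 h3]; simp), ← h2, Finset.sum_boole] at h1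
  refine not_dvd_relIndex_Op (p := p) N ?_
  rw [← index_comm, ← card_irr_degree_one, ← ZMod.natCast_eq_zero_iff, h1, Nat.card_eq_fintype_card,
    Fintype.card_subtype]
  simp only [irr_charDegree_eq_one_iff]
  congr

end Cfsg.Agent.H25.Gar
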