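import Mathlib
import Cfsg.Agent.H25.Gar2

/-!
Normal subgroups with at most two relative degrees.
-/

set_option autoImplicit false
set_option linter.dupNamespace false

namespace Cfsg.Agent.H25.Gar

open Cfsg Cfsg.Agent.H4 Cfsg.Agent.H5 Cfsg.Agent.H8 Cfsg.Agent.H2.RDeg Cfsg.Agent.H3
open scoped commutatorElement

variable {G : Type*} [Group G] [Finite G]

theorem normal_induction {Q : Subgroup G → Prop}
    (h : ∀ N : Subgroup G, N.Normal → (∀ M : Subgroup G, M.Normal → M < N → Q M) → Q N)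
    (N : Subgroup G) (hN : N.Normal) : Q N := by
  induction N using WellFoundedLT.induction with
  | ind N ih => exact h N hN fun M hM hlt => ih M hlt hM

omit [Finite G] in
theorem der_lt [Group.IsSolvable G] {N : Subgroup G} (h : N ≠ ⊥) : ⁅N, N⁆ < N :=
  H1.commutator_lt_of_isSolvable inferInstance h

omit [Finite G] in
theorem ne_bot_of_der {N : Subgroup G} (h : ⁅N, N⁆ ≠ (⊥ : Subgroup G)) : N ≠ ⊥ := by
  rintro rfl; simp at h

omit [Finite G] in
theorem der_le (N : Subgroup G) : ⁅N, N⁆ ≤ N := by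
  rw [← Subgroup.map_subtype_commutator]; exact Subgroup.map_subtype_le _

theorem ne_bot_of_rel {N : Subgroup G} {c : ℕ} (h : c ∈ relCharDegrees N) : N ≠ ⊥ := by
  obtain ⟨χ, -, -, h1⟩ := rel_iff.1 h
  rintro rfl; exact h1 bot_le

theorem C1 [Group.IsSolvable G] {m : ℕ} (N : Subgroup G) (hN : N.Normal) :
    (∀ c ∈ relCharDegrees N, c = m) → ⁅N, N⁆ = ⊥ := by
  refine normal_induction (Q := fun N => (∀ c ∈ relCharDegrees N, c = m) → ⁅N, N⁆ = ⊥) ?_ N hN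
  intro N hN ih h
  by_contra h1
  obtain ⟨p, hp, hpm⟩ := exists_p (der_lt (ne_bot_of_der h1))
  haveI := Fact.mk hp
  have h2 := ih (Op p N) inferInstance (Op_lt hpm) fun c hc => h c (rel_mono (Op_le N) hc)
  obtain ⟨a, ⟨x, hx, h3⟩, h4⟩ := lemP (p := p) h2 pow_mem_Op (ne_bot_of_der h1)
  obtain ⟨y, hy⟩ := exists_rel h1
  have h5 := h4 y hy
  rw [h y (rel_mono (der_le N) hy), ← h x hx] at h5
  exact h3 h5

theorem deg_dvd_card {N : Type*} [Group N] [Finite N] {θ : N → ℂ} (hθ : IsIrrCharacter N θ) {d : ℕ}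
    (hd : θ 1 = d) : d ∣ Nat.card N := dvd_card_of_mem_cd (mem_cd_of hθ hd)

theorem C2a_aux {N : Subgroup G} [N.Normal] {m n p : ℕ} (h : ∀ c ∈ relCharDegrees N, c = m ∨ c = n)
    (hm : m ∈ relCharDegrees (⁅N, N⁆ : Subgroup G)) (hn : n ∈ relCharDegrees (⁅N, N⁆ : Subgroup G))
    (hπ : ∀ r, r.Prime → r ∣ m → r ∣ n → ¬ r ∣ Nat.card N) (hp : p.Prime)
    (hpN : p ∣ (⁅N, N⁆ : Subgroup G).relIndex N) (hpm : ¬ p ∣ m) : False := by
  obtain ⟨lam, h1, h2⟩ := exists_lin_prime hp hpN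
  obtain ⟨θ, d, hθ, hd, hd1, hov⟩ := exists_of_rel_der hm
  have hdm := over_deg_dvd hθ hd hov
  obtain ⟨ν, htw⟩ := exists_tw hθ hd h2 (hp.coprime_iff_not_dvd.2 fun h3 => hpm (h3.trans hdm))
  obtain ⟨x, hx⟩ := exists_over (E := NEmb.ofNormal N) htw.irr
  obtain ⟨r, hr, hrd⟩ := Nat.exists_prime_and_dvd hd1
  have hxm : x = m := (h x (rel_of_ov htw.irr (ne_one_of_deg htw.deg hd1) hx)).resolve_right
    fun h3 => hπ r hr (hrd.trans hdm) (h3 ▸ hrd.trans (over_deg_dvd htw.irr htw.deg hx))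
      (hrd.trans (deg_dvd_card hθ hd))
  subst hxm
  have h3 := htw.dvd hx
  have h4 := h _ (rel_of_ov (isIrrCharacter_linear lam) (lin_ne h1)
    (htw.ov1 hx (hp.coprime_iff_not_dvd.2 hpm)))
  have hx0 := hx.ne_zero
  rcases h4 with h4 | h4
  · rw [h4] at h3
    exact hd1 (Nat.dvd_one.1 (Nat.dvd_of_mul_dvd_mul_left (Nat.pos_of_ne_zero hx0)
      (by rwa [mul_one])))
  · rw [h4] at h3
    obtain ⟨θ', d', hθ', hd', hd1', hov'⟩ := exists_of_rel_der hn
    obtain ⟨s, hs, hsd⟩ := Nat.exists_prime_and_dvd hd1'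
    have h5 := hsd.trans (over_deg_dvd hθ' hd' hov')
    exact hπ s hs (h5.trans ((Dvd.intro _ rfl).trans h3)) h5 (hsd.trans (deg_dvd_card hθ' hd'))

theorem ext_of_le_In {A T : Subgroup G} [A.Normal] (hAT : A ≤ T) {α : A → ℂ}
    (hα : IsIrrCharacter A α) (hT : T ≤ In A α) (hc : (A.relIndex T).Coprime (Nat.card A)) :
    ∃ φ : T → ℂ, IsIrrCharacter T φ ∧ ∀ a : A, φ ⟨a, hAT a.2⟩ = α a := by
  obtain ⟨φ, h1, h2, -⟩ := (NEmb.ofLeNormal hAT).exists_ext_of_coprime hα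
    (fun g n => (NEmb.mem_inertia (NEmb.ofNormal A)).1 (hT g.2) n) (by rwa [NEmb.ofLeNormal_index])
  exact ⟨φ, h1, h2⟩

theorem un_of_ext {A T : Subgroup G} [A.Normal] (hAT : A ≤ T) {α : A → ℂ}
    (hα : IsIrrCharacter A α) {φ : T → ℂ} (h : ∀ a : A, φ ⟨a, hAT a.2⟩ = α a) : Un hAT φ α := by
  rw [Un, show (fun m => φ ((NEmb.ofLeNormal hAT).f m)) = α from funext h, hα.classInner_self]
  exact one_ne_zero

theorem ov_of_res {A T : Subgroup G} [A.Normal] (hAT : A ≤ T) {α : A → ℂ}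
    (hα : IsIrrCharacter A α) {φ : T → ℂ} (hφ : IsIrrCharacter T φ) (h : Un hAT φ α) {χ : G → ℂ}
    (hχ : IsIrrCharacter G χ) {x : ℕ} (hx : χ 1 = x)
    (h1 : classInner (fun k : T => χ k) φ ≠ 0) : Ov A x α :=
  ⟨χ, hχ, hx, inner_comp_ne_zero_of_constituent (NEmb.ofLeNormal hAT).f
    (hχ.isCharacter.restrict T) hφ h1 hα.isCharacter h⟩

theorem pow_dvd_index_In {A : Subgroup G} [A.Normal] {p : ℕ} [hp : Fact p.Prime]
    (hA : ¬ p ∣ Nat.card A) {α : A → ℂ} (hα : IsIrrCharacter A α) {m : ℕ}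
    (h : ∀ c, Ov A c α → c = m) {k : ℕ} (hk : p ^ k ∣ m) : p ^ k ∣ (In A α).index := by
  let P₀ : Sylow p (In A α) := default
  set U := (P₀ : Subgroup (In A α)).map (In A α).subtype with hU
  have hUV : U ≤ In A α := Subgroup.map_subtype_le _
  have hT : A ⊔ U ≤ In A α := sup_le (le_In hα) hUV
  obtain ⟨j, hj⟩ := relIndex_sup_pow (A := A) (P₀.2.map (In A α).subtype)
  obtain ⟨φ, h1, h2⟩ := ext_of_le_In le_sup_left hα hT (by
    rw [hj]; exact (hp.out.coprime_iff_not_dvd.2 hA).pow_left j)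
  obtain ⟨a, -, ha⟩ := hα.exists_degree
  have h3 : φ 1 = a := by rw [← ha, ← h2]; rfl
  have h4 : m ∣ (A ⊔ U).index * a := by
    by_contra h4
    obtain ⟨χ, x, h5, h6, h7, -, h8⟩ := exists_ind h1 h3 h4
    exact h7 (h x (ov_of_res le_sup_left hα h1 (un_of_ext le_sup_left hα h2) h5 h6 h8)).symm.dvd
  have h7 : ¬ p ∣ (A ⊔ U).relIndex (In A α) := fun h7 => by
    have h8 := h7.trans (Subgroup.relIndex_dvd_of_le_left (In A α) (le_sup_right : U ≤ A ⊔ U))
    rw [hU, Subgroup.relIndex, Subgroup.subgroupOf,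
      Subgroup.comap_map_eq_self_of_injective (In A α).subtype_injective] at h8
    exact P₀.not_dvd_index h8
  have h8 : ¬ p ∣ a := fun h8 => hA (h8.trans (deg_dvd_card hα ha))
  rw [← Subgroup.relIndex_mul_index hT] at h4
  exact ((hp.out.coprime_iff_not_dvd.2 h7).pow_left k).dvd_of_dvd_mul_left
    (((hp.out.coprime_iff_not_dvd.2 h8).pow_left k).dvd_of_dvd_mul_right (hk.trans h4))

theorem In_le_of_ext {A N : Subgroup G} [A.Normal] [N.Normal] (hAN : A ≤ N) {α : A → ℂ}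
    {θ : N → ℂ} (h : ∀ a : A, θ ⟨a, hAN a.2⟩ = α a) : In N θ ≤ In A α := fun g hg =>
  (NEmb.mem_inertia _).2 fun a => by
    rw [← h, ← h]
    exact (NEmb.mem_inertia _).1 hg ⟨a, hAN a.2⟩

theorem C2b {A N : Subgroup G} [A.Normal] [N.Normal] {m n p : ℕ} [hp : Fact p.Prime]
    (h : ∀ c ∈ relCharDegrees N, c = m ∨ c = n)
    (hn : n ∈ relCharDegrees (⁅N, N⁆ : Subgroup G)) (hAN : A ≤ N) (hA : ¬ p ∣ Nat.card A)
    (hpN : p ∣ (⁅N, N⁆ : Subgroup G).relIndex N) {k : ℕ} (hk : A.relIndex N = p ^ k)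
    (hA1 : ⁅A, A⁆ ≠ ⊥) (hnA : n ∉ relCharDegrees (⁅A, A⁆ : Subgroup G)) : False := by
  have hpow : ∀ x ∈ N, ∃ k, x ^ p ^ k ∈ A := fun x hx =>
    ⟨k, hk ▸ (A.subgroupOf N).pow_index_mem ⟨x, hx⟩⟩
  have hm : ∀ (α : A → ℂ) (a : ℕ), IsIrrCharacter A α → α 1 = a → a ≠ 1 → ∀ c, Ov A c α → c = m :=
    fun α a h1 h2 h3 c hc => by
      have h4 := rel_der_of_ov h1 h2 h3 hc
      exact (h c (rel_mono ((der_le A).trans hAN) h4)).resolve_right fun h5 => hnA (h5 ▸ h4)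
  -- the p-part of `n` exceeds that of `m`
  obtain ⟨b, hb1, hb2⟩ : ∃ b, ¬ p ^ (b + 1) ∣ m ∧ p ^ (b + 1) ∣ n := by
    have hs := QuotientGroup.mk'_surjective (⁅A, A⁆ : Subgroup G)
    haveI : (N.map (QuotientGroup.mk' ⁅A, A⁆)).Normal := Subgroup.Normal.map inferInstance _ hs
    haveI : (A.map (QuotientGroup.mk' ⁅A, A⁆)).Normal := Subgroup.Normal.map inferInstance _ hs
    have h1 : n ∈ relCharDegrees (⁅N.map (QuotientGroup.mk' ⁅A, A⁆),
        N.map (QuotientGroup.mk' ⁅A, A⁆)⁆ : Subgroup (G ⧸ (⁅A, A⁆ : Subgroup G))) := by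
      rw [← Subgroup.map_commutator, rel_map_iff]
      obtain ⟨χ, h1, h2, h3⟩ := rel_iff.1 hn
      exact ⟨χ, h1, h2, by_contra fun h4 => hnA (rel_iff.2 ⟨χ, h1, h2, h4⟩), h3⟩
    obtain ⟨b, ⟨x, hx, h2⟩, h3⟩ := lemP (p := p) (A := A.map (QuotientGroup.mk' ⁅A, A⁆))
      (N := N.map (QuotientGroup.mk' ⁅A, A⁆))
      (by rw [← Subgroup.map_commutator, QuotientGroup.map_mk'_self])
      (by
        rintro _ ⟨x, hx, rfl⟩
        obtain ⟨j, hj⟩ := hpow x hx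
        exact ⟨j, _, hj, by rw [map_pow]⟩) (ne_bot_of_der (ne_bot_of_rel h1))
    obtain ⟨χ, h4, h5, -, h6⟩ := rel_map_iff.1 hx
    refine ⟨b, ?_, h3 n h1⟩
    rcases h x (rel_iff.2 ⟨χ, h4, h5, h6⟩) with rfl | rfl
    · exact h2
    · exact (h2 (h3 x h1)).elim
  obtain ⟨α, a, c, hα, ha, ha1, hc⟩ := exists_nonlinear hA1
  obtain rfl := hm α a hα ha ha1 c hc
  by_cases hV : N ≤ In A α
  swap
  · have hs := QuotientGroup.mk'_surjective A
    haveI : (N.map (QuotientGroup.mk' A)).Normal := Subgroup.Normal.map inferInstance _ hs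
    obtain ⟨x, hx, s, h1, h2⟩ := lemP' (p := p) (N := N.map (QuotientGroup.mk' A))
      (V := (In A α).map (QuotientGroup.mk' A)) (by
        rintro ⟨_, x, hx, rfl⟩
        obtain ⟨j, hj⟩ := hpow x hx
        refine ⟨j, Subtype.ext ?_⟩
        change QuotientGroup.mk' A x ^ p ^ j = 1
        rw [← map_pow]; exact (QuotientGroup.eq_one_iff _).2 hj) (by
        rwa [Subgroup.map_le_map_iff, QuotientGroup.ker_mk', sup_eq_left.2 (le_In hα)])
    rw [Subgroup.index_map_eq _ hs (by rw [QuotientGroup.ker_mk']; exact le_In hα)] at h2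
    have h3 := h2.trans ((Dvd.intro _ rfl).trans (over_dvd hα ha hc))
    obtain ⟨χ, h4, h5, -, h6⟩ := rel_map_iff.1 hx
    rcases h x (rel_iff.2 ⟨χ, h4, h5, h6⟩) with rfl | rfl
    · exact h1 h3
    · refine h1 ((pow_dvd_pow p ?_).trans hb2)
      by_contra h7
      exact hb1 ((pow_dvd_pow p (by omega)).trans h3)
  obtain ⟨θ, hθ, h1⟩ := ext_of_le_In hAN hα hV (by
    rw [hk]; exact (hp.out.coprime_iff_not_dvd.2 hA).pow_left k)
  obtain ⟨β, hβ1, hβ⟩ := exists_lin_prime hp.out hpN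
  have hpa : ¬ p ∣ a := fun h8 => hA (h8.trans (deg_dvd_card hα ha))
  obtain ⟨ν, htw⟩ := exists_tw hθ (d := a) (by rw [← ha, ← h1]; rfl) hβ
    (hp.out.coprime_iff_not_dvd.2 hpa)
  have hα' := lin_mul_irr hα (ν.comp (Subgroup.inclusion hAN))
  have h2 : ∀ x : A, (lin ν * θ) ⟨x, hAN x.2⟩ = (lin (ν.comp (Subgroup.inclusion hAN)) * α) x :=
    fun x => by simp only [Pi.mul_apply, h1]; rfl
  have ha' : (lin (ν.comp (Subgroup.inclusion hAN)) * α) 1 = a := by simp [ha, lin]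
  obtain ⟨x, hx⟩ := exists_over (E := NEmb.ofNormal N) htw.irr
  obtain rfl := hm _ a hα' ha' ha1 x (Ov.down hAN htw.irr hα' hx (un_of_ext hAN hα' h2))
  obtain ⟨c', h3, h4, h5⟩ := htw.extT hx _ le_rfl (htw.inertia_le _)
  have hx0 := hx.ne_zero
  have h6 : ¬ p ∣ c' := fun h6 => by
    have h7 := (pow_dvd_index_In hA hα' (hm _ a hα' ha' ha1) (Nat.ordProj_dvd x p)).trans
      (Subgroup.index_dvd_of_le (In_le_of_ext hAN h2))
    have h8 := Nat.mul_dvd_mul h7 h6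
    rw [← h3, ← pow_succ] at h8
    exact Nat.pow_succ_factorization_not_dvd hx0 hp.out h8
  obtain ⟨μ, hμ⟩ := h5 (hp.out.coprime_iff_not_dvd.2 h6)
  have h7 : n ∣ (In N (lin ν * θ)).index * 1 := by
    by_contra h7
    obtain ⟨y, h8, h9, h10⟩ := exists_ind_rel (N := N) (isIrrCharacter_linear μ) (e := 1) (by simp)
      h7 (fun h8 => hβ1 (MonoidHom.ext fun y => by
        rw [← hμ]
        have := apply_of_mem_charKer (h8 (show (⟨y, le_In htw.irr y.2⟩ : In N (lin ν * θ)) ∈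
          N.subgroupOf _ from y.2))
        simp only [map_one, Units.val_one] at this
        exact Units.ext this))
    rcases h y h8 with rfl | rfl
    · have h11 : 2 ≤ c' := by
        have := Nat.le_of_dvd (Nat.pos_of_ne_zero (by rintro rfl; simp at h6)) h4
        have h12 : a ≠ 0 := by rintro rfl; simp at hpa
        omega
      have h12 := Nat.pos_of_ne_zero (Subgroup.index_ne_zero_of_finite (H := In N (lin ν * θ)))
      nlinarith
    · exact h9 dvd_rfl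
  rw [mul_one] at h7
  exact hb1 (hb2.trans (h7.trans ⟨c', h3⟩))

theorem C2' [Group.IsSolvable G] {m n : ℕ} (hmn : m ≠ n) (N : Subgroup G) (hN : N.Normal) :
    (∀ c ∈ relCharDegrees N, c = m ∨ c = n) → m ∈ relCharDegrees (⁅N, N⁆ : Subgroup G) →
      n ∈ relCharDegrees (⁅N, N⁆ : Subgroup G) → False := by
  refine normal_induction (Q := fun N => (∀ c ∈ relCharDegrees N, c = m ∨ c = n) →
    m ∈ relCharDegrees (⁅N, N⁆ : Subgroup G) → n ∈ relCharDegrees (⁅N, N⁆ : Subgroup G) → False)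
    ?_ N hN
  intro N hN ih h hm hn
  have h' : ∀ c ∈ relCharDegrees N, c = n ∨ c = m := fun c hc => (h c hc).symm
  by_cases hπ : ∀ r, r.Prime → r ∣ m → r ∣ n → ¬ r ∣ Nat.card N
  · obtain ⟨p, hp, hpN⟩ := exists_p (der_lt (ne_bot_of_der (ne_bot_of_rel hm)))
    by_cases hpm : p ∣ m
    · exact C2a_aux h' hn hm (fun r h1 h2 h3 => hπ r h1 h3 h2) hp hpN fun h1 =>
        hπ p hp hpm h1 (hpN.trans (Subgroup.relIndex_dvd_card _ _))
    · exact C2a_aux h hm hn hπ hp hpN hpm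
  push Not at hπ
  obtain ⟨p, hp, hpm, hpn, hpN⟩ := hπ
  haveI := Fact.mk hp
  have hA := thompson (p := p) (N := N) fun c hc => by
    rcases h c (rel_mono (der_le N) hc) with rfl | rfl <;> assumption
  have hlt : Op p N < N := lt_of_le_of_ne (Op_le N) fun h1 => hA (by rwa [h1])
  obtain ⟨k, hk⟩ := relIndex_Op (p := p) N
  by_cases hA1 : ⁅Op p N, Op p N⁆ = ⊥
  · obtain ⟨a, ⟨x, hx, h3⟩, h4⟩ := lemP (p := p) hA1 pow_mem_Op hlt.ne_bot
    rcases h x hx with rfl | rfl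
    · exact h3 (h4 _ hm)
    · exact h3 (h4 _ hn)
  by_cases hnA : n ∈ relCharDegrees (⁅Op p N, Op p N⁆ : Subgroup G)
  · exact C2b h' hm (Op_le N) hA (dvd_relIndex_of_Op_lt hlt) hk hA1 fun hmA =>
      ih _ inferInstance hlt (fun c hc => h c (rel_mono (Op_le N) hc)) hmA hnA
  · exact C2b h hn (Op_le N) hA (dvd_relIndex_of_Op_lt hlt) hk hA1 hnA

theorem C2 [Group.IsSolvable G] {m n : ℕ} (N : Subgroup G) [hN : N.Normal]
    (h : ∀ c ∈ relCharDegrees N, c = m ∨ c = n) : ⁅⁅N, N⁆, ⁅N, N⁆⁆ = ⊥ := by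
  by_cases hmn : m = n
  · subst hmn
    rw [C1 N hN (m := m) fun c hc => by simpa using h c hc]; simp
  by_cases hm : m ∈ relCharDegrees (⁅N, N⁆ : Subgroup G)
  · exact C1 _ inferInstance (m := m) fun c hc => (h c (rel_mono (der_le N) hc)).resolve_right
      fun h1 => C2' hmn N hN h hm (h1 ▸ hc)
  · exact C1 _ inferInstance (m := n) fun c hc => (h c (rel_mono (der_le N) hc)).resolve_left
      fun h1 => hm (h1 ▸ hc)

end Cfsg.Agent.H25.Gar
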