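import Mathlib
import Cfsg.Agent.H25.Gar3

/-!
Four character degrees: a common prime divisor, and a nonabelian prime power quotient.
-/

set_option autoImplicit false
set_option linter.dupNamespace false

namespace Cfsg.Agent.H25.Gar

open Cfsg Cfsg.Agent.H4 Cfsg.Agent.H5 Cfsg.Agent.H8 Cfsg.Agent.H2.RDeg Cfsg.Agent.H3
open scoped commutatorElement

variable {G : Type*} [Group G] [Finite G]

theorem der4_of_two [Group.IsSolvable G] {L : Subgroup G} (h : derivedSeries G 2 ≤ L) {m n : ℕ}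
    (h1 : ∀ c ∈ relCharDegrees L, c = m ∨ c = n) : derivedSeries G 4 = ⊥ :=
  C2 (derivedSeries G 2) fun c hc => h1 c (rel_mono h hc)

theorem common_prime {a b c r : ℕ} (hr : r.Prime)
    (ih : ∀ A : Subgroup G, A ≠ ⊤ → ∀ a b c : ℕ,
      (∀ d ∈ charDegrees A, d = 1 ∨ d = a ∨ d = b ∨ d = c) → derivedSeries A 4 = ⊥)
    (h : ∀ d ∈ charDegrees G, d = 1 ∨ d = a ∨ d = b ∨ d = c)
    (hd : ∀ d ∈ charDegrees G, d ≠ 1 → r ∣ d) : derivedSeries G 4 = ⊥ := by
  obtain ⟨A, hA, h1, ⟨k, hk⟩, h2⟩ := exists_compl_of_dvd_cd hr hd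
  by_cases hAt : A = ⊤
  · refine derivedSeries_eq_bot_of_comm (comm_iff_cd.2 fun d h3 => by_contra fun h4 => ?_) 3
    rw [hAt, Subgroup.card_top] at h1
    exact hr.ne_one (Nat.eq_one_of_dvd_coprimes h1 ((hd d h3 h4).trans (dvd_card_of_mem_cd h3))
      dvd_rfl)
  have hq : ∀ d ∈ charDegrees (G ⧸ ⁅A, A⁆), ordCompl[r] d = 1 ∧
      (d = 1 ∨ d = a ∨ d = b ∨ d = c) := fun d h3 =>
    ⟨ordCompl_eq_one_of_dvd hr (hk ▸ cd_quotient_commutator_dvd A h3), h d (cd_quotient_subset _ h3)⟩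
  have hs : ∀ d ∈ charDegrees A, d = 1 ∨ d = ordCompl[r] a ∨ d = ordCompl[r] b ∨
      d = ordCompl[r] c := fun d h3 => by
    obtain ⟨x, h4, rfl⟩ := h2 d h3
    rcases h x h4 with rfl | rfl | rfl | rfl <;> simp
  have H3 : ∀ x y z : ℕ, (∀ d ∈ charDegrees (G ⧸ ⁅A, A⁆), d = 1 ∨ d = x ∨ d = y) →
      (∀ d ∈ charDegrees A, d = 1 ∨ d = z) → derivedSeries G 4 = ⊥ := fun x y z h3 h4 =>
    derivedSeries_eq_bot_of_le (A := A) (j := 3) (i := 1) (k := 1) (by
      rw [map_derivedSeries_one]; exact derivedSeries_le_of_quotient (three_degrees _ x y h3))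
      (two_degrees A z h4)
  have H2 : ∀ x y z : ℕ, (∀ d ∈ charDegrees (G ⧸ ⁅A, A⁆), d = 1 ∨ d = x) →
      (∀ d ∈ charDegrees A, d = 1 ∨ d = y ∨ d = z) → derivedSeries G 4 = ⊥ := fun x y z h3 h4 =>
    derivedSeries_eq_bot_of_le (A := A) (j := 2) (i := 1) (k := 2) (by
      rw [map_derivedSeries_one]; exact derivedSeries_le_of_quotient (two_degrees _ x h3))
      (three_degrees A y z h4)
  by_cases ha : ordCompl[r] a = 1 <;> by_cases hb : ordCompl[r] b = 1 <;>
    by_cases hc : ordCompl[r] c = 1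
  · refine taketa_of_abelian (A := A) (fun x hx y hy => congrArg Subtype.val
      (comm_iff_cd.2 (fun d h3 => by have := hs d h3; omega) (⟨x, hx⟩ : A) ⟨y, hy⟩))
      (isNilpotent_quotient_of_index hr hk) ?_
    refine (Set.ncard_le_ncard (t := {1, a, b, c}) (fun d h3 => by simpa using h d h3)).trans ?_
    exact (Set.ncard_insert_le _ _).trans (Nat.succ_le_succ ((Set.ncard_insert_le _ _).trans
      (Nat.succ_le_succ ((Set.ncard_insert_le _ _).trans (by simp)))))
  · exact H3 a b (ordCompl[r] c) (fun d h3 => by have := hq d h3; grind) fun d h3 => by have := hs d h3; grind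
  · exact H3 a c (ordCompl[r] b) (fun d h3 => by have := hq d h3; grind) fun d h3 => by have := hs d h3; grind
  · exact H2 a (ordCompl[r] b) (ordCompl[r] c) (fun d h3 => by have := hq d h3; grind) fun d h3 => by have := hs d h3; grind
  · exact H3 b c (ordCompl[r] a) (fun d h3 => by have := hq d h3; grind) fun d h3 => by have := hs d h3; grind
  · exact H2 b (ordCompl[r] a) (ordCompl[r] c) (fun d h3 => by have := hq d h3; grind)
      fun d h3 => by have := hs d h3; grind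
  · exact H2 c (ordCompl[r] a) (ordCompl[r] b) (fun d h3 => by have := hq d h3; grind)
      fun d h3 => by have := hs d h3; grind
  · exact derivedSeries_eq_bot_of_le (A := A) (j := 1) (i := 1) (k := 3) (by
      rw [map_derivedSeries_one]
      exact derivedSeries_le_of_quotient (derivedSeries_one_eq_bot_of_cd fun d h3 => by
        have := hq d h3; grind)) (ih A hAt _ _ _ hs)

theorem comm_mem_of_cd {A T : Subgroup G} [A.Normal]
    (h : ∀ b ∈ charDegrees (T ⧸ A.subgroupOf T), b = 1) {x y : G} (hx : x ∈ T) (hy : y ∈ T) :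
    ⁅x, y⁆ ∈ A := by
  have h4 := (comm_iff_cd (G := T ⧸ A.subgroupOf T)).2 h
    (QuotientGroup.mk' _ ⟨x, hx⟩) (QuotientGroup.mk' _ ⟨y, hy⟩)
  rw [← commutatorElement_eq_one_iff_mul_comm, ← map_commutatorElement] at h4
  exact (QuotientGroup.eq_one_iff (N := A.subgroupOf T) _).1 h4

theorem exists_lin_ext {A T : Subgroup G} [A.Normal] (hAT : A ≤ T) {lam : A →* ℂˣ}
    (hT : T ≤ In A (lin lam)) {o : ℕ} (ho : lam ^ o = 1) (hc : (A.relIndex T).Coprime o) :
    ∃ μ : T →* ℂˣ, (∀ a : A, μ ⟨a, hAT a.2⟩ = lam a) ∧ μ ^ o = 1 := by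
  obtain ⟨μ, h1, h2⟩ := (NEmb.ofLeNormal hAT).exists_linear_ext_of_coprime (lam := lam)
    (fun g n => Units.ext ((NEmb.mem_inertia (NEmb.ofNormal A)).1 (hT g.2) n)) (by
      rw [NEmb.ofLeNormal_index]
      exact hc.coprime_dvd_right (orderOf_dvd_of_pow_eq_one ho))
  exact ⟨μ, h1, (orderOf_dvd_iff_pow_eq_one (x := μ) (n := o)).1 (by rw [h2]; exact orderOf_dvd_of_pow_eq_one ho)⟩

theorem pcore [Group.IsSolvable G] {p e i : ℕ} [hp : Fact p.Prime] {D : Subgroup G} [D.Normal]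
    (hE : pResidual p G ≤ D) (hE1 : pResidual p G ≠ ⊥)
    (J1a : ∀ x ∈ charDegrees G, p ∣ x → p ^ e ∣ x) (J1b : ∀ x ∈ charDegrees G, ¬ p ^ (e + 1) ∣ x)
    {χ : G → ℂ} (hχ : IsIrrCharacter G χ) (hχ1 : χ 1 = (p ^ e : ℕ)) (hχD : D ≤ charKer χ)
    {η : D → ℂ} (hη : IsIrrCharacter D η) (hη1 : η 1 = (p ^ i : ℕ)) (hi : i ≠ 0)
    (J4 : ∀ (μ : G →* ℂˣ) (v : ℕ), p.Coprime v → μ ^ v = 1 → μ = 1) : False := by
  set E := pResidual p G with hEdef
  obtain ⟨v, hv, hvE⟩ := exists_p (der_lt hE1)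
  obtain ⟨ρ, hρ1, hρ⟩ := exists_lin_prime hv hvE
  haveI := Fact.mk hv
  have hpv : p.Coprime v := (Nat.coprime_primes hp.out hv).2 fun h => by
    refine not_dvd_orderOf_linear (p := p) pResidual_pResidual ρ ?_
    rw [orderOf_eq_prime hρ hρ1, h]
  obtain ⟨k, hk⟩ := exists_index_pResidual (p := p) (G := G)
  set B := In E (lin ρ) with hB
  have hEB : E ≤ B := le_In (isIrrCharacter_linear ρ)
  have hrel : E.relIndex B ∣ p ^ k := hk ▸ Subgroup.relIndex_dvd_index_of_normal E B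
  obtain ⟨μ, hμ, hμv⟩ := exists_lin_ext hEB le_rfl hρ ((hpv.pow_left k).coprime_dvd_left hrel)
  obtain ⟨j, -, hj⟩ := (Nat.dvd_prime_pow hp.out).1 (hk ▸ Subgroup.index_dvd_of_le hEB)
  have hj0 : j ≠ 0 := by
    rintro rfl
    rw [pow_zero, Subgroup.index_eq_one] at hj
    have h1 := J4 (μ.comp (MonoidHom.codRestrict (MonoidHom.id G) B
      (fun x => hj ▸ Subgroup.mem_top x))) v hpv (MonoidHom.ext fun x => by
        rw [MonoidHom.pow_apply, MonoidHom.comp_apply, ← MonoidHom.pow_apply, hμv]; rfl)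
    exact hρ1 (MonoidHom.ext fun a => by rw [← hμ]; exact DFunLike.congr_fun h1 (a : G))
  have h1 : ∀ b ∈ charDegrees (B ⧸ E.subgroupOf B), p ^ j * b ∈ charDegrees G := fun b hb =>
    hj ▸ over_mem_cd (ov_of_ext μ hμ hb)
  have hje : e ≤ j := by
    have h2 := J1a _ (h1 1 one_mem_cd) (by rw [mul_one]; exact dvd_pow_self p hj0)
    rwa [mul_one, Nat.pow_dvd_pow_iff_le_right hp.out.one_lt] at h2
  have h2 : ∀ b ∈ charDegrees (B ⧸ E.subgroupOf B), b = 1 := fun b hb => by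
    obtain ⟨l, -, rfl⟩ := (Nat.dvd_prime_pow hp.out).1 ((dvd_card_of_mem_cd hb).trans hrel)
    have h3 := J1b _ (h1 _ hb)
    rw [← pow_add, Nat.pow_dvd_pow_iff_le_right hp.out.one_lt] at h3
    rw [show l = 0 by omega, pow_zero]
  have hej : j = e := by
    have h3 := J1b _ (h1 1 one_mem_cd)
    rw [mul_one, Nat.pow_dvd_pow_iff_le_right hp.out.one_lt] at h3
    omega
  subst hej
  have hDB : D ≤ B := by
    haveI := hχ.isCharacter.charKer_normal
    have h3 := degree_le_index_of_commutator_mem hχ (B := B ⊔ D) fun x hx y hy => by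
      obtain ⟨t, ht, c, hc, rfl⟩ := (H1.mem_sup_of_le_normalizer_right
        Subgroup.le_normalizer_of_normal).1 hx
      obtain ⟨t', ht', c', hc', rfl⟩ := (H1.mem_sup_of_le_normalizer_right
        Subgroup.le_normalizer_of_normal).1 hy
      have e : ∀ c ∈ D, QuotientGroup.mk' (charKer χ) c = 1 := fun c hc =>
        (QuotientGroup.eq_one_iff _).2 (hχD hc)
      rw [← QuotientGroup.eq_one_iff]
      change QuotientGroup.mk' (charKer χ) _ = 1
      rw [map_commutatorElement, map_mul, map_mul, e c hc, e c' hc', mul_one, mul_one,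
        ← map_commutatorElement]
      exact e _ (hE (comm_mem_of_cd h2 ht ht'))
    rw [charDegree_eq_of hχ1, ← hj] at h3
    by_contra h4
    exact h3.not_gt (Subgroup.index_strictAnti (left_lt_sup.2 h4))
  obtain ⟨ν, htw⟩ := exists_tw hη hη1 (lam := μ.comp (Subgroup.inclusion hDB)) (o := v)
    (MonoidHom.ext fun x => by
      rw [MonoidHom.pow_apply, MonoidHom.comp_apply, ← MonoidHom.pow_apply, hμv]; rfl)
    (hpv.symm.pow_right i)
  obtain ⟨x, hx⟩ := exists_over (E := NEmb.ofNormal D) htw.irr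
  have h3 : B.index ∣ (In D (lin (μ.comp (Subgroup.inclusion hDB)))).index :=
    Subgroup.index_dvd_of_le (In_le_of_ext hE fun a => congrArg Units.val (hμ a))
  refine J1b x (over_mem_cd hx) (Dvd.dvd.trans ?_ (htw.dvd hx))
  rw [pow_succ, ← hj]
  exact Nat.mul_dvd_mul h3 (dvd_pow_self p hi)

theorem pcase [Group.IsSolvable G] {p e d : ℕ} [hp : Fact p.Prime] (he : e ≠ 0) (hd : ¬ p ∣ d)
    (hd1 : d ≠ 1) (h : ∀ x ∈ charDegrees G, x = 1 ∨ x = p ^ e ∨ x = d ∨ x = p ^ e * d)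
    {K : Subgroup G} [K.Normal] (hK : IsPGroup p (G ⧸ K)) (hKe : p ^ e ∈ charDegrees (G ⧸ K)) :
    derivedSeries G 4 = ⊥ := by
  set R := pResidual p G with hR
  obtain ⟨k, hk⟩ := exists_index_pResidual (p := p) (G := G)
  have hpe : p ∣ p ^ e := dvd_pow_self p he
  have hpow : ∀ x ∈ charDegrees G, x ∣ p ^ k → x = 1 ∨ x = p ^ e := fun x hx h1 => by
    have h2 : ¬ d ∣ x := fun h2 => hd1 (Nat.eq_one_of_dvd_coprimes
      ((hp.out.coprime_iff_not_dvd.2 hd).pow_left k) (h2.trans h1) dvd_rfl)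
    rcases h x hx with h3 | h3 | h3 | h3
    · exact Or.inl h3
    · exact Or.inr h3
    · exact (h2 h3.symm.dvd).elim
    · exact (h2 (h3 ▸ Dvd.intro_left _ rfl)).elim
  have hR2 : derivedSeries G 2 ≤ ⁅R, R⁆ := derivedSeries_le_of_quotient (two_degrees _ (p ^ e)
    fun x hx => hpow x (cd_quotient_subset _ hx) (hk ▸ cd_quotient_commutator_dvd R hx))
  by_cases hA : p ^ e ∈ relCharDegrees (⁅R, R⁆ : Subgroup G)
  swap
  · refine der4_of_two hR2 (m := d) (n := p ^ e * d) fun c hc => ?_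
    rcases h c (rel_cd hc) with h1 | h1 | h1
    · obtain ⟨θ, y, h2, h3, h4, h5⟩ := exists_of_rel_der hc
      exact (h4 (Nat.dvd_one.1 (h1 ▸ over_deg_dvd h2 h3 h5))).elim
    · exact (hA (h1 ▸ hc)).elim
    · exact h1
  let P : Sylow p G := default
  set J := Subgroup.normalClosure ((P : Subgroup G) : Set G) with hJ
  have hPJ : (P : Subgroup G) ≤ J := Subgroup.le_normalClosure
  have hJi : ¬ p ∣ J.index := fun h1 => P.not_dvd_index (h1.trans (Subgroup.index_dvd_of_le hPJ))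
  have hdvd : ∀ x ∈ charDegrees G, p ∣ x → x = p ^ e ∨ x = p ^ e * d := fun x hx h1 => by
    rcases h x hx with h3 | h3 | h3 | h3
    · exact (hp.out.ne_one (Nat.dvd_one.1 (h3 ▸ h1))).elim
    · exact Or.inl h3
    · exact (hd (h3 ▸ h1)).elim
    · exact Or.inr h3
  have hndvd : ∀ x ∈ charDegrees G, ¬ p ^ (e + 1) ∣ x := fun x hx h1 => by
    rcases hdvd x hx ((dvd_pow_self p (Nat.succ_ne_zero e)).trans h1) with rfl | rfl
    · rw [Nat.pow_dvd_pow_iff_le_right hp.out.one_lt] at h1; omega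
    · exact not_pow_succ_dvd hp.out hd (mul_comm d _ ▸ h1)
  by_cases hE : pResidual p J = ⊥
  · have hJp : IsPGroup p J := pResidual_eq_bot_iff.1 hE
    have hJ2 : derivedSeries G 2 ≤ J := derivedSeries_le_of_quotient (two_degrees _ d
      fun x hx => by
        have h1 : ¬ p ∣ x := fun h1 => hJi (h1.trans (dvd_card_of_mem_cd hx))
        rcases h x (cd_quotient_subset _ hx) with h3 | h3 | h3 | h3
        · exact Or.inl h3
        · exact (h1 (h3 ▸ hpe)).elim
        · exact Or.inr h3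
        · exact (h1 (h3 ▸ hpe.mul_right d)).elim)
    have hD : IsPGroup p (derivedSeries G 2) := hJp.to_le hJ2
    obtain ⟨l, hl⟩ := IsPGroup.iff_card.1 hD
    have h1 : ∀ c ∈ relCharDegrees (derivedSeries G 3), p ^ e ∣ c := fun c hc => by
      obtain ⟨θ, y, h2, h3, h4, h5⟩ := exists_of_rel_der (N := derivedSeries G 2) hc
      obtain ⟨j, -, rfl⟩ := (Nat.dvd_prime_pow hp.out).1 (hl ▸ deg_dvd_card h2 h3)
      rcases hdvd c (rel_cd hc) ((dvd_pow_self p (by rintro rfl; exact h4 rfl)).trans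
        (over_deg_dvd h2 h3 h5)) with rfl | rfl
      · exact dvd_rfl
      · exact Dvd.intro _ rfl
    by_contra h2
    obtain ⟨a, ⟨x, hx, h3⟩, h4⟩ := lemP (p := p) (A := ⊥) (N := derivedSeries G 3) (by simp)
      (fun n hn => by
        obtain ⟨j, hj⟩ := hD ⟨n, der_le _ hn⟩
        exact ⟨j, congrArg Subtype.val hj⟩) (ne_bot_of_der h2)
    obtain ⟨y, hy⟩ := exists_rel h2
    refine h3 ((pow_dvd_pow p ?_).trans (h1 x hx))
    by_contra h5
    exact hndvd y (rel_cd hy) ((pow_dvd_pow p (by omega)).trans (h4 y hy))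
  exfalso
  obtain ⟨ξ, hξ, hξ1⟩ := mem_cd.1 hKe
  have hRK : R ≤ K := pResidual_le_of_isPGroup_quotient hK
  have hker := hRK.trans (le_charKer_inflate ξ)
  have hres := irr_res_of_sup_charKer hξ.inflate (H := J) (by
    rw [eq_top_iff, ← pResidual_sup_sylow P]
    exact sup_le (hker.trans le_sup_right) (hPJ.trans le_sup_left))
  obtain ⟨θ, y, h2, h3, h4, h5⟩ := exists_of_rel_der hA
  obtain ⟨i, -, rfl⟩ := (Nat.dvd_prime_pow hp.out).1 (over_deg_dvd h2 h3 h5)
  let f : R.subgroupOf J →* R :=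
    MonoidHom.codRestrict (J.subtype.comp (R.subgroupOf J).subtype) R fun x => x.2
  have hf : f.range = J.subgroupOf R := by
    ext x
    exact ⟨fun ⟨y, hy⟩ => by rw [← hy]; exact y.1.2, fun hx => ⟨⟨⟨x, hx⟩, x.2⟩, rfl⟩⟩
  have h6 := irr_res_of_coprime (NEmb.ofHom f (fun a b hab => Subtype.ext (Subtype.ext
    (congrArg (fun z : R => (z : G)) hab))) (by rw [hf]; infer_instance)) h2 h3 (by
      change f.range.index.Coprime _
      rw [hf]
      exact ((hp.out.coprime_iff_not_dvd.2 fun h6 => hJi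
        (h6.trans (Subgroup.relIndex_dvd_index_of_normal J R))).symm).pow_right i)
  refine pcore (G := J) (p := p) (e := e) (i := i) (D := R.subgroupOf J)
    (fun x hx => pResidual_map_le J.subtype ⟨x, hx, rfl⟩) hE (fun x hx h7 => ?_) (fun x hx h7 => ?_)
    hres hξ1 (fun x hx => hres.isCharacter.mem_charKer.2 (by
      have := apply_of_mem_charKer (hker hx); exact this))
    h6 (by rw [map_one, h3]) (by rintro rfl; exact h4 rfl) fun μ v hv hμ => ?_
  · obtain ⟨u, hu, h8⟩ := cd_over_normal J hx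
    have h9 : (p ^ e).Coprime u := (hp.out.coprime_iff_not_dvd.2 fun h9 => hJi (h9.trans hu)).pow_left e
    rcases hdvd _ h8 (h7.mul_left u) with h10 | h10
    · exact h9.dvd_of_dvd_mul_left h10.symm.dvd
    · exact h9.dvd_of_dvd_mul_left (h10 ▸ Dvd.intro _ rfl)
  · obtain ⟨u, -, h8⟩ := cd_over_normal J hx
    exact hndvd _ h8 (h7.mul_left u)
  · refine MonoidHom.ext fun ⟨x, hx⟩ => ?_
    change μ ⟨x, hx⟩ = 1
    induction hx using Subgroup.closure_induction with
    | mem x hx =>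
      obtain ⟨s, hs, hc⟩ := Group.mem_conjugatesOfSet_iff.1 hx
      obtain ⟨j, hj⟩ := P.2 ⟨s, hs⟩
      have hj' : s ^ p ^ j = 1 := congrArg Subtype.val hj
      have hx' : x ^ p ^ j = 1 := by
        have := hc.pow (p ^ j)
        rwa [hj', isConj_one_right] at this
      refine eq_one_of_coprime (hv.pow_left j) ?_ ?_
      · rw [← map_pow]
        exact (congrArg μ (Subtype.ext hx')).trans (map_one μ)
      · rw [← MonoidHom.pow_apply, hμ]; rfl
    | one => exact map_one μ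
    | mul x y hx hy h1 h2 =>
      exact (map_mul μ ⟨x, hx⟩ ⟨y, hy⟩).trans (by rw [h1, h2, mul_one])
    | inv x hx h1 => exact (map_inv μ ⟨x, hx⟩).trans (by rw [h1, inv_one])

end Cfsg.Agent.H25.Gar
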