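import Mathlib
import Cfsg.Agent.H25.Gar4
import Cfsg.Agent.H2.Sys
import Cfsg.Agent.H19.Count
import Cfsg.Agent.H2.TwoCl

/-!
Orbit counts and fully ramified characters.
-/

set_option autoImplicit false
set_option linter.dupNamespace false

namespace Cfsg.Agent.H25.Gar

open Cfsg Cfsg.Agent.H4 Cfsg.Agent.H5 Cfsg.Agent.H8 Cfsg.Agent.H2.RDeg Cfsg.Agent.H3
open scoped commutatorElement

theorem num1 {u n f Q c : ℕ} (hu : u.Prime) (hn : n ≠ 0) (hQ : 2 ≤ Q) (h1 : f ∣ Q - 1) (h2 : Q ∣ c)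
    (h3 : c ∣ u ^ n - 1) : ¬ u ^ n * u ∣ f ^ 2 := by
  intro h
  have hf : f ≠ 0 := by rintro rfl; simp at h1; omega
  set a := f.factorization u with ha
  have h4 : n + 1 ≤ 2 * a := by
    rw [← pow_succ, hu.pow_dvd_iff_le_factorization (pow_ne_zero 2 hf), Nat.factorization_pow] at h
    simpa using h
  have h5 : u ^ a ∣ Q - 1 := (Nat.ordProj_dvd f u).trans h1
  obtain ⟨k, hk⟩ := h2.trans h3
  have hU : 2 ≤ u ^ n := hu.two_le.trans (Nat.le_self_pow hn u)
  have hk0 : k ≠ 0 := by rintro rfl; omega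
  have h6 : u ^ a ≤ Q - 1 := Nat.le_of_dvd (by omega) h5
  have h7 : Q ≤ Q * k := Nat.le_mul_of_pos_right _ (Nat.pos_of_ne_zero hk0)
  have h8 : a ≤ n := by
    have : u ^ a < u ^ n := by omega
    exact ((Nat.pow_lt_pow_iff_right hu.one_lt).1 this).le
  have h9 : u ^ a ∣ k + 1 := by
    have e : u ^ n = (Q - 1) * k + (k + 1) := by
      obtain ⟨Q', rfl⟩ : ∃ Q', Q = Q' + 1 := ⟨Q - 1, by omega⟩
      simp only [Nat.add_sub_cancel]
      have : (Q' + 1) * k = Q' * k + k := by ring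
      omega
    exact (Nat.dvd_add_right (h5.mul_right k)).1 (e ▸ pow_dvd_pow u h8)
  have h10 := Nat.le_of_dvd (by omega) h9
  have h11 : u ^ n * u ≤ u ^ a * u ^ a := by
    rw [← pow_succ, ← pow_add]; exact Nat.pow_le_pow_right hu.pos (by omega)
  have h12 : (u ^ a + 1) * (u ^ a - 1) ≤ Q * k := Nat.mul_le_mul (by omega) (by omega)
  have h13 : 1 ≤ u ^ a := Nat.one_le_pow _ _ hu.pos
  have h14 : (u ^ a + 1) * (u ^ a - 1) + 1 = u ^ a * u ^ a := by
    obtain ⟨F, hF⟩ : ∃ F, u ^ a = F + 1 := ⟨u ^ a - 1, by omega⟩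
    rw [hF]; simp only [Nat.add_sub_cancel]; ring
  have h15 : u ^ n * 2 ≤ u ^ n * u := Nat.mul_le_mul_left _ hu.two_le
  omega

theorem num2 {y e t g m f : ℕ} (h1 : y = e * t * g) (h2 : m = e * e * t) (h3 : y ∣ f)
    (h : ∀ u, u.Prime → u ∣ m → ¬ u ^ m.factorization u * u ∣ f ^ 2) : t = 1 ∧ m.Coprime g := by
  have key : ∀ u, u.Prime → u ∣ m → ¬ u ∣ t * g := fun u hu h4 h5 => h u hu h4 (by
    refine Dvd.dvd.trans ?_ (pow_dvd_pow_of_dvd h3 2)
    rw [show y ^ 2 = m * (t * g * g) by rw [h1, h2]; ring]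
    exact Nat.mul_dvd_mul (Nat.ordProj_dvd m u) (h5.mul_right g))
  refine ⟨by_contra fun h4 => ?_, Nat.coprime_of_dvd fun u hu h4 h5 => key u hu h4 (h5.mul_left t)⟩
  obtain ⟨u, hu, h5⟩ := Nat.exists_prime_and_dvd h4
  exact key u hu (h2 ▸ h5.mul_left _) (h5.mul_right g)

theorem mem_sylow_comm {A : Type*} [CommGroup A] {u : ℕ} (P : Sylow u A) (μ : A) :
    μ ∈ (P : Subgroup A) ↔ ∃ k, μ ^ u ^ k = 1 := by
  refine ⟨fun h1 => ?_, fun ⟨k, hk⟩ => ?_⟩
  · obtain ⟨k, hk⟩ := P.2 ⟨μ, h1⟩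
    exact ⟨k, congrArg Subtype.val hk⟩
  · have h1 : IsPGroup u (Subgroup.zpowers μ) := by
      rintro ⟨_, j, rfl⟩
      refine ⟨k, Subtype.ext ?_⟩
      change (μ ^ j) ^ u ^ k = 1
      rw [← zpow_natCast, ← zpow_mul, mul_comm, zpow_mul, zpow_natCast, hk, one_zpow]
    exact (H1.le_pCore h1).trans (H1.pCore_le_sylow P) (Subgroup.mem_zpowers μ)

variable {G : Type*} [Group G] [Finite G]

theorem finite_lin (N : Type*) [Group N] [Finite N] : Finite (N →* ℂˣ) :=
  Nat.finite_of_card_ne_zero (by rw [card_monoidHom_units]; exact Subgroup.index_ne_zero_of_finite)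

theorem dvd_ordProj_sub_one {N : Subgroup G} [N.Normal] {c u : ℕ} (hu : u.Prime)
    (h : ∀ φ : N →* ℂˣ, φ ≠ 1 → c ∣ (In N (lin φ)).index) :
    c ∣ u ^ ((⁅N, N⁆ : Subgroup G).relIndex N).factorization u - 1 := by
  haveI := Fact.mk hu
  haveI := finite_lin N
  let E := NEmb.ofNormal N
  letI : MulAction G (N →* ℂˣ) :=
    { smul := fun g μ => μ.comp (E.actEquiv g⁻¹).toMonoidHom
      one_smul := fun μ => MonoidHom.ext fun n => by
        show μ (E.act (1 : G)⁻¹ n) = μ n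
        simp [E.act_one]
      mul_smul := fun g h μ => MonoidHom.ext fun n => by
        show μ (E.act (g * h)⁻¹ n) = μ (E.act h⁻¹ (E.act g⁻¹ n))
        rw [← E.act_mul]; simp }
  have hs : ∀ (g : G) (μ : N →* ℂˣ) n, (g • μ) n = μ (E.act g⁻¹ n) := fun _ _ _ => rfl
  let P : Sylow u (N →* ℂˣ) := default
  have hP : ∀ μ : N →* ℂˣ, μ ∈ (P : Subgroup (N →* ℂˣ)) ↔ ∃ k, μ ^ u ^ k = 1 :=
    mem_sylow_comm (A := N →* ℂˣ) P
  have h1 := H19.dvd_ncard_of_invariant' (H := G) c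
    (((P : Subgroup (N →* ℂˣ)) : Set (N →* ℂˣ)) \ {1}) (fun g μ hμ => by
      obtain ⟨k, hk⟩ := (hP μ).1 hμ.1
      refine ⟨(hP _).2 ⟨k, MonoidHom.ext fun n => ?_⟩, fun h1 => hμ.2 (MonoidHom.ext fun n => ?_)⟩
      · rw [MonoidHom.pow_apply, hs, ← MonoidHom.pow_apply, hk]; rfl
      · have := DFunLike.congr_fun (Set.mem_singleton_iff.1 h1) (E.act g n)
        rw [hs, E.act_inv_act] at this
        exact this) (fun μ hμ => by
      have h1 : MulAction.stabilizer G μ = In N (lin μ) := by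
        ext g
        rw [MulAction.mem_stabilizer_iff, ← inv_mem_iff (x := g), NEmb.mem_inertia]
        exact ⟨fun h1 n => congrArg Units.val (DFunLike.congr_fun h1 n),
          fun h1 => MonoidHom.ext fun n => Units.ext (h1 n)⟩
      rw [h1]; exact h μ hμ.2)
  rwa [Set.ncard_diff_singleton_of_mem (one_mem _), ← Nat.card_coe_set_eq, SetLike.coe_sort_coe,
    P.card_eq_multiplicity, card_monoidHom_units, index_comm] at h1

theorem frob_dvd {K N : Subgroup G} (F : FrobQ K N) : N.index ∣ K.relIndex N - 1 := by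
  haveI := F.nK
  haveI := F.nN
  have hs := QuotientGroup.mk'_surjective K
  haveI hn : (N.map (QuotientGroup.mk' K)).Normal := Subgroup.Normal.map inferInstance _ hs
  have h1 := H2.TwoCl.dvd_ncard (⊤ : Subgroup (G ⧸ K))
    ((N.map (QuotientGroup.mk' K) : Set (G ⧸ K)) \ {1}) (k := N.index) (fun g _ s hs' =>
      ⟨hn.conj_mem s hs'.1 g, fun h1 => hs'.2 (by simpa using h1)⟩) (by
      rintro _ ⟨⟨n, hn', rfl⟩, h1⟩
      have h2 : Subgroup.centralizer {QuotientGroup.mk' K n} = N.map (QuotientGroup.mk' K) := by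
        ext x
        obtain ⟨x, rfl⟩ := hs x
        rw [Subgroup.mem_centralizer_singleton_iff, ← commutatorElement_eq_one_iff_mul_comm,
          ← map_commutatorElement, QuotientGroup.mk'_apply, QuotientGroup.eq_one_iff]
        refine ⟨fun h2 => ⟨x, by_contra fun h3 => h1 ?_, rfl⟩, fun ⟨y, hy, h2⟩ => ?_⟩
        · exact (QuotientGroup.eq_one_iff n).2 (F.fpf x h3 n hn' h2)
        · obtain ⟨k, hk, rfl⟩ := (QuotientGroup.mk'_eq_mk' K).1 h2
          exact F.comm _ (mul_mem hy (F.le hk)) n hn'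
      rw [h2, Subgroup.relIndex_top_right,
        Subgroup.index_map_eq _ hs (by rw [QuotientGroup.ker_mk']; exact F.le)])
  rwa [Set.ncard_diff_singleton_of_mem (one_mem _), ← Nat.card_coe_set_eq, SetLike.coe_sort_coe,
    ← H9.relIndex_eq_card_map_mk'] at h1

theorem stab_alg {A ι : Type*} [CommGroup A] (S : Subgroup A) (s : Finset ι) (f : ι → A) (x : A)
    (h : ∀ i ∈ s, f i / x ∈ S) (h1 : ∏ i ∈ s, f i = 1) : x ^ s.card ∈ S := by
  have h2 := S.prod_mem h
  rwa [Finset.prod_div_distrib, h1, Finset.prod_const, one_div, inv_mem_iff] at h2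

theorem lin_mul_eq {L : Subgroup G} [L.Normal]
    (hc : ((⁅L, L⁆ : Subgroup G).relIndex L).Coprime
      ((⁅⁅L, L⁆, ⁅L, L⁆⁆ : Subgroup G).relIndex ⁅L, L⁆))
    {η : (⁅L, L⁆ : Subgroup G) → ℂ}
    (h : ∀ φ : (⁅L, L⁆ : Subgroup G) →* ℂˣ, L ≤ In ⁅L, L⁆ (lin φ * η))
    (φ : (⁅L, L⁆ : Subgroup G) →* ℂˣ) : lin φ * η = η := by
  let S : Subgroup ((⁅L, L⁆ : Subgroup G) →* ℂˣ) :=
    { carrier := {ν | lin ν * η = η}
      one_mem' := by ext; simp [lin]
      mul_mem' := fun {a b} ha hb => by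
        ext x
        have h1 := congrFun ha x
        have h2 := congrFun hb x
        simp only [Pi.mul_apply, lin, MonoidHom.mul_apply, Units.val_mul] at h1 h2 ⊢
        rw [mul_assoc, h2, h1]
      inv_mem' := fun {a} ha => by
        ext x
        have h1 := congrFun ha x
        simp only [Pi.mul_apply, lin, MonoidHom.inv_apply] at h1 ⊢
        rw [Units.inv_mul_eq_iff_eq_mul, h1] }
  let E := NEmb.ofLeNormal (der_le L)
  have hφ := isIrrCharacter_linear φ
  have h1 : del E (lin φ) = 1 := by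
    obtain ⟨μ, hμ, -⟩ := exists_lin_ext (der_le L) (lam := del E (lin φ)) (fun g hg =>
      (NEmb.mem_inertia _).2 fun n => congrArg Units.val (del_inv (E := E) hφ ⟨g, hg⟩ n))
      (lin_pow_relIndex _) hc
    exact eq_one_of_ext (der_le L) le_rfl μ hμ
  have h2 := stab_alg S (E.orbit (lin φ)) detHom φ (fun ψ hψ => by
    obtain ⟨g, rfl⟩ := E.mem_orbit.1 hψ
    ext x
    have e1 := (NEmb.mem_inertia _).1 (h φ g.2) x
    have e2 := (NEmb.mem_inertia _).1 (h 1 g.2) x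
    simp only [Pi.mul_apply, lin, MonoidHom.one_apply, Units.val_one, one_mul] at e1 e2
    simp only [Pi.mul_apply, lin, MonoidHom.div_apply]
    rw [detHom_cj E hφ.isCharacter, detHom_linear, Units.val_div_eq_div_val, div_mul_eq_mul_div,
      div_eq_iff (φ x).ne_zero, mul_comm (η x), ← e1, e2]
    rfl) h1
  rw [E.card_orbit] at h2
  refine NEmb.mem_of_coprime S (hc.coprime_dvd_left ?_) h2 (by
    rw [lin_pow_relIndex]; exact one_mem _)
  rw [← NEmb.ofLeNormal_index (der_le L)]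
  exact Subgroup.index_dvd_of_le (E.range_le_inertia hφ.isClassFunction)

theorem ramif {N : Subgroup G} [N.Normal] {η : N → ℂ} (hη : IsIrrCharacter N η) {y : ℕ}
    (hy : η 1 = y) (h : ∀ φ : N →* ℂˣ, lin φ * η = η) {γ : (⁅N, N⁆ : Subgroup G) → ℂ}
    (hγ : IsIrrCharacter _ γ) {g : ℕ} (hg : γ 1 = g) (hu : Un (der_le N) η γ) :
    ∃ e, y = e * (In ⁅N, N⁆ γ).relIndex N * g ∧
      (⁅N, N⁆ : Subgroup G).relIndex N = e * e * (In ⁅N, N⁆ γ).relIndex N := by
  let E := NEmb.ofLeNormal (der_le N)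
  have hI : (E.inertia γ).index = (In ⁅N, N⁆ γ).relIndex N := rfl
  obtain ⟨e, he⟩ := (hη.isCharacter.comp E.f).classInner_nat hγ.isCharacter
  have h1 := E.clifford_degree hη hγ hu
  have h2 := E.clifford hη hγ hu
  rw [he] at h2
  rw [he, hy, hg, hI] at h1
  refine ⟨e, by exact_mod_cast h1, ?_⟩
  have h3 := E.inner_of_vanish (χ := η) η fun x hx => by
    rw [NEmb.ofLeNormal_range] at hx
    have h2 : Abelianization.of x ≠ 1 := fun h2 => hx (by
      have h3 : x ∈ commutator N := by rw [← Abelianization.ker_of]; exact h2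
      exact (Subgroup.map_subtype_commutator N).le ⟨_, h3, rfl⟩)
    obtain ⟨lam, h3⟩ := exists_linear_ne_one (G := Abelianization N) mul_comm h2
    have h4 := congrFun (h (lam.comp Abelianization.of)) x
    by_contra h5
    exact h3 (Units.ext ((mul_eq_right₀ h5).1 h4))
  rw [hη.classInner_self, mul_one, NEmb.ofLeNormal_index] at h3
  have h4 : classInner (fun n => η (E.f n)) (∑ φ ∈ E.orbit γ, φ) = (E.orbit γ).card * e := by
    rw [classInner_sum_right, Finset.sum_congr rfl (g := fun _ => (e : ℂ)) (fun φ hφ => by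
      obtain ⟨g, rfl⟩ := E.mem_orbit.1 hφ
      rw [E.inner_res_cj hη.isClassFunction, he]), Finset.sum_const, nsmul_eq_mul]
  nth_rw 2 [h2] at h3
  rw [classInner_smul_right, h4, E.card_orbit, hI, map_natCast] at h3
  apply Nat.cast_injective (R := ℂ)
  rw [← h3]; push_cast; ring

end Cfsg.Agent.H25.Gar
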