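import Mathlib
import Cfsg.Agent.H25.Gar5

/-!
Garrison's theorem: four character degrees give derived length at most four.
-/

set_option autoImplicit false
set_option linter.dupNamespace false

namespace Cfsg.Agent.H25.Gar

open Cfsg Cfsg.Agent.H4 Cfsg.Agent.H5 Cfsg.Agent.H8 Cfsg.Agent.H2.RDeg Cfsg.Agent.H3
open scoped commutatorElement

universe u

variable {G : Type*} [Group G] [Finite G]

theorem rel_ne_one {L : Subgroup G} (hL : L ≤ commutator G) {c : ℕ} (hc : c ∈ relCharDegrees L) :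
    c ≠ 1 := by
  rintro rfl
  obtain ⟨χ, h1, h2, h3⟩ := rel_iff.1 hc
  exact h3 (hL.trans (h1.commutator_le_charKer_iff.2 (by simpa using h2)))

theorem fcase [Group.IsSolvable G] {K N L : Subgroup G} [L.Normal] (F : FrobQ K N)
    (hLG : L ≤ commutator G) (hLN : L ≤ N) (hLK : ¬ L ≤ K) {q k f d c : ℕ} (hq : q.Prime)
    (hk : K.relIndex N = q ^ k) (hf : N.index = f) (hqf : ¬ q ∣ f) (hd1 : d ≠ 1) (hd : d ∣ f)
    (hqc : q ∣ c) (hcd : c.Coprime d)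
    (h : ∀ x ∈ charDegrees G, x = 1 ∨ x = f ∨ x = f * d ∨ x = c)
    (hfL : f ∈ relCharDegrees (⁅L, L⁆ : Subgroup G)) (hcL : c ∈ relCharDegrees (⁅L, L⁆ : Subgroup G)) :
    ⁅⁅⁅L, L⁆, ⁅L, L⁆⁆, ⁅⁅L, L⁆, ⁅L, L⁆⁆⁆ = (⊥ : Subgroup G) := by
  haveI := F.nK
  haveI := F.nN
  have hf0 : f ≠ 0 := hf ▸ Subgroup.index_ne_zero_of_finite
  have hqd : ¬ q ∣ d := fun h1 => hqf (h1.trans hd)
  have hdc : ∀ y, y ∣ d → y ∣ c → y = 1 := fun y h1 h2 => Nat.eq_one_of_dvd_coprimes hcd h2 h1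
  have hrel : ∀ x ∈ relCharDegrees L, x = f ∨ x = f * d ∨ x = c := fun x hx =>
    (h x (rel_cd hx)).resolve_left (rel_ne_one hLG hx)
  have self_mul : ∀ {t y : ℕ}, t ≠ 0 → t * y ∣ t → y = 1 := fun h1 h2 =>
    Nat.dvd_one.1 (Nat.dvd_of_mul_dvd_mul_left (Nat.pos_of_ne_zero h1) (by rwa [mul_one]))
  -- a linear character with inertia group inside `N`
  obtain ⟨lam, hlam, hI⟩ : ∃ lam : L →* ℂˣ, lam ^ q ^ k = 1 ∧ In L (lin lam) ≤ N := by
    obtain ⟨w, hw, hwK⟩ := SetLike.not_le_iff_exists.1 hLK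
    obtain ⟨ν, h1, h2⟩ := F.exists_linear_ne (w := ⟨w, hLN hw⟩) hwK
    refine ⟨ν.comp (Subgroup.inclusion hLN), MonoidHom.ext fun x => ?_, fun x hx => by_contra fun h3 =>
      h2 (F.linear_eq_one hLN h3 (fun w hw => Subgroup.Normal.conj_mem inferInstance w hw x) ν h1
        (fun w hw => Units.ext ((NEmb.mem_inertia _).1 hx ⟨w, hw⟩)) _ hw)⟩
    rw [MonoidHom.pow_apply, MonoidHom.comp_apply, ← MonoidHom.pow_apply, ← hk, Subgroup.relIndex,
      linear_pow_index ν _ fun n hn => h1 n hn]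
    rfl
  have F5 : ∀ (θ : L → ℂ) (y : ℕ), IsIrrCharacter L θ → θ 1 = y → y ≠ 1 → ¬ q ∣ y → y ∣ d :=
    fun θ y h1 h2 h3 h4 => by
      obtain ⟨ν, htw⟩ := exists_tw h1 h2 hlam ((hq.coprime_iff_not_dvd.2 h4).pow_left k)
      obtain ⟨x, hx⟩ := exists_over (E := NEmb.ofNormal L) htw.irr
      have h5 : f * y ∣ x := (Nat.mul_dvd_mul_right (hf ▸ Subgroup.index_dvd_of_le hI) y).trans
        (htw.dvd hx)
      rcases hrel x (rel_of_ov htw.irr (ne_one_of_deg htw.deg h3) hx) with rfl | rfl | rfl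
      · exact (h3 (self_mul hf0 h5)).elim
      · exact Nat.dvd_of_mul_dvd_mul_left (Nat.pos_of_ne_zero hf0) h5
      · exact (hd1 (hdc d dvd_rfl (hd.trans ((Dvd.intro _ rfl).trans h5)))).elim
  have hqx : ∀ x ∈ relCharDegrees L, q ∣ x → x = c := fun x hx h1 => by
    rcases hrel x hx with rfl | rfl | rfl
    · exact (hqf h1).elim
    · exact ((hq.dvd_mul.1 h1).elim hqf hqd).elim
    · rfl
  have hdx : ∀ x ∈ relCharDegrees L, x ≠ c → d ∣ x := fun x hx h1 => by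
    rcases hrel x hx with rfl | rfl | rfl
    · exact hd
    · exact Dvd.intro_left _ rfl
    · exact (h1 rfl).elim
  have F6 : ∀ u, u.Prime → u ∣ (⁅L, L⁆ : Subgroup G).relIndex L → u ∣ c := fun u hu h1 => by
    by_contra h2
    obtain ⟨μ, hμ1, hμ⟩ := exists_lin_prime hu h1
    obtain ⟨θ, y, h3, h4, h5, h6⟩ := exists_of_rel_der hcL
    have h7 := over_deg_dvd h3 h4 h6
    have h8 : q ∣ y := by_contra fun h8 => h5 (hdc y (F5 θ y h3 h4 h5 h8) h7)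
    obtain ⟨ν, htw⟩ := exists_tw h3 h4 hμ (hu.coprime_iff_not_dvd.2 fun h9 => h2 (h9.trans h7))
    obtain ⟨x, hx⟩ := exists_over (E := NEmb.ofNormal L) htw.irr
    obtain rfl := hqx x (rel_of_ov htw.irr (ne_one_of_deg htw.deg h5) hx)
      (h8.trans (over_deg_dvd htw.irr htw.deg hx))
    have h9 := htw.dvd hx
    have h10 := rel_of_ov (isIrrCharacter_linear μ) (lin_ne hμ1)
      (htw.ov1 hx (hu.coprime_iff_not_dvd.2 h2))
    by_cases h11 : (In L (lin μ)).index = x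
    · rw [h11] at h9; exact h5 (self_mul hx.ne_zero h9)
    · exact hd1 (hdc d dvd_rfl ((hdx _ h10 h11).trans ((Dvd.intro _ rfl).trans h9)))
  have hm0 : ((⁅L, L⁆ : Subgroup G).relIndex L).Coprime d :=
    Nat.coprime_of_dvd fun u hu h1 h2 => hu.ne_one (hdc u h2 (F6 u hu h1))
  set L₁ : Subgroup G := ⁅L, L⁆ with hL₁
  have h1L : L₁ ≤ L := der_le L
  have F7 : ∀ (η : L₁ → ℂ) (x : ℕ), IsIrrCharacter L₁ η → (η ≠ fun _ => 1) → Ov L₁ x η → x ≠ c →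
      ∃ y : ℕ, η 1 = y ∧ y ∣ d ∧ y ≠ 1 ∧ ∃ θ : L → ℂ, IsIrrCharacter L θ ∧
        ∀ a : L₁, θ ⟨a, h1L a.2⟩ = η a := fun η x h1 h2 h3 h4 => by
    obtain ⟨θ, h5, h6, h7⟩ := Ov.up h1L h3
    obtain ⟨y, -, hy⟩ := h5.exists_degree
    have h8 := ne_one_of_un h1L h5 h1 h7 le_rfl h2 hy
    have h9 : y ∣ d := F5 θ y h5 hy h8 fun h9 => h4 (hqx x
      (rel_of_ov h5 (ne_one_of_deg hy h8) h6) (h9.trans (over_deg_dvd h5 hy h6)))
    have h10 := irr_res_of_coprime (NEmb.ofLeNormal h1L) h5 hy (by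
      rw [NEmb.ofLeNormal_index]; exact hm0.coprime_dvd_right h9)
    have h11 := h10.eq_of_classInner_ne_zero h1 h7
    exact ⟨y, by rw [← h11, ← hy]; simp only [map_one], h9, h8, θ, h5, congrFun h11⟩
  have F7' : ∀ (η : L₁ → ℂ) (y : ℕ), IsIrrCharacter L₁ η → η 1 = y → y ∣ d → y ≠ 1 →
      ∃ θ : L → ℂ, IsIrrCharacter L θ ∧ ∀ a : L₁, θ ⟨a, h1L a.2⟩ = η a := fun η y h1 h2 h3 h4 => by
    obtain ⟨x, hx⟩ := exists_over (E := NEmb.ofNormal L₁) h1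
    obtain ⟨_, -, -, -, h5⟩ := F7 η x h1 (ne_one_of_deg h2 h4) hx fun h5 =>
      h4 (hdc y h3 (h5 ▸ over_deg_dvd h1 h2 hx))
    exact h5
  have F8 : ∀ (φ : L₁ →* ℂˣ) (x : ℕ), φ ≠ 1 → Ov L₁ x (lin φ) → x = c := fun φ x h1 h2 => by
    by_contra h3
    obtain ⟨y, h4, -, h5, -⟩ := F7 _ x (isIrrCharacter_linear φ) (lin_ne h1) h2 h3
    exact h5 (by simpa using h4.symm)
  set L₂ : Subgroup G := ⁅L₁, L₁⁆ with hL₂
  have h21 : L₂ ≤ L₁ := der_le L₁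
  have F9 : ∀ u, u.Prime → u ∣ L₂.relIndex L₁ → u ∣ d := fun u hu h1 => by
    obtain ⟨η, h2, h3, h4⟩ := mem_rel.1 hfL
    obtain ⟨y, h5, h6, h7, -⟩ := F7 η f h2 h3 h4 fun h5 => hqf (h5 ▸ hqc)
    by_contra h8
    have h9 : u.Coprime y := hu.coprime_iff_not_dvd.2 fun h9 => h8 (h9.trans h6)
    obtain ⟨φ, hφ1, hφ⟩ := exists_lin_prime hu h1
    obtain ⟨ν, htw⟩ := exists_tw h2 h5 hφ h9
    obtain ⟨θ, h10, h11⟩ := F7' _ y htw.irr htw.deg h6 h7
    have h12 : L ≤ In L₁ (lin φ) :=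
      (le_In h10).trans ((In_le_of_ext h1L h11).trans (htw.inertia_le _))
    obtain ⟨μ, hμ⟩ := (NEmb.mem_resL_range _).1 (htw.ext0 (NEmb.ofLeNormal h1L)
      (fun g n => Units.ext ((NEmb.mem_inertia (NEmb.ofNormal L₁)).1 (h12 g.2) n)) (c := y)
      ⟨θ, h10, by rw [← htw.deg, ← h11]; rfl, un_of_ext h1L htw.irr h11⟩ h9)
    exact hφ1 (eq_one_of_ext h1L le_rfl μ hμ)
  have hm1 : (L₂.relIndex L₁).Coprime c :=
    Nat.coprime_of_dvd fun u hu h1 h2 => hu.ne_one (hdc u (F9 u hu h1) h2)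
  have hm01 : (L₁.relIndex L).Coprime (L₂.relIndex L₁) :=
    Nat.coprime_of_dvd fun u hu h1 h2 => hu.ne_one (hdc u (F9 u hu h2) (F6 u hu h1))
  have F10 : ∀ φ : L₁ →* ℂˣ, φ ≠ 1 → ∀ b ∈ charDegrees (In L₁ (lin φ) ⧸ L₁.subgroupOf _),
      (In L₁ (lin φ)).index * b = c := fun φ h1 b hb => by
    obtain ⟨x, hx⟩ := exists_over (E := NEmb.ofNormal L₁) (isIrrCharacter_linear φ)
    obtain rfl := F8 φ x h1 hx
    exact F8 φ _ h1 ((tw_self (lin_pow_relIndex φ)).ov hx hm1 hb)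
  have F10' : ∀ φ : L₁ →* ℂˣ, φ ≠ 1 → (In L₁ (lin φ)).index = c := fun φ h1 => by
    simpa using F10 φ h1 1 one_mem_cd
  have hlt : L₂ < L₁ := der_lt (ne_bot_of_rel hfL)
  have F11 : q ^ k ∣ c := by
    obtain ⟨u, hu, h1⟩ := exists_p hlt
    obtain ⟨φ, hφ1, -⟩ := exists_lin_prime hu h1
    have h2 := F10' φ hφ1
    have h3 : ∀ b ∈ charDegrees (In L₁ (lin φ) ⧸ L₁.subgroupOf _), b = 1 := fun b hb => by
      have h3 := F10 φ hφ1 b hb
      rw [← h2] at h3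
      exact self_mul Subgroup.index_ne_zero_of_finite h3.dvd
    obtain ⟨g, hg, hgN⟩ := SetLike.not_le_iff_exists.1 (show ¬ In L₁ (lin φ) ≤ N from fun h4 =>
      hd1 (hdc d dvd_rfl (hd.trans (hf ▸ h2 ▸ Subgroup.index_dvd_of_le h4))))
    have h4 : L₁ ≤ K := Subgroup.commutator_le.2 fun a ha b hb => F.comm a (hLN ha) b (hLN hb)
    have h5 : In L₁ (lin φ) ⊓ N ≤ K := fun n hn =>
      F.fpf g hgN n hn.2 (h4 (comm_mem_of_cd h3 hg hn.1))
    rw [← hk, ← h2]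
    refine (Subgroup.relIndex_dvd_of_le_left N h5).trans ?_
    rw [Subgroup.inf_relIndex_right]
    exact H2.relIndex_dvd_index_of_normal_right _ _
  have F12 : ∀ u, u.Prime → u ∣ L₂.relIndex L₁ →
      ¬ u ^ (L₂.relIndex L₁).factorization u * u ∣ f ^ 2 := fun u hu h1 => by
    refine num1 (Q := q ^ k) hu (hu.factorization_pos_of_dvd
      Subgroup.index_ne_zero_of_finite h1).ne' ?_ (hk ▸ hf ▸ frob_dvd F) F11
      (dvd_ordProj_sub_one hu fun φ h2 => (F10' φ h2).symm.dvd)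
    have h2 : K.relIndex N ≠ 1 := fun h2 => F.ne (F.le.antisymm (Subgroup.relIndex_eq_one.1 h2))
    have h3 : K.relIndex N ≠ 0 := Subgroup.index_ne_zero_of_finite
    omega
  have F13 : ∀ (η : L₁ → ℂ) (y : ℕ), IsIrrCharacter L₁ η → η 1 = y → y ∣ d → y ≠ 1 →
      ∀ φ : L₁ →* ℂˣ, lin φ * η = η := fun η y h1 h2 h3 h4 =>
    lin_mul_eq hm01 fun φ => by
      obtain ⟨θ, h5, h6⟩ := F7' _ y (lin_mul_irr h1 φ) (by simp [h2, lin]) h3 h4
      exact (le_In h5).trans (In_le_of_ext h1L h6)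
  have G1 : ∀ (γ : L₂ → ℂ) (g x : ℕ), IsIrrCharacter L₂ γ → γ 1 = g → (γ ≠ fun _ => 1) →
      Ov L₂ x γ → x ≠ c → L₁ ≤ In L₂ γ ∧ (L₂.relIndex L₁).Coprime g ∧ g ∣ d :=
    fun γ g x h1 h2 h3 h4 h5 => by
      obtain ⟨η, h6, h7, h8⟩ := Ov.up h21 h4
      obtain ⟨y', -, hy'⟩ := h6.exists_degree
      obtain ⟨y, h9, h10, h11, -⟩ := F7 η x h6
        (ne_one_of_deg hy' (ne_one_of_un h21 h6 h1 h8 le_rfl h3 hy')) h7 h5
      obtain ⟨e, h12, h13⟩ := ramif h6 h9 (F13 η y h6 h9 h10 h11) h1 h2 h8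
      obtain ⟨h14, h15⟩ := num2 h12 h13 (h10.trans hd) F12
      exact ⟨Subgroup.relIndex_eq_one.1 h14, h15, (h12 ▸ Dvd.intro_left _ rfl : g ∣ y).trans h10⟩
  have G2 : ∀ (γ : L₂ → ℂ) (g : ℕ), IsIrrCharacter L₂ γ → γ 1 = g → (γ ≠ fun _ => 1) → g ∣ d →
      ∀ η : L₁ → ℂ, IsIrrCharacter L₁ η → (∀ a : L₂, η ⟨a, h21 a.2⟩ = γ a) → False :=
    fun γ g h1 h2 h3 h4 η h5 h6 => by
      have h7 : η 1 = g := by rw [← h2, ← h6]; rfl
      have h8 := un_of_ext h21 h1 h6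
      have h9 := ne_one_of_un h21 h5 h1 h8 le_rfl h3 h7
      obtain ⟨e, h12, h13⟩ := ramif h5 h7 (F13 η g h5 h7 h4 h9) h1 h2 h8
      have h10 : g ≠ 0 := by rintro rfl; exact hf0 (Nat.eq_zero_of_zero_dvd (h4.trans hd))
      have h11 := self_mul h10 (y := e * (In L₂ γ).relIndex L₁) (by rw [mul_comm, ← h12])
      rw [mul_assoc, h11, Nat.eq_one_of_mul_eq_one_right h11] at h13
      exact hlt.not_ge (Subgroup.relIndex_eq_one.1 h13)
  by_contra hne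
  obtain ⟨γ, g, x, h1, h2, h3, h4⟩ := exists_nonlinear hne
  by_cases hxc : x = c
  · subst hxc
    have hgc := over_deg_dvd h1 h2 h4
    obtain ⟨v, hv, h5⟩ := exists_p (der_lt (ne_bot_of_der hne))
    obtain ⟨ρ, hρ1, hρ⟩ := exists_lin_prime hv h5
    have h6 : ∀ z, Ov L₂ z (lin ρ) → z ≠ x := fun z hz h6 =>
      dvd_of_over_der (h1L.trans hLG) hρ1 hz (h6 ▸ hm1.symm)
    obtain ⟨z, hz⟩ := exists_over (E := NEmb.ofNormal L₂) (isIrrCharacter_linear ρ)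
    obtain ⟨h7, -, -⟩ := G1 _ 1 z (isIrrCharacter_linear ρ) (by simp) (lin_ne hρ1) hz (h6 z hz)
    have h8 : ¬ v ∣ x := fun h8 => by
      obtain ⟨μ, hμ, -⟩ := exists_lin_ext h21 h7 hρ (hm1.coprime_dvd_right h8)
      exact hρ1 (eq_one_of_ext h21 le_rfl μ hμ)
    obtain ⟨ν, htw⟩ := exists_tw h1 h2 hρ (hv.coprime_iff_not_dvd.2 fun h9 => h8 (h9.trans hgc))
    obtain ⟨x', hx'⟩ := exists_over (E := NEmb.ofNormal L₂) htw.irr
    obtain rfl : x' = x := by_contra fun h9 =>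
      h3 (hdc g (G1 _ g x' htw.irr htw.deg (ne_one_of_deg htw.deg h3) hx' h9).2.2 hgc)
    have h9 := htw.ov1 hx' (hv.coprime_iff_not_dvd.2 h8)
    exact hd1 (hdc d dvd_rfl ((hdx _ (rel_mono (h21.trans h1L) (rel_of_ov (isIrrCharacter_linear ρ)
      (lin_ne hρ1) h9)) (h6 _ h9)).trans ((Dvd.intro _ rfl).trans (htw.dvd hx'))))
  obtain ⟨-, h5, h6⟩ := G1 γ g x h1 h2 (ne_one_of_deg h2 h3) h4 hxc
  obtain ⟨ν, htw⟩ := exists_tw h1 h2 (lam := 1) (o := L₂.relIndex L₁) (by ext; simp) h5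
  obtain ⟨x', hx'⟩ := exists_over (E := NEmb.ofNormal L₂) htw.irr
  obtain ⟨h7, -, -⟩ := G1 _ g x' htw.irr htw.deg (ne_one_of_deg htw.deg h3) hx' fun h7 =>
    h3 (hdc g h6 (h7 ▸ over_deg_dvd htw.irr htw.deg hx'))
  obtain ⟨δ, j, h8, h9, h10⟩ := htw.det
  obtain ⟨η, h11, h12, -⟩ := (NEmb.ofLeNormal h21).exists_canonical_ext htw.irr
    (fun g n => (NEmb.mem_inertia (NEmb.ofNormal L₂)).1 (h7 g.2) n) htw.deg
    (by rwa [NEmb.ofLeNormal_index]) (by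
      rw [NEmb.ofLeNormal_index, detOrder_eq, h10, show δ * 1 ^ g = δ by ext; simp]
      exact h8.coprime_dvd_right (orderOf_dvd_of_pow_eq_one h9))
  exact G2 _ g htw.irr htw.deg (ne_one_of_deg htw.deg h3) h6 η h11 h12

theorem four_of {S : Set ℕ} {a b c x y z : ℕ} (h : ∀ d ∈ S, d = 1 ∨ d = a ∨ d = b ∨ d = c)
    (hx : x ∈ S) (hy : y ∈ S) (hz : z ∈ S) (h1 : x ≠ 1) (h2 : y ≠ 1) (h3 : z ≠ 1) (h4 : x ≠ y)
    (h5 : x ≠ z) (h6 : y ≠ z) : ∀ d ∈ S, d = 1 ∨ d = x ∨ d = y ∨ d = z := fun d hd => by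
  have := h d hd
  have := h x hx
  have := h y hy
  have := h z hz
  omega

theorem three_of {S : Set ℕ} {a b c x y : ℕ} (h : ∀ d ∈ S, d = 1 ∨ d = a ∨ d = b ∨ d = c)
    (hx : x ∈ S) (hy : y ∈ S) (h1 : x ≠ 1) (h2 : y ≠ 1) (h4 : x ≠ y) :
    ∃ z, ∀ d ∈ S, d = 1 ∨ d = x ∨ d = y ∨ d = z := by
  by_cases h3 : ∃ z ∈ S, z ≠ 1 ∧ x ≠ z ∧ y ≠ z
  · obtain ⟨z, hz, h5, h6, h7⟩ := h3
    exact ⟨z, four_of h hx hy hz h1 h2 h5 h4 h6 h7⟩
  · push Not at h3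
    exact ⟨1, fun d hd => by have := h3 d hd; omega⟩

theorem garrison (G : Type u) [Group G] [Finite G] : Group.IsSolvable G → ∀ a b c : ℕ,
    (∀ d ∈ charDegrees G, d = 1 ∨ d = a ∨ d = b ∨ d = c) → derivedSeries G 4 = ⊥ := by
  refine H2.card_induction (P := fun G _ _ => Group.IsSolvable G → ∀ a b c : ℕ,
    (∀ d ∈ charDegrees G, d = 1 ∨ d = a ∨ d = b ∨ d = c) → derivedSeries G 4 = ⊥) ?_ G
  intro G _ _ ih hs a b c h
  have ih' : ∀ A : Subgroup G, A ≠ ⊤ → ∀ a b c : ℕ,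
      (∀ d ∈ charDegrees A, d = 1 ∨ d = a ∨ d = b ∨ d = c) → derivedSeries A 4 = ⊥ :=
    fun A hA => ih A (H1.card_lt_of_ne_top hA) inferInstance
  by_cases hr : ∃ r, r.Prime ∧ ∀ d ∈ charDegrees G, d ≠ 1 → r ∣ d
  · obtain ⟨r, hr, h1⟩ := hr
    exact common_prime hr ih' h h1
  push Not at hr
  by_cases hna : commutator G = ⊥
  · exact derivedSeries_eq_bot_of_comm
      (comm_of_derivedSeries_one (by rwa [derivedSeries_one])) 3
  obtain ⟨K, hK, h1, h2⟩ := exists_min_quotient hs hna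
  rcases h2 with ⟨p, hp, h2, -⟩ | ⟨N, F, h2, h3, h4, q, k, hq, hk⟩
  · haveI := Fact.mk hp
    obtain ⟨x, hx, hx1⟩ := exists_cd_ne_one h1
    obtain ⟨e, rfl⟩ := exists_pow_of_mem_cd h2 hx
    obtain ⟨d, hd, hd1, hpd⟩ := hr p hp
    have he : e ≠ 0 := by rintro rfl; exact hx1 rfl
    obtain ⟨k, hk⟩ := IsPGroup.iff_card.1 h2
    have h3 := cd_mul_of_coprime K hd (by
      rw [Subgroup.index_eq_card, hk]; exact (hp.coprime_iff_not_dvd.2 hpd).pow_left k) hx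
    have h4 := dvd_pow_self p he
    have h5 := pos_of_mem_cd hd
    have h6 := pos_of_mem_cd hx
    refine pcase he hpd hd1 (four_of h (cd_quotient_subset K hx) hd h3 hx1 hd1
      (fun h7 => hx1 (Nat.eq_one_of_mul_eq_one_right h7)) (fun h7 => hpd (h7 ▸ h4))
      (fun h7 => hd1 (Nat.eq_of_mul_eq_mul_left h6 (h7.symm.trans (mul_one _).symm)))
      (fun h7 => hpd (h7 ▸ h4.mul_right d))) h2 hx
  haveI := F.nN
  have hf1 : N.index ≠ 1 := fun h5 => h3 (Subgroup.index_eq_one.1 h5)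
  have hf0 : 0 < N.index := Nat.pos_of_ne_zero Subgroup.index_ne_zero_of_finite
  have hk0 : k ≠ 0 := by
    rintro rfl
    exact F.ne (F.le.antisymm (Subgroup.relIndex_eq_one.1 hk))
  have hqf : ¬ q ∣ N.index := fun h5 => hq.ne_one (Nat.eq_one_of_dvd_coprimes h4
    (hk ▸ dvd_pow_self q hk0) h5)
  have hD2 : derivedSeries G 2 ≤ ⁅N, N⁆ := Subgroup.commutator_mono h2 h2
  have hne1 : ∀ x ∈ relCharDegrees (derivedSeries G 2), x ≠ 1 := fun x hx =>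
    rel_ne_one (der_le _) hx
  have hall : ∀ x y z : ℕ, (∀ d ∈ charDegrees G, d = 1 ∨ d = x ∨ d = y ∨ d = z) →
      x ∉ relCharDegrees (derivedSeries G 2) → derivedSeries G 4 = ⊥ := fun x y z h5 h6 =>
    der4_of_two le_rfl (m := y) (n := z) fun w hw => by
      have := h5 w (rel_cd hw)
      have := hne1 w hw
      have : w ≠ x := fun h7 => h6 (h7 ▸ hw)
      omega
  by_cases hfL : N.index ∈ relCharDegrees (derivedSeries G 2)
  swap
  · have h5 := h _ F.index_mem_cd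
    rcases h5 with h5 | h5 | h5 | h5
    · exact (hf1 h5).elim
    · exact hall a b c h (h5 ▸ hfL)
    · exact hall b a c (fun d hd => by have := h d hd; omega) (h5 ▸ hfL)
    · exact hall c a b (fun d hd => by have := h d hd; omega) (h5 ▸ hfL)
  obtain ⟨ψ, d, hψ, hd, hd1, hov⟩ := exists_of_rel_der (rel_mono hD2 hfL)
  have hdf := over_deg_dvd hψ hd hov
  have h5 : N.index * d ∈ charDegrees G := (F.mul_mem_or (mem_cd_of hψ hd)).resolve_right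
    (not_not.2 (h4.coprime_dvd_right hdf))
  obtain ⟨z, hz⟩ := three_of h F.index_mem_cd h5 hf1
    (fun h6 => hf1 (Nat.eq_one_of_mul_eq_one_right h6))
    (fun h6 => hd1 (Nat.eq_of_mul_eq_mul_left hf0 (h6.symm.trans (mul_one _).symm)))
  by_cases hzL : z ∈ relCharDegrees (derivedSeries G 2)
  swap
  · exact hall z N.index (N.index * d) (fun d hd => by have := hz d hd; omega) hzL
  by_cases hqz : q ∣ z
  swap
  · refine derivedSeries_eq_bot_of_le (A := N) (j := 1) (i := 0) (k := 3)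
      (by rwa [map_derivedSeries_zero, derivedSeries_one])
      (three_degrees N d (z / N.index) fun y hy => ?_)
    have h6 : ¬ q ∣ y := fun h6 => by
      obtain ⟨e, -, h7⟩ := cd_over_normal N hy
      have h8 := h6.mul_left e
      rcases hz _ h7 with h9 | h9 | h9 | h9 <;> rw [h9] at h8
      · exact hq.ne_one (Nat.dvd_one.1 h8)
      · exact hqf h8
      · exact (hq.dvd_mul.1 h8).elim hqf fun h10 => hqf (h10.trans hdf)
      · exact hqz h8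
    have h7 := (F.mul_mem_or hy).resolve_right (not_not.2 (by
      rw [hk]; exact (hq.coprime_iff_not_dvd.2 h6).pow_left k))
    rcases hz _ h7 with h9 | h9 | h9 | h9
    · exact (hf1 (Nat.eq_one_of_mul_eq_one_right h9)).elim
    · exact Or.inl (Nat.eq_of_mul_eq_mul_left hf0 (h9.trans (mul_one _).symm))
    · exact Or.inr (Or.inl (Nat.eq_of_mul_eq_mul_left hf0 h9))
    · exact Or.inr (Or.inr (by rw [← h9, Nat.mul_div_cancel_left _ hf0]))
  have hcd : z.Coprime d := Nat.coprime_of_dvd fun r h6 h7 h8 => by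
    obtain ⟨w, hw, hw1, h9⟩ := hr r h6
    rcases hz w hw with rfl | rfl | rfl | rfl
    · exact hw1 rfl
    · exact h9 (h8.trans hdf)
    · exact h9 (h8.mul_left _)
    · exact h9 h7
  refine fcase (L := commutator G) F le_rfl h2 (fun h6 => h1 ?_) hq hk rfl hqf hd1 hdf hqz hcd hz
    hfL hzL
  rw [commutator_def, ← Subgroup.map_top_of_surjective _ (QuotientGroup.mk'_surjective K),
    ← Subgroup.map_commutator, Subgroup.map_eq_bot_iff, QuotientGroup.ker_mk']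
  exact h6

end Cfsg.Agent.H25.Gar
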