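/-
A quadratic element in a `p`-minimal group produces an `F(p)`-plane.
-/
import Cfsg.Agent.H25.Gl2
import Cfsg.Agent.H9.OpMod
import Cfsg.Agent.S2834

set_option autoImplicit false
set_option linter.style.haveILetI false

namespace Cfsg.Agent.H25.Gl

open Subgroup Cfsg.Agent.H9 Cfsg.Agent.H20 Cfsg.Agent.H21
open scoped commutatorElement

variable {p : ℕ} [hp : Fact p.Prime] {X : Type*} [Group X] [Finite X]

theorem exists_LH (T : Sylow p X) (hmin : IsMinimalOver (T : Subgroup X)) {M : Subgroup X}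
    (hM : IsCoatom M ∧ (T : Subgroup X) ≤ M) {a : X} (haT : a ∈ T) (ha : a ∉ pCore p X) :
    ∃ (L : Subgroup X) (haL : a ∈ L) (g : X), a ∈ cj g M ∧ LH p ((cj g M).subgroupOf L) (pCore p L) ⟨a, haL⟩ := by
  obtain ⟨L, h1, L0, h2, h3, h4, ⟨g, h5⟩, h6⟩ := S2834.result T hmin M hM (zpowers a) (zpowers_le.2 haT)
    (fun h => ha (zpowers_le.1 h))
  have haL : a ∈ L := h1 (mem_sup_left (mem_zpowers a))
  have h5' : L0 = L ⊓ cj g M := h5
  have hinj := L.subtype_injective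
  have hmem : ∀ x : L, x ∈ (cj g M).subgroupOf L ↔ (x : X) ∈ L0 := fun x => by
    rw [h5', mem_subgroupOf]; exact ⟨fun h => ⟨x.2, h⟩, fun h => h.2⟩
  refine ⟨L, haL, g, (h5' ▸ h2 (mem_sup_left (mem_zpowers a))).2, ?_, inferInstance, H24.isPGroup_pCore p L, ?_, ?_, ?_, ?_⟩
  · intro h
    exact h3.not_ge fun x hx => (hmem ⟨x, hx⟩).1 (h ▸ mem_top _)
  · obtain ⟨k, hk⟩ := T.isPGroup' ⟨a, haT⟩
    exact ⟨k, Subtype.ext (by simpa using congrArg Subtype.val hk)⟩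
  · intro h
    exact h3.not_ge ((H24.le_pCoreOf le_rfl h le_normalizer).trans (le_sup_right.trans h2))
  · intro K k1 k2 k3 x hx
    refine (hmem x).2 (h4 (K.map L.subtype) (sup_le (zpowers_le.2 ⟨_, k1, rfl⟩) (map_mono k2))
      (lt_of_le_of_ne (map_subtype_le _) fun e => k3 ?_) ⟨x, hx, rfl⟩)
    exact map_injective hinj (by rw [e, ← MonoidHom.range_eq_map, range_subtype])
  · intro x hx
    have := h6 x x.2 fun h => hx ((hmem x).2 h)
    apply map_injective hinj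
    rw [← MonoidHom.range_eq_map, range_subtype, Subgroup.map_sup, MonoidHom.map_closure, Set.image_pair]
    rw [← cj_def, cj_zpowers, zpowers_eq_closure, zpowers_eq_closure, ← Subgroup.closure_union] at this
    exact this

theorem exists_plane (hp2 : p ≠ 2) (T : Sylow p X) (hmin : IsMinimalOver (T : Subgroup X)) {M : Subgroup X}
    (hM : IsCoatom M ∧ (T : Subgroup X) ≤ M) {B Y : Subgroup X} [B.Normal] (hYB : Y ≤ B) (hΦ : phiOf p B ≤ Y)
    (hMY : M ≤ N⟦Y⟧) (hY : N⟦Y⟧ ≠ ⊤) {a : X} (haT : a ∈ T) (ha : a ∉ pCore p X)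
    (hq : ∀ b ∈ B, ⁅a, ⁅a, b⁆⁆ ∈ phiOf p B) (u : (ZMod p)ˣ) :
    ∃ R : Subgroup (X × Multiplicative (Fin 2 → ZMod p)), (∀ x ∈ R, x.1 ∈ B) ∧ (∀ c, ∃ b, (b, c) ∈ R) ∧
      (∀ c, (1, c) ∈ R → c = 1) ∧ ∃ a ∈ M, ∃ h ∈ M,
      (∀ b c, (b, Multiplicative.ofAdd c) ∈ R → (a * b * a⁻¹, Multiplicative.ofAdd ![c 0 + c 1, c 1]) ∈ R) ∧
      (∀ b c, (b, Multiplicative.ofAdd c) ∈ R →
        (h * b * h⁻¹, Multiplicative.ofAdd ![u * c 0, (u : ZMod p)⁻¹ * c 1]) ∈ R) ∧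
      ∃ y ∈ Y, (y, Multiplicative.ofAdd ![1, 0]) ∈ R := by
  obtain ⟨L, haL, g, hag, hL⟩ := exists_LH T hmin hM haT ha
  haveI hΦn := phiOf_normal p B
  let α : L →* MulAut B := (MulAut.conjNormal (H := B)).comp ((MulAut.conj g⁻¹).toMonoidHom.comp L.subtype)
  have hα : ∀ (l : L) (b : B), (α l b : X) = g⁻¹ * l * g * b * (g⁻¹ * l * g)⁻¹ := fun l b => by
    simp [α, mul_assoc]
  obtain ⟨V, _, _, _, π, ρ, hπ, hs, h0, hρ⟩ := H23.PS.exists_lin (p := p) α ((phiOf p B).subgroupOf B)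
    (fun l w hw => by rw [mem_subgroupOf, hα]; exact hΦn.conj_mem _ hw _)
    (fun d e => commutator_le_phiOf p B (commutator_mem_commutator d.2 e.2)) (fun d => pow_mem_phiOf d.2)
  have hπ1 : π 1 = 0 := (h0 1).2 (one_mem _)
  have hπi : ∀ d, π d⁻¹ = -π d := fun d => by
    rw [eq_neg_iff_add_eq_zero, ← hπ, inv_mul_cancel, hπ1]
  have hπc : ∀ l d, π (α l d * d⁻¹) = (ρ l - 1) (π d) := fun l d => by
    rw [hπ, hπi, ← hρ, LinearMap.sub_apply, Module.End.one_apply]; abel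
  have hQ : Quad ρ ⟨a, haL⟩ := LinearMap.ext fun v => by
    obtain ⟨d, rfl⟩ := hs v
    rw [Module.End.mul_apply, ← hπc, ← hπc]
    refine (h0 _).2 ?_
    have := hΦn.conj_mem _ (hq _ (Normal.conj_mem ‹B.Normal› _ d.2 g)) g⁻¹
    rw [mem_subgroupOf]
    convert this using 1
    simp only [coe_mul, coe_inv, hα, commutatorElement_def]; group
  let Y' : Submodule (ZMod p) V := AddSubgroup.toZModSubmodule p
    { carrier := {v | ∃ b : B, (b : X) ∈ Y ∧ π b = v}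
      zero_mem' := ⟨1, one_mem _, hπ1⟩
      add_mem' := by
        rintro _ _ ⟨b, hb, rfl⟩ ⟨c, hc, rfl⟩
        exact ⟨b * c, mul_mem hb hc, hπ _ _⟩
      neg_mem' := by
        rintro _ ⟨b, hb, rfl⟩
        exact ⟨b⁻¹, inv_mem hb, hπi _⟩ }
  have hY' : ∀ v, v ∈ Y' ↔ ∃ b : B, (b : X) ∈ Y ∧ π b = v := fun v => Iff.rfl
  obtain ⟨U, hU, t, ht, y, hy, hyU, w, k1, k2, k3, k4⟩ := hL.main hp2 hQ (Y := Y') (l := u)
    (fun l hl v hv => by
      obtain ⟨b, hb, rfl⟩ := hv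
      exact ⟨α l b, by rw [hα]; exact conj_mem_of_norm (hMY (mem_cj.1 hl)) hb, (hρ _ _).symm⟩)
    (fun h => hL.ne (eq_top_iff.2 fun l _ => by
      rw [mem_subgroupOf, mem_cj, ← (hMY.eq_or_lt.resolve_right fun k => hY (hM.1.2 _ k)).symm]
      refine mem_norm_of_forall fun b hb => ?_
      obtain ⟨c, hc, e⟩ := h l _ ⟨⟨b, hYB hb⟩, hb, rfl⟩
      have : α l ⟨b, hYB hb⟩ * c⁻¹ ∈ (phiOf p B).subgroupOf B := by
        rw [← h0, hπ, hπi, e, hρ, add_neg_cancel]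
      have := mul_mem (hΦ this) hc
      rwa [coe_subtype, coe_mul, coe_inv, inv_mul_cancel_right, hα] at this)) u.ne_zero
  obtain ⟨y0, hy0, rfl⟩ := hy
  let R : Subgroup (X × Multiplicative (Fin 2 → ZMod p)) :=
    { carrier := {x | ∃ hb : x.1 ∈ B, π ⟨x.1, hb⟩ - (x.2.toAdd 0 • π y0 + x.2.toAdd 1 • w) ∈ U}
      one_mem' := ⟨one_mem _, by
        have : π ⟨(1 : X × Multiplicative (Fin 2 → ZMod p)).1, one_mem _⟩ = 0 := hπ1
        rw [this]; simp⟩
      mul_mem' := by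
        rintro x x' ⟨hx, e⟩ ⟨hx', e'⟩
        refine ⟨mul_mem hx hx', ?_⟩
        have : π ⟨(x * x').1, mul_mem hx hx'⟩ = _ := hπ ⟨_, hx⟩ ⟨_, hx'⟩
        convert add_mem e e' using 1
        simp only [this, Prod.snd_mul, toAdd_mul, Pi.add_apply]; module
      inv_mem' := by
        rintro x ⟨hx, e⟩
        refine ⟨inv_mem hx, ?_⟩
        have : π ⟨(x⁻¹).1, inv_mem hx⟩ = _ := hπi ⟨_, hx⟩
        convert neg_mem e using 1
        simp only [this, Prod.snd_inv, toAdd_inv, Pi.neg_apply]; module }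
  have act : ∀ (l : L) b (c : Fin 2 → ZMod p), (b, Multiplicative.ofAdd c) ∈ R → ∀ c' : Fin 2 → ZMod p,
      c 0 • ρ l (π y0) + c 1 • ρ l w - (c' 0 • π y0 + c' 1 • w) ∈ U →
      (g⁻¹ * l * g * b * (g⁻¹ * l * g)⁻¹, Multiplicative.ofAdd c') ∈ R := by
    rintro l b c ⟨hb, e⟩ c' e'
    refine ⟨Normal.conj_mem inferInstance _ hb _, ?_⟩
    have : π ⟨g⁻¹ * l * g * b * (g⁻¹ * l * g)⁻¹, Normal.conj_mem inferInstance _ hb _⟩ = ρ l (π ⟨b, hb⟩) := by
      rw [hρ]; congr 1; exact Subtype.ext (hα l ⟨b, hb⟩).symm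
    convert add_mem (hU l _ e) e' using 1
    simp only [this, toAdd_ofAdd, map_sub, map_add, map_smul]; abel
  refine ⟨R, fun x hx => hx.1, fun c => ?_, fun c hc => ?_, _, mem_cj.1 hag, _, mem_cj.1 ht,
    fun b c hb => act ⟨a, haL⟩ b c hb _ ?_, fun b c hb => act t b c hb _ ?_, y0, hy0, y0.2, by simp⟩
  · obtain ⟨b, hb⟩ := hs (c.toAdd 0 • π y0 + c.toAdd 1 • w)
    exact ⟨b, b.2, by rw [← hb]; simp⟩
  · obtain ⟨_, e⟩ := hc
    have e1 : π ⟨1, one_mem _⟩ = 0 := hπ1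
    simp only [e1, zero_sub, neg_mem_iff] at e
    have e2 : c.toAdd 1 • π y0 ∈ U := by
      have := sub_mem (sub_mem (sub_mem (hU ⟨a, haL⟩ _ e) e) (U.smul_mem (c.toAdd 0) k1)) (U.smul_mem (c.toAdd 1) k2)
      convert this using 1
      simp only [map_add, map_smul]; module
    have e3 : c.toAdd 1 = 0 := by
      by_contra h
      exact hyU ((U.smul_mem_iff h).1 e2)
    rw [e3, zero_smul, add_zero] at e
    have e4 : c.toAdd 0 = 0 := by
      by_contra h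
      exact hyU ((U.smul_mem_iff h).1 e)
    apply Multiplicative.toAdd.injective
    ext i; fin_cases i
    · exact e4
    · exact e3
  · convert add_mem (U.smul_mem (c 0) k1) (U.smul_mem (c 1) k2) using 1
    simp only [Matrix.cons_val_zero, Matrix.cons_val_one, Matrix.cons_val_fin_one]; module
  · convert add_mem (U.smul_mem (c 0) k3) (U.smul_mem (c 1) k4) using 1
    simp only [Matrix.cons_val_zero, Matrix.cons_val_one, Matrix.cons_val_fin_one]; module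

end Cfsg.Agent.H25.Gl
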