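/-
Glauberman's theorem on the failure of `ZJ(S)` to control strong fusion: the quadratic element.
-/
import Cfsg.Agent.H25.Gl3
import Cfsg.Agent.H25.Gl4
import Cfsg.Agent.H9.ZJ

set_option autoImplicit false
set_option linter.style.haveILetI false

namespace Cfsg.Agent.H25.Gl

open Subgroup Cfsg.Agent.H9 Cfsg.Agent.H20 Cfsg.Agent.H21
open scoped commutatorElement Pointwise

variable {G : Type*} [Group G] {p : ℕ} {H S Q R T X Y Z B : Subgroup G}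

/-- the elements normalizing `Y` and commuting `Q` into `Y` -/
def stabz (Y Q : Subgroup G) : Subgroup G where
  carrier := {x | x ∈ N⟦Y⟧ ∧ ∀ q ∈ Q, ⁅x, q⁆ ∈ Y}
  one_mem' := ⟨one_mem _, fun q _ => by simp⟩
  mul_mem' := fun {x y} hx hy => ⟨mul_mem hx.1 hy.1, fun q hq => by
    have := mul_mem (conj_mem_of_norm hx.1 (hy.2 q hq)) (hx.2 q hq)
    convert this using 1
    simp only [commutatorElement_def]; group⟩
  inv_mem' := fun {x} hx => ⟨inv_mem hx.1, fun q hq => by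
    have := conj_mem_of_norm' hx.1 (inv_mem (hx.2 q hq))
    convert this using 1
    simp only [commutatorElement_def]; group⟩

variable [Finite G] [hp : Fact p.Prime]

theorem norm_stabz (h1 : X ≤ N⟦Y⟧) (h2 : X ≤ N⟦Q⟧) : X ≤ N⟦stabz Y Q⟧ := fun x hx =>
  mem_norm_of_forall fun d hd => ⟨mul_mem (mul_mem (h1 hx) hd.1) (inv_mem (h1 hx)), fun q hq => by
    have := conj_mem_of_norm (h1 hx) (hd.2 _ (conj_mem_of_norm' (h2 hx) hq))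
    convert this using 1
    simp only [commutatorElement_def]; group⟩

theorem Crit.g1 (h : Crit p S H Q) (h1 : Q < R) (h2 : R ≤ S) (h3 : S ⊓ N⟦Q⟧ ≤ N⟦R⟧) : N⟦R⟧ ⊓ N⟦Q⟧ ≤ ctlGp H Q :=
  fun x hx => ⟨hx.2, (h.good R h2 h3 (Or.inl h1) x hx.1).mono h1.le⟩

theorem Crit.not_norm (h : Crit p S N⟦Z⟧ Q) (hS : IsPGroup p S) (hZ : Z ⊴ S) (hc : IsMulCommutative Z)
    (h1 : S ⊓ N⟦Q⟧ ≤ X) (h2 : X ≤ N⟦Q⟧) (h3 : ¬ X ≤ ctlGp N⟦Z⟧ Q) : ¬ X ≤ N⟦Z ⊓ Q⟧ := by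
  intro h4
  apply h3
  by_cases hZQ : Z ≤ Q
  · rw [inf_eq_left.2 hZQ] at h4
    exact fun x hx => ⟨h2 hx, .of_mem (h4 hx) _⟩
  have hT : S ⊓ N⟦Q⟧ ≤ ctlGp N⟦Z⟧ Q := fun x hx => ⟨hx.2, .of_mem (hZ.norm hx.1) _⟩
  have hQZ : Q ≤ N⟦Z⟧ := h.le.trans hZ.norm
  set D := X ⊓ C⟦Z ⊓ Q⟧ ⊓ stabz (Z ⊓ Q) Q with hD
  have hDn : D ⊴ X := ⟨inf_le_left.trans inf_le_left, norm_inf (norm_inf_cent (le_norm_self X) h4) (norm_stabz h4 h2)⟩
  have hTX : SylowOf p (S ⊓ N⟦Q⟧) X := h.syl.of_le h1 h2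
  have hTD := hTX.inf_normalIn hDn
  have hDM : D ≤ ctlGp N⟦Z⟧ Q := le_of_forall_sylow fun q hq _ => by
    haveI := Fact.mk hq
    by_cases hqp : q = p
    · subst hqp
      exact ⟨_, hTD, inf_le_left.trans hT⟩
    · obtain ⟨A, hA⟩ := exists_sylowOf q D
      have : A ≤ C⟦Q⟧ := coprime_cent_of_stable (N := Z ⊓ Q)
        (coprime_of_isPGroup_ne (hS.to_le (inf_le_left.trans hZ.le)) hA.isPGroup (Ne.symm hqp))
        (by rw [commutator_comm]; exact commutator_le.2 fun a ha q hq => (hA.le ha).2.2 q hq)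
        fun a ha => (hA.le ha).1.2
      exact ⟨A, hA, fun a ha => ⟨cent_le_norm Q (this ha), .of_cent (this ha)⟩⟩
  rw [← hTD.frattini hDn]
  refine sup_le hDM (le_trans ?_ (h.g1 (R := Q ⊔ (S ⊓ N⟦Q⟧ ⊓ D)) ?_ (sup_le h.le (inf_le_left.trans inf_le_left))
    (norm_sup inf_le_right (norm_inf (le_norm_self _) (h1.trans hDn.norm)))))
  · exact le_inf (norm_sup (inf_le_left.trans h2) inf_le_right) (inf_le_left.trans h2)
  · have k1 := lt_inf_norm_of_isPGroup (hS.to_le (sup_le h.le hZ.le)) (left_lt_sup.2 hZQ)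
    rw [modular_left (Or.inl hQZ) (le_norm_self Q)] at k1
    refine k1.trans_le (sup_le_sup_left (fun z hz => ?_) _)
    have k2 : z ∈ C⟦Z ⊓ Q⟧ := le_cent_of_comm hc le_rfl inf_le_left hz.1
    refine ⟨⟨hZ.le hz.1, hz.2⟩, ⟨h1 ⟨hZ.le hz.1, hz.2⟩, k2⟩, cent_le_norm _ k2, fun q hq => ⟨?_, ?_⟩⟩
    · exact commg_le_left hQZ (commutator_mem_commutator hz.1 hq)
    · exact Q.mul_mem (conj_mem_of_norm hz.2 hq) (Q.inv_mem hq)

theorem exists_min_B (hQ : IsPGroup p Q) (hQZ : Q ≤ N⟦Z⟧) (hQX : Q ⊴ X) (h : ¬ X ≤ N⟦Z ⊓ Q⟧) :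
    ∃ B, B ≤ Q ∧ X ≤ N⟦B⟧ ∧ ¬ X ≤ N⟦Z ⊓ B⟧ ∧ (∀ K : Subgroup G, X ≤ N⟦K⟧ → Z ⊓ B ≤ K → B ≤ K) ∧ phiOf p B ≤ Z := by
  obtain ⟨B, ⟨h1, h2, h3⟩, hmin⟩ := wellFounded_lt.has_min {B : Subgroup G | B ≤ Q ∧ X ≤ N⟦B⟧ ∧ ¬ X ≤ N⟦Z ⊓ B⟧}
    ⟨Q, le_rfl, hQX.norm, h⟩
  have gen : ∀ K : Subgroup G, X ≤ N⟦K⟧ → Z ⊓ B ≤ K → B ≤ K := fun K k1 k2 => by
    by_contra k3
    refine hmin (B ⊓ K) ⟨inf_le_left.trans h1, norm_inf h2 k1, ?_⟩ (inf_lt_left.2 k3)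
    rwa [← inf_assoc, inf_eq_left.2 k2]
  refine ⟨B, h1, h2, h3, gen, ?_⟩
  have hΦ : X ≤ N⟦phiOf p B⟧ := h2.trans (normalizer_le_normalizer_phiOf p B)
  have hB0 : B ≠ ⊥ := by
    rintro rfl
    exact h3 (by rw [inf_bot_eq, norm_bot]; exact le_top)
  have hD : X ≤ N⟦Z ⊓ phiOf p B⟧ := by
    by_contra k
    exact hmin _ ⟨(phiOf_le p B).trans h1, hΦ, k⟩ (phiOf_lt (hQ.to_le h1) hB0)
  have hBX : B ≤ X := h1.trans hQX.le
  set D := Z ⊓ phiOf p B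
  have k1 : B ≤ stabz D B := gen _ (norm_stabz hD h2) fun z hz => ⟨hD (hBX hz.2), fun b hb =>
    ⟨commg_le_left (h1.trans hQZ) (commutator_mem_commutator hz.1 hb),
      commutator_le_phiOf p B (commutator_mem_commutator hz.2 hb)⟩⟩
  haveI : (D.subgroupOf B).Normal := normal_subgroupOf_of_le_normalizer (hBX.trans hD)
  have key : ∀ x : B, (x : G) ^ p ∈ D ↔ (QuotientGroup.mk' (D.subgroupOf B) x) ^ p = 1 := fun x => by
    rw [← map_pow, QuotientGroup.mk'_apply, QuotientGroup.eq_one_iff]; rfl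
  let K : Subgroup G :=
    { carrier := {b | b ∈ B ∧ b ^ p ∈ D}
      one_mem' := ⟨one_mem _, by simp⟩
      mul_mem' := fun {x y} hx hy => ⟨mul_mem hx.1 hy.1, (key (⟨x, hx.1⟩ * ⟨y, hy.1⟩)).2 (by
        have : Commute (QuotientGroup.mk' (D.subgroupOf B) ⟨x, hx.1⟩) (QuotientGroup.mk' (D.subgroupOf B) ⟨y, hy.1⟩) := by
          rw [← commutatorElement_eq_one_iff_commute, ← map_commutatorElement, QuotientGroup.mk'_apply,
            QuotientGroup.eq_one_iff]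
          exact (k1 hx.1).2 y hy.1
        rw [map_mul, this.mul_pow, (key ⟨x, hx.1⟩).1 hx.2, (key ⟨y, hy.1⟩).1 hy.2, one_mul])⟩
      inv_mem' := fun {x} hx => ⟨inv_mem hx.1, by rw [inv_pow]; exact inv_mem hx.2⟩ }
  have k2 : B ≤ K := gen _ (fun x hx => mem_norm_of_forall fun b hb => ⟨conj_mem_of_norm (h2 hx) hb.1, by
    rw [conj_pow]; exact conj_mem_of_norm (hD hx) hb.2⟩) fun z hz => ⟨hz.2, pow_mem hz.1 p, pow_mem_phiOf hz.2⟩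
  exact phiOf_le_iff.2 ⟨commutator_le.2 fun x hx y hy => ((k1 hx).2 y hy).1, fun x hx => (k2 hx).2.1⟩

theorem quad_one (hp2 : p ≠ 2) (hS : IsPGroup p S) (hTS : T ≤ S) (hZ : Z = centerThompsonOf 0 S) (hC : S ⊓ C⟦Z⟧ ≤ T)
    (hQT : Q ≤ T) (hBQ : B ≤ Q) (hXQ : X ≤ N⟦Q⟧) (hXB : X ≤ N⟦B⟧) (hTX : T ≤ X) (h : ¬ X ≤ N⟦Z ⊓ B⟧)
    (gen : ∀ K : Subgroup G, X ≤ N⟦K⟧ → Z ⊓ B ≤ K → B ≤ K) (hΦ : phiOf p B ≤ Z) :
    ∃ a ∈ T, a ∉ Q ∧ ∀ b ∈ B, ⁅a, ⁅a, b⁆⁆ ∈ phiOf p B := by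
  by_contra hc
  push Not at hc
  have hZJ : Z ≤ C⟦thompsonSubgroupOf 0 S⟧ := hZ ▸ inf_le_right
  have hJ : thompsonSubgroupOf 0 S ≤ T := (le_inf (thompsonOf_le 0 S) (cent_symm hZJ)).trans hC
  have hJT := thompsonOf_eq_of_le hJ hTS
  have hT := hS.to_le hTS
  have hBT := hBQ.trans hQT
  have hZT : Z ≤ T := (hZ ▸ inf_le_left : Z ≤ thompsonSubgroupOf 0 S).trans hJ
  rw [← hJT] at hZJ
  have hBA : ∀ A ∈ maxEA 0 T, ⁅B, B⁆ ≤ A := fun A hA => ((commutator_le_phiOf p B).trans hΦ).trans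
    (le_of_mem_maxEA_of_centralizes hA hZT (fun _ _ => pow_zero _) (hZJ.trans (cent_anti (le_thompsonOf hA))))
  have hquad : ∀ A ∈ maxEA 0 T, B ≤ N⟦A⟧ → A ≤ Q := fun A hA k a ha => by
    by_contra k1
    obtain ⟨b, hb, k2⟩ := hc a (hA.1 ha) k1
    apply k2
    rw [commutatorElement_eq_one_iff_mul_comm.2 (comm_iff.1 hA.2.1.1 a ha _
      (commg_le_left k (commutator_mem_commutator ha hb)))]
    exact one_mem _
  have hex : ∃ A ∈ maxEA 0 T, ¬ A ≤ Q := by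
    by_contra k
    push Not at k
    have k1 := thompsonOf_eq_of_le (thompsonOf_le_iff.2 k) hQT
    refine h (norm_inf (hXQ.trans ((normalizer_le_normalizer_thompsonOf 0 Q).trans ?_)) hXB)
    rw [k1, hJT, hZ]; exact normalizer_thompsonOf_le_normalizer_center 0 S
  obtain ⟨A₀, hA₀, -⟩ := id hex
  obtain ⟨A₁, hA₁, -, -, hA₁B⟩ := exists_normalized_member hp2 hT hBT (hTX.trans hXB) le_rfl
    (hBT.trans le_normalizer) hA₀ (hBA _ hA₀)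
  have hBJ : B ≤ C⟦thompsonSubgroupOf 0 Q⟧ := gen _ (norm_cent (hXQ.trans (normalizer_le_normalizer_thompsonOf 0 Q)))
    (inf_le_left.trans (hZJ.trans (cent_anti (thompsonOf_le_of_mem hA₁ (hquad _ hA₁ hA₁B) hQT))))
  obtain ⟨A, hA, hmax⟩ := Set.Finite.exists_maximalFor (fun A : Subgroup G => Nat.card ↥(A ⊓ B))
    {A | A ∈ maxEA 0 T ∧ ¬ A ≤ Q} (Set.toFinite _) hex
  obtain ⟨A', h1, -, h3, h4, -⟩ := exists_replacement hp2 hT hBT (hTX.trans hXB) le_rfl (hBT.trans le_normalizer)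
    hA.1 (hBA _ hA.1) fun k => hA.2 (hquad _ hA.1 k)
  have hA' : A' ≤ Q := by
    by_contra k
    have := card_lt h3
    exact absurd (hmax ⟨h1, k⟩ this.le) (not_le.mpr this)
  exact h4 (le_of_mem_maxEA_of_centralizes h1 hBT (fun _ _ => pow_zero _)
    (hBJ.trans (cent_anti (le_thompsonOf (mem_maxEA_of_le h1 hA' hQT)))))

theorem Crit.quad_two (h : Crit p S N⟦Z⟧ Q) (hS : IsPGroup p S) (hZ : Z ⊴ S) (hC : ¬ S ⊓ C⟦Z⟧ ≤ S ⊓ N⟦Q⟧)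
    (hBQ : B ≤ Q) (hXQ : X ≤ N⟦Q⟧) (hXB : X ≤ N⟦B⟧) (hTX : S ⊓ N⟦Q⟧ ≤ X) (hn : ¬ X ≤ N⟦Z ⊓ B⟧) (hΦ : phiOf p B ≤ Z) :
    ∃ a ∈ S ⊓ N⟦Q⟧, a ∉ Q ∧ ∀ b ∈ B, ⁅a, ⁅a, b⁆⁆ ∈ phiOf p B := by
  set T := S ⊓ N⟦Q⟧ with hT
  have hQT : Q ≤ T := h.lt.le
  obtain ⟨s, hs, hsT⟩ : ∃ s ∈ S ⊓ C⟦Z⟧ ⊓ N⟦T⟧, s ∉ T := by
    have k1 := lt_inf_norm_of_isPGroup (hS.to_le (sup_le inf_le_left inf_le_left)) (left_lt_sup.2 hC)
    rw [modular_left (Or.inl (norm_inf_cent (norm_of_le inf_le_left) (inf_le_left.trans hZ.norm))) (le_norm_self T)] at k1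
    exact SetLike.not_le_iff_exists.1 (left_lt_sup.1 k1)
  set P := T ⊔ zpowers s with hP
  have hPT : P ≤ N⟦T⟧ := sup_le (le_norm_self T) (zpowers_le.2 hs.2)
  have hΦX : X ≤ N⟦phiOf p B⟧ := hXB.trans (normalizer_le_normalizer_phiOf p B)
  have hΦP : P ≤ N⟦phiOf p B⟧ := sup_le (hTX.trans hΦX) (zpowers_le.2 (cent_le_norm _ (cent_anti hΦ hs.1.2)))
  let W : ℕ → Set G := fun i => ((X : Set G) * P) ^ i * X
  have W0 : W 0 = X := by simp [W]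
  have W1 : ∀ i, W (i + 1) = X * P * W i := fun i => by simp only [W, pow_succ', mul_assoc]
  have W2 : ∀ i, ∀ γ ∈ W i, γ⁻¹ ∈ W i := fun i γ hγ => by
    have : (W i)⁻¹ = W i := by
      simp only [W]
      rw [mul_inv_rev, ← inv_pow, mul_inv_rev, inv_coe_set, inv_coe_set, mul_pow_mul]
    rw [← this]; exact Set.inv_mem_inv.2 hγ
  have W3 : ∀ i, ∀ γ ∈ W i, γ ∈ N⟦phiOf p B⟧ := by
    intro i
    induction i with
    | zero => exact fun γ hγ => hΦX (W0 ▸ hγ :)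
    | succ i ih =>
      rw [W1]
      rintro _ ⟨_, ⟨x, hx, y, hy, rfl⟩, γ, hγ, rfl⟩
      exact mul_mem (mul_mem (hΦX hx) (hΦP hy)) (ih γ hγ)
  have hex : ∃ i, ∃ γ ∈ W i, ¬ cj γ B ≤ Q := by
    by_contra k
    push Not at k
    let D := sSup {A | ∃ i, ∃ γ ∈ W i, A = cj γ B}
    have step : ∀ x ∈ X, ∀ y ∈ P, ∀ A ∈ {A | ∃ i, ∃ γ ∈ W i, A = cj γ B}, cj (x * y) A ∈ {A | ∃ i, ∃ γ ∈ W i, A = cj γ B} := by
      rintro x hx y hy _ ⟨i, γ, hγ, rfl⟩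
      exact ⟨i + 1, x * y * γ, W1 i ▸ Set.mul_mem_mul (Set.mul_mem_mul hx hy) hγ, (cj_mul _ _ _).symm⟩
    have d1 : X ≤ N⟦D⟧ := norm_sSup_of_cj fun x hx A hA => by simpa using step x hx 1 (one_mem _) A hA
    have d2 : P ≤ N⟦D⟧ := norm_sSup_of_cj fun x hx A hA => by simpa using step 1 (one_mem _) x hx A hA
    have d3 : D ≤ Q := sSup_le (by rintro _ ⟨i, γ, hγ, rfl⟩; exact k i γ hγ)
    have d4 : B ≤ D := le_sSup ⟨0, 1, W0 ▸ one_mem X, (cj_one B).symm⟩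
    exact hn fun x hx => (h.good D (d3.trans h.le) (hTX.trans d1) (Or.inr fun k1 => hsT ⟨hs.1.1,
      k1 ⟨hs.1.1, d2 (mem_sup_right (mem_zpowers s))⟩⟩) x (d1 hx)).norm_inf le_rfl (hXB hx) d4
  classical
  obtain ⟨γ, hγ, k1⟩ := Nat.find_spec hex
  have k2 : ∀ γ ∈ W (Nat.find hex), cj γ B ≤ X := by
    have k3 := fun i => Nat.find_min hex (m := i)
    obtain e | ⟨i, e⟩ := (Nat.find hex).eq_zero_or_eq_succ_pred.imp id fun e => (⟨_, e⟩ : ∃ i, Nat.find hex = i + 1)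
    · rw [e, W0]
      exact fun γ hγ => cj_le_of_mem hγ (hBQ.trans (hQT.trans hTX))
    · rw [e, W1]
      rintro _ ⟨_, ⟨x, hx, y, hy, rfl⟩, γ, hγ, rfl⟩
      have k4 : cj γ B ≤ Q := by
        by_contra k5
        exact k3 i (by omega) ⟨γ, hγ, k5⟩
      show cj (x * y * γ) B ≤ X
      rw [cj_mul, cj_mul]
      exact cj_le_of_mem hx ((cj_le_of_mem_norm (hPT hy) (k4.trans hQT)).trans hTX)
  have k3 : B ≤ N⟦cj γ B⟧ := by
    have := norm_cj γ ((k2 _ (W2 _ γ hγ)).trans hXB)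
    rwa [cj_cj_inv] at this
  obtain ⟨a, ha, haQ⟩ := SetLike.not_le_iff_exists.1 k1
  obtain ⟨x, hx, k4⟩ := (h.syl.of_le hTX hXQ).exists_cj_le
    (H21.isPGroup_cj.2 (hS.to_le (hBQ.trans h.le))) (k2 γ hγ)
  refine ⟨x * a * x⁻¹, k4 (conj_mem_cj.2 ha), fun k => haQ (by simpa [mul_assoc] using conj_mem_of_norm' (hXQ hx) k),
    fun b hb => ?_⟩
  have k5 : ⁅a, ⁅a, x⁻¹ * b * x⁆⁆ ∈ phiOf p B := by
    rw [← cj_eq_of_mem_norm (W3 _ γ hγ), cj_def, map_phiOf]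
    exact commutator_le_phiOf p _ (commutator_mem_commutator ha
      (commg_le_left k3 (commutator_mem_commutator ha (conj_mem_of_norm' (hXB hx) hb))))
  convert conj_mem_of_norm (hΦX hx) k5 using 1
  simp only [commutatorElement_def]; group

end Cfsg.Agent.H25.Gl
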