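import Cfsg.Agent.H25.Cyc
import Cfsg.Agent.H20.Quo
import Cfsg.Agent.H3.PNil
import Cfsg.Agent.S0071
import Cfsg.Agent.GW.StepC
import Cfsg.Agent.BS.BZ
import Cfsg.Agent.H9.SFT4
import Cfsg.Agent.H19.Basic
import Cfsg.Agent.H12.PMd

/-! Hall numbers: orders `m` such that Hall subgroups of order `m` always exist. -/

set_option autoImplicit false

namespace Cfsg.Agent.H25

open Subgroup Cfsg.Agent.H20 Cfsg.Agent.H21

universe u

section
variable {G : Type*} [Group G] [Finite G]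

theorem ncard_modEq_cent {r : ℕ} [Fact r.Prime] {R : Subgroup G} (hR : IsPGroup r R) {X : Set G}
    (hX : ∀ g ∈ R, ∀ x ∈ X, g * x * g⁻¹ ∈ X) : X.ncard ≡ (X ∩ C⟦R⟧).ncard [MOD r] := by
  letI : MulAction R X :=
    { smul := fun g x => ⟨g * x * g⁻¹, hX g g.2 x x.2⟩
      one_smul := fun x => Subtype.ext (by change (1 : G) * x * 1⁻¹ = x; simp)
      mul_smul := fun g h x => Subtype.ext (by
        change (g : G) * h * x * ((g : G) * h)⁻¹ = g * (h * x * (h : G)⁻¹) * (g : G)⁻¹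
        group) }
  rw [← Nat.card_coe_set_eq, ← Nat.card_coe_set_eq]
  refine (hR.card_modEq_card_fixedPoints X).trans ?_
  rw [Nat.card_congr (β := ↥(X ∩ C⟦R⟧))]
  exact ⟨fun x => ⟨x.1.1, x.1.2, fun g hg => mul_inv_eq_iff_eq_mul.mp (congrArg Subtype.val (x.2 ⟨g, hg⟩))⟩,
    fun x => ⟨⟨x.1, x.2.1⟩, fun g => Subtype.ext (mul_inv_eq_iff_eq_mul.mpr (x.2.2 g g.2))⟩,
    fun _ => rfl, fun _ => rfl⟩

theorem has_of_solvable {m k : ℕ} (h : Nat.card G = m * k) (hc : m.Coprime k) {K : Subgroup G}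
    (hK : Group.IsSolvable K) (hm : m ∣ ♯K) : ∃ H : Subgroup G, ♯H = m := by
  obtain ⟨H, hH⟩ := exists_hall {p | p ∣ m} hK
  refine ⟨H, Nat.dvd_antisymm (Nat.Coprime.dvd_of_dvd_mul_right (k := ♯H) (n := k) ?_ (h ▸ card_dvd_card H))
    (Hall.dvd_of_piNat hH (fun p _ hp => hp) hm)⟩
  exact Nat.coprime_of_dvd fun p hp h1 h2 => hp.ne_one
    (Nat.dvd_one.mp (hc ▸ Nat.dvd_gcd (hH.2.1 p hp h1) h2))

theorem has_of_quotient {m : ℕ} (N : Subgroup G) [N.Normal] (hc : (♯N).Coprime m)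
    (h : ∃ H : Subgroup (G ⧸ N), ♯H = m) : ∃ H : Subgroup G, ♯H = m := by
  obtain ⟨H, rfl⟩ := h
  have h1 : ♯(H.comap (QuotientGroup.mk' N)) = ♯N * ♯H := QuotientGroup.card_preimage_mk N H
  have h2 : N ≤ H.comap (QuotientGroup.mk' N) := fun x hx => by
    simp [(QuotientGroup.eq_one_iff x).mpr hx]
  have h3 := card_mul_relIndex h2
  rw [h1, Nat.mul_right_inj (card_ne_zero N)] at h3
  obtain ⟨B, hB⟩ := exists_compl_of_coprime (⟨h2, le_normalizer_of_normal⟩ : N ⊴ _) (h3 ▸ hc)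
  exact ⟨B, Nat.eq_of_mul_eq_mul_left (card_pos N) (hB.card.trans h1)⟩

theorem has_of_subgroup {m : ℕ} {N : Subgroup G} (h : ∃ H : Subgroup N, ♯H = m) : ∃ H : Subgroup G, ♯H = m :=
  h.elim fun H hH => ⟨H.map N.subtype, (card_map_subtype H).trans hH⟩

theorem solvable_of_nil2 (h : HasNormalPComplement 2 G) : Group.IsSolvable G := by
  obtain ⟨N, _, h1, h2⟩ := H3.hasNormalPComplement_iff_exists_normal.mp h
  haveI := h2.isNilpotent
  exact (Group.isSolvable_iff_subgroup_quotient N).mpr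
    ⟨FT.solvable_of_odd (Nat.not_even_iff_odd.mp (mt Even.two_dvd h1)), inferInstance⟩

/-- A faithful odd prime action on a small `2`-subgroup. -/
theorem exists_act (h : ¬ HasNormalPComplement 2 G) (S : Sylow 2 G) (h8 : ♯(S : Subgroup G) ∣ 8) :
    ∃ (Q R : Subgroup G) (r : ℕ), Q ≤ S ∧ r.Prime ∧ IsPGroup r R ∧ R ≠ ⊥ ∧ R ≤ N⟦Q⟧ ∧
      ((r = 3 ∧ ♯Q = 8) ∨ ((r = 3 ∨ r = 7) ∧ ♯Q = r + 1 ∧ Q ⊓ C⟦R⟧ = ⊥)) := by
  rw [H3.hasNormalPComplement_iff_sylow S, S0071.result] at h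
  push Not at h
  obtain ⟨Q, hQ, g, hg, h1, h2⟩ := h
  obtain ⟨r, hr, h3, h4⟩ : ∃ r : ℕ, r.Prime ∧ r ∣ ♯(zpowers g) ∧ ¬ ∃ R, SylowOf r R (zpowers g) ∧ R ≤ C⟦Q⟧ := by
    by_contra hc
    push Not at hc
    exact h2 (le_of_forall_sylow hc (mem_zpowers g))
  haveI := Fact.mk hr
  obtain ⟨R, hR⟩ := exists_sylowOf r (zpowers g)
  have h5 : ¬ R ≤ C⟦Q⟧ := fun e => h4 ⟨R, hR, e⟩
  have h6 := hR.1.trans (zpowers_le.mpr hg)
  refine ⟨Q, R, r, hQ, hr, Hall.isPGroup hR, fun e => h5 (e ▸ bot_le), h6, ?_⟩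
  have h7 := ncard_modEq_cent (Hall.isPGroup hR) (X := Q) fun x hx y hy => conj_mem_of_norm (h6 hx) hy
  rw [← coe_inf, ← Nat.card_coe_set_eq, ← Nat.card_coe_set_eq, SetLike.coe_sort_coe, SetLike.coe_sort_coe] at h7
  have h9 : ♯(Q ⊓ C⟦R⟧) < ♯Q := card_lt (lt_of_le_of_ne inf_le_left fun e =>
    h5 (le_centralizer_iff.mp (e.ge.trans inf_le_right)))
  have h10 : ♯(Q ⊓ C⟦R⟧) ∣ ♯Q := card_dvd inf_le_left
  have h11 := (card_dvd hQ).trans h8
  have h12 := (Nat.modEq_iff_dvd' h9.le).mp h7.symm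
  have hr2 : r ≠ 2 := by
    rintro rfl
    rw [Nat.card_zpowers] at h3
    exact absurd (Nat.Coprime.eq_one_of_dvd h1.symm h3) (by norm_num)
  rw [← card_eq_one]
  have := Nat.le_of_dvd (by norm_num) h11
  have := Nat.le_of_dvd (by omega) h12
  have := hr.two_le
  generalize ♯Q = a, ♯(Q ⊓ C⟦R⟧) = b at *
  have : r ≤ 7 := by have := Nat.pos_of_dvd_of_pos h10 (by omega); omega
  interval_cases a <;> interval_cases b <;> simp_all <;> interval_cases r <;> simp_all (decide := true)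

theorem sylow_card {n k : ℕ} (h : Nat.card G = 2 ^ n * k) (hk : ¬ 2 ∣ k) (S : Sylow 2 G) :
    ♯(S : Subgroup G) = 2 ^ n := by
  have : k ≠ 0 := by rintro rfl; simp at hk
  rw [S.card_eq_multiplicity, h, Nat.factorization_mul (by positivity) this]
  simp [Nat.prime_two.factorization_self, Nat.factorization_eq_zero_of_not_dvd hk]

theorem sylow_dvd {n : ℕ} (h : ¬ 2 ^ (n + 1) ∣ Nat.card G) (S : Sylow 2 G) : ♯(S : Subgroup G) ∣ 2 ^ n := by
  obtain ⟨a, ha⟩ := S.isPGroup'.exists_card_eq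
  rw [ha]
  refine pow_dvd_pow 2 (not_lt.mp fun h1 => h ((pow_dvd_pow 2 h1).trans (ha ▸ card_dvd_card _)))

theorem nil2_of_not_dvd (h : ¬ 8 ∣ Nat.card G) (h' : ¬ 4 ∣ Nat.card G ∨ ¬ 3 ∣ Nat.card G) :
    HasNormalPComplement 2 G := by
  by_contra hc
  obtain ⟨S⟩ : Nonempty (Sylow 2 G) := inferInstance
  obtain ⟨Q, R, r, -, hr, h1, h2, -, h3⟩ := exists_act hc S ((sylow_dvd (n := 2) h S).trans (by norm_num))
  haveI := Fact.mk hr
  have h4 := card_dvd_card Q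
  have h5 := (dvd_card_of_isPGroup h1 h2).trans (card_dvd_card R)
  rcases h3 with ⟨rfl, h3⟩ | ⟨rfl | rfl, h3, -⟩ <;> rw [h3] at h4 <;> tauto

theorem solvable_of_not_four_dvd (h : ¬ 4 ∣ Nat.card G) : Group.IsSolvable G :=
  solvable_of_nil2 (nil2_of_not_dvd (fun h1 => h ((by norm_num : 4 ∣ 8).trans h1)) (Or.inl h))

theorem solvable_norm {Q : Subgroup G} (hQ : IsPGroup 2 Q) (h : ¬ ♯Q * 4 ∣ Nat.card G) :
    Group.IsSolvable N⟦Q⟧ :=
  solvable_of_quo le_rfl (sol_of_pgroup hQ) (solvable_of_not_four_dvd fun h1 => h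
    ((Nat.mul_dvd_mul_left _ h1).trans (card_mul_card_quo (⟨le_normalizer, le_rfl⟩ : Q ⊴ N⟦Q⟧) ▸ card_dvd_card _)))

theorem tight_eq {Q R : Subgroup G} {r : ℕ} [hr : Fact r.Prime] (hR : IsPGroup r R) (h1 : ♯Q = r + 1)
    (h2 : Q ⊓ C⟦R⟧ = ⊥) {X : Set G} (hX : ∀ g ∈ R, ∀ x ∈ X, g * x * g⁻¹ ∈ X) (hQ : X ⊆ Q) (h3 : 1 ∈ X)
    {t : G} (ht : t ∈ X) (ht1 : t ≠ 1) : X = Q := by
  have h4 := ncard_modEq_cent hR hX
  have h5 : X ∩ C⟦R⟧ = {1} := Set.eq_singleton_iff_unique_mem.mpr ⟨⟨h3, one_mem _⟩, fun x hx =>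
    mem_bot.mp (h2 ▸ ⟨hQ hx.1, hx.2⟩)⟩
  have h6 : 1 < X.ncard := (Set.one_lt_ncard (Set.toFinite _)).mpr ⟨t, ht, 1, h3, ht1⟩
  rw [h5, Set.ncard_singleton] at h4
  have := Nat.le_of_dvd (by omega) ((Nat.modEq_iff_dvd' h6.le).mp h4.symm)
  refine Set.eq_of_subset_of_ncard_le hQ ?_
  rw [← Nat.card_coe_set_eq, SetLike.coe_sort_coe, h1]
  omega

theorem tight_sq {Q R : Subgroup G} {r : ℕ} [hr : Fact r.Prime] (hR : IsPGroup r R) (h1 : ♯Q = r + 1)
    (h2 : Q ⊓ C⟦R⟧ = ⊥) (hn : R ≤ N⟦Q⟧) (he : 2 ∣ ♯Q) : ∀ x ∈ Q, x ^ 2 = 1 := by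
  obtain ⟨t, ht, ht2⟩ := exists_prime_order_mem Nat.prime_two he
  have := tight_eq hR h1 h2 (X := {x | x ∈ Q ∧ x ^ 2 = 1}) (fun g hg x hx =>
    ⟨conj_mem_of_norm (hn hg) hx.1, by rw [conj_pow, hx.2]; simp⟩) (fun x hx => hx.1) ⟨one_mem _, one_pow _⟩
    (t := t) ⟨ht, ht2 ▸ pow_orderOf_eq_one t⟩ (by rintro rfl; simp at ht2)
  exact fun x hx => (this.ge hx).2

theorem tight_dvd {R : Subgroup G} {r : ℕ} [hr : Fact r.Prime] (S : Sylow 2 G) (hR : IsPGroup r R)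
    (h1 : ♯(S : Subgroup G) = r + 1) (h2 : (S : Subgroup G) ⊓ C⟦R⟧ = ⊥) (hn : R ≤ N⟦(S : Subgroup G)⟧)
    (N : Subgroup G) [hN : N.Normal] (he : 2 ∣ ♯N) :
    (S : Subgroup G) ≤ N ∧ Nat.card G ∣ ♯N * ♯N⟦(S : Subgroup G)⟧ := by
  have h3 := Hall.inf_normalIn (sylowOf_top S) (⟨le_top, le_normalizer_of_normal⟩ : N ⊴ ⊤)
  obtain ⟨t, ht, ht1⟩ := exists_ne_one (Hall.sylow_ne_bot h3 he)
  have := tight_eq hR h1 h2 (X := ((S : Subgroup G) ⊓ N : Subgroup G)) (fun g hg x hx =>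
    ⟨conj_mem_of_norm (hn hg) hx.1, hN.conj_mem _ hx.2 g⟩) (fun x hx => hx.1) (one_mem _) ht ht1
  have h4 : (S : Subgroup G) ≤ N := fun x hx => (this.ge hx).2
  refine ⟨h4, ?_⟩
  have h5 := Hall.frattini (Hall.of_le (sylowOf_top S) h4 le_top) (⟨le_top, le_normalizer_of_normal⟩ : N ⊴ ⊤)
  rw [← card_top', ← h5, top_inf_eq]
  exact card_sup_dvd (Or.inr le_normalizer_of_normal)

theorem has_twelve {k : ℕ} (h : Nat.card G = 12 * k) (hc : Nat.Coprime 12 k) : ∃ H : Subgroup G, ♯H = 12 := by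
  by_cases hs : HasNormalPComplement 2 G
  · exact has_of_solvable h hc (sol_top_iff.mpr (solvable_of_nil2 hs)) (by rw [card_top', h]; simp)
  obtain ⟨S⟩ : Nonempty (Sylow 2 G) := inferInstance
  have hk : ¬ 2 ∣ k := (Nat.Prime.coprime_iff_not_dvd Nat.prime_two).mp (hc.coprime_dvd_left (by norm_num))
  have hS := sylow_card (n := 2) (k := 3 * k) (by omega) (by omega) S
  obtain ⟨Q, R, r, hQ, hr, h1, h2, h3, h4⟩ := exists_act hs S (by rw [hS]; norm_num)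
  haveI := Fact.mk hr
  have h5 := card_dvd hQ
  have h6 := (dvd_card_of_isPGroup h1 h2).trans (card_dvd h3)
  have h7 := card_dvd (le_norm_self Q)
  refine has_of_solvable h hc (solvable_norm (S.isPGroup'.to_le hQ) ?_) ?_ <;>
    rcases h4 with ⟨rfl, h4⟩ | ⟨rfl | rfl, h4, -⟩ <;> simp only [h4, hS] at h5 h7 ⊢ <;> omega

theorem not_dvd_of_coprime {m k p : ℕ} (hc : m.Coprime k) (hp : p.Prime) (h : p ∣ m) : ¬ p ∣ k :=
  hp.coprime_iff_not_dvd.mp (hc.coprime_dvd_left h)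

theorem eq_bot_of_odd [IsSimpleGroup G] (h : 2 ∣ Nat.card G) (N : Subgroup G) [hN : N.Normal]
    (h1 : ¬ 2 ∣ ♯N) : N = ⊥ :=
  (IsSimpleGroup.eq_bot_or_eq_top_of_normal N hN).resolve_right fun e => h1 (by rwa [e, card_top'])

/-- Simple groups with elementary abelian Sylow `2`-subgroups of order eight all of whose involution
centralizers have normal `2`-complements. -/
theorem nine_dvd_of_e8 [IsSimpleGroup G] (S : Sylow 2 G) (hS : ♯(S : Subgroup G) = 8)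
    (h2 : ∀ x ∈ (S : Subgroup G), x ^ 2 = 1) (h7 : 7 ∣ Nat.card G)
    (hC : ∀ t ∈ (S : Subgroup G), t ≠ 1 → HasNormalPComplement 2 C₁⟦t⟧) : 9 ∣ Nat.card G := by
  have h8 : 8 ∣ Nat.card G := hS ▸ card_dvd_card _
  have hSc : IsMulCommutative (S : Subgroup G) := comm_iff.mpr fun a ha b hb => by
    have e : ∀ x ∈ (S : Subgroup G), x⁻¹ = x := fun x hx => inv_eq_of_mul_eq_one_right (sq x ▸ h2 x hx)
    rw [← e _ (mul_mem ha hb), mul_inv_rev, e a ha, e b hb]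
  have hSC : ∀ t ∈ (S : Subgroup G), (S : Subgroup G) ≤ C₁⟦t⟧ := fun t ht x hx =>
    mem_cent1.mpr (comm_iff.mp hSc x hx t ht)
  let θ : G → Subgroup G := fun t => (pResidual 2 C₁⟦t⟧).map (C₁⟦t⟧).subtype
  have hθ : ∀ t ∈ (S : Subgroup G), t ≠ 1 → ∀ x, x ∈ θ t ↔ x ∈ C₁⟦t⟧ ∧ (orderOf x).Coprime 2 := fun t ht h1 x =>
    ⟨fun ⟨y, hy, e⟩ => e ▸ ⟨y.2, by simpa using (H3.mem_pResidual_iff (hC t ht h1)).mp hy⟩,
      fun hx => ⟨⟨x, hx.1⟩, (H3.mem_pResidual_iff (hC t ht h1)).mpr (by simpa using hx.2), rfl⟩⟩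
  have hcop : ∀ t ∈ (S : Subgroup G), t ≠ 1 → (♯(θ t)).Coprime 2 := fun t ht h1 => by
    rw [card_map_subtype]
    exact (Nat.prime_two.coprime_iff_not_dvd.mpr (H3.hasNormalPComplement_iff_not_dvd.mp (hC t ht h1))).symm
  obtain ⟨D, hD, hD1⟩ := H9S.sft_two (A := S) (θ := θ) ⟨⟨hSc, h2⟩, fun a ha h1 x hx => ((hθ a ha h1 x).mp hx).1,
    hcop, fun a ha h1 g hg => mem_norm_of_forall fun x hx => (hθ a ha h1 _).mpr (by
      have := (hθ a ha h1 x).mp hx
      exact ⟨mul_mem (mul_mem (hSC a ha hg) this.1) (inv_mem (hSC a ha hg)), by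
        rw [H11.orderOf_conj]; exact this.2⟩),
    fun a ha h1 b hb h3 x hx => (hθ b hb h3 x).mpr ⟨hx.2, ((hθ a ha h1 x).mp hx.1).2⟩,
    fun a ha h1 => FT.solvable_of_odd (Nat.coprime_two_right.mp (hcop a ha h1))⟩ (by rw [hS]; rfl)
  let W := closure {x : G | (orderOf x).Coprime 2 ∧ ∃ a ∈ (S : Subgroup G), a ≠ 1 ∧ x ∈ C₁⟦a⟧}
  have hWD : W ≤ D := (closure_le _).mpr fun x ⟨h1, a, ha, h3, h4⟩ => hD1 a ha h3 ((hθ a ha h3 x).mpr ⟨h4, h1⟩)
  have hNW : N⟦(S : Subgroup G)⟧ ≤ N⟦W⟧ := norm_closure fun g hg x ⟨h1, a, ha, h3, h4⟩ =>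
    ⟨by rwa [H11.orderOf_conj], g * a * g⁻¹, conj_mem_of_norm hg ha, by simpa [mul_inv_eq_one] using h3,
      mem_cent1.mpr (by simp [mul_assoc, ← mul_assoc x, mem_cent1.mp h4])⟩
  have hCM : ∀ t ∈ (S : Subgroup G), t ≠ 1 → C₁⟦t⟧ ≤ W ⊔ N⟦(S : Subgroup G)⟧ := fun t ht h1 =>
    le_of_forall_sylow fun p hp _ => by
      haveI := Fact.mk hp
      rcases eq_or_ne p 2 with rfl | h3
      · exact ⟨S, Hall.of_le (sylowOf_top S) (hSC t ht) le_top, le_normalizer.trans le_sup_right⟩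
      · obtain ⟨T, hT⟩ := exists_sylowOf p C₁⟦t⟧
        exact ⟨T, hT, fun x hx => mem_sup_left (subset_closure ⟨(coprime_of_isPGroup (Hall.isPGroup hT)
          ((Nat.coprime_primes Nat.prime_two hp).mpr h3.symm)).coprime_dvd_left (orderOf_dvd_card_of_mem hx),
          t, ht, h1, hT.1 hx⟩)⟩
  have hS0 : (S : Subgroup G) ≠ ⊥ := fun e => by simp [e] at hS
  have hne : W ⊔ N⟦(S : Subgroup G)⟧ ≠ ⊤ := fun e => by
    haveI : W.Normal := normalizer_eq_top_iff.mp (top_le_iff.mp (e ▸ sup_le le_normalizer hNW))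
    rw [eq_bot_of_odd (by omega) W fun h => not_dvd_of_coprime hD.cop Nat.prime_two (h.trans (card_dvd hWD))
      dvd_rfl, bot_sup_eq] at e
    rw [(IsSimpleGroup.eq_bot_or_eq_top_of_normal _ (normalizer_eq_top_iff.mp e)).resolve_left hS0,
      card_top'] at hS
    omega
  have hSM : (S : Subgroup G) ≤ W ⊔ N⟦(S : Subgroup G)⟧ := le_normalizer.trans le_sup_right
  have hse := H11.isStronglyEmbedded_of_normalizers_le hne (H11.isSylIn_of_sylow_le S hSM) hS0 fun X hX h0 g hg => by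
    obtain ⟨t, ht, h1⟩ := exists_ne_one h0
    obtain ⟨c, hc, y, hy, rfl⟩ := Hall.frattini_mem (Hall.of_le (sylowOf_top S)
      (show (S : Subgroup G) ≤ C⟦X⟧ from fun s hs x hx => comm_iff.mp hSc x (hX hx) s hs) le_top)
      (norm_le_norm_cent X hg)
    exact mul_mem (hCM t (hX ht) h1 (mem_cent1.mpr (hc t ht).symm)) (mem_sup_right hy)
  set M := W ⊔ N⟦(S : Subgroup G)⟧
  obtain ⟨Q, -, hQM, -, h3, h4⟩ := BS.Bd.bender_Q hse (BS.Bd.two_iff_rank.mpr ⟨S, hSc, h2, by rw [hS]; norm_num⟩)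
  have hO : oddCore G = ⊥ := by
    rw [← BS.Bd.core_eq_odd hse (BS.Bd.two_iff_rank.mpr ⟨S, hSc, h2, by rw [hS]; norm_num⟩)]
    exact (IsSimpleGroup.eq_bot_or_eq_top_of_normal _ inferInstance).resolve_right fun e =>
      hne (top_le_iff.1 (e ▸ M.normalCore_le))
  have hQ : IsPGroup 2 Q := isPi_singleton_iff.mp (isPi_iff.mpr fun q hq hd => by
    by_contra hne
    obtain ⟨y, hy, e⟩ := exists_prime_order_mem hq hd
    have := h3 y hy (e ▸ hq.odd_of_ne_two hne)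
    rw [hO, mem_bot] at this
    exact hq.ne_one (by rw [← e, this, orderOf_one]))
  obtain ⟨x, -, hx⟩ := SetLike.exists_of_lt (lt_top_iff_ne_top.mpr hne)
  have h5 : MulAction.orbit Q (x : G ⧸ M) = {((1 : G) : G ⧸ M)}ᶜ := by
    ext c
    obtain ⟨y, rfl⟩ := QuotientGroup.mk_surjective c
    simp only [Set.mem_compl_iff, Set.mem_singleton_iff, QuotientGroup.eq, mul_one, inv_mem_iff]
    constructor
    · rintro ⟨q, hq⟩ hy
      have : ((q : G) * x)⁻¹ * y ∈ M := QuotientGroup.eq.mp hq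
      exact hx ((mul_mem_cancel_left (hQM q.2)).mp (inv_mem_iff.mp ((mul_mem_cancel_right hy).mp this)))
    · intro hy
      obtain ⟨q, hq, e⟩ := h4 x y hx hy
      exact ⟨⟨q, hq⟩, (QuotientGroup.eq.mpr e).symm⟩
  have h6 : M.index - 1 ∣ 8 := by
    have := (MulAction.stabilizer Q (x : G ⧸ M)).index_dvd_card
    rw [MulAction.index_stabilizer, h5, Set.ncard_compl, Set.ncard_singleton] at this
    exact this.trans (hS ▸ Hall.pgroup_card_dvd (sylowOf_top S) hQ le_top)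
  have h9 := H19.two_mul_card_dvd_factorial_index (H19.not_comm_of_card_not_prime fun hp => by
    have := (Nat.dvd_prime hp).mp h7
    have := (Nat.dvd_prime hp).mp h8
    omega) M hne
  have h10 := M.index_dvd_card
  have h11 := h7.trans ((dvd_mul_left _ _).trans h9)
  have := Nat.le_of_dvd (by norm_num) h6
  have : M.index ≤ 9 := by omega
  interval_cases M.index <;> simp_all (decide := true)

end

section
variable {m k : ℕ}

theorem has_of_normal (ih : ∀ k' < k, ∀ (X : Type u) [Group X] [Finite X], Nat.card X = m * k' → m.Coprime k' →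
    ∃ H : Subgroup X, ♯H = m) {G : Type u} [Group G] [Finite G] (h : Nat.card G = m * k) (hc : m.Coprime k)
    {N : Subgroup G} [N.Normal] (h0 : N ≠ ⊥) (h1 : N ≠ ⊤) (h2 : m ∣ ♯N ∨ (♯N).Coprime m) :
    ∃ H : Subgroup G, ♯H = m := by
  have h3 := N.card_mul_index
  have h4 : 0 < m * k := h ▸ Nat.card_pos
  have hm := Nat.pos_of_mul_pos_right h4
  have hk := Nat.pos_of_mul_pos_left h4
  rcases h2 with ⟨j, hj⟩ | h2
  · rw [hj, h, mul_assoc, Nat.mul_right_inj hm.ne'] at h3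
    subst h3
    exact has_of_subgroup (ih j (lt_mul_of_one_lt_right (Nat.pos_of_mul_pos_right hk)
      (one_lt_index_of_ne_top h1)) N hj hc.coprime_mul_right_right)
  · obtain ⟨j, hj⟩ := h2.symm.dvd_of_dvd_mul_left (h3.trans h ▸ dvd_mul_right m k)
    rw [hj, h, mul_left_comm, Nat.mul_right_inj hm.ne'] at h3
    subst h3
    exact has_of_quotient N h2 (ih j (lt_mul_of_one_lt_left (Nat.pos_of_mul_pos_left hk)
      (one_lt_card h0)) _ hj hc.coprime_mul_left_right)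

theorem exists_normal_of_not_simple {G : Type*} [Group G] [Nontrivial G] (h : ¬ IsSimpleGroup G) :
    ∃ N : Subgroup G, N.Normal ∧ N ≠ ⊥ ∧ N ≠ ⊤ := by
  by_contra hc
  push Not at hc
  exact h ⟨fun N hN => or_iff_not_imp_left.mpr (hc N hN)⟩

theorem has_sixty (k : ℕ) : ∀ (G : Type u) [Group G] [Finite G], Nat.card G = 60 * k → Nat.Coprime 60 k →
    ∃ H : Subgroup G, ♯H = 60 := by
  induction k using Nat.strong_induction_on with
  | _ k ih =>
  intro G _ _ h hc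
  by_cases hs : Group.IsSolvable G
  · exact has_of_solvable h hc (sol_top_iff.mpr hs) (by rw [card_top', h]; simp)
  obtain ⟨S⟩ : Nonempty (Sylow 2 G) := inferInstance
  have hk := not_dvd_of_coprime hc Nat.prime_two (by norm_num)
  have hS := sylow_card (n := 2) (k := 15 * k) (by omega) (by omega) S
  obtain ⟨Q, R, r, hQ, hr, h1, h2, h3, h4⟩ := exists_act (mt solvable_of_nil2 hs) S (by rw [hS]; norm_num)
  haveI := Fact.mk hr
  have h5 := card_le hQ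
  obtain ⟨rfl, h4, h8⟩ : r = 3 ∧ ♯Q = 3 + 1 ∧ Q ⊓ C⟦R⟧ = ⊥ := by
    rcases h4 with ⟨rfl, h4⟩ | ⟨rfl | rfl, h4, h8⟩ <;> first | omega | exact ⟨rfl, h4, h8⟩
  obtain rfl := eq_of_le_card hQ (by omega)
  have h6 := (dvd_card_of_isPGroup h1 h2).trans (card_dvd h3)
  have h7 := card_dvd (le_norm_self (S : Subgroup G))
  have hK := solvable_norm S.isPGroup' (by rw [h4]; omega)
  rw [h4] at h7
  by_cases h5 : 5 ∣ ♯N⟦(S : Subgroup G)⟧
  · exact has_of_solvable h hc hK (by omega)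
  by_cases hG : IsSimpleGroup G
  · haveI : Nontrivial (S : Subgroup G) := Finite.one_lt_card_iff_nontrivial.mp (by omega)
    haveI : IsKleinFour (S : Subgroup G) := ⟨h4, (Monoid.exponent_eq_prime_iff Nat.prime_two).mpr fun g hg =>
      orderOf_eq_prime (Subtype.ext (tight_sq h1 h4 h8 h3 (by omega) g g.2)) hg⟩
    obtain ⟨F, _, _, -, -, ⟨e⟩⟩ | ⟨⟨e⟩⟩ := GW.gw_simple (G := G) (fun hc => hs (IsSimpleGroup.comm_iff_isSolvable.mp hc.1.1))
      ⟨S, 2, le_rfl, IsKleinFour.nonempty_mulEquiv⟩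
    · obtain ⟨t, ht⟩ := H12.exists_golden (F := F) (by
        rw [← H12.card_PSL2 rfl, ← Nat.card_congr e.toEquiv, h]
        exact Dvd.dvd.mul_left (by omega) _)
      obtain ⟨H, ⟨f⟩⟩ := H12.exists_alt5_of_root ht
      exact ⟨H.map e.symm.toMonoidHom, by
        rw [card_map_of_injective e.symm.injective, Nat.card_congr f.toEquiv, H12.card_alt5]⟩
    · have := two_mul_nat_card_alternatingGroup (α := Fin 7)
      rw [← Nat.card_congr e.toEquiv, Nat.card_perm, Nat.card_fin, h] at this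
      simp only [Nat.factorial] at this
      omega
  haveI : Nontrivial G := Finite.one_lt_card_iff_nontrivial.mp (by omega)
  obtain ⟨N, _, h0, hT⟩ := exists_normal_of_not_simple hG
  have h9 := N.card_mul_index
  by_cases he : 2 ∣ ♯N
  · obtain ⟨a1, a2⟩ := tight_dvd S h1 h4 h8 h3 N he
    have a3 := card_dvd a1
    have a4 := (Nat.prime_five.dvd_mul.mp ((show 5 ∣ Nat.card G by omega).trans a2)).resolve_right h5
    rw [h4] at a3
    refine has_of_normal ih h hc h0 hT (Or.inl ?_)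
    by_contra a5
    refine hs ((Group.isSolvable_iff_subgroup_quotient N).mpr ⟨solvable_of_nil2 (nil2_of_not_dvd (fun a6 => ?_)
      (Or.inr (by omega))), solvable_of_not_four_dvd fun a6 => ?_⟩)
    · have := a6.trans (card_dvd_card N)
      omega
    · have := h9 ▸ mul_dvd_mul a3 a6
      omega
  have a1 : Group.IsSolvable N := solvable_of_not_four_dvd (by omega)
  by_cases a2 : 5 ∣ ♯N
  · have a3 := a2.trans (card_dvd (le_sup_left : N ≤ N ⊔ N⟦(S : Subgroup G)⟧))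
    have a4 := card_dvd (le_sup_right : _ ≤ N ⊔ N⟦(S : Subgroup G)⟧)
    have := h6.trans a4
    have := h7.trans a4
    exact has_of_solvable h hc (sol_sup a1 hK (Or.inr le_normalizer_of_normal)) (by omega)
  have a3 : ¬ 3 ∣ ♯N := fun a3 => hs ((Group.isSolvable_iff_subgroup_quotient N).mpr ⟨a1, solvable_of_nil2
    (nil2_of_not_dvd (fun a6 => by have := a6.trans N.index_dvd_card; omega) (Or.inr fun a6 => by
      have := h9 ▸ mul_dvd_mul a3 a6
      have := not_dvd_of_coprime hc Nat.prime_three (by norm_num)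
      omega))⟩)
  refine has_of_normal ih h hc h0 hT (Or.inr (Nat.Coprime.symm ?_))
  exact ((Nat.prime_two.coprime_iff_not_dvd.mpr he).pow_left 2).mul_left
    ((Nat.prime_three.coprime_iff_not_dvd.mpr a3).mul_left (Nat.prime_five.coprime_iff_not_dvd.mpr a2))

theorem has_twentyfour (k : ℕ) : ∀ (G : Type u) [Group G] [Finite G], Nat.card G = 24 * k → Nat.Coprime 24 k →
    ∃ H : Subgroup G, ♯H = 24 := by
  induction k using Nat.strong_induction_on with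
  | _ k ih =>
  intro G _ _ h hc
  by_cases hs : Group.IsSolvable G
  · exact has_of_solvable h hc (sol_top_iff.mpr hs) (by rw [card_top', h]; simp)
  obtain ⟨S⟩ : Nonempty (Sylow 2 G) := inferInstance
  have hk := not_dvd_of_coprime hc Nat.prime_two (by norm_num)
  have hk3 := not_dvd_of_coprime hc Nat.prime_three (by norm_num)
  have hS := sylow_card (n := 3) (k := 3 * k) (by omega) (by omega) S
  obtain ⟨Q, R, r, hQ, hr, h1, h2, h3, h4⟩ := exists_act (mt solvable_of_nil2 hs) S (by rw [hS]; norm_num)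
  haveI := Fact.mk hr
  have h6 := (dvd_card_of_isPGroup h1 h2).trans (card_dvd h3)
  have hK := solvable_norm (S.isPGroup'.to_le hQ) (by
    rcases h4 with ⟨rfl, h4⟩ | ⟨rfl | rfl, h4, -⟩ <;> rw [h4] <;> omega)
  have h7 : 8 ∣ ♯N⟦Q⟧ := by
    rcases hQ.eq_or_lt with rfl | hlt
    · exact (show 8 = ♯(S : Subgroup G) from hS.symm) ▸ card_dvd (le_norm_self _)
    · have a1 := card_lt (lt_inf_norm_of_isPGroup S.isPGroup' hlt)
      have a2 := card_dvd (inf_le_left : (S : Subgroup G) ⊓ N⟦Q⟧ ≤ _)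
      have a3 := card_dvd (inf_le_right : (S : Subgroup G) ⊓ N⟦Q⟧ ≤ _)
      rw [hS] at a2
      have := Nat.le_of_dvd (by norm_num) a2
      have : 4 ≤ ♯Q := by rcases h4 with ⟨rfl, h4⟩ | ⟨rfl | rfl, h4, -⟩ <;> omega
      generalize ♯((S : Subgroup G) ⊓ N⟦Q⟧) = a at *
      have : 5 ≤ a := by omega
      interval_cases a <;> simp_all
  by_cases h5 : 3 ∣ ♯N⟦Q⟧
  · exact has_of_solvable h hc hK (by omega)
  obtain ⟨rfl, h4, h8⟩ : r = 7 ∧ ♯Q = 7 + 1 ∧ Q ⊓ C⟦R⟧ = ⊥ := by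
    rcases h4 with ⟨rfl, h4⟩ | ⟨rfl | rfl, h4, h8⟩ <;> first | omega | exact ⟨rfl, h4, h8⟩
  obtain rfl := eq_of_le_card hQ (by omega)
  by_cases hG : IsSimpleGroup G
  · by_contra hno
    have h2' := tight_sq h1 h4 h8 h3 (by omega)
    have := nine_dvd_of_e8 S h4 h2' (h6.trans (card_dvd_card _)) fun t ht ht1 => by
      let z : C₁⟦t⟧ := ⟨t, mem_cent1.mpr rfl⟩
      have a1 : zpowers z ≤ center _ := zpowers_le.mpr (mem_center_iff.mpr fun g => Subtype.ext (mem_cent1.mp g.2))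
      haveI : (zpowers z).Normal := ⟨fun n hn g => by rwa [mem_center_iff.mp (a1 hn) g, mul_inv_cancel_right]⟩
      have a2 : ♯(zpowers z) = 2 := by
        rw [Nat.card_zpowers]
        exact orderOf_eq_prime (Subtype.ext (h2' t ht)) fun e => ht1 (congrArg Subtype.val e)
      have a3 := (zpowers z).card_mul_index
      have a4 := card_dvd_card C₁⟦t⟧
      have a5 : 8 ∣ ♯C₁⟦t⟧ := (show 8 = ♯(S : Subgroup G) from h4.symm) ▸ card_dvd fun x hx => mem_cent1.mpr (by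
        have e : ∀ x ∈ (S : Subgroup G), x⁻¹ = x := fun x hx => inv_eq_of_mul_eq_one_right (sq x ▸ h2' x hx)
        rw [← e _ (mul_mem hx ht), mul_inv_rev, e x hx, e t ht])
      rw [a2, index] at a3
      rw [← a3] at a4 a5
      refine H3.hasNormalPComplement_of_quotient_of_le_center _ a1 (nil2_of_not_dvd (fun a6 => ?_)
        (Or.inr fun a6 => hno ?_))
      · have := (mul_dvd_mul_left 2 a6).trans a4
        omega
      obtain ⟨j, hj⟩ : 12 ∣ Nat.card (C₁⟦t⟧ ⧸ zpowers z) := by omega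
      obtain ⟨H, hH⟩ := has_twelve hj (((hc.coprime_dvd_left (by norm_num))).coprime_dvd_right
        (Nat.dvd_of_mul_dvd_mul_left (k := 24) (by norm_num) (by rw [← h]; convert a4 using 1; omega)))
      exact has_of_subgroup ⟨H.comap (QuotientGroup.mk' _),
        (QuotientGroup.card_preimage_mk _ (H : Set (C₁⟦t⟧ ⧸ zpowers z))).trans (by rw [a2]; exact hH ▸ rfl)⟩
    omega
  haveI : Nontrivial G := Finite.one_lt_card_iff_nontrivial.mp (by omega)
  obtain ⟨N, _, h0, hT⟩ := exists_normal_of_not_simple hG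
  by_cases he : 2 ∣ ♯N
  · obtain ⟨a1, a2⟩ := tight_dvd S h1 h4 h8 h3 N he
    have a3 := card_dvd a1
    have a4 := (Nat.prime_three.dvd_mul.mp ((show 3 ∣ Nat.card G by omega).trans a2)).resolve_right h5
    rw [h4] at a3
    exact has_of_normal ih h hc h0 hT (Or.inl (by omega))
  have a1 : Group.IsSolvable N := solvable_of_not_four_dvd (by omega)
  by_cases a2 : 3 ∣ ♯N
  · have a3 := a2.trans (card_dvd (le_sup_left : N ≤ N ⊔ N⟦(S : Subgroup G)⟧))
    have := h7.trans (card_dvd (le_sup_right : _ ≤ N ⊔ N⟦(S : Subgroup G)⟧))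
    exact has_of_solvable h hc (sol_sup a1 hK (Or.inr le_normalizer_of_normal)) (by omega)
  refine has_of_normal ih h hc h0 hT (Or.inr (Nat.Coprime.symm ?_))
  exact ((Nat.prime_two.coprime_iff_not_dvd.mpr he).pow_left 3).mul_left
    (Nat.prime_three.coprime_iff_not_dvd.mpr a2)

end

open scoped MatrixGroups in
theorem psl2_sub_card (l : ℕ) [hl : Fact l.Prime] (h2 : l ≠ 2) (H : Subgroup PSL(2, ZMod l)) (hH : H ≠ ⊤) :
    ♯H ∣ l + 1 ∨ ♯H ∣ l - 1 ∨ 2 * ♯H ∣ l * (l - 1) ∨ ♯H = 12 ∨ ♯H = 24 ∨ ♯H = 60 := by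
  obtain ⟨j, hj⟩ := hl.out.odd_of_ne_two h2
  have hg : Nat.gcd 2 (l - 1) = 2 := Nat.gcd_eq_left (by omega)
  have ho : ∀ g : PSL(2, ZMod l), ¬ l ∣ orderOf g → 2 * orderOf g ∣ l + 1 ∨ 2 * orderOf g ∣ l - 1 := fun g h => by
    have := H12.psl2_orderOf_dvd l h
    rw [ZMod.card, hg] at this
    exact this.imp (Nat.mul_dvd_of_dvd_div (by omega)) (Nat.mul_dvd_of_dvd_div (by omega))
  rcases H12.dickson_psl2_iso l H with ⟨x, h, -⟩ | ⟨h, h'⟩ | ⟨a, s, h, h'⟩ | ⟨-, ⟨e⟩⟩ | ⟨-, ⟨e⟩⟩ | ⟨-, ⟨e⟩⟩ |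
    ⟨E, -, h⟩
  · obtain ⟨k, hk⟩ := index_dvd_of_le (show H ≤ MulAction.stabilizer _ x from h)
    rw [MulAction.index_stabilizer_of_transitive, H12.card_P1, Nat.card_zmod] at hk
    have h1 := H12.card_PSL2 (ZMod.card l)
    rw [hg, ← H.card_mul_index, hk, show l ^ 2 - 1 = (l + 1) * (l - 1) from Nat.sq_sub_sq l 1] at h1
    exact Or.inr (Or.inr (Or.inl ⟨k, Nat.eq_of_mul_eq_mul_left l.succ_pos (by rw [Nat.succ_eq_add_one]; linarith)⟩))
  · obtain ⟨g, hg⟩ := h.exists_ofOrder_eq_natCard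
    rw [← hg, ← orderOf_coe] at h' ⊢
    exact (ho _ h').imp (dvd_of_mul_left_dvd ·) fun h => Or.inl (dvd_of_mul_left_dvd h)
  · rw [h.card]
    exact (ho _ h').imp id Or.inl
  · simp only [Nat.card_congr e.toEquiv, H12.card_alt4, true_or, or_true]
  · simp only [Nat.card_congr e.toEquiv, H12.card_perm4, true_or, or_true]
  · simp only [Nat.card_congr e.toEquiv, H12.card_alt5, true_or, or_true]
  · exact absurd (H12.top_of_prime l (ZMod.card l) h) hH

open scoped MatrixGroups in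
theorem exists_psl2_bad {a b : ℕ} (hab : a.Coprime b) (ha : 2 < a) (ha' : Odd a ∨ 4 ∣ a) (hb : Odd b)
    (hb1 : 1 < b) :
    ∃ (G : Type) (_ : Group G) (_ : Finite G) (k : ℕ), Nat.card G = a * b * k ∧ (a * b).Coprime k ∧
      1 < k ∧ 2 ∣ Nat.card G ∧ ∀ H : Subgroup G, H ≠ ⊤ → a ∣ ♯H → ∀ c, 1 < c → c ∣ b → c ∣ ♯H →
        ♯H = 12 ∨ ♯H = 24 ∨ ♯H = 60 := by
  obtain ⟨x, hx1, hx2⟩ := Nat.chineseRemainder (hab.pow 2 2) (a - 1) (b + 1)
  have hb0 := hb.pos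
  have key : ∀ y, y ≡ x [MOD a ^ 2 * b ^ 2] → (∃ t, y + 1 = a * (1 + a * t)) ∧ ∃ u, y = b * (1 + b * u) + 1 := by
    intro y hy
    have h1 := ((hy.of_mul_right _).trans hx1).add_right 1
    have h2 := (hy.of_mul_left _).trans hx2
    rw [Nat.sub_add_cancel (by omega)] at h1
    constructor
    · refine ⟨(y + 1) / a ^ 2, ?_⟩
      have := Nat.mod_add_div (y + 1) (a ^ 2)
      rw [h1, Nat.mod_eq_of_lt (by nlinarith)] at this
      linear_combination -this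
    · refine ⟨y / b ^ 2, ?_⟩
      have := Nat.mod_add_div y (b ^ 2)
      rw [h2, Nat.mod_eq_of_lt (by nlinarith)] at this
      linarith
  have one : ∀ {s : ℕ}, s.Prime → ∀ {y}, s ∣ y → ¬ s ∣ y + 1 := fun hs y h1 h2 =>
    hs.not_dvd_one ((Nat.dvd_add_right h1).mp h2)
  obtain ⟨l, hl2, hl, hlx⟩ := Nat.forall_exists_prime_gt_and_modEq 2 (q := a ^ 2 * b ^ 2) (a := x) (by positivity)
    (Nat.coprime_of_dvd fun s hs h1 h2 => by
      obtain ⟨⟨t, ht⟩, u, hu⟩ := key x rfl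
      rcases hs.dvd_mul.mp h2 with h | h
      · exact one hs h1 (ht ▸ (hs.dvd_of_dvd_pow h).mul_right _)
      · exact one hs ((hs.dvd_of_dvd_pow h).mul_right _) (hu ▸ h1))
  obtain ⟨⟨t, ht⟩, u, hu⟩ := key l hlx
  haveI := Fact.mk hl
  obtain ⟨j, hj⟩ := hl.odd_of_ne_two hl2.ne'
  obtain ⟨w, hw⟩ : 2 ∣ 1 + b * u := (Nat.coprime_two_left.mpr hb).dvd_of_dvd_mul_left (by omega)
  have two : ∀ {s : ℕ}, s ∣ l + 1 → s ∣ l - 1 → s ∣ 2 := fun h1 h2 => by
    simpa [show l + 1 - (l - 1) = 2 by omega] using Nat.dvd_sub h1 h2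
  have hb2 : b ∣ l - 1 := ⟨1 + b * u, by omega⟩
  have ha2 : a ∣ l + 1 := ⟨_, ht⟩
  have hbo : ∀ {s}, s ∣ b → s ∣ 2 → s = 1 := fun h1 h2 =>
    Nat.eq_one_of_dvd_coprimes (Nat.coprime_two_right.mpr hb) h1 h2
  have h1 := H12.card_PSL2 (ZMod.card l)
  rw [Nat.gcd_eq_left (by omega), show l ^ 2 - 1 = (l + 1) * (l - 1) from Nat.sq_sub_sq l 1] at h1
  have h2 : l - 1 = b * (2 * w) := by rw [← hw]; omega
  refine ⟨PSL(2, ZMod l), inferInstance, inferInstance, l * (1 + a * t) * w, ?_,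
    Nat.coprime_of_dvd fun s hs h3 h4 => ?_, ?_, ⟨l * (j + 1) * j, ?_⟩, fun H hH h3 c hc h4 h5 => ?_⟩
  · rw [h2, ht] at h1
    linarith
  · have h5 : s ∣ w → s ∣ l - 1 := fun h => h2 ▸ (h.mul_left _).mul_left _
    rcases hs.dvd_mul.mp h3 with h | h <;> rcases hs.dvd_mul.mp h4 with h' | h'
    · rcases hs.dvd_mul.mp h' with h' | h'
      · exact one hs h' (h.trans ha2)
      · exact one hs (h.mul_right t) (add_comm 1 _ ▸ h')
    · obtain rfl := (Nat.prime_dvd_prime_iff_eq hs Nat.prime_two).mp (two (h.trans ha2) (h5 h'))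
      have := two ((ha'.resolve_left (Nat.not_odd_iff_even.mpr (even_iff_two_dvd.mpr h))).trans ha2)
        (h2 ▸ (mul_dvd_mul_left 2 h').mul_left _)
      omega
    · rcases hs.dvd_mul.mp h' with h' | h'
      · exact one hs (h.trans hb2) (by rwa [Nat.sub_add_cancel hl.pos])
      · exact hs.ne_one (hbo h (two (ht ▸ h'.mul_left _) (h.trans hb2)))
    · exact one hs (h.mul_right u) (by rw [add_comm, hw]; exact h'.mul_left _)
  · have : 0 < w := by omega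
    exact lt_of_lt_of_le hl.one_lt (mul_assoc l _ _ ▸ Nat.le_mul_of_pos_right _ (by positivity))
  · rw [show l - 1 = 2 * j by omega, show l + 1 = 2 * (j + 1) by omega] at h1
    linarith
  · rcases psl2_sub_card l hl2.ne' H hH with h | h | h | h
    · exact absurd (hbo h4 (two (h5.trans h) (h4.trans hb2))) hc.ne'
    · exact absurd (Nat.le_of_dvd two_pos (two ha2 (h3.trans h))) (by omega)
    · refine absurd (Nat.le_of_dvd two_pos (two ha2 (Nat.Coprime.dvd_of_dvd_mul_left ?_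
        ((h3.mul_left 2).trans h)))) (by omega)
      exact (hl.coprime_iff_not_dvd.mpr fun h => one hl dvd_rfl (h.trans ha2)).symm
    · exact h

end Cfsg.Agent.H25
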