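import Cfsg.Agent.H25.Misc1
import Cfsg.Agent.H1.Frattini
import Cfsg.Agent.H2.Basic
import Cfsg.Prelude.Def_OddOrderLocal

/-!
# Metacyclic `p`-groups, `p` odd: linear coordinates
-/

namespace Cfsg.Agent.H25

open Subgroup
open scoped commutatorElement

/-- geometric sum -/
def gs (ρ : ℤ) (k : ℕ) : ℤ := ∑ i ∈ Finset.range k, ρ ^ i

theorem gs_zero (ρ : ℤ) : gs ρ 0 = 0 := by simp [gs]

theorem gs_succ (ρ : ℤ) (k : ℕ) : gs ρ (k + 1) = 1 + ρ * gs ρ k := by
  simp only [gs]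
  rw [Finset.sum_range_succ', Finset.mul_sum]
  simp [pow_succ', add_comm]

theorem gs_add (ρ : ℤ) (k l : ℕ) : gs ρ (k + l) = gs ρ k + ρ ^ k * gs ρ l := by
  simp only [gs]
  rw [Finset.sum_range_add, Finset.mul_sum]
  simp [pow_add]

theorem gs_mul_sub (ρ : ℤ) (k : ℕ) : 1 + (ρ - 1) * gs ρ k = ρ ^ k := by
  have := geom_sum_mul ρ k
  simp only [gs]; linear_combination this

theorem gs_mul (ρ : ℤ) (k l : ℕ) : gs ρ (k * l) = gs ρ k * gs (ρ ^ k) l := by
  induction l with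
  | zero => simp [gs_zero]
  | succ l ih =>
    rw [Nat.mul_succ, add_comm, gs_add, ih, gs_succ]; ring

theorem gs_modEq {p ρ : ℤ} (h : p ∣ ρ - 1) (k : ℕ) : p ∣ gs ρ k - k := by
  induction k with
  | zero => simp [gs_zero]
  | succ k ih =>
    rw [gs_succ]
    have : 1 + ρ * gs ρ k - ((k + 1 : ℕ) : ℤ) = (ρ - 1) * gs ρ k + (gs ρ k - k) := by
      push_cast; ring
    rw [this]
    exact dvd_add (h.mul_right _) ih

theorem gs_prime {p : ℕ} (hp2 : Odd p) {ρ : ℤ} (h : (p : ℤ) ∣ ρ - 1) :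
    ∃ u : ℤ, gs ρ p = p * (1 + p * u) := by
  obtain ⟨b, hb⟩ := h
  have := odd_sq_dvd_geom_sum₂_sub (R := ℤ) (1 : ℤ) b hp2
  simp only [one_pow, mul_one] at this
  obtain ⟨u, hu⟩ := this
  refine ⟨u, ?_⟩
  have h1 : ρ = 1 + p * b := by linear_combination hb
  rw [gs, h1]; linear_combination hu

theorem dvd_pow_sub_one {p ρ : ℤ} (h : p ∣ ρ - 1) (k : ℕ) : p ∣ ρ ^ k - 1 := by
  have := gs_mul_sub ρ k
  have h2 : ρ ^ k - 1 = (ρ - 1) * gs ρ k := by linear_combination -this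
  rw [h2]; exact h.mul_right _

theorem isCoprime_of_dvd_sub_one {p ρ : ℤ} (h : p ∣ ρ - 1) : IsCoprime p ρ := by
  obtain ⟨b, hb⟩ := h
  exact ⟨-b, 1, by linear_combination hb⟩

theorem pow_dvd_gs_iff {p : ℕ} (hp : p.Prime) (hp2 : p ≠ 2) (M : ℕ) :
    ∀ (k : ℕ) {ρ : ℤ}, (p : ℤ) ∣ ρ - 1 → ((p : ℤ) ^ M ∣ gs ρ k ↔ p ^ M ∣ k) := by
  induction M with
  | zero => simp
  | succ M ih =>
    intro k ρ h
    have key : ∀ k', ((p : ℤ) ^ (M + 1) ∣ gs ρ (p * k') ↔ p ^ (M + 1) ∣ p * k') := by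
      intro k'
      obtain ⟨u, hu⟩ := gs_prime (hp.odd_of_ne_two hp2) h
      rw [gs_mul, hu, pow_succ', pow_succ', mul_assoc,
        mul_dvd_mul_iff_left (by exact_mod_cast hp.ne_zero), Nat.mul_dvd_mul_iff_left hp.pos,
        ← ih k' (dvd_pow_sub_one h p)]
      have hc : IsCoprime ((p : ℤ) ^ M) (1 + p * u) :=
        (isCoprime_of_dvd_sub_one (by simp)).pow_left
      exact ⟨fun h => hc.dvd_of_dvd_mul_left h, fun h => h.mul_left _⟩
    constructor
    · intro h1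
      have h2 : (p : ℤ) ∣ k := by
        have h3 : (p : ℤ) ∣ gs ρ k := (dvd_pow_self _ (Nat.succ_ne_zero M)).trans h1
        have := dvd_sub h3 (gs_modEq h k)
        simpa using this
      obtain ⟨k', rfl⟩ := Int.natCast_dvd_natCast.1 h2
      exact (key k').1 h1
    · intro h1
      obtain ⟨k', rfl⟩ := (dvd_pow_self _ (Nat.succ_ne_zero M)).trans h1
      exact (key k').2 h1

theorem gs_modEq_iff {p : ℕ} (hp : p.Prime) (hp2 : p ≠ 2) (M : ℕ) {ρ : ℤ}
    (h : (p : ℤ) ∣ ρ - 1) (k l : ℕ) :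
    gs ρ k ≡ gs ρ l [ZMOD (p : ℤ) ^ M] ↔ k ≡ l [MOD p ^ M] := by
  wlog hkl : k ≤ l generalizing k l
  · have h1 := this l k (by omega)
    exact ⟨fun h => (h1.1 h.symm).symm, fun h => (h1.2 h.symm).symm⟩
  obtain ⟨m, rfl⟩ := Nat.exists_eq_add_of_le hkl
  rw [Int.modEq_iff_dvd, gs_add, add_sub_cancel_left, Nat.modEq_iff_dvd' hkl,
    Nat.add_sub_cancel_left, ← pow_dvd_gs_iff hp hp2 M m h]
  have hc : IsCoprime ((p : ℤ) ^ M) (ρ ^ k) := (isCoprime_of_dvd_sub_one h).pow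
  exact ⟨fun h => hc.dvd_of_dvd_mul_left h, fun h => h.mul_left _⟩

theorem exists_gs_modEq {p : ℕ} (hp : p.Prime) (hp2 : p ≠ 2) (M : ℕ) {ρ : ℤ}
    (h : (p : ℤ) ∣ ρ - 1) (s : ℤ) : ∃ k : ℕ, gs ρ k ≡ s [ZMOD (p : ℤ) ^ M] := by
  haveI : NeZero (p ^ M) := ⟨pow_ne_zero _ hp.ne_zero⟩
  let f : ZMod (p ^ M) → ZMod (p ^ M) := fun x => ((gs ρ x.val : ℤ) : ZMod (p ^ M))
  have hf : Function.Injective f := by
    intro x y hxy
    have h1 := (ZMod.intCast_eq_intCast_iff _ _ _).1 hxy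
    push_cast at h1
    rw [gs_modEq_iff hp hp2 M h] at h1
    exact ZMod.val_injective _ (Nat.ModEq.eq_of_lt_of_lt h1 (ZMod.val_lt _) (ZMod.val_lt _))
  obtain ⟨x, hx⟩ := Finite.surjective_of_injective hf (s : ZMod (p ^ M))
  refine ⟨x.val, ?_⟩
  have h1 := (ZMod.intCast_eq_intCast_iff _ _ _).1 hx
  push_cast at h1
  exact h1

/-- linear coordinates on a metacyclic `p`-group -/
structure MCE (p : ℕ) (G : Type*) [Group G] where
  a : G
  d : ℤ
  M : ℕ
  pd : (p : ℤ) ∣ d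
  E : ℤ × ℤ → G
  surj : Function.Surjective E
  mul : ∀ v w, E v * E w = E (v + (1 + d * v.2) • w)
  fst : ∀ i, E (i, 0) = a ^ i
  per : ∀ v w, E (v + ((p : ℤ) ^ M) • w) = E v

variable {G : Type*} [Group G] {p : ℕ}

theorem nonempty_mce [Finite G] [hp : Fact p.Prime] (hp2 : p ≠ 2) (hG : IsPGroup p G)
    (hmc : IsMetacyclic G) : Nonempty (MCE p G) := by
  obtain ⟨N, hN, hNc, hQ⟩ := hmc
  obtain ⟨⟨a, ha⟩, hagen⟩ := hNc.exists_generator
  have hNa : ∀ x ∈ N, ∃ i : ℤ, a ^ i = x := fun x hx => by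
    obtain ⟨i, hi⟩ := hagen ⟨x, hx⟩
    exact ⟨i, by simpa using congrArg Subtype.val hi⟩
  obtain ⟨bb, hbb⟩ := hQ.exists_monoid_generator
  obtain ⟨b, rfl⟩ := QuotientGroup.mk_surjective bb
  obtain ⟨M, hM⟩ := IsPGroup.iff_card.1 hG
  have hpow : ∀ x : G, x ^ p ^ M = 1 := fun x => by rw [← hM]; exact pow_card_eq_one'
  have hz : ∀ (x : G) (i j : ℤ), i ≡ j [ZMOD (p : ℤ) ^ M] → x ^ i = x ^ j := by
    intro x i j hij
    obtain ⟨c, hc⟩ := hij.symm.dvd
    have : i = j + (p ^ M : ℕ) * c := by push_cast; linear_combination hc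
    rw [this, zpow_add, zpow_mul, zpow_natCast, hpow]; simp
  have hn : ∀ (x : G) (i j : ℕ), i ≡ j [MOD p ^ M] → x ^ i = x ^ j := by
    intro x i j hij
    have := hz x i j (by exact_mod_cast (Int.natCast_modEq_iff.2 hij))
    simpa using this
  obtain ⟨r, hr, hpr⟩ : ∃ r : ℤ, b * a * b⁻¹ = a ^ r ∧ (p : ℤ) ∣ r - 1 := by
    by_cases ha1 : a = 1
    · exact ⟨1, by simp [ha1], by simp⟩
    obtain ⟨r, hr⟩ := hNa _ (hN.conj_mem a ha b)
    refine ⟨r, hr.symm, ?_⟩
    have h1 : ∀ j : ℕ, b ^ j * a * (b ^ j)⁻¹ = a ^ (r ^ j) := by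
      intro j
      induction j with
      | zero => simp
      | succ j ih =>
        have : b ^ (j + 1) * a * (b ^ (j + 1))⁻¹ = b * (b ^ j * a * (b ^ j)⁻¹) * b⁻¹ := by
          rw [pow_succ']; group
        rw [this, ih, ← conj_zpow, ← hr, ← zpow_mul, pow_succ']
    have h2 := h1 (p ^ M)
    rw [hpow] at h2
    have h3 : a ^ (r ^ p ^ M - 1) = 1 := by
      rw [zpow_sub, ← h2]; simp
    have h4 : (orderOf a : ℤ) ∣ r ^ p ^ M - 1 := orderOf_dvd_iff_zpow_eq_one.2 h3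
    have h5 : p ∣ orderOf a := by
      obtain ⟨k, hk⟩ := (IsPGroup.iff_orderOf.1 hG) a
      rw [hk]
      refine dvd_pow_self _ ?_
      rintro rfl
      exact ha1 (orderOf_eq_one_iff.1 (by simpa using hk))
    have h6 : (p : ℤ) ∣ r ^ p ^ M - 1 := (Int.natCast_dvd_natCast.2 h5).trans h4
    rw [← ZMod.intCast_zmod_eq_zero_iff_dvd] at h6 ⊢
    push_cast at h6 ⊢
    rwa [ZMod.pow_card_pow] at h6
  have hconj : ∀ (j : ℕ) (i : ℤ), b ^ j * a ^ i = a ^ (r ^ j * i) * b ^ j := by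
    intro j
    induction j with
    | zero => simp
    | succ j ih =>
      intro i
      have h1 : b * a ^ i = a ^ (r * i) * b := by
        rw [zpow_mul, ← hr, conj_zpow]; group
      rw [pow_succ, mul_assoc, h1, ← mul_assoc, ih, pow_succ r, mul_assoc, mul_assoc]
  choose τ hτ using exists_gs_modEq hp.out hp2 M hpr
  refine ⟨⟨a, r - 1, M, hpr, fun v => a ^ v.1 * b ^ τ v.2, ?_, ?_, ?_, ?_⟩⟩
  · intro g
    obtain ⟨j, hj⟩ := hbb (g : G ⧸ N)
    have hj' : ((b ^ j : G) : G ⧸ N) = g := by simpa using hj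
    have h1 : g * (b ^ j)⁻¹ ∈ N := by
      have := (QuotientGroup.eq (s := N)).1 hj'
      have h2 := hN.conj_mem _ this (b ^ j)
      simpa [mul_assoc] using h2
    obtain ⟨i, hi⟩ := hNa _ h1
    refine ⟨(i, gs r j), ?_⟩
    have h2 : b ^ τ (gs r j) = b ^ j := hn _ _ _ ((gs_modEq_iff hp.out hp2 M hpr _ _).1 (hτ _))
    simp only [h2, hi]; group
  · rintro ⟨i, l⟩ ⟨i', l'⟩
    simp only [Prod.smul_mk, Prod.mk_add_mk, smul_eq_mul]
    have h1 : r ^ τ l ≡ 1 + (r - 1) * l [ZMOD (p : ℤ) ^ M] := by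
      rw [← gs_mul_sub r (τ l)]; exact ((hτ l).mul_left _).add_left _
    have h2 : b ^ (τ l + τ l') = b ^ τ (l + (1 + (r - 1) * l) * l') := by
      apply hn
      rw [← gs_modEq_iff hp.out hp2 M hpr, gs_add]
      exact ((hτ l).add (h1.mul (hτ l'))).trans (hτ _).symm
    rw [← h2, mul_assoc, ← mul_assoc (b ^ τ l), hconj, zpow_add, pow_add,
      hz a _ _ (h1.mul_right i')]
    group
  · intro i
    have : b ^ τ 0 = b ^ 0 := hn _ _ _ ((gs_modEq_iff hp.out hp2 M hpr _ _).1 (by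
      rw [gs_zero]; exact hτ 0))
    simp [this]
  · rintro ⟨i, l⟩ ⟨i', l'⟩
    simp only [Prod.smul_mk, Prod.mk_add_mk, smul_eq_mul]
    congr 1
    · apply hz; simp [Int.modEq_iff_dvd]
    · apply hn
      rw [← gs_modEq_iff hp.out hp2 M hpr]
      refine (hτ _).trans (Int.ModEq.trans ?_ (hτ _).symm)
      simp [Int.modEq_iff_dvd]

/-- the alternating form -/
def det2 {R : Type*} [CommRing R] (v w : R × R) : R := v.2 * w.1 - w.2 * v.1

namespace MCE

variable (C : MCE p G)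

theorem E_zero : C.E 0 = 1 := (C.fst 0).trans (zpow_zero _)

theorem E_congr {s t : ℤ} (h : s ≡ t [ZMOD (p : ℤ) ^ C.M]) (u v : ℤ × ℤ) :
    C.E (u + s • v) = C.E (u + t • v) := by
  obtain ⟨c, hc⟩ := h.symm.dvd
  have : u + s • v = (u + t • v) + ((p : ℤ) ^ C.M) • (c • v) := by
    have : s = t + p ^ C.M * c := by linear_combination hc
    rw [this, add_smul, mul_smul, add_assoc]
  rw [this, C.per]

theorem pow_E (v : ℤ × ℤ) (k : ℕ) : C.E v ^ k = C.E (gs (1 + C.d * v.2) k • v) := by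
  induction k with
  | zero => simp [gs_zero, C.E_zero]
  | succ k ih => rw [pow_succ', ih, C.mul, gs_succ, add_smul 1 (_ * gs _ _), one_smul, mul_smul]

theorem dvd_rho (v : ℤ × ℤ) : (p : ℤ) ∣ 1 + C.d * v.2 - 1 := by
  simpa using C.pd.mul_right _

theorem exists_pow (hp : p.Prime) (hp2 : p ≠ 2) (v : ℤ × ℤ) (s : ℤ) :
    ∃ k : ℕ, C.E v ^ k = C.E (s • v) := by
  obtain ⟨k, hk⟩ := exists_gs_modEq hp hp2 C.M (C.dvd_rho v) s
  refine ⟨k, ?_⟩
  have := C.E_congr hk 0 v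
  rw [C.pow_E]; simpa using this

theorem exists_inv (v : ℤ × ℤ) : ∃ t : ℤ, (1 + C.d * v.2) * t ≡ 1 [ZMOD (p : ℤ) ^ C.M] := by
  obtain ⟨x, y, hxy⟩ : IsCoprime ((p : ℤ) ^ C.M) (1 + C.d * v.2) :=
    (isCoprime_of_dvd_sub_one (C.dvd_rho v)).pow_left
  exact ⟨y, Int.modEq_iff_dvd.2 ⟨x, by linear_combination -hxy⟩⟩

theorem E_add (v w : ℤ × ℤ) : ∃ t : ℤ, C.E (v + w) = C.E v * C.E (t • w) := by
  obtain ⟨t, ht⟩ := C.exists_inv v
  refine ⟨t, ?_⟩
  rw [C.mul, smul_smul, C.E_congr ht, one_smul]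

/-- the generator of the derived subgroup -/
def c : G := C.a ^ C.d

theorem commutator_E (v w : ℤ × ℤ) : ⁅C.E v, C.E w⁆ = C.c ^ det2 v w := by
  have h1 : C.E v * C.E w = C.c ^ det2 v w * (C.E w * C.E v) := by
    rw [c, ← zpow_mul, ← C.fst, C.mul, C.mul w v, C.mul]
    congr 1
    ext <;> simp [det2] <;> ring
  rw [commutatorElement_def, h1]; group

theorem mem_prod_iff (hp : p.Prime) (hp2 : p ≠ 2) (v w : ℤ × ℤ) (g : G) :
    (∃ i j : ℕ, g = C.E v ^ i * C.E w ^ j) ↔ ∃ s t : ℤ, g = C.E (s • v + t • w) := by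
  constructor
  · rintro ⟨i, j, rfl⟩
    rw [C.pow_E, C.pow_E, C.mul, smul_smul]
    exact ⟨_, _, rfl⟩
  · rintro ⟨s, t, rfl⟩
    obtain ⟨u, hu⟩ := C.E_add (s • v) (t • w)
    obtain ⟨i, hi⟩ := C.exists_pow hp hp2 v s
    obtain ⟨j, hj⟩ := C.exists_pow hp hp2 w (u * t)
    exact ⟨i, j, by rw [hu, hi, hj, smul_smul]⟩

theorem commutator_eq : _root_.commutator G = zpowers C.c := by
  apply le_antisymm
  · rw [_root_.commutator_def, commutator_le]
    intro x _ y _
    obtain ⟨v, rfl⟩ := C.surj x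
    obtain ⟨w, rfl⟩ := C.surj y
    rw [C.commutator_E]; exact zpow_mem (mem_zpowers _) _
  · rw [zpowers_le]
    have := C.commutator_E (0, 1) (1, 0)
    simp only [det2, mul_one, mul_zero, sub_zero, zpow_one] at this
    rw [← this]
    exact commutator_mem_commutator (mem_top _) (mem_top _)

theorem orderOf_c_dvd : orderOf C.c ∣ p ^ C.M := by
  rw [orderOf_dvd_iff_pow_eq_one]
  have := C.per 0 (C.d, 0)
  rw [C.E_zero, zero_add, Prod.smul_mk, smul_zero, C.fst, smul_eq_mul, mul_comm, zpow_mul] at this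
  rw [c, ← zpow_natCast]; push_cast; exact this

/-- reduction of integer coordinates -/
def red (N : ℕ) (v : ℤ × ℤ) : ZMod N × ZMod N := ((v.1 : ZMod N), (v.2 : ZMod N))

theorem det2_red (N : ℕ) (v w : ℤ × ℤ) :
    det2 (red N v) (red N w) = ((det2 v w : ℤ) : ZMod N) := by simp [det2, red]

theorem red_surj (N : ℕ) : Function.Surjective (red N) := by
  rintro ⟨x, y⟩
  obtain ⟨i, rfl⟩ := ZMod.intCast_surjective x
  obtain ⟨j, rfl⟩ := ZMod.intCast_surjective y
  exact ⟨(i, j), rfl⟩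

theorem red_eq_of_E_eq {v w : ℤ × ℤ} (h : C.E v = C.E w) :
    red (orderOf C.c) v = red (orderOf C.c) w := by
  have key : ∀ u, ((det2 v u : ℤ) : ZMod (orderOf C.c)) = ((det2 w u : ℤ) : ZMod (orderOf C.c)) := by
    intro u
    have h1 := C.commutator_E v u
    rw [h, C.commutator_E] at h1
    rw [ZMod.intCast_eq_intCast_iff]
    exact (zpow_eq_zpow_iff_modEq.1 h1).symm
  have h1 := key (1, 0)
  have h2 := key (0, -1)
  simp only [det2] at h1 h2
  ext
  · simpa [red] using h2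
  · simpa [red] using h1

/-- coordinates modulo the centre -/
noncomputable def φ (g : G) : ZMod (orderOf C.c) × ZMod (orderOf C.c) :=
  red _ (C.surj g).choose

theorem φ_E (v : ℤ × ℤ) : C.φ (C.E v) = red _ v :=
  C.red_eq_of_E_eq (C.surj (C.E v)).choose_spec

theorem φ_surj : Function.Surjective C.φ := fun x => by
  obtain ⟨v, rfl⟩ := red_surj _ x
  exact ⟨_, C.φ_E v⟩

theorem φ_one : C.φ 1 = 0 := by rw [← C.E_zero, φ_E]; simp [red]

theorem commute_iff (x y : G) : Commute x y ↔ det2 (C.φ x) (C.φ y) = 0 := by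
  obtain ⟨v, rfl⟩ := C.surj x
  obtain ⟨w, rfl⟩ := C.surj y
  rw [← commutatorElement_eq_one_iff_commute, C.commutator_E, φ_E, φ_E, det2_red,
    ZMod.intCast_zmod_eq_zero_iff_dvd, orderOf_dvd_iff_zpow_eq_one]

/-- the scalar by which `x` acts -/
noncomputable def χ (x : G) : ZMod (orderOf C.c) := 1 + C.d * (C.φ x).2

theorem φ_mul (x y : G) : C.φ (x * y) = C.φ x + C.χ x • C.φ y := by
  obtain ⟨v, rfl⟩ := C.surj x
  obtain ⟨w, rfl⟩ := C.surj y
  rw [C.mul, χ, φ_E, φ_E, φ_E]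
  ext <;> simp [red]

theorem isUnit_χ (x : G) : IsUnit (C.χ x) := by
  obtain ⟨v, rfl⟩ := C.surj x
  obtain ⟨t, ht⟩ := C.exists_inv v
  have h1 : (1 + C.d * v.2) * t ≡ 1 [ZMOD (orderOf C.c : ℕ)] :=
    ht.of_dvd (by exact_mod_cast C.orderOf_c_dvd)
  rw [← ZMod.intCast_eq_intCast_iff] at h1
  refine IsUnit.of_mul_eq_one (t : ZMod (orderOf C.c)) ?_
  rw [χ, φ_E]
  simpa [red] using h1

theorem exists_φ_pow (hp : p.Prime) (hp2 : p ≠ 2) (x : G) (s : ZMod (orderOf C.c)) :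
    ∃ k : ℕ, C.φ (x ^ k) = s • C.φ x := by
  obtain ⟨v, rfl⟩ := C.surj x
  obtain ⟨t, rfl⟩ := ZMod.intCast_surjective s
  obtain ⟨k, hk⟩ := C.exists_pow hp hp2 v t
  refine ⟨k, ?_⟩
  rw [hk, φ_E, φ_E]
  ext <;> simp [red]

theorem mem_center_iff (x : G) : x ∈ center G ↔ C.φ x = 0 := by
  rw [Subgroup.mem_center_iff]
  constructor
  · intro h
    have key : ∀ u, det2 u (C.φ x) = 0 := fun u => by
      obtain ⟨y, rfl⟩ := C.φ_surj u
      exact (C.commute_iff _ _).1 (h y)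
    have h1 := key (0, 1)
    have h2 := key (-1, 0)
    simp only [det2] at h1 h2
    ext
    · simpa using h1
    · simpa using h2
  · intro h y
    exact (C.commute_iff _ _).2 (by simp [h, det2])

theorem φ_eq_iff (x y : G) : C.φ x = C.φ y ↔ x⁻¹ * y ∈ center G := by
  have h1 : C.φ y = C.φ x + C.χ x • C.φ (x⁻¹ * y) := by rw [← C.φ_mul]; simp
  rw [C.mem_center_iff, h1, left_eq_add, (C.isUnit_χ x).smul_eq_zero]

theorem φ_inv (x : G) : ∃ t : ZMod (orderOf C.c), C.φ x⁻¹ = t • C.φ x := by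
  obtain ⟨u, hu⟩ := C.isUnit_χ x
  have h1 := C.φ_mul x x⁻¹
  rw [mul_inv_cancel, φ_one, ← hu] at h1
  refine ⟨-(u⁻¹ : (ZMod (orderOf C.c))ˣ), ?_⟩
  have h2 : (u : ZMod (orderOf C.c)) • C.φ x⁻¹ = -C.φ x := (neg_eq_of_add_eq_zero_right h1.symm).symm
  rw [neg_smul, ← smul_neg, ← h2, smul_smul]; simp

/-- preimage of a submodule -/
def pre (S : Submodule (ZMod (orderOf C.c)) (ZMod (orderOf C.c) × ZMod (orderOf C.c))) :
    Subgroup G where
  carrier := {x | C.φ x ∈ S}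
  one_mem' := by simp [C.φ_one]
  mul_mem' := fun {x y} hx hy => by
    simp only [Set.mem_setOf_eq, C.φ_mul] at *
    exact S.add_mem hx (S.smul_mem _ hy)
  inv_mem' := fun {x} hx => by
    obtain ⟨t, ht⟩ := C.φ_inv x
    simp only [Set.mem_setOf_eq, ht] at *
    exact S.smul_mem _ hx

theorem mem_pre {S} {x : G} : x ∈ C.pre S ↔ C.φ x ∈ S := Iff.rfl

theorem center_le_pre (S) : center G ≤ C.pre S := fun x hx => by
  rw [mem_pre, (C.mem_center_iff x).1 hx]; exact S.zero_mem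

/-- image of a subgroup -/
def img (hp : p.Prime) (hp2 : p ≠ 2) (H : Subgroup G) :
    Submodule (ZMod (orderOf C.c)) (ZMod (orderOf C.c) × ZMod (orderOf C.c)) where
  carrier := C.φ '' H
  zero_mem' := ⟨1, H.one_mem, C.φ_one⟩
  add_mem' := by
    rintro _ _ ⟨x, hx, rfl⟩ ⟨y, hy, rfl⟩
    obtain ⟨u, hu⟩ := C.isUnit_χ x
    obtain ⟨k, hk⟩ := C.exists_φ_pow hp hp2 y (u⁻¹ : (ZMod (orderOf C.c))ˣ)
    refine ⟨x * y ^ k, H.mul_mem hx (H.pow_mem hy k), ?_⟩
    rw [C.φ_mul, hk, ← hu, smul_smul]; simp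
  smul_mem' := by
    rintro s _ ⟨x, hx, rfl⟩
    obtain ⟨k, hk⟩ := C.exists_φ_pow hp hp2 x s
    exact ⟨x ^ k, H.pow_mem hx k, hk⟩

theorem mem_img {hp : p.Prime} {hp2 : p ≠ 2} {H : Subgroup G} {v} :
    v ∈ C.img hp hp2 H ↔ ∃ x ∈ H, C.φ x = v := Iff.rfl

theorem img_pre (hp : p.Prime) (hp2 : p ≠ 2) (S) : C.img hp hp2 (C.pre S) = S := by
  ext v
  rw [mem_img]
  constructor
  · rintro ⟨x, hx, rfl⟩; exact hx
  · intro hv
    obtain ⟨x, rfl⟩ := C.φ_surj v
    exact ⟨x, hv, rfl⟩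

theorem relIndex_center (hp : p.Prime) (hp2 : p ≠ 2) (H : Subgroup G) :
    (center G).relIndex H = Nat.card (C.img hp hp2 H) := by
  rw [relIndex, index]
  refine Nat.card_eq_of_bijective
    (Quotient.lift (fun x : H => (⟨C.φ x, x, x.2, rfl⟩ : C.img hp hp2 H)) ?_) ⟨?_, ?_⟩
  · intro x y hxy
    have := QuotientGroup.leftRel_apply.1 hxy
    rw [mem_subgroupOf] at this
    exact Subtype.ext ((C.φ_eq_iff _ _).2 this)
  · rintro ⟨x⟩ ⟨y⟩ hxy
    have h1 : C.φ x = C.φ y := congrArg Subtype.val hxy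
    exact Quotient.sound (QuotientGroup.leftRel_apply.2 (mem_subgroupOf.2 ((C.φ_eq_iff _ _).1 h1)))
  · rintro ⟨_, x, hx, rfl⟩
    exact ⟨Quotient.mk _ ⟨x, hx⟩, rfl⟩

theorem index_center (hp : p.Prime) (hp2 : p ≠ 2) : (center G).index = orderOf C.c ^ 2 := by
  rw [← relIndex_top_right, C.relIndex_center hp hp2]
  have : C.img hp hp2 ⊤ = ⊤ := by
    rw [eq_top_iff]
    intro v _
    obtain ⟨x, rfl⟩ := C.φ_surj v
    exact ⟨x, mem_top _, rfl⟩
  rw [this, Nat.card_congr (Submodule.topEquiv.toEquiv), Nat.card_prod, Nat.card_zmod, _root_.sq]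

theorem card_mul_index_pre (hp : p.Prime) (hp2 : p ≠ 2)
    (S : Submodule (ZMod (orderOf C.c)) (ZMod (orderOf C.c) × ZMod (orderOf C.c))) :
    Nat.card S * (C.pre S).index = orderOf C.c ^ 2 := by
  rw [← C.index_center hp hp2, ← relIndex_mul_index (C.center_le_pre S),
    C.relIndex_center hp hp2, img_pre]

end MCE

/-- orthogonal complement for `det2` -/
def perp2 {R : Type*} [CommRing R] (S : Submodule R (R × R)) : Submodule R (R × R) where
  carrier := {w | ∀ v ∈ S, det2 v w = 0}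
  zero_mem' := by simp [det2]
  add_mem' := fun {x y} hx hy v hv => by
    have h1 := hx v hv
    have h2 := hy v hv
    simp only [det2, Prod.fst_add, Prod.snd_add] at *
    linear_combination h1 + h2
  smul_mem' := fun s x hx v hv => by
    have h1 := hx v hv
    simp only [det2, Prod.smul_fst, Prod.smul_snd, smul_eq_mul] at *
    linear_combination s * h1

theorem card_mul_card_perp2 {N : ℕ} (hN : N ≠ 0) (S : Submodule (ZMod N) (ZMod N × ZMod N)) :
    Nat.card S * Nat.card (perp2 S) = N ^ 2 := by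
  haveI : NeZero N := ⟨hN⟩
  obtain ⟨f, hf⟩ := exists_injective_units_of_isCyclic (Multiplicative (ZMod N))
  let β : Multiplicative S →* (Multiplicative (ZMod N × ZMod N) →* ℂˣ) :=
    MonoidHom.mk' (fun v => MonoidHom.mk'
      (fun w => f (Multiplicative.ofAdd (det2 (v.toAdd : ZMod N × ZMod N) w.toAdd))) (by
        intro w w'
        rw [← map_mul, ← ofAdd_add]
        congr 2
        simp [det2]; ring)) (by
      intro v v'
      refine MonoidHom.ext fun w => ?_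
      simp only [MonoidHom.mk'_apply, MonoidHom.mul_apply]
      rw [← map_mul, ← ofAdd_add]
      congr 2
      simp [det2]; ring)
  have hβ : ∀ v w, β v w = 1 ↔ det2 (v.toAdd : ZMod N × ZMod N) w.toAdd = 0 := by
    intro v w
    simp only [β, MonoidHom.mk'_apply]
    rw [map_eq_one_iff f hf]; simp
  have h1 : β.ker = ⊥ := by
    rw [eq_bot_iff]
    intro v hv
    rw [MonoidHom.mem_ker] at hv
    have h2 := (hβ v (Multiplicative.ofAdd (1, 0))).1 (by rw [hv]; rfl)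
    have h3 := (hβ v (Multiplicative.ofAdd (0, -1))).1 (by rw [hv]; rfl)
    simp only [det2, toAdd_ofAdd] at h2 h3
    rw [mem_bot]
    apply Multiplicative.toAdd.injective
    apply Subtype.ext
    ext
    · simpa using h3
    · simpa using h2
  have h2 : Nat.card β.flip.ker = Nat.card (perp2 S) := by
    refine Nat.card_congr ⟨fun w => ⟨w.1.toAdd, fun v hv => ?_⟩,
      fun w => ⟨Multiplicative.ofAdd w.1, ?_⟩, fun _ => rfl, fun _ => rfl⟩
    · have := w.2
      rw [MonoidHom.mem_ker] at this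
      exact (hβ (Multiplicative.ofAdd ⟨v, hv⟩) w.1).1 (DFunLike.congr_fun this _)
    · rw [MonoidHom.mem_ker]
      refine MonoidHom.ext fun v => ?_
      exact (hβ v (Multiplicative.ofAdd w.1)).2 (w.2 _ v.toAdd.2)
  have h3 := index_ker_eq_flip β
  rw [h1, index_bot] at h3
  have h4 := β.flip.ker.index_mul_card
  rw [← h3, h2] at h4
  have h5 : Nat.card (Multiplicative (ZMod N × ZMod N)) = N * N := by
    rw [Nat.card_congr Multiplicative.toAdd, Nat.card_prod, Nat.card_zmod]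
  rw [h5, Nat.card_congr Multiplicative.toAdd] at h4
  rw [_root_.sq]; exact h4

namespace MCE

variable (C : MCE p G)

theorem centralizer_eq (hp : p.Prime) (hp2 : p ≠ 2) (H : Subgroup G) :
    centralizer (H : Set G) = C.pre (perp2 (C.img hp hp2 H)) := by
  ext x
  rw [mem_centralizer_iff, mem_pre]
  constructor
  · rintro h _ ⟨y, hy, rfl⟩
    exact (C.commute_iff _ _).1 (h y hy)
  · intro h y hy
    exact (C.commute_iff _ _).2 (h _ ⟨y, hy, rfl⟩)

include C in
theorem index_centralizer [Finite G] (hp : p.Prime) (hp2 : p ≠ 2) (H : Subgroup G) :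
    (centralizer (H : Set G)).index = (center G).relIndex H := by
  have h1 := C.card_mul_index_pre hp hp2 (perp2 (C.img hp hp2 H))
  have h0 : orderOf C.c ≠ 0 := (orderOf_pos _).ne'
  haveI : NeZero (orderOf C.c) := ⟨h0⟩
  rw [← C.centralizer_eq, ← card_mul_card_perp2 h0 (C.img hp hp2 H), mul_comm] at h1
  rw [C.relIndex_center hp hp2]
  exact Nat.eq_of_mul_eq_mul_right Nat.card_pos h1

theorem φ_pow_pow (hp : p.Prime) (hp2 : p ≠ 2) (x : G) (k : ℕ) :
    ∃ t : ZMod (orderOf C.c), C.φ (x ^ p ^ k) = t • (p ^ k : ℕ) • C.φ x := by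
  obtain ⟨v, rfl⟩ := C.surj x
  obtain ⟨t, ht⟩ := (pow_dvd_gs_iff hp hp2 k (p ^ k) (C.dvd_rho v)).2 dvd_rfl
  refine ⟨t, ?_⟩
  rw [C.pow_E, ht, φ_E, φ_E]
  ext <;> simp [red] <;> ring

theorem exists_pow_dvd (hp : p.Prime) (hp2 : p ≠ 2) (v : ℤ × ℤ) {s : ℤ} {k : ℕ} (hk : k ≤ C.M)
    (hs : (p : ℤ) ^ k ∣ s) : ∃ j : ℕ, C.E v ^ (p ^ k * j) = C.E (s • v) := by
  obtain ⟨j, hj⟩ := exists_gs_modEq hp hp2 C.M (C.dvd_rho v) s
  have h1 : (p : ℤ) ^ k ∣ gs (1 + C.d * v.2) j := by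
    have := (pow_dvd_pow (p : ℤ) hk).trans hj.dvd
    simpa using dvd_sub hs this
  obtain ⟨j, rfl⟩ := (pow_dvd_gs_iff hp hp2 k j (C.dvd_rho v)).1 h1
  refine ⟨j, ?_⟩
  have := C.E_congr hj 0 v
  rw [C.pow_E]; simpa using this

theorem le_M (hp : p.Prime) {k : ℕ} (hk : p ^ k ∣ orderOf C.c) : k ≤ C.M :=
  (Nat.pow_dvd_pow_iff_le_right hp.one_lt).1 (hk.trans C.orderOf_c_dvd)

theorem pow_mem_center_iff (hp : p.Prime) (hp2 : p ≠ 2) (x : G) {k : ℕ}
    (hk : p ^ k ∣ orderOf C.c) : x ^ p ^ k ∈ center G ↔ (p ^ k : ℕ) • C.φ x = 0 := by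
  constructor
  · intro h
    obtain ⟨v, rfl⟩ := C.surj x
    obtain ⟨j, hj⟩ := C.exists_pow_dvd hp hp2 v (C.le_M hp hk) dvd_rfl
    have h1 : C.E v ^ (p ^ k * j) ∈ center G := by rw [pow_mul]; exact pow_mem h _
    rw [hj, C.mem_center_iff, φ_E] at h1
    rw [φ_E, ← h1]
    ext <;> simp [red]
  · intro h
    obtain ⟨t, ht⟩ := C.φ_pow_pow hp hp2 x k
    rw [C.mem_center_iff, ht, h, smul_zero]

theorem index_centralizer_dvd_iff [Finite G] (hp : p.Prime) (hp2 : p ≠ 2) (x : G) {k : ℕ}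
    (hk : p ^ k ∣ orderOf C.c) :
    (centralizer ({x} : Set G)).index ∣ p ^ k ↔ (p ^ k : ℕ) • C.φ x = 0 := by
  have h1 : centralizer ({x} : Set G) = centralizer (zpowers x : Set G) := by
    rw [zpowers_eq_closure, centralizer_closure]
  rw [h1, C.index_centralizer hp hp2, H1.relIndex_zpowers_eq_orderOf, orderOf_dvd_iff_pow_eq_one,
    ← QuotientGroup.mk_pow, QuotientGroup.eq_one_iff, C.pow_mem_center_iff hp hp2 x hk]

theorem mem_mho_iff (hp : p.Prime) (hp2 : p ≠ 2) (g : G) {s : ℕ} (hs : p ^ s ∣ orderOf C.c) :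
    g ∈ closure {x : G | ∃ y : G, y ^ p ^ s = x} ↔ ∃ w, C.φ g = (p ^ s : ℕ) • w := by
  constructor
  · intro hg
    have : closure {x : G | ∃ y : G, y ^ p ^ s = x} ≤
        C.pre (LinearMap.range ((p ^ s : ℕ) • LinearMap.id)) := by
      rw [closure_le]
      rintro _ ⟨y, rfl⟩
      obtain ⟨t, ht⟩ := C.φ_pow_pow hp hp2 y s
      rw [SetLike.mem_coe, mem_pre, ht]
      exact Submodule.smul_mem _ _ ⟨C.φ y, rfl⟩
    obtain ⟨w, hw⟩ := this hg
    exact ⟨w, hw.symm⟩
  · rintro ⟨w, hw⟩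
    obtain ⟨⟨i, l⟩, rfl⟩ := C.surj g
    obtain ⟨⟨i', l'⟩, rfl⟩ := red_surj _ w
    rw [φ_E] at hw
    have key : ∀ x y : ℤ, (x : ZMod (orderOf C.c)) = (p ^ s : ℕ) • (y : ZMod (orderOf C.c)) →
        (p : ℤ) ^ s ∣ x := by
      intro x y h
      have h1 : (x : ZMod (orderOf C.c)) = ((p ^ s * y : ℤ) : ZMod (orderOf C.c)) := by
        rw [h]; simp
      rw [ZMod.intCast_eq_intCast_iff] at h1
      have h2 : (p : ℤ) ^ s ∣ p ^ s * y - x := dvd_trans (by exact_mod_cast hs) h1.dvd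
      simpa using dvd_sub (dvd_mul_right ((p : ℤ) ^ s) y) h2
    obtain ⟨i₀, hi⟩ := key i i' (congrArg Prod.fst hw)
    obtain ⟨j, hj⟩ := C.exists_pow_dvd hp hp2 (0, 1) (C.le_M hp hs)
      (key l l' (congrArg Prod.snd hw))
    have h1 : C.E (i, l) = (C.a ^ i₀) ^ p ^ s * (C.E (0, 1) ^ j) ^ p ^ s := by
      rw [← pow_mul, mul_comm j, hj, ← zpow_natCast, ← zpow_mul, ← C.fst, C.mul, hi]
      congr 1
      ext <;> simp [mul_comm]
    rw [h1]
    exact mul_mem (subset_closure ⟨_, rfl⟩) (subset_closure ⟨_, rfl⟩)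

theorem c_mem_mho : C.c ∈ closure {x : G | ∃ y : G, y ^ p ^ 1 = x} := by
  obtain ⟨e, he⟩ := C.pd
  refine subset_closure ⟨C.a ^ e, ?_⟩
  rw [c, he, pow_one, ← zpow_natCast, ← zpow_mul, mul_comm]

theorem card_pre [Finite G] (hp : p.Prime) (hp2 : p ≠ 2)
    (S : Submodule (ZMod (orderOf C.c)) (ZMod (orderOf C.c) × ZMod (orderOf C.c))) :
    Nat.card (C.pre S) = Nat.card (center G) * Nat.card S := by
  have h1 := C.relIndex_center hp hp2 (C.pre S)
  rw [img_pre] at h1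
  rw [← h1, H1.card_mul_relIndex (C.center_le_pre S)]

end MCE

theorem zmod_smul_eq_zero_iff (hp : p.Prime) {n s N : ℕ} (hN : N = p ^ n) (hs : s ≤ n)
    (x : ZMod N) : (p ^ (n - s) : ℕ) • x = 0 ↔ ∃ y, x = (p ^ s : ℕ) • y := by
  subst hN
  obtain ⟨m, rfl⟩ := Nat.exists_eq_add_of_le hs
  rw [Nat.add_sub_cancel_left]
  constructor
  · intro h
    obtain ⟨x, rfl⟩ := ZMod.intCast_surjective x
    have h1 : ((p ^ m * x : ℤ) : ZMod (p ^ (s + m))) = 0 := by rw [← h]; simp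
    rw [ZMod.intCast_zmod_eq_zero_iff_dvd] at h1
    push_cast at h1
    rw [pow_add, mul_comm, mul_dvd_mul_iff_left (pow_ne_zero _ (by exact_mod_cast hp.ne_zero))] at h1
    obtain ⟨y, rfl⟩ := h1
    exact ⟨y, by simp⟩
  · rintro ⟨y, rfl⟩
    rw [smul_smul, ← pow_add, add_comm m s, nsmul_eq_mul, ZMod.natCast_self, zero_mul]

theorem card_ker_smul (hp : p.Prime) {n i N : ℕ} (hN : N = p ^ n) (hi : i ≤ n) :
    Nat.card (LinearMap.ker ((p ^ i : ℕ) • (LinearMap.id : (ZMod N × ZMod N) →ₗ[ZMod N] _))) =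
      p ^ (2 * i) := by
  haveI : NeZero N := ⟨hN ▸ pow_ne_zero _ hp.ne_zero⟩
  have h1 := IsAddCyclic.card_nsmulAddMonoidHom_ker (ZMod N) (p ^ i)
  rw [Nat.card_zmod, Nat.gcd_eq_right (hN ▸ pow_dvd_pow p hi)] at h1
  have h2 : p ^ (2 * i) = Nat.card ((nsmulAddMonoidHom (p ^ i) : ZMod N →+ ZMod N).ker ×
      (nsmulAddMonoidHom (p ^ i) : ZMod N →+ ZMod N).ker) := by
    rw [Nat.card_prod, h1, two_mul, pow_add]
  rw [h2]
  refine Nat.card_congr ⟨fun v => (⟨v.1.1, congrArg Prod.fst v.2⟩, ⟨v.1.2, congrArg Prod.snd v.2⟩),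
    fun w => ⟨(w.1.1, w.2.1), Prod.ext w.1.2 w.2.2⟩, fun _ => rfl, fun _ => rfl⟩

section main

variable [Finite G] [hp : Fact p.Prime]

theorem MCE.card_commutator (C : MCE p G) : Nat.card (_root_.commutator G) = orderOf C.c := by
  rw [C.commutator_eq, Nat.card_zpowers]

theorem meta_index_center (hp2 : p ≠ 2) (hG : IsPGroup p G) (hmc : IsMetacyclic G) :
    (center G).index = Nat.card (_root_.commutator G) ^ 2 := by
  obtain ⟨C⟩ := nonempty_mce hp2 hG hmc
  rw [C.card_commutator, C.index_center hp.out hp2]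

theorem meta_index_centralizer (hp2 : p ≠ 2) (hG : IsPGroup p G) (hmc : IsMetacyclic G)
    (H : Subgroup G) : (centralizer (H : Set G)).index = (center G).relIndex H := by
  obtain ⟨C⟩ := nonempty_mce hp2 hG hmc
  exact C.index_centralizer hp.out hp2 H

theorem meta_mem_mho_iff (hp2 : p ≠ 2) (hG : IsPGroup p G) (hmc : IsMetacyclic G) {n : ℕ}
    (hn : Nat.card (_root_.commutator G) = p ^ n) {s : ℕ} (hs : s ≤ n) (g : G) :
    g ∈ closure {x : G | ∃ y : G, y ^ p ^ s = x} ↔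
      (centralizer ({g} : Set G)).index ≤ p ^ (n - s) := by
  obtain ⟨C⟩ := nonempty_mce hp2 hG hmc
  rw [C.card_commutator] at hn
  obtain ⟨k, hk⟩ := hG.index (centralizer ({g} : Set G))
  have h1 := C.index_centralizer_dvd_iff hp.out hp2 g (k := n - s)
    (hn ▸ pow_dvd_pow p (Nat.sub_le n s))
  rw [C.mem_mho_iff hp.out hp2 g (hn ▸ pow_dvd_pow p hs), hk,
    Nat.pow_le_pow_iff_right hp.out.one_lt, ← Nat.pow_dvd_pow_iff_le_right hp.out.one_lt, ← hk, h1]
  constructor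
  · rintro ⟨w, hw⟩
    exact Prod.ext ((zmod_smul_eq_zero_iff hp.out hn hs _).2 ⟨_, congrArg Prod.fst hw⟩)
      ((zmod_smul_eq_zero_iff hp.out hn hs _).2 ⟨_, congrArg Prod.snd hw⟩)
  · intro h
    obtain ⟨x, hx⟩ := (zmod_smul_eq_zero_iff hp.out hn hs _).1 (congrArg Prod.fst h)
    obtain ⟨y, hy⟩ := (zmod_smul_eq_zero_iff hp.out hn hs _).1 (congrArg Prod.snd h)
    exact ⟨(x, y), Prod.ext hx hy⟩

theorem meta_mho_eq_center (hp2 : p ≠ 2) (hG : IsPGroup p G) (hmc : IsMetacyclic G) {n : ℕ}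
    (hn : Nat.card (_root_.commutator G) = p ^ n) :
    closure {x : G | ∃ y : G, y ^ p ^ n = x} = center G := by
  ext g
  rw [meta_mem_mho_iff hp2 hG hmc hn le_rfl, Nat.sub_self, pow_zero, Subgroup.mem_center_iff]
  have := index_ne_zero_of_finite (H := centralizer ({g} : Set G))
  rw [show (centralizer ({g} : Set G)).index ≤ 1 ↔ (centralizer ({g} : Set G)).index = 1 by omega,
    index_eq_one, eq_top_iff]
  exact ⟨fun h y => (mem_centralizer_singleton_iff.1 (h (mem_top y))),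
    fun h y _ => mem_centralizer_singleton_iff.2 (h y)⟩

theorem meta_card_index_dvd (hp2 : p ≠ 2) (hG : IsPGroup p G) (hmc : IsMetacyclic G) {n : ℕ}
    (hn : Nat.card (_root_.commutator G) = p ^ n) {i : ℕ} (hi : i ≤ n) :
    Nat.card {g : G // (centralizer ({g} : Set G)).index ∣ p ^ i} =
      Nat.card (center G) * p ^ (2 * i) := by
  obtain ⟨C⟩ := nonempty_mce hp2 hG hmc
  rw [C.card_commutator] at hn
  rw [← card_ker_smul hp.out hn hi, ← C.card_pre hp.out hp2]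
  refine Nat.card_congr (Equiv.subtypeEquivRight fun g => ?_)
  rw [C.index_centralizer_dvd_iff hp.out hp2 g (hn ▸ pow_dvd_pow p hi), MCE.mem_pre,
    LinearMap.mem_ker]
  rfl

theorem meta_frattini_eq (hp2 : p ≠ 2) (hG : IsPGroup p G) (hmc : IsMetacyclic G) :
    frattini G = closure {x : G | ∃ y : G, y ^ p ^ 1 = x} := by
  obtain ⟨C⟩ := nonempty_mce hp2 hG hmc
  apply le_antisymm
  · refine H1.frattini_le_of_elementary_quotient hp.out ?_ fun x => subset_closure ⟨x, by simp⟩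
    rw [C.commutator_eq, zpowers_le]; exact C.c_mem_mho
  · rw [closure_le]
    rintro _ ⟨y, rfl⟩
    rw [pow_one]; exact H1.pow_mem_frattini hG y

omit [Finite G] hp in
theorem isMetacyclic_subgroup (hmc : IsMetacyclic G) (H : Subgroup G) : IsMetacyclic H := by
  obtain ⟨N, hN, hNc, hQ⟩ := hmc
  refine ⟨N.subgroupOf H, inferInstance, ?_, ?_⟩
  · exact isCyclic_of_injective ((H.subtype.comp (N.subgroupOf H).subtype).codRestrict N fun x => x.2)
      (fun x y h => Subtype.ext (Subtype.ext (congrArg (Subtype.val : N → G) h)))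
  · refine isCyclic_of_injective (QuotientGroup.map _ N H.subtype le_rfl) ?_
    rw [injective_iff_map_eq_one]
    rintro ⟨x⟩ hx
    exact (QuotientGroup.eq_one_iff _).2 ((QuotientGroup.eq_one_iff (N := N) (x : G)).1 hx)

omit [Finite G] hp in
theorem card_commutator_sub (H : Subgroup G) :
    Nat.card (_root_.commutator H) = Nat.card (⁅H, H⁆ : Subgroup G) := by
  rw [← map_subtype_commutator, card_map_of_injective H.subtype_injective]

/-- maximal subgroups: `|G' : M'| = p`. -/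
theorem meta_card_commutator_coatom (hp2 : p ≠ 2) (hG : IsPGroup p G) (hmc : IsMetacyclic G)
    (hna : _root_.commutator G ≠ ⊥) {M : Subgroup G} (hM : IsCoatom M) :
    Nat.card (_root_.commutator G) = p * Nat.card (_root_.commutator M) ∨
      _root_.commutator M = ⊥ := by
  by_cases hMa : _root_.commutator M = ⊥
  · exact Or.inr hMa
  left
  obtain ⟨n, hn⟩ := IsPGroup.iff_card.1 (hG.to_subgroup (_root_.commutator G))
  have hn0 : n ≠ 0 := by
    rintro rfl
    exact hna (card_eq_one.1 (by simpa using hn))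
  have hZ : center G ≤ M := by
    rw [← meta_mho_eq_center hp2 hG hmc hn, closure_le]
    rintro _ ⟨y, rfl⟩
    obtain ⟨m, rfl⟩ := Nat.exists_eq_succ_of_ne_zero hn0
    rw [pow_succ, pow_mul]
    exact H1.mem_frattini_iff.1 (H1.pow_mem_frattini hG _) M hM
  have hi := H1.index_eq_of_isCoatom hG hM
  -- `C_G(M) ≤ M`
  have hC : centralizer (M : Set G) ≤ M := by
    by_contra h
    obtain ⟨x, hx, hxM⟩ := SetLike.not_le_iff_exists.1 h
    have h1 : M ≤ centralizer ({x} : Set G) := fun y hy =>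
      mem_centralizer_singleton_iff.2 (mem_centralizer_iff.1 hx y hy)
    have h2 : centralizer ({x} : Set G) = ⊤ := hM.2 _ (lt_of_le_of_ne h1 fun h => hxM (by
      rw [h]; exact mem_centralizer_singleton_iff.2 rfl))
    exact hxM (hZ (Subgroup.mem_center_iff.2 fun y =>
      mem_centralizer_singleton_iff.1 (h2 ▸ mem_top y)))
  have h1 := meta_index_centralizer hp2 hG hmc M
  have h2 := meta_index_center hp2 (hG.to_subgroup M) (isMetacyclic_subgroup hmc M)
  have h3 : (center M).index = (centralizer (M : Set G)).relIndex M := by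
    rw [relIndex]; congr 1
    ext x
    rw [mem_subgroupOf, Subgroup.mem_center_iff, mem_centralizer_iff]
    exact ⟨fun h y hy => congrArg Subtype.val (h ⟨y, hy⟩), fun h y => Subtype.ext (h y y.2)⟩
  have h4 := relIndex_mul_index hC
  have h5 := relIndex_mul_index hZ
  rw [meta_index_center hp2 hG hmc, ← h1, ← h4, ← h3, h2, hi] at h5
  have : Nat.card (_root_.commutator G) ^ 2 = (p * Nat.card (_root_.commutator M)) ^ 2 := by
    rw [← h5]; ring
  exact Nat.pow_left_injective two_ne_zero this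

universe u in
theorem meta_index_commutator_aux (hp2 : p ≠ 2) (G : Type u) [Group G] [Finite G] :
    IsPGroup p G → IsMetacyclic G → ∀ L : Subgroup G, _root_.commutator L ≠ ⊥ →
      (_root_.commutator L).index = (_root_.commutator G).index := by
  refine H2.card_induction (P := fun G _ _ => IsPGroup p G → IsMetacyclic G → ∀ L : Subgroup G,
    _root_.commutator L ≠ ⊥ → (_root_.commutator L).index = (_root_.commutator G).index) ?_ G
  intro G _ _ ih hG hmc L hL
  have equiv : ∀ {A B : Type u} [Group A] [Group B] (e : A ≃* B),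
      (_root_.commutator A).index = (_root_.commutator B).index ∧
        (_root_.commutator A = ⊥ → _root_.commutator B = ⊥) := by
    intro A B _ _ e
    have h1 : (_root_.commutator A).map e.toMonoidHom = _root_.commutator B := by
      rw [_root_.commutator_def, map_commutator, map_top_of_surjective _ e.surjective]; rfl
    refine ⟨?_, fun h => by rw [← h1, h, Subgroup.map_bot]⟩
    rw [← h1, index_map_of_bijective e.bijective]
  rcases eq_top_or_exists_le_coatom L with rfl | ⟨M, hM, hLM⟩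
  · exact (equiv topEquiv).1
  have e := (subgroupOfEquivOfLe hLM)
  have h1 := ih M (H1.card_lt_of_ne_top hM.1) (hG.to_subgroup M)
    (isMetacyclic_subgroup hmc M) (L.subgroupOf M) (fun h => hL ((equiv e).2 h))
  have hMa : _root_.commutator M ≠ ⊥ := by
    intro h
    apply hL
    apply card_eq_one.1
    have h2 := card_eq_one.2 h
    rw [card_commutator_sub] at h2 ⊢
    exact card_eq_one.2 (eq_bot_iff.2 ((commutator_mono hLM hLM).trans (card_eq_one.1 h2).le))
  have hGa : _root_.commutator G ≠ ⊥ := by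
    intro h
    apply hMa
    apply card_eq_one.1
    rw [card_commutator_sub]
    exact card_eq_one.2 (eq_bot_iff.2 ((commutator_mono le_top le_top).trans h.le))
  rw [← (equiv e).1, h1]
  have h2 := (meta_card_commutator_coatom hp2 hG hmc hGa hM).resolve_right hMa
  have h3 := (_root_.commutator G).index_mul_card
  have h4 := (_root_.commutator M).index_mul_card
  have h5 := M.index_mul_card
  rw [H1.index_eq_of_isCoatom hG hM, ← h4, ← h3, h2] at h5
  have h6 : 0 < p * Nat.card (_root_.commutator M) := Nat.mul_pos hp.out.pos Nat.card_pos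
  refine Nat.eq_of_mul_eq_mul_right h6 ?_
  rw [← h5]; ring

omit [Finite G] hp in
theorem isMulCommutative_iff_commutator_eq_bot :
    IsMulCommutative G ↔ _root_.commutator G = ⊥ := by
  rw [commutator_eq_bot_iff_center_eq_top, eq_top_iff]
  exact ⟨fun h x _ => Subgroup.mem_center_iff.2 fun y => h.is_comm.comm y x,
    fun h => ⟨⟨fun x y => Subgroup.mem_center_iff.1 (h (mem_top y)) x⟩⟩⟩

theorem meta_comm_iff (hp2 : p ≠ 2) (hG : IsPGroup p G) (hmc : IsMetacyclic G) (L : Subgroup G) :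
    IsMulCommutative L ↔ Nat.card L ≤ (_root_.commutator G).index := by
  constructor
  · intro hL
    have h1 := meta_index_centralizer hp2 hG hmc L
    have h2 : L ⊔ center G ≤ centralizer (L : Set G) :=
      sup_le (le_centralizer L) (center_le_centralizer _)
    have h3 : (centralizer (L : Set G)).index ∣ (L ⊔ center G).index := index_dvd_of_le h2
    have h4 := relIndex_mul_index (le_sup_right : center G ≤ L ⊔ center G)
    rw [relIndex_sup_right, meta_index_center hp2 hG hmc] at h4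
    rw [h1] at h3
    have h5 : (center G).relIndex L ≤ Nat.card (_root_.commutator G) := by
      have := Nat.le_of_dvd (Nat.pos_of_ne_zero index_ne_zero_of_finite) h3
      by_contra h
      push Not at h
      nlinarith
    have h6 := H1.card_inf_mul_relIndex (center G) L
    have h7 : Nat.card (center G ⊓ L : Subgroup G) ≤ Nat.card (center G) :=
      card_le_of_le inf_le_left
    have h8 := (center G).index_mul_card
    have h9 := (_root_.commutator G).index_mul_card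
    rw [meta_index_center hp2 hG hmc, ← h9] at h8
    have h10 : Nat.card (_root_.commutator G) * Nat.card (center G) =
        (_root_.commutator G).index := by
      refine Nat.eq_of_mul_eq_mul_right (Nat.card_pos (α := _root_.commutator G)) ?_
      rw [← h8]; ring
    rw [← h10, ← h6, mul_comm]
    exact Nat.mul_le_mul h5 h7
  · intro h
    by_contra hL
    rw [isMulCommutative_iff_commutator_eq_bot] at hL
    rw [← meta_index_commutator_aux hp2 G hG hmc L hL, ← (_root_.commutator L).index_mul_card] at h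
    have h1 : 1 < Nat.card (_root_.commutator L) := (one_lt_card_iff_ne_bot _).2 hL
    have h2 := Nat.pos_of_ne_zero (index_ne_zero_of_finite (H := _root_.commutator L))
    nlinarith

theorem meta_maximal_iff (hp2 : p ≠ 2) (hG : IsPGroup p G) (hmc : IsMetacyclic G)
    (L : Subgroup G) : Maximal (fun K : Subgroup G => IsMulCommutative K) L ↔
      Nat.card L = (_root_.commutator G).index := by
  constructor
  · intro h
    have h1 := (meta_comm_iff hp2 hG hmc L).1 h.1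
    by_contra hne
    obtain ⟨a, ha⟩ := IsPGroup.iff_card.1 (hG.to_subgroup L)
    obtain ⟨b, hb⟩ := hG.index (_root_.commutator G)
    rw [ha, hb] at h1 hne
    have hab : a + 1 ≤ b := by
      have := (Nat.pow_le_pow_iff_right hp.out.one_lt).1 h1
      have h2 : a ≠ b := fun h => hne (by rw [h])
      omega
    obtain ⟨K, hK, hLK⟩ := Sylow.exists_subgroup_card_pow_succ (H := L) (n := a)
      ((pow_dvd_pow p hab).trans (hb ▸ (_root_.commutator G).index_dvd_card)) ha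
    have h2 := h.2 ((meta_comm_iff hp2 hG hmc K).2 (by
      rw [hK, hb]; exact Nat.pow_le_pow_right hp.out.pos hab)) hLK
    have h3 := card_le_of_le h2
    rw [hK, ha, Nat.pow_le_pow_iff_right hp.out.one_lt] at h3
    omega
  · intro h
    refine ⟨(meta_comm_iff hp2 hG hmc L).2 h.le, fun K hK hLK => ?_⟩
    exact (eq_of_le_of_card_ge hLK (h ▸ (meta_comm_iff hp2 hG hmc K).1 hK)).ge

theorem meta_exists_cyclic_prod (hp2 : p ≠ 2) (hG : IsPGroup p G) (hmc : IsMetacyclic G) :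
    ∃ x y : G, zpowers x ⊓ zpowers y = ⊥ ∧ ∀ g : G, ∃ i j : ℕ, g = x ^ i * y ^ j := by
  classical
  obtain ⟨C⟩ := nonempty_mce hp2 hG hmc
  let P : ℕ → Prop := fun n => ∃ v w : ℤ × ℤ, orderOf (C.E v) + orderOf (C.E w) = n ∧
    ∀ g : G, ∃ s t : ℤ, g = C.E (s • v + t • w)
  have hP : ∃ n, P n := ⟨_, (1, 0), (0, 1), rfl, fun g => by
    obtain ⟨u, rfl⟩ := C.surj g
    exact ⟨u.1, u.2, by simp⟩⟩
  obtain ⟨v, w, hn, hgen⟩ := Nat.find_spec hP
  have hmin : ∀ v' w' : ℤ × ℤ, (∀ g : G, ∃ s t : ℤ, g = C.E (s • v' + t • w')) →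
      orderOf (C.E v) + orderOf (C.E w) ≤ orderOf (C.E v') + orderOf (C.E w') := fun v' w' h =>
    hn ▸ Nat.find_min' hP ⟨v', w', rfl, h⟩
  clear hn
  wlog hle : orderOf (C.E w) ≤ orderOf (C.E v) generalizing v w
  · refine this w v (fun g => ?_) (fun v' w' h => add_comm (orderOf (C.E v)) _ ▸ hmin v' w' h)
      (by omega)
    obtain ⟨s, t, h⟩ := hgen g
    exact ⟨t, s, by rw [add_comm]; exact h⟩
  refine ⟨C.E v, C.E w, ?_, fun g => (C.mem_prod_iff hp.out hp2 v w g).2 (hgen g)⟩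
  -- kernel of `E`
  have hT : ∀ u u' : ℤ × ℤ, C.E u = C.E u' → ∀ s : ℤ, C.E (s • (u - u')) = 1 := by
    intro u u' h s
    obtain ⟨t, ht⟩ := C.E_add u' (u - u')
    rw [add_sub_cancel, h, left_eq_mul] at ht
    obtain ⟨t₀, ht₀⟩ := C.exists_inv u'
    have h1 : C.E (u - u') = 1 := by
      have := C.mul u' (t₀ • (u - u'))
      rw [smul_smul, C.E_congr ht₀, one_smul, add_sub_cancel, h, mul_eq_left] at this
      obtain ⟨k, hk⟩ := C.exists_pow hp.out hp2 (t₀ • (u - u')) (1 + C.d * u'.2)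
      rw [this, one_pow, smul_smul] at hk
      have h2 := C.E_congr ht₀ 0 (u - u')
      simp only [zero_add, one_smul] at h2
      rw [← h2, ← hk]
    obtain ⟨k, hk⟩ := C.exists_pow hp.out hp2 (u - u') s
    rw [← hk, h1, one_pow]
  by_contra hne
  obtain ⟨α, hα⟩ := (IsPGroup.iff_orderOf.1 hG) (C.E v)
  obtain ⟨β, hβ⟩ := (IsPGroup.iff_orderOf.1 hG) (C.E w)
  have hβα : β ≤ α := by
    rw [hα, hβ] at hle; exact (Nat.pow_le_pow_iff_right hp.out.one_lt).1 hle
  obtain ⟨z, hz, hz1⟩ := (bot_or_exists_ne_one _).resolve_left hne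
  obtain ⟨hz2, hz3⟩ := mem_inf.1 hz
  have hβ0 : β ≠ 0 := by
    rintro rfl
    rw [pow_zero, orderOf_eq_one_iff] at hβ
    rw [hβ, zpowers_one_eq_bot, mem_bot] at hz3
    exact hz1 hz3
  obtain ⟨β, rfl⟩ := Nat.exists_eq_succ_of_ne_zero hβ0
  -- the element of order `p` of `⟨E w⟩` lies in `⟨E v⟩`
  have h1 : C.E w ^ p ^ β ∈ zpowers z := by
    obtain ⟨k, rfl⟩ := mem_powers_iff_mem_zpowers.2 hz3
    simp only at hz1 ⊢
    have h2 : ¬ p ^ (β + 1) ∣ k := fun h => hz1 (orderOf_dvd_iff_pow_eq_one.1 (hβ ▸ h))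
    have h3 : Nat.gcd k (p ^ (β + 1)) ∣ p ^ β := by
      obtain ⟨j, hj, hj'⟩ := (Nat.dvd_prime_pow hp.out).1 (Nat.gcd_dvd_right k (p ^ (β + 1)))
      rw [hj']
      refine pow_dvd_pow p ?_
      by_contra h
      have : j = β + 1 := by omega
      exact h2 (this ▸ hj' ▸ Nat.gcd_dvd_left _ _)
    obtain ⟨e, he⟩ := h3
    rw [he, pow_mul]
    refine pow_mem ?_ _
    rw [← zpow_natCast _ (Nat.gcd _ _), Nat.gcd_eq_gcd_ab, zpow_add, zpow_mul, zpow_mul, zpow_natCast,
      zpow_natCast, ← hβ, pow_orderOf_eq_one, one_zpow, mul_one]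
    exact zpow_mem (mem_zpowers _) _
  obtain ⟨k, hk⟩ := mem_powers_iff_mem_zpowers.2 ((zpowers_le.2 hz2) h1)
  simp only at hk
  have h2 : p ^ β ∣ k := by
    have h3 : C.E v ^ (k * p) = 1 := by
      rw [pow_mul, hk, ← pow_mul, ← pow_succ, ← hβ, pow_orderOf_eq_one]
    rw [← orderOf_dvd_iff_pow_eq_one, hα] at h3
    have h4 := (pow_dvd_pow p hβα).trans h3
    rwa [pow_succ, Nat.mul_dvd_mul_iff_right hp.out.pos] at h4
  rw [C.pow_E, C.pow_E] at hk
  obtain ⟨s, hs⟩ := (pow_dvd_gs_iff hp.out hp2 β k (C.dvd_rho v)).2 h2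
  obtain ⟨u, hu⟩ := (pow_dvd_gs_iff hp.out hp2 β (p ^ β) (C.dvd_rho w)).2 dvd_rfl
  have hup : IsCoprime ((p : ℤ) ^ C.M) u := by
    refine IsCoprime.pow_left ((Nat.prime_iff_prime_int.1 hp.out).irreducible.coprime_iff_not_dvd.2 ?_)
    rintro ⟨u', rfl⟩
    have h3 := (pow_dvd_gs_iff hp.out hp2 (β + 1) (p ^ β) (C.dvd_rho w)).1
      ⟨u', by rw [hu]; ring⟩
    have := (Nat.pow_dvd_pow_iff_le_right hp.out.one_lt).1 h3
    omega
  obtain ⟨e, f, hef⟩ := hup
  have h3 : C.E (u • w - s • v) ^ p ^ β = 1 := by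
    obtain ⟨u', hu'⟩ := (pow_dvd_gs_iff hp.out hp2 β (p ^ β) (C.dvd_rho (u • w - s • v))).2 dvd_rfl
    rw [C.pow_E, hu', ← hT _ _ hk.symm u', hs, hu]
    congr 1
    module
  have h4 := Nat.le_of_dvd (pow_pos hp.out.pos _) (orderOf_dvd_of_pow_eq_one h3)
  have h5 := hmin v (u • w - s • v) fun g => by
    obtain ⟨a, b, rfl⟩ := hgen g
    refine ⟨a + b * f * s, b * f, ?_⟩
    have h6 : b * f * u ≡ b [ZMOD (p : ℤ) ^ C.M] :=
      Int.modEq_iff_dvd.2 ⟨b * e, by linear_combination -b * hef⟩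
    rw [← C.E_congr h6]
    congr 1
    module
  rw [hβ, pow_succ] at h5
  have := pow_pos hp.out.pos β
  have := hp.out.two_le
  nlinarith

end main

end Cfsg.Agent.H25
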