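import Cfsg.Agent.H25.Res
import Cfsg.Agent.H4.FieldCoord
import Cfsg.Prelude.Def_LocalStructure

/-! Irreducible cyclic actions and minimal groups without a normal Sylow subgroup. -/

set_option autoImplicit false
set_option linter.style.haveILetI false

namespace Cfsg.Agent.H25

open Subgroup Cfsg.Agent.H20 Cfsg.Agent.H21
open scoped commutatorElement

variable {G : Type*} [Group G] [Finite G] {A H K L M N P V : Subgroup G} {p q n : ℕ}

/-- the order of an irreducible module of a cyclic group -/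
theorem card_eq_pow_orderOf_of_irr [hq : Fact q.Prime] (hV : IsElementaryAbelian q V) (h0 : V ≠ ⊥) {x : G}
    (hx : x ∈ N⟦V⟧) (hn : ∀ k, x ^ k ∈ C⟦V⟧ ↔ n ∣ k)
    (hirr : ∀ W ≤ V, x ∈ N⟦W⟧ → W = ⊥ ∨ W = V) : ♯V = q ^ orderOf (q : ZMod n) := by
  haveI := hV.1
  obtain ⟨v, hv, hv1⟩ := exists_ne_one h0
  obtain ⟨F, _, _, τ, h1, h2, h3, h4, h5, h6⟩ := H4.exists_field_coord (zpowers_le.2 hx)
    (fun a ha b hb v _ => by rw [(comm_iff.1 (comm_of_cyclic inferInstance)) a ha b hb])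
    (fun W hW h => hirr W hW (zpowers_le.1 h)) hv hv1
  obtain ⟨a, ha0, ha⟩ := h6 x (mem_zpowers x)
  have hk : ∀ k y, x ^ k * τ y * (x ^ k)⁻¹ = τ (a ^ k * y) := fun k => by
    induction k with
    | zero => simp
    | succ k ih => intro y; rw [pow_succ' a, mul_assoc a, ← ha, ← ih, pow_succ' x]; group
  have hord : ∀ k, a ^ k = 1 ↔ n ∣ k := fun k => by
    rw [← hn, mem_cent]
    refine ⟨fun h w hw => ?_, fun h => h2 ?_⟩
    · obtain ⟨y, rfl⟩ := (h3 w).1 hw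
      have := hk k y
      rw [h, one_mul, mul_inv_eq_iff_eq_mul] at this
      exact this.symm
    · rw [← mul_one (a ^ k), ← hk, ← h _ ((h3 _).2 ⟨1, rfl⟩), mul_inv_cancel_right]
  have hτ : ∀ (m : ℕ) y, τ (m • y) = τ y ^ m := fun m y => by
    induction m with
    | zero => simpa using H4.coord_zero h1
    | succ m ih => rw [succ_nsmul, h1, ih, pow_succ]
  haveI : CharP F q := (CharP.charP_iff_prime_eq_zero hq.out).2 (h2 (by
    rw [← nsmul_one, hτ, h4, hV.2 v hv, H4.coord_zero h1]))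
  obtain ⟨d, -, hd⟩ := FiniteField.card F q
  have hn0 : n ≠ 0 := fun h => by
    have := (hord _).1 (FiniteField.pow_card_sub_one_eq_one a ha0)
    rw [h, zero_dvd_iff] at this
    exact absurd (Fintype.one_lt_card (α := F)) (by omega)
  have key : ∀ k, a ^ q ^ k = a ↔ (q : ZMod n) ^ k = 1 := fun k => by
    have h7 : 1 ≤ q ^ k := Nat.one_le_pow _ _ hq.out.pos
    rw [← Nat.cast_pow, ← Nat.cast_one (R := ZMod n), eq_comm (a := ((q ^ k : ℕ) : ZMod n)),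
      ZMod.natCast_eq_natCast_iff, Nat.modEq_iff_dvd' h7, ← hord]
    conv_lhs => rw [← Nat.sub_add_cancel h7, pow_succ]
    exact mul_eq_right₀ ha0
  set e := orderOf (q : ZMod n)
  have h7 : e ∣ d := orderOf_dvd_of_pow_eq_one ((key d).1 (by rw [← hd, FiniteField.pow_card]))
  have he : 0 < e := Nat.pos_of_dvd_of_pos h7 d.2
  let W : Subgroup G :=
    { carrier := τ '' {y | y ^ q ^ e = y}
      mul_mem' := by
        rintro _ _ ⟨y, hy, rfl⟩ ⟨z, hz, rfl⟩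
        exact ⟨y + z, by rw [Set.mem_setOf_eq, add_pow_char_pow, hy, hz], h1 y z⟩
      one_mem' := ⟨0, zero_pow (pow_ne_zero _ hq.out.ne_zero), H4.coord_zero h1⟩
      inv_mem' := by
        rintro _ ⟨y, hy, rfl⟩
        refine ⟨-y, ?_, H4.coord_neg h1 y⟩
        rw [Set.mem_setOf_eq, ← zero_sub, sub_pow_char_pow, hy, zero_pow (pow_ne_zero _ hq.out.ne_zero)] }
  have hW : W = V := by
    refine (hirr W ?_ (mem_norm_of_forall ?_)).resolve_left (ne_bot_of_mem ⟨1, one_pow _, h4⟩ hv1)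
    · rintro _ ⟨y, -, rfl⟩
      exact (h3 _).2 ⟨y, rfl⟩
    · rintro _ ⟨y, hy, rfl⟩
      exact ⟨a * y, by rw [Set.mem_setOf_eq, mul_pow, hy, (key e).2 (pow_orderOf_eq_one _)], (ha y).symm⟩
  obtain ⟨g, hg⟩ := IsCyclic.exists_ofOrder_eq_natCard (α := Fˣ)
  have h8 : (g : F) ^ q ^ e = g := by
    obtain ⟨y, hy, h⟩ : τ g ∈ W := hW ▸ (h3 _).2 ⟨g, rfl⟩
    rwa [← h2 h]
  have h9 : 1 < q ^ e := Nat.one_lt_pow he.ne' hq.out.one_lt
  have h10 : orderOf g ∣ q ^ e - 1 := orderOf_dvd_of_pow_eq_one (Units.ext (by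
    rw [← Nat.sub_add_cancel h9.le, pow_succ] at h8
    exact (mul_eq_right₀ g.ne_zero).1 h8))
  rw [hg, Nat.card_units, Nat.card_eq_fintype_card, hd] at h10
  have h11 := Nat.le_of_dvd (by omega) h10
  have h12 : q ^ e ≤ q ^ (d : ℕ) := Nat.pow_le_pow_right hq.out.pos (Nat.le_of_dvd d.2 h7)
  rw [← h5, hd]
  omega

theorem card_eq_pow_orderOf_of_irr_prime [hq : Fact q.Prime] (hp : p.Prime) (hV : IsElementaryAbelian q V) {x : G}
    (hx : x ∈ N⟦V⟧) (h1 : x ^ p ∈ C⟦V⟧) (h2 : x ∉ C⟦V⟧)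
    (hirr : ∀ W ≤ V, x ∈ N⟦W⟧ → W = ⊥ ∨ W = V) : ♯V = q ^ orderOf (q : ZMod p) := by
  refine card_eq_pow_orderOf_of_irr hV (fun h => h2 (by rw [h, cent_bot]; trivial)) hx (fun k => ⟨fun h => ?_, ?_⟩) hirr
  · by_contra h3
    obtain ⟨u, v, huv⟩ := Nat.isCoprime_iff_coprime.2 ((Nat.Prime.coprime_iff_not_dvd hp).2 h3)
    refine h2 ?_
    rw [← zpow_one x, ← huv, zpow_add, mul_comm u, mul_comm v, zpow_mul, zpow_mul, zpow_natCast, zpow_natCast]
    exact mul_mem (zpow_mem h1 _) (zpow_mem h _)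
  · rintro ⟨k, rfl⟩
    rw [pow_mul]; exact pow_mem h1 k

variable [hp : Fact p.Prime]

theorem isPClosed_iff_exists : IsPClosed p H ↔ ∃ S, SylowOf p S H ∧ S ⊴ H := by
  refine ⟨fun h => ?_, fun ⟨S, h1, h2⟩ T => ?_⟩
  · obtain ⟨T⟩ : Nonempty (Sylow p H) := inferInstance
    exact ⟨_, sylowOf_map_subtype T, NormalIn.of_map_subtype _ (h T)⟩
  · rw [← Hall.eq_of_normalIn h1 h2 (sylowOf_map_subtype T)] at h2
    simpa [subgroupOf, comap_map_eq_self_of_injective H.subtype_injective] using h2.subgroupOf_normal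

theorem isPClosed_iff_top : IsPClosed p G ↔ ∃ S : Subgroup G, SylowOf p S ⊤ ∧ S ⊴ ⊤ :=
  ⟨fun h => by
    obtain ⟨T⟩ : Nonempty (Sylow p G) := inferInstance
    exact ⟨_, sylowOf_top T, normalIn_top_iff.2 (h T)⟩,
  fun ⟨S, h1, h2⟩ T => by rw [Hall.eq_of_normalIn h1 h2 (sylowOf_top T)]; exact h2.normal⟩

theorem pClosed_normalIn (h : IsPClosed p H) (hP : SylowOf p P H) : P ⊴ H := by
  obtain ⟨S, h1, h2⟩ := isPClosed_iff_exists.1 h
  rwa [Hall.eq_of_normalIn h1 h2 hP]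

theorem isPClosed_of_isPGroup (h : IsPGroup p G) : IsPClosed p G :=
  isPClosed_iff_top.2 ⟨⊤, sylowOf_self (pgroup_top_iff.2 h), NormalIn.refl _⟩

theorem isPClosed_of_not_dvd (h : ¬ p ∣ Nat.card G) : IsPClosed p G :=
  isPClosed_iff_top.2 ⟨⊥, Hall.bot ((isPi_compl_singleton_iff hp.out).2 (by rwa [card_top'])), NormalIn.bot _⟩

/-- a non-simple minimal group without normal Sylow `p`-subgroup -/
theorem min_non_pClosed (hnc : ¬ IsPClosed p G) (hsub : ∀ H : Subgroup G, H ≠ ⊤ → IsPClosed p H)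
    (hquo : ∀ (N : Subgroup G) [N.Normal], N ≠ ⊥ → IsPClosed p (G ⧸ N)) (hns : ¬ IsSimpleGroup G) :
    ∃ q : ℕ, q.Prime ∧ q ≠ p ∧ Nat.card G = p * q ^ orderOf (q : ZMod p) ∧
      ∃ A : Subgroup G, A.Normal ∧ ♯A = q ^ orderOf (q : ZMod p) ∧ IsElementaryAbelian q A ∧
        ∀ B : Subgroup G, B.Normal → B ≤ A → B = ⊥ ∨ B = A := by
  obtain ⟨P, hP⟩ := exists_sylowOf p (⊤ : Subgroup G)
  have hPn : ¬ P ⊴ ⊤ := fun h => hnc (isPClosed_iff_top.2 ⟨P, hP, h⟩)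
  have hPp := Hall.isPGroup hP
  have hq' : ∀ N : Subgroup G, N ⊴ ⊤ → N ≠ ⊥ → (N ⊔ P) ⊴ ⊤ := fun N hN h0 => by
    haveI := hN.normal
    obtain ⟨S, h1, h2⟩ := isPClosed_iff_top.1 (hquo N h0)
    have h3 := Hall.map hP (QuotientGroup.mk' N)
    rw [map_top_of_surjective _ (QuotientGroup.mk'_surjective N)] at h3
    have h4 := h2.comap (QuotientGroup.mk' N)
    rwa [← Hall.eq_of_normalIn h1 h2 h3, comap_top, comap_map_eq, QuotientGroup.ker_mk', sup_comm] at h4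
  have hO : ∀ N : Subgroup G, N ⊴ ⊤ → IsPGroup p N → N = ⊥ := fun N hN h => by
    by_contra h0
    exact hPn (sup_eq_right.2 (Hall.pgroup_le_of_norm hP h le_top (Or.inr (le_top.trans hN.norm))) ▸ hq' N hN h0)
  have hS : ∀ N S : Subgroup G, N ⊴ ⊤ → N ≠ ⊤ → SylowOf p S N → S = ⊥ := fun N S hN h1 h2 =>
    hO S (Hall.normalIn_trans h2 (pClosed_normalIn (hsub N h1) h2) hN) (Hall.isPGroup h2)
  obtain ⟨N, hN, h0, h1⟩ : ∃ N : Subgroup G, N.Normal ∧ N ≠ ⊥ ∧ N ≠ ⊤ := by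
    by_contra! h
    haveI : Nontrivial G := by
      by_contra h'
      haveI := not_nontrivial_iff_subsingleton.1 h'
      exact hPn ⟨le_top, (Subsingleton.elim _ _).le⟩
    exact hns ⟨fun N hN => or_iff_not_imp_left.2 (h N hN)⟩
  obtain ⟨A, hA, hAN⟩ := exists_minNormal_le (H := ⊤) h0 (normalIn_top_iff.2 hN).norm
  have hAn : A ⊴ ⊤ := ⟨le_top, hA.2.1⟩
  have hPA : P ≤ N⟦A⟧ := le_top.trans hAn.norm
  have hAp : IsPi {p}ᶜ A := by
    obtain ⟨S, h⟩ := exists_sylowOf p A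
    exact (Hall.eq_bot_iff h).1 (hS A S hAn (ne_top_of_le_ne_top h1 hAN) h)
  have hcop : (♯A).Coprime (♯P) := hAp.coprime' (Hall.isPi hP)
  have htop : A ⊔ P = ⊤ := by
    by_contra h
    exact hPn (hS _ P (hq' A hAn hA.1) h (Hall.of_le hP le_sup_right le_top) ▸ NormalIn.bot _)
  have hc : ¬ A ≤ C⟦P⟧ := fun h => hPn ⟨le_top, htop.ge.trans (sup_le (norm_of_cent h) (le_norm_self P))⟩
  obtain ⟨q, hq, Q, hQ, hPQ, h4⟩ : ∃ q : ℕ, q.Prime ∧ ∃ Q, SylowOf q Q A ∧ P ≤ N⟦Q⟧ ∧ ¬ Q ≤ C⟦P⟧ := by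
    by_contra! h4
    refine hc (le_of_forall_sylow fun q hq _ => ?_)
    haveI := Fact.mk hq
    obtain ⟨Q, h5, h6⟩ := exists_inv_sylow q hPA hcop (Or.inl (sol_of_pgroup hPp))
    exact ⟨Q, h5, h4 q hq Q h5 h6⟩
  haveI := Fact.mk hq
  have hQA : Q = A := by
    have h5 : Q ⊔ P = ⊤ := by
      by_contra h
      exact h4 (cent_of_coprime (le_sup_left.trans (pClosed_normalIn (hsub _ h)
        (Hall.of_le hP le_sup_right le_top)).norm) hPQ (coprime_of_le_left hcop (Hall.le hQ)))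
    have := modular_left (Or.inr hPQ) (Hall.le hQ)
    rw [h5, top_inf_eq, inf_eq_bot_coprime hcop.symm, sup_bot_eq] at this
    exact this.symm
  subst hQA
  obtain ⟨r, hr, hel⟩ := hA.exists_elem (sol_of_pgroup (Hall.isPGroup hQ))
  haveI := Fact.mk hr
  obtain ⟨x, hx, hxp⟩ := exists_prime_order_mem hp.out (dvd_card_of_isPGroup hPp fun h => hPn (h ▸ NormalIn.bot _))
  have hxP : zpowers x = P := by
    by_contra h
    obtain ⟨M, hM, hxM⟩ := (eq_top_or_exists_le_coatom ((zpowers x).subgroupOf P)).resolve_left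
      fun h' => h (le_antisymm (zpowers_le.2 hx) (subgroupOf_eq_top.1 h'))
    haveI := hPp.isNilpotent
    have h5 : M.map P.subtype ⊴ P := NormalIn.of_map_subtype M (NormalizerCondition.normal_of_coatom M
      normalizerCondition_of_isNilpotent hM)
    have h6 : (Q ⊔ M.map P.subtype) ⊴ ⊤ := ⟨le_top, htop.ge.trans (sup_le (norm_of_le le_sup_left) (norm_sup hPQ h5.norm))⟩
    have h7 : Q ⊔ M.map P.subtype ≠ ⊤ := fun h7 => by
      have := modular_right (Or.inr (h5.le.trans hPQ)) h5.le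
      rw [h7, top_inf_eq, inf_eq_bot_coprime hcop, bot_sup_eq] at this
      exact hM.1 (map_injective P.subtype_injective (by rw [← this, map_top_subtype]))
    have h8 := hS _ _ h6 h7 (Hall.of_sup_right ((Hall.isPi hP).of_le h5.le) hAp (Or.inl (h5.le.trans hPQ)))
    have h9 : x ∈ M.map P.subtype := mem_map_of_mem P.subtype (hxM (show (⟨x, hx⟩ : P) ∈ _ from mem_zpowers x))
    rw [h8, Subgroup.mem_bot] at h9
    rw [h9, orderOf_one] at hxp
    exact hp.out.one_lt.ne hxp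
  have hcard : ♯Q = r ^ orderOf (r : ZMod p) := by
    refine card_eq_pow_orderOf_of_irr_prime hp.out hel (hPQ hx) (by rw [← hxp, pow_orderOf_eq_one]; exact one_mem _)
      (fun h => hc (cent_symm (hxP ▸ zpowers_le.2 h))) fun W hW h => hA.eq_bot_or_eq hW ?_
    exact htop.ge.trans (sup_le (le_norm_of_comm hel.1 le_rfl hW) (hxP ▸ zpowers_le.2 h))
  refine ⟨r, hr, fun h => hAp.not_dvd hp.out rfl (h ▸ dvd_card_of_isPGroup (isPGroup_of_elem hel) hA.1), ?_,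
    Q, hAn.normal, hcard, hel, fun B hB h => hA.eq_bot_or_eq h (normalIn_top_iff.2 hB).norm⟩
  rw [← card_top', ← htop, card_sup_of_disjoint (Or.inr hPQ) (inf_eq_bot_coprime hcop), hcard, ← hxP,
    Nat.card_zpowers, hxp, mul_comm]

end Cfsg.Agent.H25
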