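import Mathlib
import Cfsg.Agent.H9.PSolv

/-!
Counting fixed points of an endomorphism which fixes the classes inside the derived subgroup.
-/

set_option autoImplicit false
set_option linter.dupNamespace false

namespace Cfsg.Agent.H25.Nd

open scoped commutatorElement

def Good (r d n : ℕ) : Prop := ∃ a b, n = r ^ a ∧ r ^ a - 1 = (r ^ b - 1) * d

theorem good_val {r d a b : ℕ} (hr : r.Prime) (hd : 1 < d) (ha : a ≠ 0)
    (h : r ^ a - 1 = (r ^ b - 1) * d) :
    b ≠ 0 ∧ b < a ∧ r ^ b ∣ d - 1 ∧ ¬ r ^ (b + 1) ∣ d - 1 := by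
  have h1 : 1 < r ^ a := Nat.one_lt_pow ha hr.one_lt
  have hb : b ≠ 0 := by
    rintro rfl
    simp only [pow_zero, Nat.sub_self, zero_mul] at h
    omega
  have h2 : 1 < r ^ b := Nat.one_lt_pow hb hr.one_lt
  obtain ⟨e, rfl⟩ : ∃ e, d = e + 1 := ⟨d - 1, by omega⟩
  obtain ⟨u, hu⟩ : ∃ u, r ^ b = u + 1 := ⟨r ^ b - 1, by omega⟩
  have h3 : r ^ a = r ^ b + u * e := by
    rw [hu] at h ⊢
    simp only [Nat.add_sub_cancel, mul_add, mul_one] at h
    omega
  have h4 : 0 < u * e := Nat.mul_pos (by omega) (by omega)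
  have hba : b < a := (Nat.pow_lt_pow_iff_right hr.one_lt).1 (by omega)
  have hc : (r ^ b).Coprime u := by rw [hu]; simp
  refine ⟨hb, hba, ?_, fun h5 => ?_⟩
  · rw [Nat.add_sub_cancel]
    refine hc.dvd_of_dvd_mul_left ((Nat.dvd_add_right (dvd_refl (r ^ b))).1 ?_)
    rw [← h3]; exact pow_dvd_pow r hba.le
  · rw [Nat.add_sub_cancel] at h5
    have h6 : r ^ (b + 1) ∣ r ^ b + u * e := by rw [← h3]; exact pow_dvd_pow r hba
    have h7 := (Nat.dvd_add_left (h5.mul_left u)).1 h6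
    rw [Nat.pow_dvd_pow_iff_le_right hr.one_lt] at h7
    omega

theorem Good.eq {r d n m : ℕ} (hr : r.Prime) (hd : 1 < d) (h1 : Good r d n) (h2 : Good r d m)
    (hn : n ≠ 1) (hm : m ≠ 1) : n = m := by
  obtain ⟨a, b, rfl, h1⟩ := h1
  obtain ⟨a', b', rfl, h2⟩ := h2
  obtain ⟨-, -, h3, h4⟩ := good_val hr hd (by rintro rfl; simp at hn) h1
  obtain ⟨-, -, h5, h6⟩ := good_val hr hd (by rintro rfl; simp at hm) h2
  have h7 : b = b' := by
    rcases lt_trichotomy b b' with h | h | h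
    · exact absurd ((pow_dvd_pow r h).trans h5) h4
    · exact h
    · exact absurd ((pow_dvd_pow r h).trans h3) h6
  subst h7
  have h8 := Nat.one_le_pow a r hr.pos
  have h9 := Nat.one_le_pow a' r hr.pos
  omega

theorem Good.ne_prime {r d : ℕ} (hr : r.Prime) (hd : 1 < d) (h : Good r d r) : False := by
  obtain ⟨a, b, h1, h2⟩ := h
  have h3 : a = 1 := (Nat.pow_right_injective hr.two_le (by simpa using h1.symm))
  subst h3
  obtain ⟨h4, h5, -⟩ := good_val hr hd one_ne_zero h2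
  omega

variable {H : Type*} [Group H]

theorem mem_of_pow_mem {K : Subgroup H} {x : H} {m n : ℕ} (h : m.Coprime n) (h1 : x ^ m ∈ K)
    (h2 : x ^ n ∈ K) : x ∈ K := by
  have h3 : x = (x ^ m) ^ (Nat.gcdA m n) * (x ^ n) ^ (Nat.gcdB m n) := by
    rw [← zpow_natCast, ← zpow_natCast, ← zpow_mul, ← zpow_mul, ← zpow_add, ← Nat.gcd_eq_gcd_ab,
      h.gcd_eq_one]
    simp
  rw [h3]
  exact K.mul_mem (K.zpow_mem h1 _) (K.zpow_mem h2 _)

theorem normal_of_le {K : Subgroup H} (h : commutator H ≤ K) : K.Normal :=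
  ⟨fun n hn g => by
    have h1 : ⁅g, n⁆ ∈ K := h (Subgroup.commutator_mem_commutator trivial trivial)
    simpa [commutatorElement_def] using K.mul_mem h1 hn⟩

/-- elements fixed modulo `N` -/
def Fx (σ : H →* H) (N : Subgroup H) [hN : N.Normal] : Subgroup H where
  carrier := {n | σ n * n⁻¹ ∈ N}
  one_mem' := by simp
  mul_mem' := fun {a b} ha hb => by
    have h := N.mul_mem (hN.conj_mem _ hb (σ a)) ha
    simp only [Set.mem_setOf_eq, map_mul]
    convert h using 1; group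
  inv_mem' := fun {a} ha => by
    have h := hN.conj_mem _ (N.inv_mem ha) a⁻¹
    have h2 := hN.conj_mem _ (N.inv_mem ha) (σ a)⁻¹
    simp only [Set.mem_setOf_eq, map_inv]
    convert h2 using 1; group

theorem mem_Fx {σ : H →* H} {N : Subgroup H} [N.Normal] {n : H} :
    n ∈ Fx σ N ↔ σ n * n⁻¹ ∈ N := Iff.rfl

structure Hyp (σ : H →* H) (N : Subgroup H) (l a r : ℕ) : Prop where
  hl : l.Prime
  hr : r.Prime
  it : ∀ x, σ^[l ^ a] x = x
  le : commutator H ≤ N
  inv : ∀ n ∈ N, σ n ∈ N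
  A : ∀ x ∈ commutator H, IsConj x (σ x)
  B : ∀ x, σ x * x⁻¹ ∉ commutator H → ∀ y ∈ commutator H, IsConj x (x * y)
  li : ¬ l ∣ N.index
  ri : ¬ r ∣ N.index

variable [Finite H] {σ : H →* H} {N : Subgroup H} [hN : N.Normal] {l a r : ℕ}

omit [Finite H] in
theorem Hyp.le_Fx (h : Hyp σ N l a r) : N ≤ Fx σ N := fun n hn =>
  N.mul_mem (h.inv n hn) (N.inv_mem hn)

section count
variable {Q : Type*} [Group Q] {π : H →* Q}

theorem Hyp.stab (h : Hyp σ N l a r) {s c : H} (hs : s ∈ commutator H) (h1 : π s ≠ 1) {k : ℕ}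
    (hk : π s ^ r ^ k = 1) (hc : π c * π s = π s * π c) : c ∈ Fx σ N := by
  by_contra h2
  have h0 : Nat.card H ≠ 0 := Nat.card_pos.ne'
  set j := (Nat.card H).factorization r
  set m := Nat.card H / r ^ j
  have hm : r.Coprime m := Nat.coprime_ordCompl h.hr h0
  have h3 : c ^ r ^ j ∉ Fx σ N := fun h3 => h2 (mem_of_pow_mem
    (((Nat.Prime.coprime_iff_not_dvd h.hr).2 h.ri).pow_left j) h3 (h.le_Fx (N.pow_index_mem c)))
  have h4 := h.B _ (fun h4 => h3 (h.le h4)) s hs
  have h5 : (c ^ r ^ j) ^ m = 1 := by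
    rw [← pow_mul, Nat.ordProj_mul_ordCompl_eq_self, pow_card_eq_one']
  have h6 : (c ^ r ^ j * s) ^ m = 1 := by
    have := h4.pow m
    rw [h5] at this
    exact (isConj_one_right.1 this)
  have h7 : Commute (π (c ^ r ^ j)) (π s) := by
    rw [map_pow]; exact Commute.pow_left hc _
  have h8 := congrArg π h6
  rw [map_pow, map_mul, h7.mul_pow, ← map_pow, h5, map_one, one_mul] at h8
  exact h1 (Subgroup.mem_bot.1 (mem_of_pow_mem (K := ⊥) (hm.pow_left k) hk h8))

omit [Finite H] in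
theorem Hyp.mem_of_Fx (h : Hyp σ N l a r) {n : H} (h1 : n⁻¹ * σ n ∈ Fx σ N) : n ∈ Fx σ N := by
  set c := n⁻¹ * σ n with hc
  let π := QuotientGroup.mk' N
  let τ : H ⧸ N →* H ⧸ N := QuotientGroup.map N N σ h.inv
  have e : ∀ x, τ (π x) = π (σ x) := fun x => rfl
  have h2 : τ (π c) = π c := by
    rw [e, ← mul_inv_eq_one, ← map_inv, ← map_mul]
    exact (QuotientGroup.eq_one_iff _).2 h1
  have h3 : ∀ k : ℕ, π (σ^[k] n) = π n * π c ^ k := by
    intro k
    induction k with
    | zero => simp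
    | succ k ih =>
      rw [Function.iterate_succ_apply', ← e, ih, map_mul, map_pow, h2, e, pow_succ', ← mul_assoc,
        ← map_mul π n, hc, mul_inv_cancel_left]
  have h4 := h3 (l ^ a)
  rw [h.it, left_eq_mul, ← map_pow] at h4
  have h5 : c ∈ N := mem_of_pow_mem (((Nat.Prime.coprime_iff_not_dvd h.hl).2 h.li).pow_left a)
    ((QuotientGroup.eq_one_iff _).1 h4) (N.pow_index_mem c)
  have h6 := hN.conj_mem _ h5 n
  rw [mem_Fx]
  convert h6 using 1
  rw [hc]; group

variable {τ : Q →* Q}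

theorem Hyp.exists_fix (h : Hyp σ N l a r) (hτ : ∀ x, τ (π x) = π (σ x)) {s : H}
    (hs : s ∈ commutator H) (hc : ∀ n ∈ N, π n * π s = π s * π n) :
    ∃ n, τ (π n * π s * (π n)⁻¹) = π n * π s * (π n)⁻¹ := by
  classical
  haveI := Fact.mk h.hl
  let C : Subgroup H := (Subgroup.centralizer {π s}).comap π
  have hNC : N ≤ C := fun n hn => by
    rw [Subgroup.mem_comap, Subgroup.mem_centralizer_singleton_iff]; exact hc n hn
  let O := {y : Q // ∃ n, y = π n * π s * (π n)⁻¹}
  let f : H ⧸ C → O := Quotient.lift (fun n => (⟨_, n, rfl⟩ : O)) (fun x y hxy => by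
    have h1 : x⁻¹ * y ∈ C := QuotientGroup.leftRel_apply.1 hxy
    rw [Subgroup.mem_comap, Subgroup.mem_centralizer_singleton_iff, map_mul, map_inv] at h1
    apply Subtype.ext
    show π x * π s * (π x)⁻¹ = π y * π s * (π y)⁻¹
    calc _ = π x * (π s * ((π x)⁻¹ * π y)) * (π y)⁻¹ := by group
      _ = _ := by rw [← h1]; group)
  have hf : Function.Bijective f := by
    constructor
    · intro x y
      induction x using QuotientGroup.induction_on with | H x => ?_
      induction y using QuotientGroup.induction_on with | H y => ?_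
      intro hxy
      have h1 : π x * π s * (π x)⁻¹ = π y * π s * (π y)⁻¹ := congrArg Subtype.val hxy
      rw [QuotientGroup.eq, Subgroup.mem_comap, Subgroup.mem_centralizer_singleton_iff, map_mul,
        map_inv]
      calc _ = (π x)⁻¹ * (π y * π s * (π y)⁻¹) * π y := by group
        _ = _ := by rw [← h1]; group
    · rintro ⟨y, n, rfl⟩
      exact ⟨(n : H ⧸ C), rfl⟩
  haveI : Finite O := Finite.of_surjective f hf.2
  haveI := Fintype.ofFinite O
  have hO : ¬ l ∣ Fintype.card O := by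
    rw [← Nat.card_eq_fintype_card, ← Nat.card_eq_of_bijective f hf]
    exact fun h1 => h.li (h1.trans (Subgroup.index_dvd_of_le hNC))
  obtain ⟨m, hm⟩ := isConj_iff.1 (h.A s hs)
  let g : O → O := fun y => ⟨τ y.1, by
    obtain ⟨n, hn⟩ := y.2
    refine ⟨σ n * m, ?_⟩
    rw [hn, map_mul, map_mul, map_inv, hτ, hτ, ← hm]
    simp only [map_mul, map_inv, mul_inv_rev, mul_assoc]⟩
  have h1 : ∀ (k : ℕ) (x : H), τ^[k] (π x) = π (σ^[k] x) := by
    intro k
    induction k with
    | zero => simp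
    | succ k ih => intro x; rw [Function.iterate_succ_apply', Function.iterate_succ_apply', ih, hτ]
  have h2 : ∀ (k : ℕ) (y : O), (g^[k] y).1 = τ^[k] y.1 := by
    intro k
    induction k with
    | zero => simp
    | succ k ih =>
      intro y; rw [Function.iterate_succ_apply', Function.iterate_succ_apply', ← ih]
  have h3 : g^[l ^ a] = id := by
    funext y
    apply Subtype.ext
    obtain ⟨n, hn⟩ := y.2
    rw [h2, id, hn, ← map_inv, ← map_mul, ← map_mul, h1, h.it]
  have h4 : Function.Bijective g := by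
    obtain ⟨e, he⟩ : ∃ e, l ^ a = e + 1 := ⟨l ^ a - 1, by
      have := Nat.one_le_pow a l h.hl.pos; omega⟩
    rw [← Finite.injective_iff_bijective]
    rw [he, Function.iterate_succ] at h3
    exact Function.Injective.of_comp (f := g^[e]) (by rw [h3]; exact Function.injective_id)
  obtain ⟨y, hy⟩ := Equiv.Perm.exists_fixed_point_of_prime (n := a) hO
    (σ := Equiv.ofBijective g h4) (by
      ext y
      rw [Equiv.Perm.coe_pow]
      exact congrArg Subtype.val (congrFun h3 y))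
  obtain ⟨n, hn⟩ := y.2
  exact ⟨n, by rw [← hn]; exact congrArg Subtype.val hy⟩

theorem Hyp.count (h : Hyp σ N l a r) (hτ : ∀ x, τ (π x) = π (σ x)) {S : Subgroup H}
    [hS : S.Normal] (hSD : S ≤ commutator H) (hr : ∀ s ∈ S, ∃ k, π s ^ r ^ k = 1)
    (hc : ∀ n ∈ N, ∀ s ∈ S, π n * π s = π s * π n) :
    Good r (Fx σ N).index (Nat.card (S.map π)) := by
  classical
  haveI := Fact.mk h.hr
  haveI := Fintype.ofFinite H
  let X := S.map π
  haveI : Finite X := Finite.of_surjective _ (π.subgroupMap_surjective S)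
  let Y := X ⊓ τ.eqLocus (MonoidHom.id Q)
  have hX : IsPGroup r X := by
    rintro ⟨_, s, hs, rfl⟩
    obtain ⟨k, hk⟩ := hr s hs
    exact ⟨k, Subtype.ext hk⟩
  haveI : Finite Y := Finite.of_injective _ (Subgroup.inclusion_injective (inf_le_left : Y ≤ X))
  obtain ⟨u, hu⟩ := IsPGroup.iff_card.1 hX
  obtain ⟨v, hv⟩ := IsPGroup.iff_card.1 (hX.to_le (inf_le_left : Y ≤ X))
  refine ⟨u, v, hu, ?_⟩
  have hXf : (X : Set Q).Finite := Set.toFinite _
  have hYf : (Y : Set Q).Finite := Set.toFinite _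
  let s := hXf.toFinset.erase 1
  let t := hYf.toFinset.erase 1
  have hs : s.card = r ^ u - 1 := by
    rw [Finset.card_erase_of_mem (by simp), ← hu, ← Set.ncard_eq_toFinset_card _ hXf]; rfl
  have ht : t.card = r ^ v - 1 := by
    rw [Finset.card_erase_of_mem (by simp), ← hv, ← Set.ncard_eq_toFinset_card _ hYf]; rfl
  have hcj : ∀ n, ∀ x ∈ X, π n * x * (π n)⁻¹ ∈ X := by
    rintro n _ ⟨s, hs, rfl⟩
    exact ⟨_, hS.conj_mem s hs n, by simp⟩
  have key : ∀ x ∈ X, x ≠ 1 → τ x = x → ∀ n,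
      (τ (π n * x * (π n)⁻¹) = π n * x * (π n)⁻¹ ↔ n ∈ Fx σ N) := by
    rintro _ ⟨s, hs, rfl⟩ h1 h2 n
    rw [map_mul, map_mul, map_inv, h2, hτ]
    constructor
    · intro h3
      obtain ⟨k, hk⟩ := hr s hs
      refine h.mem_of_Fx (h.stab (hSD hs) h1 hk ?_)
      rw [map_mul, map_inv]
      calc _ = (π n)⁻¹ * (π (σ n) * π s * (π (σ n))⁻¹) * π (σ n) := by group
        _ = _ := by rw [h3]; group
    · intro h3
      have h4 := hc _ h3 _ (hS.conj_mem s hs n)
      simp only [map_mul, map_inv] at h4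
      calc _ = (π (σ n) * (π n)⁻¹ * (π n * π s * (π n)⁻¹)) * (π n * (π (σ n))⁻¹) := by group
        _ = _ := by rw [h4]; group
  have hF : (Finset.univ.filter fun n => n ∈ Fx σ N).card = Nat.card (Fx σ N) := by
    rw [Nat.card_eq_fintype_card, Fintype.card_subtype]
  have main : (t ×ˢ (Finset.univ : Finset H)).card = s.card * Nat.card (Fx σ N) := by
    rw [Finset.card_eq_sum_card_fiberwise (f := fun p : Q × H => π p.2 * p.1 * (π p.2)⁻¹) (t := s)
      (fun p hp => by
        simp only [t, s, Finset.coe_product, Set.mem_prod, Finset.mem_coe, Finset.mem_erase,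
          Set.Finite.mem_toFinset, SetLike.mem_coe] at hp ⊢
        refine ⟨fun h1 => hp.1.1 ?_, hcj _ _ hp.1.2.1⟩
        simpa using h1), ← smul_eq_mul, ← Finset.sum_const]
    refine Finset.sum_congr rfl fun y hy => ?_
    simp only [s, Finset.mem_erase, Set.Finite.mem_toFinset, SetLike.mem_coe] at hy
    obtain ⟨hy1, z, hz, rfl⟩ := hy
    obtain ⟨n₀, hn₀⟩ := h.exists_fix hτ (hSD hz) fun n hn => hc n hn z hz
    have h0 : π n₀ * π z * (π n₀)⁻¹ ∈ X := hcj _ _ ⟨z, hz, rfl⟩
    have h1 : π n₀ * π z * (π n₀)⁻¹ ≠ 1 := fun h1 => hy1 (by simpa using h1)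
    have h2 := key _ h0 h1 hn₀
    rw [← hF]
    refine Finset.card_bij (fun p _ => p.2⁻¹ * n₀⁻¹) (fun p hp => ?_) (fun p hp p' hp' he => ?_)
      fun m hm => ?_
    · simp only [t, Finset.mem_filter, Finset.mem_product, Finset.mem_erase,
        Set.Finite.mem_toFinset, SetLike.mem_coe, Finset.mem_univ, true_and, and_true] at hp ⊢
      have h3 : π (p.2⁻¹ * n₀⁻¹) * (π n₀ * π z * (π n₀)⁻¹) * (π (p.2⁻¹ * n₀⁻¹))⁻¹ = p.1 := by
        rw [← hp.2]; simp only [map_mul, map_inv]; group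
      rw [← h2, h3]
      exact hp.1.2.2
    · simp only [Finset.mem_filter] at hp hp'
      have h3 : p.2 = p'.2 := by simpa using he
      have h4 := hp.2.trans hp'.2.symm
      rw [h3] at h4
      exact Prod.ext (by simpa using h4) h3
    · simp only [Finset.mem_filter, Finset.mem_univ, true_and] at hm
      refine ⟨(π m * (π n₀ * π z * (π n₀)⁻¹) * (π m)⁻¹, (m * n₀)⁻¹), ?_, by simp⟩
      simp only [t, Finset.mem_filter, Finset.mem_product, Finset.mem_erase,
        Set.Finite.mem_toFinset, SetLike.mem_coe, Finset.mem_univ, and_true]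
      refine ⟨⟨fun h3 => hy1 (by simpa using h3), hcj _ _ h0, (h2 m).2 hm⟩, ?_⟩
      simp only [map_mul, map_inv]; group
  rw [Finset.card_product, hs, ht, Finset.card_univ, ← Nat.card_eq_fintype_card,
    ← (Fx σ N).index_mul_card, ← mul_assoc] at main
  exact (Nat.eq_of_mul_eq_mul_right Nat.card_pos main).symm

end count

theorem Hyp.good (h : Hyp σ N l a r) {T S : Subgroup H} [hT : T.Normal] [S.Normal]
    (hTD : T ≤ commutator H) (hSD : S ≤ commutator H) (hr : ∀ s ∈ S, ∃ k, s ^ r ^ k ∈ T)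
    (hc : ∀ n ∈ N, ∀ s ∈ S, n * s * n⁻¹ * s⁻¹ ∈ T) : Good r (Fx σ N).index (T.relIndex S) := by
  have h1 : T ≤ T.comap σ := fun t ht => by
    obtain ⟨m, hm⟩ := isConj_iff.1 (h.A t (hTD ht))
    rw [Subgroup.mem_comap, ← hm]
    exact hT.conj_mem t ht m
  rw [H9.relIndex_eq_card_map_mk']
  refine h.count (τ := QuotientGroup.map T T σ h1) (fun x => rfl) hSD (fun s hs => ?_)
    fun n hn s hs => ?_
  · obtain ⟨k, hk⟩ := hr s hs
    exact ⟨k, by rw [← map_pow]; exact (QuotientGroup.eq_one_iff _).2 hk⟩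
  · have h2 : QuotientGroup.mk' T (n * s * n⁻¹ * s⁻¹) = 1 :=
      (QuotientGroup.eq_one_iff _).2 (hc n hn s hs)
    simp only [map_mul, map_inv] at h2
    rw [← commutatorElement_def, commutatorElement_eq_one_iff_mul_comm] at h2
    exact h2

end Cfsg.Agent.H25.Nd
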