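import Mathlib
import Cfsg.Agent.H25.Nd1
import Cfsg.Agent.H8.Deg3
import Cfsg.Agent.H1.Semireg
import Cfsg.Agent.H1.Frobenius
import Cfsg.Agent.H2.Basic

/-!
The group-theoretic core: a Frobenius section whose kernel has Camina elements.
-/

set_option autoImplicit false
set_option linter.dupNamespace false

namespace Cfsg.Agent.H25.Nd

open Cfsg.Agent.H8
open scoped commutatorElement

variable {H : Type*} [Group H] [Finite H] {σ : H →* H} {N K : Subgroup H} {l a r : ℕ}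

theorem exists_ppart {r : ℕ} (hr : r.Prime) {K : Subgroup H} {w : H} (hw : w ∉ K)
    (h : w ^ r ∈ K) : ∃ m k : ℕ, w ^ m ∉ K ∧ (w ^ m) ^ r ^ k = 1 := by
  have h0 : Nat.card H ≠ 0 := Nat.card_pos.ne'
  refine ⟨Nat.card H / r ^ (Nat.card H).factorization r, (Nat.card H).factorization r,
    fun h1 => hw (mem_of_pow_mem (Nat.coprime_ordCompl hr h0) h h1), ?_⟩
  rw [← pow_mul, mul_comm, Nat.ordProj_mul_ordCompl_eq_self, pow_card_eq_one']

omit [Finite H] in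
theorem cm {N : Subgroup H} {x y : H} (hx : x ∈ N) (hy : y ∈ N) :
    x * y * x⁻¹ * y⁻¹ ∈ (⁅N, N⁆ : Subgroup H) :=
  Subgroup.commutator_mem_commutator hx hy

theorem not_der_le (F : FrobQ K N) (hNt : N ≠ ⊤) : ¬ commutator H ≤ K := fun h => by
  haveI := F.nN
  obtain ⟨x, hx⟩ : ∃ x, x ∉ N := by
    by_contra h1; push Not at h1; exact hNt (eq_top_iff.2 fun x _ => h1 x)
  exact F.ne (le_antisymm F.le fun n hn => F.fpf x hx n hn (h (cm trivial trivial)))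

/-- an abelian group acting without fixed points outside `K` has cyclic quotient -/
theorem exists_gen [hN : N.Normal] {Z : Subgroup H} [hZ : Z.Normal] (hZ1 : Z ≠ ⊥)
    (hZc : ∀ x ∈ Z, ∀ y ∈ Z, x * y = y * x) (hNZ : ⁅N, N⁆ ≤ Z)
    (h : ∀ w ∈ N, ∀ z ∈ Z, z ≠ 1 → w * z = z * w → w ∈ K) :
    ∃ n₀ ∈ N, ∀ n ∈ N, ∃ k : ℤ, n * (n₀ ^ k)⁻¹ ∈ K := by
  obtain ⟨_, ⟨z, hz, hz1, rfl⟩, hmax⟩ := (wellFounded_gt (α := Subgroup H)).has_min
    {R | ∃ z ∈ Z, z ≠ 1 ∧ R = N ⊓ Subgroup.centralizer {z}} (by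
      obtain ⟨z, hz⟩ := Subgroup.ne_bot_iff_exists_ne_one.1 hZ1
      exact ⟨_, z.1, z.2, fun h => hz (Subtype.ext h), rfl⟩)
  set R := N ⊓ Subgroup.centralizer {z} with hR
  let Y := Z ⊓ Subgroup.centralizer (R : Set H)
  have hzY : z ∈ Y := ⟨hz, fun g hg => Subgroup.mem_centralizer_singleton_iff.1 hg.2⟩
  have hact : ∀ n ∈ N, ∀ m ∈ N, ∀ y ∈ Z, n * m * y * (n * m)⁻¹ = m * n * y * (m * n)⁻¹ := by
    intro n hn m hm y hy
    have h1 := hZc _ (hNZ (cm hn hm)) _ (hZ.conj_mem y hy (m * n))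
    calc _ = (n * m * n⁻¹ * m⁻¹ * (m * n * y * (m * n)⁻¹)) * (n * m * n⁻¹ * m⁻¹)⁻¹ := by group
      _ = _ := by rw [h1]; group
  have hY : ∀ n ∈ N, ∀ y ∈ Y, n * y * n⁻¹ ∈ Y := by
    intro n hn y hy
    refine ⟨hZ.conj_mem y hy.1 n, fun g hg => ?_⟩
    have h1 := hact g hg.1 n hn y hy.1
    have h2 : g * y = y * g := hy.2 g hg
    calc _ = (g * n * y * (g * n)⁻¹) * g := by group
      _ = n * (g * y) * g⁻¹ * n⁻¹ * g := by rw [h1]; group
      _ = _ := by rw [h2]; group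
  have hn : N ≤ Subgroup.normalizer (Y : Set H) := fun n hn =>
    Subgroup.mem_normalizer_iff.2 fun y => ⟨hY n hn y, fun h1 => by
      simpa [mul_assoc] using hY _ (N.inv_mem hn) _ h1⟩
  let φ := H1.conjHom hn
  haveI : IsMulCommutative Y := ⟨⟨fun x y => Subtype.ext (hZc _ x.2.1 _ y.2.1)⟩⟩
  haveI : Nontrivial Y := ⟨⟨⟨z, hzY⟩, 1, fun h => hz1 (congrArg Subtype.val h)⟩⟩
  haveI : IsMulCommutative φ.range := ⟨⟨by
    rintro ⟨_, n, rfl⟩ ⟨_, m, rfl⟩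
    apply Subtype.ext
    show φ n * φ m = φ m * φ n
    rw [← map_mul, ← map_mul]
    ext y
    exact hact _ n.2 _ m.2 _ y.2.1⟩⟩
  have hs : H1.Semireg φ.range.subtype := by
    rintro ⟨_, n, rfl⟩ h1 y hy
    by_contra hy1
    have h2 : R ≤ N ⊓ Subgroup.centralizer {y.1} := fun g hg =>
      ⟨hg.1, Subgroup.mem_centralizer_singleton_iff.2 (y.2.2 g hg)⟩
    have h3 : R = N ⊓ Subgroup.centralizer {y.1} := by
      by_contra h3
      exact hmax _ ⟨y.1, y.2.1, fun h => hy1 (Subtype.ext h), rfl⟩ (lt_of_le_of_ne h2 h3)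
    have h4 : n.1 ∈ R := by
      rw [h3]
      exact ⟨n.2, Subgroup.mem_centralizer_singleton_iff.2
        ((H1.conjHom_eq_self_iff hn n y).1 hy).symm⟩
    refine h1 (Subtype.ext (MulEquiv.ext fun v => (H1.conjHom_eq_self_iff hn n v).2 ?_))
    exact (v.2.2 _ h4).symm
  obtain ⟨⟨_, n₀, rfl⟩, hg⟩ := (hs.isCyclic).exists_generator
  refine ⟨n₀, n₀.2, fun n hnN => ?_⟩
  obtain ⟨k, hk⟩ := hg ⟨φ ⟨n, hnN⟩, _, rfl⟩
  have h1 : φ n₀ ^ k = φ ⟨n, hnN⟩ := congrArg Subtype.val hk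
  have h2 : φ (⟨n, hnN⟩ * (n₀ ^ k)⁻¹) = 1 := by rw [map_mul, map_inv, map_zpow, h1, mul_inv_cancel]
  have h3 := (H1.conjHom_eq_self_iff hn (⟨n, hnN⟩ * (n₀ ^ k)⁻¹) ⟨z, hzY⟩).1 (by
    show φ _ _ = _
    rw [h2]; rfl)
  exact ⟨k, h _ (N.mul_mem hnN (N.inv_mem (N.zpow_mem n₀.2 k))) z hz hz1 h3.symm⟩

section main
variable [hN : N.Normal] (h : Hyp σ N l a r) (F : FrobQ K N) (hd : Fx σ N ≠ ⊤) (hNt : N ≠ ⊤)
  (hexp : ∀ n ∈ N, n ^ r ∈ K)
  (hC : ∀ x ∈ N, x ∉ K → ∀ z ∈ (⁅N, N⁆ : Subgroup H), ∃ n ∈ N, n * x * n⁻¹ = x * z)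
  (hmin : ∀ L : Subgroup H, L.Normal → L ≤ ⁅N, N⁆ → L = ⊥ ∨ L = ⁅N, N⁆)
  (hZ1 : (⁅N, N⁆ : Subgroup H) ≠ ⊥)
  (hZc : ∀ x ∈ (⁅N, N⁆ : Subgroup H), ∀ y ∈ (⁅N, N⁆ : Subgroup H), x * y = y * x)

include hd in
theorem one_lt_index : 1 < (Fx σ N).index := by
  have h1 := (Fx σ N).index_ne_zero_of_finite
  have h2 : (Fx σ N).index ≠ 1 := fun h => hd (Subgroup.index_eq_one.1 h)
  omega

include h F hd hNt hexp hC hmin hZ1 hZc

theorem exp_Z : ∀ z ∈ (⁅N, N⁆ : Subgroup H), z ^ r = 1 := by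
  haveI := F.nK
  have h1 : ∃ w ∈ N, ∃ z ∈ (⁅N, N⁆ : Subgroup H), z ≠ 1 ∧ w * z = z * w ∧ w ∉ K := by
    by_contra h1
    push Not at h1
    obtain ⟨n₀, hn₀, h2⟩ := exists_gen hZ1 hZc le_rfl h1
    have h3 := h.good (T := commutator H ⊓ K) (S := commutator H) inf_le_left le_rfl
      (fun s hs => ⟨1, Subgroup.pow_mem _ hs _, by simpa using hexp s (h.le hs)⟩)
      fun n hn s hs => ⟨cm trivial trivial, F.comm n hn s (h.le hs)⟩
    rw [Subgroup.inf_relIndex_left] at h3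
    have h4 : K.relIndex (commutator H) ∣ r := by
      rw [H9.relIndex_eq_card_map_mk']
      have h5 : (commutator H).map (QuotientGroup.mk' K) ≤
          Subgroup.zpowers (QuotientGroup.mk' K n₀) := by
        rintro _ ⟨s, hs, rfl⟩
        obtain ⟨k, hk⟩ := h2 s (h.le hs)
        have h6 : QuotientGroup.mk' K (s * (n₀ ^ k)⁻¹) = 1 := (QuotientGroup.eq_one_iff _).2 hk
        rw [map_mul, map_inv, map_zpow, mul_inv_eq_one] at h6
        exact ⟨k, h6.symm⟩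
      refine (Subgroup.card_dvd_of_le h5).trans ?_
      rw [Nat.card_zpowers, orderOf_dvd_iff_pow_eq_one, ← map_pow]
      exact (QuotientGroup.eq_one_iff _).2 (hexp n₀ hn₀)
    rcases (Nat.dvd_prime h.hr).1 h4 with h5 | h5
    · exact not_der_le F hNt (Subgroup.relIndex_eq_one.1 h5)
    · rw [h5] at h3
      exact h3.ne_prime h.hr (one_lt_index hd)
  obtain ⟨w, hw, z, hz, hz1, hwz, hwK⟩ := h1
  obtain ⟨m, k, h2, h3⟩ := exists_ppart h.hr hwK (hexp w hw)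
  obtain ⟨n, -, h4⟩ := hC _ (N.pow_mem hw m) h2 z hz
  have h5 : z ^ r ^ k = 1 := by
    have h6 : (w ^ m * z) ^ r ^ k = 1 := by rw [← h4, conj_pow, h3]; simp
    rwa [(Commute.pow_left hwz m).mul_pow, h3, one_mul] at h6
  let L : Subgroup H :=
    { carrier := {y | y ∈ (⁅N, N⁆ : Subgroup H) ∧ y ^ r = 1}
      one_mem' := ⟨Subgroup.one_mem _, one_pow _⟩
      mul_mem' := fun {x y} hx hy => ⟨Subgroup.mul_mem _ hx.1 hy.1, by
        rw [Commute.mul_pow (hZc _ hx.1 _ hy.1), hx.2, hy.2, one_mul]⟩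
      inv_mem' := fun {x} hx => ⟨Subgroup.inv_mem _ hx.1, by rw [inv_pow, hx.2, inv_one]⟩ }
  have hL : L.Normal := ⟨fun y hy g => ⟨Subgroup.Normal.conj_mem inferInstance y hy.1 g, by
    rw [conj_pow, hy.2]; simp⟩⟩
  rcases hmin L hL (fun y hy => hy.1) with h6 | h6
  · exfalso
    clear h3 h4
    induction k generalizing z with
    | zero => exact hz1 (by simpa using h5)
    | succ k ih =>
      refine ih (z ^ r) (Subgroup.pow_mem _ hz _) (fun h7 => hz1 ?_)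
        (Commute.pow_right hwz r) (by rw [← pow_mul, ← pow_succ', h5])
      have h8 : z ∈ L := ⟨hz, h7⟩
      rwa [h6] at h8
  · intro y hy
    rw [← h6] at hy
    exact hy.2

theorem central : ∀ n ∈ N, ∀ z ∈ (⁅N, N⁆ : Subgroup H), n * z = z * n := by
  haveI := Fact.mk h.hr
  have hZ := exp_Z h F hd hNt hexp hC hmin hZ1 hZc
  let π := QuotientGroup.mk' (⁅N, N⁆ : Subgroup H)
  have hπ : ∀ x ∈ N, ∀ y ∈ N, Commute (π x) (π y) := fun x hx y hy => by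
    have h2 : π (x * y * x⁻¹ * y⁻¹) = 1 := (QuotientGroup.eq_one_iff _).2 (cm hx hy)
    simp only [map_mul, map_inv] at h2
    rwa [← commutatorElement_def, commutatorElement_eq_one_iff_mul_comm] at h2
  let P : Subgroup H :=
    { carrier := {x | x ∈ N ∧ ∃ k, π x ^ r ^ k = 1}
      one_mem' := ⟨N.one_mem, 0, by simp⟩
      mul_mem' := fun {x y} ⟨hx, k, hk⟩ ⟨hy, j, hj⟩ => ⟨N.mul_mem hx hy, k + j, by
        rw [map_mul, (hπ x hx y hy).mul_pow, pow_add, pow_mul, hk, mul_comm (r ^ k), pow_mul, hj]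
        simp⟩
      inv_mem' := fun {x} ⟨hx, k, hk⟩ => ⟨N.inv_mem hx, k, by rw [map_inv, inv_pow, hk, inv_one]⟩ }
  haveI hP : P.Normal := ⟨fun x ⟨hx, k, hk⟩ g => ⟨hN.conj_mem x hx g, k, by
    rw [map_mul, map_mul, map_inv, conj_pow, hk]; simp⟩⟩
  have h1 : IsPGroup r P := fun ⟨x, _, k, hk⟩ => ⟨k + 1, Subtype.ext (by
    show x ^ r ^ (k + 1) = 1
    rw [pow_succ, pow_mul]
    exact hZ _ ((QuotientGroup.eq_one_iff _).1 (by rw [← map_pow] at hk; exact hk)))⟩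
  have h2 : IsPGroup r (⁅N, N⁆ : Subgroup H) := fun z => ⟨1, Subtype.ext (by simpa using hZ _ z.2)⟩
  have h3 := (hmin _ inferInstance inf_le_left).resolve_left
    (H2.inf_centralizer_ne_bot_of_isPGroup h2 h1 Subgroup.le_normalizer_of_normal hZ1)
  have h4 : ∀ w ∈ N, w ∉ K → ∀ z ∈ (⁅N, N⁆ : Subgroup H), w * z = z * w := by
    intro w hw hwK z hz
    obtain ⟨m, k, h5, h6⟩ := exists_ppart h.hr hwK (hexp w hw)
    have h7 : w ^ m ∈ P := ⟨N.pow_mem hw m, k, by rw [← map_pow, h6, map_one]⟩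
    have h8 : ∀ y ∈ (⁅N, N⁆ : Subgroup H), w ^ m * y = y * w ^ m := fun y hy => by
      rw [← h3] at hy; exact hy.2 _ h7
    obtain ⟨n, hn, h9⟩ := hC _ (N.pow_mem hw m) h5 z hz
    have h10 := h8 _ (cm (N.inv_mem hn) hw)
    have h11 : w * w ^ m = w ^ m * w := (Commute.self_pow w m)
    generalize w ^ m = x at h9 h10 h11
    have h12 : x * (w * z * w⁻¹) = x * z := by
      calc _ = w * (x * z) * w⁻¹ := by rw [← mul_assoc, ← mul_assoc, ← h11]; group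
        _ = w * (n * x * n⁻¹) * w⁻¹ := by rw [h9]
        _ = n * (n⁻¹ * w * n⁻¹⁻¹ * w⁻¹) * (w * x) * n⁻¹ * w⁻¹ := by group
        _ = n * ((n⁻¹ * w * n⁻¹⁻¹ * w⁻¹) * x) * w * n⁻¹ * w⁻¹ := by rw [h11]; group
        _ = n * x * n⁻¹ := by rw [← h10]; group
        _ = _ := h9
    rw [← mul_inv_eq_iff_eq_mul]
    exact mul_left_cancel h12
  obtain ⟨w₀, hw₀, hw₁⟩ := SetLike.exists_of_lt (lt_of_le_of_ne F.le F.ne)
  intro n hn z hz
  by_cases hK : n ∈ K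
  · have h5 := h4 _ (N.mul_mem hn hw₀) (fun h5 => hw₁ ((K.mul_mem_cancel_left hK).1 h5)) z hz
    rw [mul_assoc, h4 w₀ hw₀ hw₁ z hz, ← mul_assoc, ← mul_assoc] at h5
    exact mul_right_cancel h5
  · exact h4 n hn hK z hz

theorem grp0 {c : H} (hc : c ∉ N) (hcZ : ∀ z ∈ (⁅N, N⁆ : Subgroup H), c * z = z * c) : False := by
  haveI := F.nK
  have hZ := exp_Z h F hd hNt hexp hC hmin hZ1 hZc
  have hce := central h F hd hNt hexp hC hmin hZ1 hZc
  have hd1 := one_lt_index hd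
  set D := commutator H with hD
  set T := D ⊓ Subgroup.centralizer (N : Set H) with hT
  have hZD : (⁅N, N⁆ : Subgroup H) ≤ D := Subgroup.commutator_mono le_top le_top
  have hZT : (⁅N, N⁆ : Subgroup H) ≤ T := fun z hz => ⟨hZD hz, fun n hn => hce n hn z hz⟩
  obtain ⟨⟨z₀, hz₀⟩, hz₁⟩ := Subgroup.ne_bot_iff_exists_ne_one.1 hZ1
  have hTK : T ≤ K := fun t ht => by
    by_contra h1
    obtain ⟨n, hn, h2⟩ := hC t (h.le ht.1) h1 z₀ hz₀
    rw [ht.2 n hn, mul_inv_cancel_right, left_eq_mul] at h2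
    exact hz₁ (Subtype.ext h2)
  have hpow : ∀ s ∈ D, s ^ r ∈ T := fun s hs => ⟨D.pow_mem hs r, fun n hn => by
    have h1 := cm hn (h.le hs)
    have h2 : n * s * n⁻¹ = (n * s * n⁻¹ * s⁻¹) * s := by group
    have h3 : (n * s * n⁻¹) ^ r = s ^ r := by
      rw [h2, Commute.mul_pow (hce s (h.le hs) _ h1).symm, hZ _ h1, one_mul]
    rw [conj_pow] at h3
    rw [← mul_inv_eq_iff_eq_mul]; exact h3⟩
  have g : ∀ S : Subgroup H, S.Normal → S ≤ D → Good r (Fx σ N).index (T.relIndex S) :=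
    fun S _ hS => h.good inf_le_left hS (fun s hs => ⟨1, by simpa using hpow s (hS hs)⟩)
      fun n hn s hs => hZT (cm hn (h.le (hS hs)))
  have g1 := g D inferInstance le_rfl
  have g2 := g (D ⊓ K) inferInstance inf_le_left
  have g3 := h.good (T := ⊥) (S := ⁅N, N⁆) bot_le hZD (fun s hs => ⟨1, by simpa using hZ s hs⟩)
    fun n hn s hs => by rw [hce n hn s hs]; simp
  rw [Subgroup.relIndex_bot_left] at g3
  have hDK := not_der_le F hNt
  have n1 : T.relIndex D ≠ 1 := fun h1 => hDK ((Subgroup.relIndex_eq_one.1 h1).trans hTK)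
  have e1 := g1.eq h.hr hd1 g3 n1 (fun h1 => hZ1 (Subgroup.card_eq_one.1 h1))
  have n0 : T.relIndex D ≠ 0 := by rw [e1]; exact Nat.card_pos.ne'
  have hKT : D ⊓ K ≤ T := by
    by_contra h1
    have h2 := g2.eq h.hr hd1 g1 (fun h2 => h1 (Subgroup.relIndex_eq_one.1 h2)) n1
    have h3 := Subgroup.relIndex_mul_relIndex T (D ⊓ K) D (le_inf inf_le_left hTK) inf_le_left
    rw [h2] at h3
    exact hDK ((Subgroup.relIndex_eq_one.1 ((Nat.mul_eq_left n0).1 h3)).trans inf_le_right)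
  have dec : ∀ w ∈ D, ∃ b ∈ D, ∃ k ∈ T, w = b⁻¹ * (c * b * c⁻¹) * k := fun w hw => by
    have hcD : ∀ w ∈ D, c * w * c⁻¹ ∈ D := fun w hw =>
      Subgroup.Normal.conj_mem inferInstance w hw c
    obtain ⟨b, hb, k, hk, e⟩ := F.exists_comm h.le hc hcD hw
    refine ⟨b, hb, k, hKT ⟨?_, hk⟩, e⟩
    rw [e] at hw
    exact (D.mul_mem_cancel_left (D.mul_mem (D.inv_mem hb) (hcD b hb))).1 hw
  obtain ⟨x, hxD, hxK⟩ := SetLike.not_le_iff_exists.1 hDK
  have hxN := h.le hxD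
  have surj : ∀ z ∈ (⁅N, N⁆ : Subgroup H), ∃ s ∈ D, s * x * s⁻¹ = x * z := by
    intro z hz
    obtain ⟨y, hy, h1⟩ := hC x hxN hxK z hz
    have h2 : y⁻¹ * (c * y * c⁻¹) ∈ D := by
      have : y⁻¹ * c * y⁻¹⁻¹ * c⁻¹ ∈ D := cm (N := ⊤) (x := y⁻¹) (y := c) trivial trivial
      simpa [mul_assoc] using this
    obtain ⟨s, hs, k, hk, e⟩ := dec _ h2
    have hsN := h.le hs
    have hu : y * s⁻¹ ∈ N := N.mul_mem hy (N.inv_mem hsN)
    have h3 : c * (y * s⁻¹) * c⁻¹ = y * s⁻¹ * k := by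
      have h4 := hk.2 _ (hN.conj_mem s hsN c)
      calc _ = y * (y⁻¹ * (c * y * c⁻¹)) * (c * s * c⁻¹)⁻¹ := by group
        _ = y * s⁻¹ * (c * s * c⁻¹ * k) * (c * s * c⁻¹)⁻¹ := by rw [e]; group
        _ = _ := by rw [h4]; group
    obtain ⟨u, hu'⟩ : ∃ u, u = y * s⁻¹ := ⟨_, rfl⟩
    rw [← hu'] at hu h3
    obtain ⟨b, hb, k', hk', e'⟩ := dec x hxD
    have hbN := h.le hb
    have h5 := hcZ _ (cm hbN hu)
    have h6 := hk.2 _ (N.inv_mem (hN.conj_mem b hbN c))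
    have h7 : c * b * c⁻¹ * u * (c * b * c⁻¹)⁻¹ = b * u * b⁻¹ := by
      apply mul_right_cancel (b := k)
      calc _ = c * b * c⁻¹ * u * ((c * b * c⁻¹)⁻¹ * k) := by group
        _ = c * b * c⁻¹ * (u * k) * (c * b * c⁻¹)⁻¹ := by rw [h6]; group
        _ = (c * (b * u * b⁻¹ * u⁻¹)) * u * c⁻¹ := by rw [← h3]; group
        _ = b * u * b⁻¹ * u⁻¹ * (c * u * c⁻¹) := by rw [h5]; group
        _ = _ := by rw [h3]; group
    have h8 : u * x = x * u := by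
      have h9 := hk'.2 u hu
      calc _ = b⁻¹ * (b * u * b⁻¹) * (c * b * c⁻¹) * k' := by rw [e']; group
        _ = b⁻¹ * (c * b * c⁻¹) * (u * k') := by rw [← h7]; group
        _ = _ := by rw [h9, e']; group
    refine ⟨s, hs, ?_⟩
    have h10 := hce u hu _ (cm hsN hxN)
    have h11 : y = u * s := by rw [hu']; group
    rw [← h1, h11]
    calc _ = (s * x * s⁻¹ * x⁻¹) * (x * u) * u⁻¹ := by group
      _ = (s * x * s⁻¹ * x⁻¹ * u) * x * u⁻¹ := by rw [← h8]; group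
      _ = _ := by rw [← h10]; group
  choose! s hs1 hs2 using surj
  set C := Subgroup.centralizer ({x} : Set H)
  have inj : Function.Injective fun z : (⁅N, N⁆ : Subgroup H) =>
      ((⟨s z, hs1 z z.2⟩ : D) : D ⧸ C.subgroupOf D) := by
    intro z z' h1
    have h2 : (s z)⁻¹ * s z' ∈ C := QuotientGroup.eq (s := C.subgroupOf D).1 h1
    rw [Subgroup.mem_centralizer_singleton_iff] at h2
    apply Subtype.ext
    apply mul_left_cancel (a := x)
    rw [← hs2 z z.2, ← hs2 z' z'.2]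
    calc _ = s z * (x * ((s z)⁻¹ * s z')) * (s z')⁻¹ := by group
      _ = _ := by rw [← h2]; group
  have h1 : Nat.card (⁅N, N⁆ : Subgroup H) ≤ C.relIndex D := Nat.card_le_card_of_injective _ inj
  have h2 := Subgroup.relIndex_mul_relIndex T (C ⊓ D) D (fun t ht =>
    ⟨Subgroup.mem_centralizer_singleton_iff.2 (ht.2 x hxN).symm, ht.1⟩) inf_le_right
  rw [Subgroup.inf_relIndex_right] at h2
  have h3 : T.relIndex (C ⊓ D) ≠ 1 := fun h3 => hxK (hTK (Subgroup.relIndex_eq_one.1 h3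
    ⟨Subgroup.mem_centralizer_singleton_iff.2 rfl, hxD⟩))
  have h4 : T.relIndex (C ⊓ D) ≠ 0 := fun h4 => n0 (by rw [← h2, h4, zero_mul])
  have h5 : 2 ≤ T.relIndex (C ⊓ D) := by omega
  have h6 := Nat.mul_le_mul_right (C.relIndex D) h5
  omega

end main

end Cfsg.Agent.H25.Nd
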