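import Mathlib
import Cfsg.Agent.H25.Nd2
import Cfsg.Agent.H25.Gar4

/-!
No divisibility among the nonlinear character degrees.
-/

set_option autoImplicit false
set_option linter.dupNamespace false

namespace Cfsg.Agent.H25.Nd

open Cfsg Cfsg.Agent.H4 Cfsg.Agent.H5 Cfsg.Agent.H8 Cfsg.Agent.H2.RDeg Cfsg.Agent.H3
open Cfsg.Agent.H25.Gar
open scoped commutatorElement

def ND (G : Type*) [Group G] : Prop :=
  ∀ a ∈ charDegrees G, ∀ b ∈ charDegrees G, a ≠ 1 → a ∣ b → a = b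

variable {G : Type*} [Group G] [Finite G]

omit [Finite G] in
theorem ND.quot (h : ND G) (N : Subgroup G) [N.Normal] : ND (G ⧸ N) := fun a ha b hb =>
  h a (cd_quotient_subset N ha) b (cd_quotient_subset N hb)

omit [Finite G] in
theorem ND.mul (h : ND G) {a e : ℕ} (ha : a ∈ charDegrees G) (h1 : a ≠ 1)
    (he : a * e ∈ charDegrees G) : e = 1 :=
  (Nat.mul_eq_left (pos_of_mem_cd ha).ne').1 (h a ha _ he h1 (dvd_mul_right a e)).symm

theorem min_quot (hs : Group.IsSolvable G) (hna : commutator G ≠ ⊥) :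
    ∃ (K : Subgroup G) (_ : K.Normal), commutator (G ⧸ K) ≠ ⊥ ∧
      ((∃ p : ℕ, p.Prime ∧ IsPGroup p (G ⧸ K)) ∨
      ∃ N, FrobQ K N ∧ commutator G ≤ N ∧ N ≠ ⊤ ∧
        ∃ q : ℕ, q.Prime ∧ ¬ q ∣ N.index ∧ ∀ n ∈ N, n ^ q ∈ K) := by
  obtain ⟨K, ⟨hK, hK1⟩, hmax⟩ := (wellFounded_gt (α := Subgroup G)).has_min
    {K | K.Normal ∧ ¬ commutator G ≤ K} ⟨⊥, inferInstance, fun h => hna (le_bot_iff.1 h)⟩
  have hs' := QuotientGroup.mk'_surjective K
  have e : commutator (G ⧸ K) = (commutator G).map (QuotientGroup.mk' K) := by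
    rw [commutator_def, commutator_def, Subgroup.map_commutator, Subgroup.map_top_of_surjective _ hs']
  have h1 : commutator (G ⧸ K) ≠ ⊥ := fun h => hK1 (by
    rwa [e, Subgroup.map_eq_bot_iff, QuotientGroup.ker_mk'] at h)
  have hmin : ∀ L : Subgroup (G ⧸ K), L.Normal → L ≠ ⊥ → commutator (G ⧸ K) ≤ L := by
    intro L hL hL1
    rw [e, Subgroup.map_le_iff_le_comap]
    by_contra h2
    refine hmax _ ⟨inferInstance, h2⟩ (lt_of_le_of_ne (QuotientGroup.le_comap_mk' K L) fun h3 => hL1 ?_)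
    rw [← Subgroup.map_comap_eq_self_of_surjective hs' L, ← h3, QuotientGroup.map_mk'_self]
  refine ⟨K, hK, h1, (min_nonabelian inferInstance h1 hmin).imp (fun ⟨p, h2, h3, _⟩ => ⟨p, h2, h3⟩)
    fun ⟨F, _⟩ => ⟨_, F.comap_mk, ?_, fun h3 => ?_, ?_⟩⟩
  · rw [e]; exact Subgroup.le_comap_map _ _
  · have h4 : commutator (G ⧸ K) = ⊤ := by
      rw [← Subgroup.map_comap_eq_self_of_surjective hs' (commutator _), h3,
        Subgroup.map_top_of_surjective _ hs']
    haveI : Nontrivial (G ⧸ K) := by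
      by_contra h5
      rw [not_nontrivial_iff_subsingleton] at h5
      exact h1 (Subsingleton.elim _ _)
    exact (Group.IsSolvable.commutator_lt_top_of_nontrivial _).ne h4
  · have hD : H2.IsMinNormal (commutator (G ⧸ K)) := by
      obtain ⟨M, hM, h1⟩ := H2.exists_isMinNormal_le (N := commutator (G ⧸ K)) inferInstance h1
      rwa [← h1.antisymm (hmin M hM.normal hM.ne_bot)]
    obtain ⟨-, q, hq, h2⟩ := hD.exists_prime_of_isSolvable inferInstance
    haveI := Fact.mk hq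
    refine ⟨q, hq, fun h3 => ?_, fun n hn => ?_⟩
    · rw [Subgroup.index_comap_of_surjective _ hs'] at h3
      obtain ⟨k, hk⟩ := IsPGroup.iff_card.1 (H2.isPGroup_of_forall_pow_eq_one h2)
      have h4 := F.coprime_bot
      have h5 : k ≠ 0 := by
        rintro rfl
        exact h1 (Subgroup.card_eq_one.1 (by simpa using hk))
      rw [hk] at h4
      exact hq.one_lt.ne' (Nat.eq_one_of_dvd_coprimes h4 (dvd_pow_self q h5) h3)
    · rw [← QuotientGroup.eq_one_iff, QuotientGroup.mk_pow]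
      exact h2 _ hn

theorem ND.pquot (h : ND G) {K : Subgroup G} [K.Normal] {p : ℕ} (hp : p.Prime)
    (hK : IsPGroup p (G ⧸ K)) (hna : commutator (G ⧸ K) ≠ ⊥) :
    ∃ e, ∀ d ∈ charDegrees G, d = 1 ∨ d = p ^ e := by
  haveI := Fact.mk hp
  obtain ⟨m, hm, hm1⟩ := exists_cd_ne_one hna
  obtain ⟨e, rfl⟩ := exists_pow_of_mem_cd hK hm
  have hmG := cd_quotient_subset K hm
  obtain ⟨k, hk⟩ := IsPGroup.iff_card.1 hK
  have h1 : ∀ d ∈ charDegrees G, d ≠ 1 → p ∣ d := fun d hd hd1 => by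
    by_contra h1
    have h2 := cd_mul_of_coprime K hd (by
      rw [Subgroup.index, hk]; exact ((Nat.Prime.coprime_iff_not_dvd hp).2 h1).pow_left k) hm
    rw [mul_comm] at h2
    exact hm1 (h.mul hd hd1 h2)
  obtain ⟨A, hA, h2, ⟨j, hj⟩, -⟩ := exists_compl_of_dvd_cd hp h1
  have pw : ∀ i, p ^ e ≤ p ^ i → p ^ e ∣ p ^ i := fun i hi =>
    pow_dvd_pow p ((Nat.pow_le_pow_iff_right hp.one_lt).1 hi)
  by_cases hc : ⁅A, A⁆ = (⊥ : Subgroup G)
  · refine ⟨e, fun d hd => or_iff_not_imp_left.2 fun hd1 => ?_⟩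
    have h3 := cd_dvd_index_of_comm (A := A) (fun a ha b hb => by
      rw [← commutatorElement_eq_one_iff_mul_comm, ← Subgroup.mem_bot, ← hc]
      exact Subgroup.commutator_mem_commutator ha hb) hd
    rw [hj] at h3
    obtain ⟨i, -, rfl⟩ := (Nat.dvd_prime_pow hp).1 h3
    rcases le_total i e with h4 | h4
    · exact h _ hd _ hmG hd1 (pow_dvd_pow p h4)
    · exact (h _ hmG _ hd hm1 (pow_dvd_pow p h4)).symm
  exfalso
  obtain ⟨α, d, -, hα, hd, hd1, -⟩ := exists_nonlinear hc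
  have h0 : ∀ n, (NEmb.ofNormal A).f n ∈ In A α := fun n => le_In hα n.2
  obtain ⟨φ, hφ, h3, -⟩ := ((NEmb.ofNormal A).restrict _ h0).exists_ext_of_coprime hα
    (fun g n => (NEmb.mem_inertia _).1 g.2 n) (by
      rw [NEmb.restrict_range, NEmb.ofNormal_range]
      refine Nat.Coprime.coprime_dvd_left (Subgroup.relIndex_dvd_index_of_normal A _) ?_
      rw [hj]; exact (h2.pow_right j).symm)
  have h4 : ∀ b ∈ charDegrees (In A α ⧸ A.subgroupOf (In A α)),
      (In A α).index * d * b ∈ charDegrees G := fun b hb => by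
    obtain ⟨χ, hχ, h4, -⟩ := exists_over_inertia hα hd (le_In hα) le_rfl hφ.isCharacter h3 hb
    rw [mul_comm b, ← mul_assoc] at h4
    exact mem_cd_of hχ h4
  have h5 := h4 1 one_mem_cd
  rw [mul_one] at h5
  have h6 : (In A α).index * d ≠ 1 := fun h6 => hd1 (Nat.eq_one_of_mul_eq_one_left h6)
  have h7 : A ≤ K := fun a ha => by
    obtain ⟨i, hi⟩ := hK (a : G ⧸ K)
    refine mem_of_pow_mem (h2.pow_right i) ?_ ((QuotientGroup.eq_one_iff _).1 hi)
    have : a ^ Nat.card A = 1 := congrArg Subtype.val (pow_card_eq_one' (x := (⟨a, ha⟩ : A)))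
    rw [this]; exact K.one_mem
  obtain ⟨χ, hχ, h8⟩ := mem_cd.1 hm
  have h9 := degree_le_index_of_commutator_mem hχ.inflate (B := In A α) fun x hx y hy =>
    le_charKer_inflate χ (h7 (comm_mem_of_cd (fun b hb => h.mul h5 h6 (h4 b hb)) hx hy))
  have h10 : charDegree (fun g : G => χ (g : G ⧸ K)) = p ^ e := charDegree_eq_of h8
  have h11 : (In A α).index ∣ p ^ j := hj ▸ Subgroup.index_dvd_of_le (le_In hα)
  obtain ⟨i, -, hi⟩ := (Nat.dvd_prime_pow hp).1 h11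
  rw [h10, hi] at h9
  have h12 := h _ hmG _ h5 hm1 (by rw [hi]; exact (pw i h9).mul_right d)
  have h13 : d.Coprime (p ^ e) :=
    (h2.coprime_dvd_left (dvd_card_of_mem_cd (mem_cd_of hα hd))).pow_right e
  exact hd1 (Nat.eq_one_of_dvd_coprimes h13 (dvd_refl d) (h12 ▸ dvd_mul_left _ _))

theorem lin_ker {χ : G → ℂ} (hχ : IsIrrCharacter G χ) (h1 : χ 1 = 1) :
    commutator G ≤ charKer χ := by
  obtain ⟨lam, rfl⟩ := hχ.isCharacter.exists_linear h1
  rw [charKer_linear]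
  exact Abelianization.commutator_subset_ker lam

theorem cam {x : G} (h : ∀ χ, IsIrrCharacter G χ → χ 1 ≠ 1 → χ x = 0) {y : G}
    (hy : y ∈ commutator G) : IsConj x (x * y) := by
  by_contra h1
  have h2 := column_orthogonality_of_not_isConj h1
  rw [Finset.sum_congr rfl (g := fun χ : IrrCharacter G => χ.1 x * (starRingEnd ℂ) (χ.1 x)),
    column_orthogonality_of_isConj (IsConj.refl x)] at h2
  · exact natCard_ne_zero' h2
  · intro χ _
    by_cases h3 : χ.1 1 = 1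
    · rw [χ.2.isClassFunction.apply_mul_of_mem_charKer' (lin_ker χ.2 h3 hy)]
    · rw [h χ.1 χ.2 h3, zero_mul, zero_mul]

variable {K N : Subgroup G}

theorem ND.dvd (h : ND G) (F : FrobQ K N) (hNt : N ≠ ⊤) {r : ℕ} (hr : r.Prime)
    (hexp : ∀ n ∈ N, n ^ r ∈ K) {d : ℕ} (hd : d ∈ charDegrees N) (h1 : d ≠ 1) : r ∣ d := by
  haveI := F.nK
  haveI := Fact.mk hr
  rcases F.mul_mem_or hd with h2 | h2
  · exact absurd (h.mul F.index_mem_cd (fun h3 => hNt (Subgroup.index_eq_one.1 h3)) h2) h1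
  have h3 : IsPGroup r (N.map (QuotientGroup.mk' K)) := by
    rintro ⟨_, n, hn, rfl⟩
    exact ⟨1, Subtype.ext (by
      show QuotientGroup.mk' K n ^ r ^ 1 = 1
      rw [pow_one, ← map_pow]
      exact (QuotientGroup.eq_one_iff _).2 (hexp n hn))⟩
  obtain ⟨k, hk⟩ := IsPGroup.iff_card.1 h3
  rw [H9.relIndex_eq_card_map_mk', hk] at h2
  by_contra h4
  exact h2 (((Nat.Prime.coprime_iff_not_dvd hr).2 h4).pow_left k)

theorem ND.cam (h : ND G) (F : FrobQ K N) (hNt : N ≠ ⊤) :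
    ∀ x ∈ N, x ∉ K → ∀ z ∈ (⁅N, N⁆ : Subgroup G), ∃ n ∈ N, n * x * n⁻¹ = x * z := by
  intro x hx hxK z hz
  rw [← map_derivedSeries_one, derivedSeries_one] at hz
  obtain ⟨z, hz, rfl⟩ := hz
  obtain ⟨n, hn⟩ := isConj_iff.1 (Nd.cam (x := (⟨x, hx⟩ : N)) (fun χ hχ h1 => by
    obtain ⟨d, -, hd⟩ := hχ.exists_degree
    rcases F.degree_or_vanish hχ hd with h2 | h2
    · have h3 := h.mul F.index_mem_cd (fun h3 => hNt (Subgroup.index_eq_one.1 h3)) h2
      rw [h3, Nat.cast_one] at hd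
      exact absurd hd h1
    · exact h2 _ hxK) hz)
  exact ⟨n, n.2, congrArg Subtype.val hn⟩

variable {σ : G →* G} {l a r : ℕ}

theorem core0 [Group.IsSolvable G] [N.Normal] (hG : ND G) (h : Hyp σ N l a r) (F : FrobQ K N)
    (hd : Fx σ N ≠ ⊤) (hNt : N ≠ ⊤) (hexp : ∀ n ∈ N, n ^ r ∈ K)
    (hZ : H2.IsMinNormal (⁅N, N⁆ : Subgroup G)) : False := by
  obtain ⟨hc, -⟩ := hZ.exists_isPGroup inferInstance
  have hZc : ∀ x ∈ (⁅N, N⁆ : Subgroup G), ∀ y ∈ (⁅N, N⁆ : Subgroup G), x * y = y * x :=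
    fun x hx y hy => H2.mul_comm_of_mem hx hy
  have hC := hG.cam F hNt
  have hce := central h F hd hNt hexp hC hZ.min hZ.ne_bot hZc
  obtain ⟨z₀, hz₀⟩ := Subgroup.ne_bot_iff_exists_ne_one.1 hZ.ne_bot
  obtain ⟨μ, hμ⟩ := exists_linear_ne_one (fun x y : (⁅N, N⁆ : Subgroup G) =>
    Subtype.ext (hZc _ x.2 _ y.2)) hz₀
  have hμi := isIrrCharacter_linear μ
  have h1 : N ≤ In ⁅N, N⁆ (lin μ) := fun n hn => (NEmb.mem_inertia _).2 fun z => by
    have : (NEmb.ofNormal ⁅N, N⁆).act n z = z := Subtype.ext (by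
      have := (NEmb.ofNormal ⁅N, N⁆).f_act n z
      rw [NEmb.ofNormal_f, NEmb.ofNormal_f, hce n hn z z.2] at this
      rw [this]; simp)
    rw [this]
  by_cases h2 : In ⁅N, N⁆ (lin μ) ≤ N
  · obtain ⟨c, hc⟩ := exists_over (E := NEmb.ofNormal ⁅N, N⁆) hμi
    have h3 := over_dvd hμi (d := 1) (by simp) hc
    have h4 : (NEmb.ofNormal ⁅N, N⁆).inertia (lin μ) = N := h2.antisymm h1
    rw [h4, mul_one] at h3
    have h5 := hG _ F.index_mem_cd _ (over_mem_cd hc) (fun h3 => hNt (Subgroup.index_eq_one.1 h3)) h3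
    obtain ⟨θ, hθ, h6, h7⟩ := Ov.up (der_le N) hc
    obtain ⟨d, -, hd⟩ := hθ.exists_degree
    have h8 := ne_one_of_un (der_le N) hθ hμi h7 le_rfl (fun h8 => hμ (Units.ext (congrFun h8 z₀))) hd
    exact h.ri (h5 ▸ (hG.dvd F hNt h.hr hexp (mem_cd_of hθ hd) h8).trans (over_deg_dvd hθ hd h6))
  obtain ⟨c, hc1, hc2⟩ := SetLike.not_le_iff_exists.1 h2
  haveI := normal_of_le (h.le.trans h1)
  have h3 : ⁅In ⁅N, N⁆ (lin μ), ⁅N, N⁆⁆ ≤ μ.ker.map (Subgroup.subtype _) := by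
    rw [Subgroup.commutator_le]
    intro i hi z hz
    refine ⟨(NEmb.ofNormal ⁅N, N⁆).act i ⟨z, hz⟩ * ⟨z, hz⟩⁻¹, ?_, ?_⟩
    · have h3 := Units.ext ((NEmb.mem_inertia _).1 hi ⟨z, hz⟩)
      rw [SetLike.mem_coe, MonoidHom.mem_ker, map_mul, map_inv, h3, mul_inv_cancel]
    · have := (NEmb.ofNormal ⁅N, N⁆).f_act i ⟨z, hz⟩
      rw [NEmb.ofNormal_f, NEmb.ofNormal_f] at this
      rw [map_mul, map_inv, Subgroup.coe_subtype, this, commutatorElement_def]
  rcases hZ.min ⁅In ⁅N, N⁆ (lin μ), ⁅N, N⁆⁆ inferInstance (Subgroup.commutator_le_right _ _)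
    with h4 | h4
  · refine grp0 h F hd hNt hexp hC hZ.min hZ.ne_bot hZc hc2 fun z hz => ?_
    rw [← commutatorElement_eq_one_iff_mul_comm, ← Subgroup.mem_bot, ← h4]
    exact Subgroup.commutator_mem_commutator hc1 hz
  · rw [h4] at h3
    obtain ⟨y, hy, h5⟩ := h3 z₀.2
    exact hμ (by rw [← Subtype.ext h5]; exact hy)

theorem core1 [Group.IsSolvable G] [N.Normal] (hG : ND G) (h : Hyp σ N l a r) (F : FrobQ K N)
    (hd : Fx σ N ≠ ⊤) (hNt : N ≠ ⊤) (hexp : ∀ n ∈ N, n ^ r ∈ K) :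
    (⁅N, N⁆ : Subgroup G) = ⊥ := by
  by_contra h0
  obtain ⟨L, ⟨hL, hL1⟩, hmax⟩ := (wellFounded_gt (α := Subgroup G)).has_min
    {L | L.Normal ∧ L < ⁅N, N⁆} ⟨⊥, inferInstance, bot_lt_iff_ne_bot.2 h0⟩
  haveI := F.nK
  let π := QuotientGroup.mk' L
  have hs : Function.Surjective π := QuotientGroup.mk'_surjective L
  have hZD : (⁅N, N⁆ : Subgroup G) ≤ commutator G := Subgroup.commutator_mono le_top le_top
  have hLK : L ≤ K := hL1.le.trans (Subgroup.commutator_le.2 F.comm)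
  have hLN : L ≤ N := hLK.trans F.le
  have h1 : L ≤ L.comap σ := fun t ht => by
    obtain ⟨m, hm⟩ := isConj_iff.1 (h.A t (hZD (hL1.le ht)))
    rw [Subgroup.mem_comap, ← hm]
    exact hL.conj_mem t ht m
  let τ : G ⧸ L →* G ⧸ L := QuotientGroup.map L L σ h1
  have e : ∀ x, τ (π x) = π (σ x) := fun x => rfl
  have eD : commutator (G ⧸ L) = (commutator G).map π := by
    rw [commutator_def, commutator_def, Subgroup.map_commutator, Subgroup.map_top_of_surjective _ hs]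
  have mem : ∀ {M : Subgroup G}, L ≤ M → ∀ x, π x ∈ M.map π ↔ x ∈ M := fun {M} hM x => by
    rw [← Subgroup.mem_comap, Subgroup.comap_map_eq, QuotientGroup.ker_mk', sup_eq_left.2 hM]
  haveI : (N.map π).Normal := Subgroup.Normal.map inferInstance _ hs
  have h2 : ∀ (k : ℕ) (x : G), τ^[k] (π x) = π (σ^[k] x) := by
    intro k
    induction k with
    | zero => simp
    | succ k ih => intro x; rw [Function.iterate_succ_apply', Function.iterate_succ_apply', ih, e]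
  refine core0 (σ := τ) (a := a) (K := K.map π) (N := N.map π) (hG.quot L)
    ⟨h.hl, h.hr, fun x => ?_, ?_, ?_, ?_, fun x hx => ?_,
      fun h3 => h.li (h3.trans (Subgroup.index_map_dvd _ hs)),
      fun h3 => h.ri (h3.trans (Subgroup.index_map_dvd _ hs))⟩
    ⟨Subgroup.Normal.map inferInstance _ hs, inferInstance, Subgroup.map_mono F.le, fun h3 => ?_,
      ?_, fun x hx => ?_⟩ (fun h3 => hd ?_) (fun h3 => hNt ?_) ?_
    ⟨inferInstance, ?_, fun M hM hM1 => ?_⟩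
  · obtain ⟨x, rfl⟩ := hs x
    rw [h2, h.it]
  · rw [eD]; exact Subgroup.map_mono h.le
  · rintro _ ⟨n, hn, rfl⟩
    exact ⟨_, h.inv n hn, rfl⟩
  · rw [eD]
    rintro _ ⟨x, hx, rfl⟩
    exact π.map_isConj (h.A x hx)
  · obtain ⟨x, rfl⟩ := hs x
    rw [eD] at hx ⊢
    rintro _ ⟨y, hy, rfl⟩
    rw [← map_mul]
    refine π.map_isConj (h.B x (fun h3 => hx ⟨_, h3, ?_⟩) y hy)
    rw [map_mul, map_inv, e]
  · exact F.ne (F.le.antisymm fun n hn => (mem hLK n).1 (h3 ▸ (mem hLN n).2 hn))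
  · rintro _ ⟨x, hx, rfl⟩ _ ⟨y, hy, rfl⟩
    exact ⟨_, F.comm x hx y hy, by simp⟩
  · obtain ⟨x, rfl⟩ := hs x
    rintro _ ⟨n, hn, rfl⟩ h3
    refine (mem hLK n).2 (F.fpf x (fun h4 => hx ((mem hLN x).2 h4)) n hn ((mem hLK _).1 ?_))
    simpa using h3
  · refine eq_top_iff.2 fun x _ => (mem hLN _).1 ?_
    have h4 : π x ∈ Fx τ (N.map π) := h3 ▸ Subgroup.mem_top _
    rw [map_mul, map_inv]; exact h4
  · exact eq_top_iff.2 fun x _ => (mem hLN x).1 (h3 ▸ Subgroup.mem_top _)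
  · rintro _ ⟨n, hn, rfl⟩
    exact ⟨_, hexp n hn, map_pow _ _ _⟩
  · rw [← Subgroup.map_commutator, Ne, Subgroup.map_eq_bot_iff, QuotientGroup.ker_mk']
    exact hL1.not_ge
  · rw [← Subgroup.map_commutator] at hM1 ⊢
    have h3 : M.comap π ≤ ⁅N, N⁆ := fun x hx => (mem hL1.le x).1 (hM1 hx)
    rw [← Subgroup.map_comap_eq_self_of_surjective hs M]
    rcases h3.lt_or_eq with h4 | h4
    · left
      have h5 : L = M.comap π := by
        by_contra h5
        exact hmax _ ⟨inferInstance, h4⟩ (lt_of_le_of_ne (QuotientGroup.le_comap_mk' L M) h5)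
      rw [← h5, QuotientGroup.map_mk'_self]
    · right; rw [h4]

theorem core [Group.IsSolvable G] (hG : ND G) (hl : l.Prime) (it : ∀ x, σ^[l ^ a] x = x)
    (hinv : ∀ χ, IsIrrCharacter G χ → χ 1 ≠ 1 → ∀ x, χ (σ x) = χ x) (F : FrobQ K N)
    (hle : commutator G ≤ N) (hNt : N ≠ ⊤) (hr : r.Prime) (hexp : ∀ n ∈ N, n ^ r ∈ K)
    (li : ¬ l ∣ N.index) (ri : ¬ r ∣ N.index) {K₀ : Subgroup G} (h1 : commutator G ≤ K₀)
    (h2 : K₀ ≠ ⊤) (h3 : ∀ x, σ x * x⁻¹ ∈ K₀ → x ∈ K₀) : (⁅N, N⁆ : Subgroup G) = ⊥ := by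
  haveI := F.nN
  haveI := F.nK
  have hA : ∀ x ∈ commutator G, IsConj x (σ x) := fun x hx => (isConj_iff_forall_irr _ _).2 fun χ => by
    by_cases h4 : χ.1 1 = 1
    · have h5 : σ x ∈ commutator G := by
        have := Subgroup.mem_map_of_mem σ hx
        rw [commutator_def, Subgroup.map_commutator] at this
        exact Subgroup.commutator_mono le_top le_top this
      rw [apply_of_mem_charKer (lin_ker χ.2 h4 hx), apply_of_mem_charKer (lin_ker χ.2 h4 h5)]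
    · exact (hinv _ χ.2 h4 x).symm
  have hB : ∀ x, σ x * x⁻¹ ∉ commutator G → ∀ y ∈ commutator G, IsConj x (x * y) := by
    intro x hx y hy
    refine cam (fun χ hχ h4 => ?_) hy
    obtain ⟨μ, hμ⟩ := exists_linear_ne_one (G := Abelianization G) mul_comm
      (u := Abelianization.of (σ x * x⁻¹)) fun h5 => hx ((QuotientGroup.eq_one_iff _).1 h5)
    have h5 := hinv _ (hχ.mul_linear (μ.comp Abelianization.of)) (by simpa using h4) x
    simp only [Pi.mul_apply, hinv χ hχ h4 x, MonoidHom.comp_apply] at h5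
    by_contra h6
    refine hμ ?_
    rw [map_mul, map_mul, Units.ext (mul_left_cancel₀ h6 h5), ← map_mul, ← map_mul]
    simp
  have h4 : ∀ n ∈ N, σ n * n⁻¹ ∈ commutator G := fun n hn => by
    by_contra h4
    obtain ⟨x, hx⟩ : ∃ x, x ∉ N := by
      by_contra h1; push Not at h1; exact hNt (eq_top_iff.2 fun x _ => h1 x)
    obtain ⟨b, -, k, hk, e⟩ := F.exists_comm le_rfl hx (fun w hw => F.nN.conj_mem w hw x) hn
    have h5 : b⁻¹ * x * b⁻¹⁻¹ * x⁻¹ ∈ commutator G := cm (N := ⊤) trivial trivial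
    obtain ⟨m, hm⟩ := isConj_iff.1 (hB n h4 _ (Subgroup.Normal.conj_mem inferInstance _
      (Subgroup.inv_mem _ h5) n⁻¹)).symm
    have h6 : n ∈ K := by
      rw [← hm]
      refine F.nK.conj_mem _ ?_ m
      convert hk using 1
      rw [e]; group
    refine not_der_le F hNt fun y hy => ?_
    obtain ⟨m, hm⟩ := isConj_iff.1 (hB n h4 y hy)
    exact (K.mul_mem_cancel_left h6).1 (hm ▸ F.nK.conj_mem n h6 m)
  refine core1 (σ := σ) hG ⟨hl, hr, it, hle, fun n hn => ?_, hA, hB, li, ri⟩ F (fun h5 => h2 ?_)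
    hNt hexp
  · simpa using N.mul_mem (hle (h4 n hn)) hn
  · refine eq_top_iff.2 fun x _ => h3 x (h3 _ (h1 (h4 _ ?_)))
    exact mem_Fx.1 (h5 ▸ Subgroup.mem_top x)

end Cfsg.Agent.H25.Nd
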