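import Mathlib
import Cfsg.Agent.H1.Coprime
import Cfsg.Agent.H1.SylowIn
import Cfsg.Agent.H2.Basic
import Cfsg.Agent.H2.Kegel
import Cfsg.Agent.H3.Fusion
import Cfsg.Agent.H3.Misc1
import Cfsg.Agent.H3.PGroup1
import Cfsg.Agent.H9.NPC
import Cfsg.Agent.H11.Invol

/-! Groups with a nilpotent maximal (invariant) subgroup. -/

set_option autoImplicit false

namespace Cfsg.Agent.H25
open Cfsg Subgroup
open scoped commutatorElement Pointwise

universe u

variable {G : Type*} [Group G]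

/-- class at most two, elementwise -/
def Cl2 (P : Subgroup G) : Prop := ∀ a ∈ P, ∀ b ∈ P, ⁅a, b⁆ ∈ centralizer (P : Set G)

theorem comm_mem_of_mem {P : Subgroup G} {a b : G} (ha : a ∈ P) (hb : b ∈ P) : ⁅a, b⁆ ∈ P :=
  mul_mem (mul_mem (mul_mem ha hb) (inv_mem ha)) (inv_mem hb)

theorem Cl2.mem {P : Subgroup G} (h : Cl2 P) {a b : G} (ha : a ∈ P) (hb : b ∈ P) :
    ⁅a, b⁆ ∈ P ⊓ centralizer (P : Set G) := mem_inf.2 ⟨comm_mem_of_mem ha hb, h a ha b hb⟩

theorem Cl2.left {P : Subgroup G} (h : Cl2 P) {a b c : G} (ha : a ∈ P) (hb : b ∈ P) (hc : c ∈ P) :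
    ⁅a * b, c⁆ = ⁅a, c⁆ * ⁅b, c⁆ := by
  have h1 : ⁅a * b, c⁆ = a * ⁅b, c⁆ * a⁻¹ * ⁅a, c⁆ := by simp only [commutatorElement_def]; group
  rw [h1, h b hb c hc a ha, mul_inv_cancel_right, h b hb c hc _ (comm_mem_of_mem ha hc)]

theorem Cl2.right {P : Subgroup G} (h : Cl2 P) {a b c : G} (ha : a ∈ P) (hb : b ∈ P) (hc : c ∈ P) :
    ⁅a, b * c⁆ = ⁅a, b⁆ * ⁅a, c⁆ := by
  have h1 : ⁅a, b * c⁆ = ⁅a, b⁆ * (b * ⁅a, c⁆ * b⁻¹) := by simp only [commutatorElement_def]; group
  rw [h1, h a ha c hc b hb, mul_inv_cancel_right]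

theorem Cl2.mul_sq {P : Subgroup G} (h : Cl2 P) {a b : G} (ha : a ∈ P) (hb : b ∈ P) :
    (a * b) ^ 2 = ⁅b, a⁆ * a ^ 2 * b ^ 2 := by
  have h1 : (a * b) ^ 2 = a * ⁅b, a⁆ * a * b ^ 2 := by
    simp only [commutatorElement_def, sq]; group
  rw [h1, h b hb a ha a ha]; simp only [sq]; group

theorem Cl2.conj {P : Subgroup G} (h : Cl2 P) (g : G) : Cl2 (MulAut.conj g • P) := by
  intro a ha b hb
  rw [H3.centralizer_conj_smul]
  rw [H3.mem_conj_smul] at ha hb ⊢
  have := h _ ha _ hb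
  simp only [commutatorElement_def] at this ⊢
  convert this using 1; group

theorem Cl2.le_normalizer {P U : Subgroup G} (h : Cl2 P) (h1 : P ⊓ centralizer (P : Set G) ≤ U)
    (h2 : U ≤ P) : P ≤ normalizer (U : Set G) :=
  H1.le_normalizer_of_commutator_le (commutator_le.2 fun a ha b hb => h1 (h.mem ha hb)) h2

theorem comm_eq_one_of_mem_centralizer {S : Subgroup G} {a v : G} (ha : a ∈ centralizer (S : Set G))
    (hv : v ∈ S) : ⁅a, v⁆ = 1 := commutatorElement_eq_one_iff_mul_comm.2 (ha v hv).symm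

theorem comm_eq_one_of_mem_centralizer' {S : Subgroup G} {a v : G} (ha : a ∈ centralizer (S : Set G))
    (hv : v ∈ S) : ⁅v, a⁆ = 1 := commutatorElement_eq_one_iff_mul_comm.2 (ha v hv)

/-- configuration coming from a minimal overgroup of a class two Sylow subgroup -/
structure GoodZ (P Y : Subgroup G) : Prop where
  le : Y ≤ P
  comm : Y ≤ centralizer (Y : Set G)
  cl : ∀ a ∈ P, a ∈ centralizer (Y : Set G) → ∀ b ∈ P, b ∈ centralizer (Y : Set G) → ⁅a, b⁆ ∈ Y
  A : ∀ a ∈ P, a ∉ centralizer (Y : Set G) → ∀ v ∈ Y, ⁅a, v⁆ ∈ Y → v ∈ centralizer (P : Set G)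
  B : ∀ a ∈ P, a ∉ centralizer (Y : Set G) → ∀ b ∈ P, b ∉ centralizer (Y : Set G) →
    a * b ∈ centralizer (Y : Set G)
  sq : ∀ v ∈ Y, ∃ w ∈ P, w ∈ centralizer (P : Set G) ∧ v ^ 2 = w ^ 2
  sq' : ∀ w ∈ P, w ∈ centralizer (P : Set G) → w ^ 2 ∈ Y

theorem GoodZ.conj {P Y : Subgroup G} (h : GoodZ P Y) (g : G) :
    GoodZ (MulAut.conj g • P) (MulAut.conj g • Y) := by
  have e : ∀ a b : G, g⁻¹ * ⁅a, b⁆ * g = ⁅g⁻¹ * a * g, g⁻¹ * b * g⁆ := fun a b => by
    simp only [commutatorElement_def]; group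
  refine ⟨H3.conj_smul_mono g h.le, ?_, ?_, ?_, ?_, ?_, ?_⟩
  · rw [H3.centralizer_conj_smul]; exact H3.conj_smul_mono g h.comm
  · simp only [H3.centralizer_conj_smul, H3.mem_conj_smul, e]
    exact fun a ha ha' b hb hb' => h.cl _ ha ha' _ hb hb'
  · simp only [H3.centralizer_conj_smul, H3.mem_conj_smul, e]
    exact fun a ha ha' b hb hb' => h.A _ ha ha' _ hb hb'
  · simp only [H3.centralizer_conj_smul, H3.mem_conj_smul]
    intro a ha ha' b hb hb'
    have := h.B _ ha ha' _ hb hb'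
    convert this using 1; group
  · simp only [H3.centralizer_conj_smul, H3.mem_conj_smul]
    intro v hv
    obtain ⟨w, hw, hw', h1⟩ := h.sq _ hv
    refine ⟨g * w * g⁻¹, by simpa [mul_assoc] using hw, by simpa [mul_assoc] using hw', ?_⟩
    rw [conj_pow, ← h1]; simp only [_root_.sq]; group
  · simp only [H3.centralizer_conj_smul, H3.mem_conj_smul]
    intro w hw hw'
    have := h.sq' _ hw hw'
    convert this using 1; simp only [_root_.sq]; group

theorem GoodZ.matching {P Y₁ Y₂ Y₃ : Subgroup G} (hP : Cl2 P) (h₁ : GoodZ P Y₁) (h₂ : GoodZ P Y₂)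
    (h₃ : GoodZ P Y₃) (n₂ : ¬ Y₂ ≤ centralizer (Y₁ : Set G)) (n₃ : ¬ Y₃ ≤ centralizer (Y₁ : Set G)) :
    Y₃ ≤ (P ⊓ centralizer (P : Set G)) ⊔ Y₂ := by
  obtain ⟨v₂, hv₂, c₂⟩ := SetLike.not_le_iff_exists.1 n₂
  obtain ⟨v₃', hv₃', c₃'⟩ := SetLike.not_le_iff_exists.1 n₃
  obtain ⟨v₁, hv₁, c₁⟩ : ∃ v₁ ∈ Y₁, v₁ * v₂ ≠ v₂ * v₁ := by
    by_contra hc; push Not at hc; exact c₂ hc
  have p₁ := h₁.le hv₁
  have p₂ := h₂.le hv₂
  have c12 : v₁ ∉ centralizer (Y₂ : Set G) := fun h => c₁ (h v₂ hv₂).symm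
  have c1 : v₁ ∉ centralizer (P : Set G) := fun h => c₁ (h v₂ p₂).symm
  have c13 : v₁ ∉ centralizer (Y₃ : Set G) := fun h => c1 (h₁.A _ (h₃.le hv₃') c₃' _ hv₁ (by
    rw [comm_eq_one_of_mem_centralizer' h hv₃']; exact one_mem _))
  intro v₃ hv₃
  have p₃ := h₃.le hv₃
  by_cases c3 : v₃ ∈ centralizer (P : Set G)
  · exact mem_sup_left (mem_inf.2 ⟨p₃, c3⟩)
  have c₃ : v₃ ∉ centralizer (Y₁ : Set G) := fun h => c3 (h₃.A _ p₁ c13 _ hv₃ (by
    rw [comm_eq_one_of_mem_centralizer' h hv₁]; exact one_mem _))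
  set z := ⁅v₂, v₁⁆ with hz
  have z1 : z ∉ Y₁ := fun h => c1 (h₁.A _ p₂ c₂ _ hv₁ h)
  have hu := h₁.B _ p₂ c₂ _ p₃ c₃
  have pu := mul_mem p₂ p₃
  have zz : z * z = 1 := by
    rw [hz, ← hP.left p₂ p₂ p₁]
    exact comm_eq_one_of_mem_centralizer (h₁.B _ p₂ c₂ _ p₂ c₂) hv₁
  have zi : z⁻¹ = z := inv_eq_of_mul_eq_one_right zz
  have h31 : ⁅v₃, v₁⁆ = z := by
    have := comm_eq_one_of_mem_centralizer hu hv₁
    rw [hP.left p₂ p₃ p₁] at this
    rw [← zi]; exact eq_inv_of_mul_eq_one_right this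
  have key : ∀ {Y : Subgroup G} {v : G}, GoodZ P Y → v ∈ Y → v₁ ∉ centralizer (Y : Set G) →
      ⁅v, v₁⁆ = z → ∀ a ∈ P, ⁅v, a⁆ = 1 ∨ ⁅v, a⁆ = z := by
    intro Y v hY hv c h a ha
    by_cases ca : a ∈ centralizer (Y : Set G)
    · exact Or.inl (comm_eq_one_of_mem_centralizer' ca hv)
    · have := comm_eq_one_of_mem_centralizer' (hY.B _ ha ca _ p₁ c) hv
      rw [hP.right (hY.le hv) ha p₁, h] at this
      right; rw [← zi]; exact eq_inv_of_mul_eq_one_left this
  have hua : ∀ a ∈ P, ⁅v₂ * v₃, a⁆ = 1 ∨ ⁅v₂ * v₃, a⁆ = z := by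
    intro a ha
    rw [hP.left p₂ p₃ ha]
    rcases key h₂ hv₂ c12 rfl a ha with h | h <;> rcases key h₃ hv₃ c13 h31 a ha with h' | h' <;>
      simp [h, h', zz]
  have hq : ∀ a ∈ P, a ∈ centralizer (Y₁ : Set G) → ⁅v₂ * v₃, a⁆ = 1 := by
    intro a ha ca
    rcases hua a ha with h | h
    · exact h
    · exact absurd (h ▸ h₁.cl _ pu hu _ ha ca) z1
  have cen : ∀ y ∈ P, (∀ a ∈ P, a ∈ centralizer (Y₁ : Set G) → ⁅y, a⁆ = 1) → ⁅y, v₂⁆ = 1 →
      y ∈ centralizer (P : Set G) := by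
    intro y hy h h' a ha
    refine (commutatorElement_eq_one_iff_mul_comm.1 ?_).symm
    by_cases ca : a ∈ centralizer (Y₁ : Set G)
    · exact h a ha ca
    · have := h _ (mul_mem ha p₂) (h₁.B _ ha ca _ p₂ c₂)
      rwa [hP.right hy ha p₂, h', mul_one] at this
  rcases hua v₂ p₂ with h | h
  · have h1 := cen _ pu hq h
    have : v₃ = v₂⁻¹ * (v₂ * v₃) := by group
    rw [this]
    exact mul_mem (mem_sup_right (inv_mem hv₂)) (mem_sup_left (mem_inf.2 ⟨pu, h1⟩))
  exfalso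
  have py := mul_mem pu p₁
  have h1 := cen _ py (fun a ha ca => by
    rw [hP.left pu p₁ ha, hq a ha ca, comm_eq_one_of_mem_centralizer' ca hv₁, one_mul]) (by
    rw [hP.left pu p₁ p₂, h, ← commutatorElement_inv, ← hz, mul_inv_cancel])
  have h2 := h₁.sq' _ py h1
  have h32 : ⁅v₃, v₂⁆ = z := by
    rwa [hP.left p₂ p₃ p₂, commutatorElement_self, one_mul] at h
  rw [hP.mul_sq pu p₁, comm_eq_one_of_mem_centralizer' hu hv₁, one_mul, hP.mul_sq p₂ p₃, h32] at h2
  obtain ⟨w₂, hw₂, hw₂', e₂⟩ := h₂.sq _ hv₂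
  obtain ⟨w₃, hw₃, hw₃', e₃⟩ := h₃.sq _ hv₃
  rw [Y₁.mul_mem_cancel_right (pow_mem hv₁ 2), e₃, Y₁.mul_mem_cancel_right (h₁.sq' _ hw₃ hw₃'), e₂,
    Y₁.mul_mem_cancel_right (h₁.sq' _ hw₂ hw₂')] at h2
  exact z1 h2

theorem exists_goodZ [Finite G] {K P : Subgroup G} (hPK : P ≤ K) (hp : IsPGroup 2 P) (hP : Cl2 P)
    (hN : K ⊓ normalizer ((P ⊓ centralizer (P : Set G) : Subgroup G) : Set G) ≤ P) {g : G}
    (hg : g ∈ K) (h1 : MulAut.conj g • (P ⊓ centralizer (P : Set G)) ≤ P)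
    (h2 : MulAut.conj g • (P ⊓ centralizer (P : Set G)) ≠ P ⊓ centralizer (P : Set G)) :
    ∃ Y, GoodZ P Y ∧ Y ≠ ⊥ ∧ ∃ y ∈ K, y ∉ P ∧
      ∀ U : Subgroup G, Y ≤ U → U ≤ P ⊓ centralizer (Y : Set G) → y ∈ normalizer (U : Set G) := by
  set Z := P ⊓ centralizer (P : Set G) with hZ
  have hNP : normalizer (P : Set G) ≤ normalizer (Z : Set G) :=
    H1.le_normalizer_inf le_rfl (H1.normalizer_le_normalizer_centralizer P)
  have hZc : ∀ x : G, MulAut.conj x • Z = MulAut.conj x • P ⊓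
      centralizer ((MulAut.conj x • P : Subgroup G) : Set G) := fun x => by
    rw [hZ, H3.conj_smul_inf, H3.centralizer_conj_smul]
  -- centralizers of conjugates of `Z`
  have hC : ∀ x ∈ K, ∀ a ∈ K, a ∈ centralizer ((MulAut.conj x • Z : Subgroup G) : Set G) →
      a ∈ MulAut.conj x • P := by
    intro x hx a ha hc
    rw [H3.centralizer_conj_smul, H3.mem_conj_smul] at hc
    rw [H3.mem_conj_smul]
    exact hN (mem_inf.2 ⟨mul_mem (mul_mem (inv_mem hx) ha) hx, centralizer_le_normalizer _ hc⟩)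
  have hC' : ∀ x : G, MulAut.conj x • P ≤ centralizer ((MulAut.conj x • Z : Subgroup G) : Set G) := by
    intro x
    rw [le_centralizer_iff, hZc]; exact inf_le_right
  have hnle : ∀ x ∈ K, x ∉ P → ¬ (MulAut.conj x • P : Subgroup G) ≤ P := by
    intro x hx hxP h
    exact hxP (hN (mem_inf.2 ⟨hx, hNP (H3.mem_normalizer_of_conj_mem (H3.conj_smul_le_iff.1 h))⟩))
  have hPc : ∀ x ∈ K, MulAut.conj x • P ≤ K := fun x hx =>
    H3.conj_smul_le_iff.2 fun a ha => mul_mem (mul_mem hx (hPK ha)) (inv_mem hx)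
  have hgP : g ∉ P := fun h => h2 (H3.mem_normalizer_iff_conj_smul.1 (hNP (le_normalizer h)))
  -- `Z ≤ P ^ x` when `Z ^ x ≤ P`
  have hZle : ∀ x ∈ K, MulAut.conj x • Z ≤ P → Z ≤ MulAut.conj x • P := by
    intro x hx h z hz
    exact hC x hx z (hPK hz.1) (fun v hv => hz.2 v (h hv))
  let V₀ := Z ⊔ MulAut.conj g • Z
  have hV : V₀ ≤ P := sup_le inf_le_left h1
  have hV1 : P ≤ normalizer (V₀ : Set G) := hP.le_normalizer le_sup_left hV
  have hV2 : MulAut.conj g • P ≤ normalizer (V₀ : Set G) :=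
    (hP.conj g).le_normalizer (by rw [← hZc]; exact le_sup_right)
      (sup_le (hZle g hg h1) (H3.conj_smul_mono g inf_le_left))
  obtain ⟨H, -, hH⟩ := Set.Finite.exists_le_minimal (s := {H : Subgroup G | P < H ∧
    H ≤ K ⊓ normalizer (V₀ : Set G)}) (Set.toFinite _) (a := P ⊔ MulAut.conj g • P)
    ⟨left_lt_sup.2 (hnle g hg hgP), sup_le (le_inf hPK hV1) (le_inf (hPc g hg) hV2)⟩
  obtain ⟨⟨hPH, hHle⟩, hmin⟩ := hH
  have hHK : H ≤ K := hHle.trans inf_le_left
  have hZh : ∀ h ∈ H, MulAut.conj h • Z ≤ P := fun h hh => by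
    refine (H3.conj_smul_mono h (le_sup_left : Z ≤ V₀)).trans ?_
    rw [H3.mem_normalizer_iff_conj_smul.1 (hHle hh).2]; exact hV
  have hgen : ∀ h ∈ H, h ∉ P → H ≤ P ⊔ MulAut.conj h • P := fun h hh hhP => by
    have h3 : P ⊔ MulAut.conj h • P ≤ H := sup_le hPH.le
      (H3.conj_smul_le_iff.2 fun a ha => mul_mem (mul_mem hh (hPH.le ha)) (inv_mem hh))
    exact hmin ⟨left_lt_sup.2 (hnle h (hHK hh) hhP), h3.trans hHle⟩ h3
  have hE : ∀ h ∈ H, h ∉ P → ∀ w ∈ Z, h * w * h⁻¹ ∈ Z → ∀ k ∈ H, k * w = w * k := by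
    intro h hh hhP w hw hw'
    have h3 : H ≤ centralizer {h * w * h⁻¹} := (hgen h hh hhP).trans (sup_le
      (fun a ha => mem_centralizer_singleton_iff.2 (hw'.2 a ha))
      (fun a ha => mem_centralizer_singleton_iff.2
        (hC' h ha _ (H3.conj_mem_conj_smul.2 hw)).symm))
    have h4 : h * w * h⁻¹ = w := by
      have := mem_centralizer_singleton_iff.1 (h3 hh)
      rw [inv_mul_cancel_right] at this
      exact mul_left_cancel this
    rw [h4] at h3
    exact fun k hk => mem_centralizer_singleton_iff.1 (h3 hk)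
  have hQ : ∀ h ∈ H, h ∉ P → H ≤ normalizer ((P ⊓ MulAut.conj h • P : Subgroup G) : Set G) :=
    fun h hh hhP => (hgen h hh hhP).trans (sup_le
      (hP.le_normalizer (le_inf inf_le_left (hZle h (hHK hh) (hZh h hh))) inf_le_left)
      ((hP.conj h).le_normalizer (by
        rw [← hZc]; exact le_inf (hZh h hh) (H3.conj_smul_mono h inf_le_left)) inf_le_right))
  obtain ⟨x, hx, hxP⟩ := SetLike.exists_of_lt hPH
  have hxK := hHK hx
  set Q := P ⊓ MulAut.conj x • P with hQdef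
  have hT : ∀ y ∈ H, ∀ b ∈ P, b ∉ Q → y * b * y⁻¹ ∈ P → y ∈ P := by
    intro y hy b hb hbQ h
    by_contra hyP
    have h3 : y * b * y⁻¹ ∈ P ⊓ MulAut.conj y • P := mem_inf.2 ⟨h, H3.conj_mem_conj_smul.2 hb⟩
    have h4 := H1.conj_mem_of_le_normalizer' (hQ y hy hyP) (mul_mem hy hx) h3
    refine hbQ (mem_inf.2 ⟨hb, H3.mem_conj_smul.2 ?_⟩)
    have h5 := (mem_inf.1 h4).1
    convert h5 using 1; group
  have hcQ : ∀ a ∈ P, a ∈ centralizer ((MulAut.conj x • Z : Subgroup G) : Set G) ↔ a ∈ Q :=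
    fun a ha => ⟨fun h => mem_inf.2 ⟨ha, hC x hxK a (hPK ha) h⟩, fun h => hC' x h.2⟩
  have hA : ∀ a ∈ P, a ∉ Q → ∀ v ∈ MulAut.conj x • Z, ⁅a, v⁆ ∈ MulAut.conj x • Z →
      v ∈ centralizer (P : Set G) := by
    intro a ha haQ v hv h
    have h3 : x⁻¹ * a * x ∉ P := fun h => haQ (mem_inf.2 ⟨ha, H3.mem_conj_smul.2 h⟩)
    have h4 := mul_mem h hv
    rw [H3.mem_conj_smul] at h4 hv
    have h5 := hE _ (mul_mem (mul_mem (inv_mem hx) (hPH.le ha)) hx) h3 _ hv (by
      convert h4 using 1; simp only [commutatorElement_def]; group)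
    have h6 : v = x⁻¹ * v * x := by
      have := h5 x hx
      rw [← mul_assoc, ← mul_assoc, mul_inv_cancel, one_mul] at this
      exact mul_right_cancel this
    rw [h6]; exact hv.2
  obtain ⟨a₀, ha₀, ha₀Q⟩ : ∃ a ∈ P, a ∉ Q := by
    by_contra hc
    push Not at hc
    refine hnle x⁻¹ (inv_mem hxK) (fun h => hxP (inv_mem_iff.1 h)) ?_
    exact H3.conj_smul_le_iff.2 fun a ha => by simpa using H3.mem_conj_smul.1 (hc a ha).2
  obtain ⟨s, hs, hsQ, hs2⟩ : ∃ s ∈ P, s ∉ Q ∧ s ^ 2 ∈ Q := by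
    obtain ⟨k, hk⟩ := hp ⟨a₀, ha₀⟩
    have hk' : a₀ ^ 2 ^ k = 1 := congrArg Subtype.val hk
    by_contra hc
    push Not at hc
    have : ∀ j, a₀ ^ 2 ^ j ∉ Q := by
      intro j
      induction j with
      | zero => simpa using ha₀Q
      | succ j ih => rw [pow_succ, pow_mul]; exact hc _ (pow_mem ha₀ _) ih
    exact this k (by rw [hk']; exact one_mem _)
  have hv2 : ∀ v ∈ MulAut.conj x • Z, v ^ 2 ∈ centralizer (P : Set G) := by
    intro v hv
    have pv := hZh x hx hv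
    refine hA s hs hsQ _ (pow_mem hv 2) ?_
    rw [_root_.sq, hP.right hs pv pv, ← hP.left hs hs pv, ← _root_.sq,
      comm_eq_one_of_mem_centralizer (hC' x hs2.2) hv]
    exact one_mem _
  have ha2 : ∀ a ∈ P, a ^ 2 ∈ Q := by
    intro a ha
    refine (hcQ _ (pow_mem ha 2)).1 (fun v hv => commutatorElement_eq_one_iff_mul_comm.1 ?_)
    have pv := hZh x hx hv
    rw [_root_.sq, hP.right pv ha ha, ← hP.left pv pv ha, ← _root_.sq,
      comm_eq_one_of_mem_centralizer (hv2 v hv) ha]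
  have hD : ∀ w ∈ Z, x * w ^ 2 * x⁻¹ = w ^ 2 := by
    intro w hw
    have h3 : x * w * x⁻¹ ∈ MulAut.conj x • Z := H3.conj_mem_conj_smul.2 hw
    have h4 : x * w ^ 2 * x⁻¹ ∈ Z := by
      rw [← conj_pow]; exact mem_inf.2 ⟨pow_mem (hZh x hx h3) 2, hv2 _ h3⟩
    rw [hE x hx hxP _ (pow_mem hw 2) h4 x hx, mul_inv_cancel_right]
  refine ⟨MulAut.conj x • Z, ⟨hZh x hx, (H3.conj_smul_mono x inf_le_left).trans (hC' x), ?_, ?_, ?_,
    ?_, ?_⟩, ?_, ?_⟩
  · intro a ha ca b hb cb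
    rw [hZc]
    exact (hP.conj x).mem ((hcQ a ha).1 ca).2 ((hcQ b hb).1 cb).2
  · exact fun a ha ca => hA a ha (fun h => ca ((hcQ a ha).2 h))
  · intro a ha ca b hb cb
    rw [hcQ _ ha] at ca
    rw [hcQ _ hb] at cb
    rw [hcQ _ (mul_mem ha hb)]
    haveI : (Q.subgroupOf H).Normal := (normal_subgroupOf_iff_le_normalizer
      (inf_le_left.trans hPH.le)).2 (hQ x hx hxP)
    let π := QuotientGroup.mk' (Q.subgroupOf H)
    have hπ : ∀ c d : H, π c = π d → (d : G) ∈ P → (c : G) ∈ P := fun c d h hd => by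
      have h3 : ((c⁻¹ * d : H) : G) ∈ Q := (QuotientGroup.eq (s := Q.subgroupOf H)).1 h
      have h4 := mul_mem hd (inv_mem h3.1)
      simpa using h4
    have hsq : ∀ c : H, (c : G) ∈ P → π c * π c = 1 := fun c hc => by
      rw [← map_mul, ← _root_.sq]
      exact (QuotientGroup.eq_one_iff _).2 (ha2 c hc)
    let a' : H := ⟨a, hPH.le ha⟩
    let b' : H := ⟨b, hPH.le hb⟩
    let x' : H := ⟨x, hx⟩
    have hconj : IsConj (π (x' * a' * x'⁻¹)) (π b') := by
      by_contra hc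
      obtain ⟨u, -, hu, h3, h4⟩ := H11.exists_invol_commute_of_not_isConj (by
        rw [map_mul, map_mul, map_inv, conj_mul, hsq a' ha, mul_one, mul_inv_cancel]) (hsq b' hb) hc
      obtain ⟨u, rfl⟩ := QuotientGroup.mk'_surjective _ u
      have h5 : (u : G) ∈ P := hT u u.2 b hb cb (hπ (u * b' * u⁻¹) b' (by
        rw [map_mul, map_mul, map_inv, h4.eq, mul_inv_cancel_right]) hb)
      have h6 : ((x'⁻¹ * u * x' : H) : G) ∈ P := hT _ (SetLike.coe_mem _) a ha ca
        (hπ (x'⁻¹ * u * x' * a' * (x'⁻¹ * u * x')⁻¹) a' (by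
          have h7 : x'⁻¹ * u * x' * a' * (x'⁻¹ * u * x')⁻¹ =
            x'⁻¹ * (u * (x' * a' * x'⁻¹) * u⁻¹) * x' := by group
          rw [h7, map_mul, map_mul, map_mul π _ u⁻¹, map_mul π u, h3.eq, map_inv π u,
            mul_inv_cancel_right, ← map_mul, ← map_mul]
          congr 1; group) ha)
      have h7 : π u = 1 := (QuotientGroup.eq_one_iff _).2 (mem_inf.2 ⟨h5, H3.mem_conj_smul.2 h6⟩)
      exact H11.ne_one_of_orderOf_two hu h7
    obtain ⟨y, hy⟩ := isConj_iff.1 hconj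
    obtain ⟨y, rfl⟩ := QuotientGroup.mk'_surjective _ y
    have h3 : π (y * x' * a' * (y * x')⁻¹) = π b' := by
      rw [← hy, ← map_inv, ← map_mul, ← map_mul]; congr 1; group
    have h4 : ((y * x' : H) : G) ∈ P := hT _ (SetLike.coe_mem _) a ha ca (hπ _ _ h3 hb)
    have h5 : (((y * x' * a' * (y * x')⁻¹)⁻¹ * b' : H) : G) ∈ Q :=
      (QuotientGroup.eq (s := Q.subgroupOf H)).1 h3
    have h6 : ⁅a⁻¹, ((y * x' : H) : G)⁆ ∈ Q :=
      le_inf inf_le_left (hZle x hxK (hZh x hx)) (hP.mem (inv_mem ha) h4)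
    have h7 := mul_mem (mul_mem (ha2 a ha) h6) h5
    convert h7 using 1
    simp only [commutatorElement_def, _root_.sq, coe_mul, coe_inv, a', b']; group
  · intro v hv
    have hw := H3.mem_conj_smul.1 hv
    refine ⟨_, hw.1, hw.2, ?_⟩
    rw [← hD _ hw]; simp only [_root_.sq]; group
  · intro w hw hw'
    rw [← hD w (mem_inf.2 ⟨hw, hw'⟩)]
    exact H3.conj_mem_conj_smul.2 (pow_mem (mem_inf.2 ⟨hw, hw'⟩) 2)
  · intro h
    apply h2
    have h3 : Z = ⊥ := by
      rw [← H3.conj_inv_smul_conj_smul Z x, h]; exact smul_bot _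
    rw [h3]; exact smul_bot _
  · obtain ⟨y, hy, hyP⟩ := SetLike.not_le_iff_exists.1 (hnle x hxK hxP)
    refine ⟨y, hPc x hxK hy, hyP, fun U h3 h4 => ?_⟩
    exact (hP.conj x).le_normalizer (by rw [← hZc]; exact h3)
      (fun u hu => ((hcQ u (h4 hu).1).1 (h4 hu).2).2) hy

theorem weaklyClosed_of_cl2 [Finite G] {K P L : Subgroup G} (hPK : P ≤ K) (hp : IsPGroup 2 P)
    (hP : Cl2 P) (hL : L ≤ normalizer (P : Set G)) {n : ℕ} (hn : Odd n) (hLn : ∀ l ∈ L, l ^ n ∈ P)
    (hN : ∀ X ≤ P, X ≠ ⊥ → L ≤ normalizer (X : Set G) → K ⊓ normalizer (X : Set G) ≤ P) {g : G}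
    (hg : g ∈ K) (h1 : MulAut.conj g • (P ⊓ centralizer (P : Set G)) ≤ P) :
    MulAut.conj g • (P ⊓ centralizer (P : Set G)) = P ⊓ centralizer (P : Set G) := by
  by_contra h2
  set Z := P ⊓ centralizer (P : Set G) with hZ
  have hLZ : L ≤ normalizer (Z : Set G) := H1.le_normalizer_inf hL (H1.le_normalizer_centralizer hL)
  have hZ0 : Z ≠ ⊥ := fun h => h2 (by rw [h]; exact smul_bot _)
  obtain ⟨Y, hY, hY0, y, hyK, hyP, hy⟩ := exists_goodZ hPK hp hP (hN Z inf_le_left hZ0 hLZ) hg h1 h2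
  have hYl : ∀ l ∈ L, GoodZ P (MulAut.conj l • Y) := fun l hl => by
    have := hY.conj l
    rwa [H3.mem_normalizer_iff_conj_smul.1 (hL hl)] at this
  have key : ∀ l ∈ L, MulAut.conj l • Y ≤ centralizer (Y : Set G) := by
    intro l hl
    by_contra hc
    have hc' : ¬ MulAut.conj l⁻¹ • Y ≤ centralizer (Y : Set G) := fun h => hc (by
      have := H3.conj_smul_mono l h
      rw [H3.conj_smul_conj_inv_smul, ← H3.centralizer_conj_smul] at this
      exact le_centralizer_iff.1 this)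
    have h3 := GoodZ.matching hP hY (hYl _ (inv_mem hl)) (hYl l hl) hc' hc
    have h4 : l * l ∈ normalizer ((Z ⊔ Y : Subgroup G) : Set G) := by
      apply H3.mem_normalizer_of_conj_mem
      rw [← H3.conj_smul_le_iff, smul_sup, H3.mem_normalizer_iff_conj_smul.1 (hLZ (mul_mem hl hl))]
      refine sup_le le_sup_left ?_
      have := H3.conj_smul_mono l h3
      rwa [smul_sup, H3.conj_smul_conj_inv_smul, H3.conj_smul_conj_smul,
        H3.mem_normalizer_iff_conj_smul.1 (hLZ hl)] at this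
    have h5 : l ^ n ∈ normalizer ((Z ⊔ Y : Subgroup G) : Set G) :=
      hP.le_normalizer le_sup_left (sup_le inf_le_left hY.le) (hLn l hl)
    obtain ⟨k, rfl⟩ := hn
    rw [pow_succ, pow_mul, _root_.sq, (normalizer _).mul_mem_cancel_left (pow_mem h4 k)] at h5
    apply hc
    refine (H3.conj_smul_mono l (le_sup_right : Y ≤ Z ⊔ Y)).trans ?_
    rw [H3.mem_normalizer_iff_conj_smul.1 h5]
    exact sup_le (inf_le_right.trans (centralizer_le hY.le)) hY.comm
  let U : Subgroup G := ⨆ l : L, MulAut.conj (l : G) • Y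
  have hYU : Y ≤ U := le_iSup_of_le (1 : L) (by rw [OneMemClass.coe_one, H3.conj_one_smul])
  have hU : U ≤ P ⊓ centralizer (Y : Set G) := iSup_le fun l => le_inf (hYl l l.2).le (key l l.2)
  refine hyP (hN U (hU.trans inf_le_left) (fun h => hY0 (le_bot_iff.1 (h ▸ hYU))) (fun l hl => ?_)
    (mem_inf.2 ⟨hyK, hy U hYU hU⟩))
  apply H3.mem_normalizer_of_conj_mem
  rw [← H3.conj_smul_le_iff, H1.conj_smul_eq_map, Subgroup.map_iSup]
  refine iSup_le fun m => ?_
  rw [← H1.conj_smul_eq_map, H3.conj_smul_conj_smul]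
  exact le_iSup_of_le (⟨l, hl⟩ * m) le_rfl

theorem normal_of_hall_map [Finite G] {K : Subgroup G} [K.Normal] (N : Subgroup K) [N.Normal]
    (h : (Nat.card N).Coprime N.index) : (N.map K.subtype).Normal := by
  have : N.Characteristic := characteristic_iff_map_le.2 fun φ => by
    rintro _ ⟨x, hx, rfl⟩
    rw [← QuotientGroup.eq_one_iff, ← orderOf_eq_one_iff]
    refine Nat.eq_one_of_dvd_coprimes h ?_ ?_
    · refine (orderOf_map_dvd (QuotientGroup.mk' N) _).trans ?_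
      refine (orderOf_map_dvd φ.toMonoidHom _).trans ?_
      exact orderOf_dvd_natCard N hx
    · rw [index_eq_card]; exact orderOf_dvd_natCard _
  exact ConjAct.normal_of_characteristic_of_normal

theorem Cl2.map {G' : Type*} [Group G'] {P : Subgroup G} (h : Cl2 P) (f : G →* G') :
    Cl2 (P.map f) := by
  rintro _ ⟨a, ha, rfl⟩ _ ⟨b, hb, rfl⟩ _ ⟨c, hc, rfl⟩
  rw [← map_commutatorElement, ← map_mul, ← map_mul, h a ha b hb c hc]

theorem solvable_of_coatom (G : Type u) [Group G] [Finite G] : ∀ K L : Subgroup G, K.Normal →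
    IsCoatom L → ¬ K ≤ L → (Nat.card K).Coprime K.index → Group.IsSolvable L →
    Group.IsNilpotent (L ⊓ K : Subgroup G) → (∃ T, H3.SylowIn 2 T (L ⊓ K) ∧ Cl2 T) →
    Group.IsSolvable G := by
  refine H2.card_induction (P := fun G _ _ => ∀ K L : Subgroup G, K.Normal →
    IsCoatom L → ¬ K ≤ L → (Nat.card K).Coprime K.index → Group.IsSolvable L →
    Group.IsNilpotent (L ⊓ K : Subgroup G) → (∃ T, H3.SylowIn 2 T (L ⊓ K) ∧ Cl2 T) →
    Group.IsSolvable G) ?_ G
  intro G _ _ ih K L hK hL hKL hcop hsol hnil ⟨T, hT, hT2⟩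
  by_cases hN : ∃ N : Subgroup G, N.Normal ∧ N ≠ ⊥ ∧ N ≤ L ⊓ K
  · obtain ⟨N, _, hN0, hNM⟩ := hN
    let π := QuotientGroup.mk' N
    have hπ : Function.Surjective π := QuotientGroup.mk'_surjective N
    have hkL : π.ker ≤ L := by rw [QuotientGroup.ker_mk']; exact hNM.trans inf_le_left
    have hkK : π.ker ≤ K := by rw [QuotientGroup.ker_mk']; exact hNM.trans inf_le_right
    have hinf : L.map π ⊓ K.map π = (L ⊓ K).map π := by
      apply comap_injective hπ
      rw [comap_inf, comap_map_eq_self hkL, comap_map_eq_self hkK, comap_map_eq_self (le_inf hkL hkK)]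
    have h1 : Group.IsSolvable (G ⧸ N) := by
      refine ih (G ⧸ N) (H1.card_quotient_lt hN0) (K.map π) (L.map π) (hK.map π hπ) ?_ ?_ ?_
        (H1.isSolvable_map π hsol) (by rw [hinf]; exact H1.isNilpotent_map π hnil)
        ⟨T.map π, by rw [hinf]; exact hT.map π, hT2.map π⟩
      · refine ⟨fun h => hL.1 ?_, fun H hH => ?_⟩
        · rw [← comap_map_eq_self hkL, h, comap_top]
        · apply comap_injective hπ
          rw [comap_top]
          refine hL.2 _ (lt_of_le_of_ne (map_le_iff_le_comap.1 hH.le) fun h => hH.ne ?_)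
          rw [h, map_comap_eq_self_of_surjective hπ]
      · intro h
        apply hKL
        rw [← comap_map_eq_self hkL]; exact map_le_iff_le_comap.1 h
      · rw [index_map_eq _ hπ hkK]
        exact hcop.coprime_dvd_left (card_map_dvd K π)
    have h2 := H1.isSolvable_of_le (hNM.trans inf_le_left) hsol
    exact solvable_of_ker_le_range N.subtype π (by rw [QuotientGroup.ker_mk', range_subtype])
  push Not at hN
  set M := L ⊓ K with hM
  have hMK : M ≤ K := inf_le_right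
  have hLM : L ≤ normalizer (M : Set G) :=
    H1.le_normalizer_inf le_normalizer (by rw [normalizer_eq_top K]; exact le_top)
  have hX : ∀ X ≤ M, X ≠ ⊥ → L ≤ normalizer (X : Set G) → K ⊓ normalizer (X : Set G) ≤ M := by
    intro X h1 h2 h3
    rcases (hL.le_iff.1 h3) with h | h
    · exact absurd h1 (hN X (normalizer_eq_top_iff.1 h) h2)
    · rw [h, inf_comm]
  have hX' : ∀ X ≤ M, X ≠ ⊥ → L ≤ normalizer (X : Set G) →
      normalizer ((X.subgroupOf K : Subgroup K) : Set K) ≤ M.subgroupOf K := by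
    intro X h1 h2 h3
    rw [H9.normalizer_subgroupOf (h1.trans hMK)]
    exact fun x hx => hX X h1 h2 h3 (mem_inf.2 ⟨x.2, hx⟩)
  have hidx : M.relIndex L ∣ K.index := by
    rw [hM, inf_relIndex_left]; exact relIndex_dvd_index_of_normal K L
  -- a normal complement to `M` in `K`
  have hcompl : (Nat.card (M.subgroupOf K)).Coprime (M.subgroupOf K).index ∧
      ∃ N : Subgroup K, N.Normal ∧ N.IsComplement' (M.subgroupOf K) := by
    have hnil' : Group.IsNilpotent (M.subgroupOf K) :=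
      Group.nilpotent_of_mulEquiv (subgroupOfEquivOfLe hMK).symm
    by_cases h2 : ∀ p : ℕ, p.Prime → ∃ q : ℕ, q.Prime ∧ q ≠ p ∧ q ∣ Nat.card M
    · refine H2.exists_normal_complement_of_normalizer_le hnil'
        (by rw [H1.card_subgroupOf_of_le hMK]; exact h2) (fun p hp hd S hS => ?_)
      haveI := Fact.mk hp
      have h3 := hS.map K.subtype
      rw [map_subgroupOf_eq_of_le hMK] at h3
      rw [H1.card_subgroupOf_of_le hMK] at hd
      have h4 : M ≤ normalizer ((S.map K.subtype : Subgroup G) : Set G) := by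
        have : (h3.toSylow : Subgroup M).Normal := inferInstance
        rw [h3.coe_toSylow] at this
        exact (normal_subgroupOf_iff_le_normalizer h3.1).1 this
      have h5 := hX' _ h3.1 (fun h => (h3.eq_bot_iff.1 h) hd) (fun l hl => by
        obtain ⟨m, hm, n, hn, rfl⟩ := h3.frattini (hLM hl)
        exact mul_mem (h4 hm) hn)
      rwa [subgroupOf, comap_map_eq_self_of_injective K.subtype_injective] at h5
    push Not at h2
    obtain ⟨p, hp, h2⟩ := h2
    haveI := Fact.mk hp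
    have hMp : IsPGroup p M := by
      refine IsPGroup.of_card (n := (Nat.card M).primeFactorsList.length) ?_
      refine Nat.eq_prime_pow_of_unique_prime_dvd Nat.card_pos.ne' (fun {q} hq hd => ?_)
      by_contra hne
      exact h2 q hq hne hd
    by_cases hM0 : M = ⊥
    · rw [hM0, bot_subgroupOf]
      exact ⟨by simp, ⊤, inferInstance, isComplement'_top_bot⟩
    have hS : H3.SylowIn p M K := H2.sylowIn_of_normalizer_le (H3.sylowIn_of_forall_eq hMp le_rfl
      (fun R _ h h' => le_antisymm h h')) hMK (hX M le_rfl hM0 hLM)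
    refine ⟨hS.toSylow.card_coprime_index, ?_⟩
    refine (H3.hasNormalPComplement_iff_sylow hS.toSylow).1 ?_
    have hMp' : IsPGroup p (M.subgroupOf K) := hS.toSylow.isPGroup'
    have hZ : M.subgroupOf K ⊓ centralizer ((M.subgroupOf K : Subgroup K) : Set K) =
        (M ⊓ centralizer (M : Set G)).subgroupOf K := by
      rw [H9.centralizer_subgroupOf hMK, H9.subgroupOf_inf' M]
    have hZN := hX' (M ⊓ centralizer (M : Set G)) inf_le_left (H9.center_ne_bot_of_isPGroup hMp hM0)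
      (H1.le_normalizer_inf hLM (H1.le_normalizer_centralizer hLM))
    by_cases hp2 : p = 2
    · subst hp2
      have hTM : T = M := (hT.eq_of_le hMp le_rfl hT.1).symm
      subst hTM
      have hodd : Odd K.index := by
        refine Nat.coprime_two_left.1 (hcop.coprime_dvd_left ?_)
        by_contra h
        exact hM0 (hS.eq_bot_iff.2 h)
      have hW : IsWeaklyClosed ((M ⊓ centralizer (M : Set G)).subgroupOf K)
          (hS.toSylow : Subgroup K) := by
        refine ⟨fun x hx => hx.1, fun g hg => ?_⟩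
        have h3 := weaklyClosed_of_cl2 hMK hMp hT2 hLM hodd (fun l hl =>
          mem_inf.2 ⟨pow_mem hl _, K.pow_index_mem l⟩) hX g.2 (H3.conj_smul_le_iff.2 fun z hz =>
            hg (mem_map_of_mem (MulAut.conj g).toMonoidHom (x := ⟨z, hMK hz.1⟩) hz))
        ext x
        rw [H1.mem_map_conj, mem_subgroupOf, mem_subgroupOf]
        conv_rhs => rw [← h3, H3.mem_conj_smul]
        rfl
      refine H3.hasNormalPComplement_of_fusion_control hS.toSylow le_rfl (fun x hx g hg => ?_)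
        (H3.hasNormalPComplement_of_isPGroup hMp')
      obtain ⟨n, hn, h3⟩ := H3.exists_normalizer_conj_of_weaklyClosed hS.toSylow
        (by rw [← hZ]; exact inf_le_right) hW g
      exact ⟨n, hZN hn, h3 x hx hg⟩
    · refine H9.npc_of_thompson hp2 hS.toSylow (H3.hasNormalPComplement_of_isPGroup (hMp'.to_le ?_))
        (H3.hasNormalPComplement_of_isPGroup (hMp'.to_le ?_))
      · rw [hS.coe_toSylow, H9.thompsonOf_subgroupOf hMK]
        exact hX' _ (H9.thompsonOf_le _ _) (H9.thompsonOf_ne_bot dvd_rfl hMp hM0)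
          (hLM.trans (H9.normalizer_le_normalizer_thompsonOf _ _))
      · refine (centralizer_le_normalizer _).trans ?_
        rw [hS.coe_toSylow]
        exact hZ ▸ hZN
  obtain ⟨hc, N', _, hN'⟩ := hcompl
  have hcard : Nat.card N' = (M.subgroupOf K).index := hN'.index_eq_card.symm
  have hc' : (Nat.card N').Coprime N'.index := by
    rw [hcard, hN'.symm.index_eq_card]; exact hc.symm
  haveI := normal_of_hall_map N' hc'
  set N := N'.map K.subtype with hNdef
  have hNc : Nat.card N = Nat.card N' := card_subtype K N'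
  have hLN : (Nat.card L).Coprime (Nat.card N) := by
    rw [← H1.card_mul_relIndex (inf_le_left : M ≤ L)]
    refine Nat.Coprime.mul_left ?_ ?_
    · rw [hNc, hcard, ← H1.card_subgroupOf_of_le hMK]; exact hc
    · exact (hcop.symm.coprime_dvd_left hidx).coprime_dvd_right (card_dvd_of_le (map_subtype_le _))
  have hN1 : Nat.card N ≠ 1 := by
    rw [hNc, hcard, Ne, index_eq_one, subgroupOf_eq_top]
    exact fun h => hKL (h.trans inf_le_left)
  obtain ⟨r, hr, hrN⟩ := Nat.exists_prime_and_dvd hN1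
  haveI := Fact.mk hr
  obtain ⟨R, hR, hLR⟩ := H1.exists_invariant_isSylowIn r
    (by rw [normalizer_eq_top N]; exact le_top : L ≤ normalizer (N : Set G)) hLN (Or.inl hsol)
  have hRL : ¬ R ≤ L := fun h => hR.ne_bot hrN (card_eq_one.1
    (Nat.eq_one_of_dvd_coprimes hLN (card_dvd_of_le h) (card_dvd_of_le hR.1)))
  have htop : R ⊔ L = ⊤ := hL.2 _ (right_lt_sup.2 hRL)
  have := H1.isSolvable_sup hLR (H1.isSolvable_of_isPGroup hR.2) hsol
  rw [htop] at this
  exact H1.isSolvable_of_mulEquiv topEquiv this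

theorem cl2_of_class_le {P : Subgroup G} [Group.IsNilpotent P] (h : Group.nilpotencyClass P ≤ 2) :
    Cl2 P := by
  intro a ha b hb c hc
  have h1 := Subgroup.lowerCentralSeries_eq_bot_iff_nilpotencyClass_le.2 h
  have h2 : ⁅⁅(⟨a, ha⟩ : P), (⟨b, hb⟩ : P)⁆, (⟨c, hc⟩ : P)⁆ ∈ (⊤ : Subgroup P).lowerCentralSeries 2 :=
    commutator_mem_commutator (commutator_mem_commutator (mem_top _) (mem_top _)) (mem_top _)
  rw [h1, mem_bot, commutatorElement_eq_one_iff_mul_comm] at h2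
  exact (congrArg Subtype.val h2).symm

theorem exists_sylowIn_cl2 [Finite G] {M : Subgroup G}
    (h2 : ∀ S : Sylow 2 M, Group.nilpotencyClass (S : Subgroup M) ≤ 2) :
    ∃ T, H3.SylowIn 2 T M ∧ Cl2 T := by
  obtain ⟨S⟩ : Nonempty (Sylow 2 M) := inferInstance
  haveI := S.isPGroup'.isNilpotent
  exact ⟨_, H3.sylowIn_map_subtype S, (cl2_of_class_le (h2 S)).map _⟩

theorem solvable_of_invariant_max {G A : Type*} [Group G] [Finite G]
    [Group A] [Finite A] (hA : Group.IsSolvable A) (φ : A →* MulAut G)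
    (hcop : (Nat.card A).Coprime (Nat.card G))
    (M : Subgroup G) (hMtop : M ≠ ⊤) (hMinv : ∀ a : A, ∀ m : G, m ∈ M → φ a m ∈ M)
    (hMmax : ∀ H : Subgroup G, M ≤ H → H ≠ ⊤ → (∀ a : A, ∀ h : G, h ∈ H → φ a h ∈ H) → H = M)
    (hnil : Group.IsNilpotent M)
    (h2 : ∀ S : Sylow 2 M, Group.nilpotencyClass (S : Subgroup M) ≤ 2) : Group.IsSolvable G := by
  haveI : Finite (G ⋊[φ] A) := Finite.of_equiv _ SemidirectProduct.equivProd.symm
  let ι : G →* G ⋊[φ] A := SemidirectProduct.inl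
  let κ : A →* G ⋊[φ] A := SemidirectProduct.inr
  have hι : Function.Injective ι := SemidirectProduct.inl_injective
  let L : Subgroup (G ⋊[φ] A) :=
    { carrier := {x | x.left ∈ M}
      mul_mem' := fun {a b} ha hb => mul_mem ha (hMinv _ _ hb)
      one_mem' := one_mem M
      inv_mem' := fun {a} ha => hMinv _ _ (inv_mem ha) }
  have hK : ι.range = (SemidirectProduct.rightHom : G ⋊[φ] A →* A).ker :=
    SemidirectProduct.range_inl_eq_ker_rightHom
  have hLK : L ⊓ ι.range = M.map ι := by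
    apply le_antisymm
    · rintro _ ⟨h, g, rfl⟩
      exact ⟨g, h, rfl⟩
    · rintro _ ⟨g, h, rfl⟩
      exact ⟨h, g, rfl⟩
  have hκ : ∀ a, κ a ∈ L := fun a => one_mem M
  have hKL : ¬ ι.range ≤ L := fun h => hMtop (eq_top_iff.2 fun g _ => h ⟨g, rfl⟩)
  obtain ⟨T, hT, hT2⟩ := exists_sylowIn_cl2 h2
  have := solvable_of_coatom (G ⋊[φ] A) ι.range L (by rw [hK]; infer_instance) ?_ hKL ?_ ?_
    (by rw [hLK]; exact H1.isNilpotent_map ι hnil) ⟨_, by rw [hLK]; exact hT.map ι, hT2.map ι⟩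
  · exact Group.isSolvable_of_isSolvable_injective hι
  · refine ⟨fun h => hKL (h ▸ le_top), fun H hH => ?_⟩
    have h3 : ∀ x : G ⋊[φ] A, x ∈ H ↔ x.left ∈ H.comap ι := fun x => by
      conv_lhs => rw [← SemidirectProduct.inl_left_mul_inr_right x]
      exact H.mul_mem_cancel_right (hH.le (hκ _))
    by_contra hne
    have h4 := hMmax (H.comap ι) (fun m hm => hH.le hm) (fun h => hne (eq_top_iff.2 fun x _ =>
      (h3 x).2 (h ▸ mem_top _))) (fun a g hg => by
        show SemidirectProduct.inl (φ a g) ∈ H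
        rw [SemidirectProduct.inl_aut]
        exact mul_mem (mul_mem (hH.le (hκ _)) hg) (hH.le (hκ _)))
    exact hH.not_ge (fun x hx => by rw [h3, h4] at hx; exact hx)
  · rw [← Nat.card_congr (MonoidHom.ofInjective hι).toEquiv, hK, index_ker,
      MonoidHom.range_eq_top.2 SemidirectProduct.rightHom_surjective, card_top]
    exact hcop.symm
  · have h3 : L = M.map ι ⊔ κ.range := by
      apply le_antisymm
      · intro x hx
        rw [← SemidirectProduct.inl_left_mul_inr_right x]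
        exact mul_mem_sup ⟨_, hx, rfl⟩ ⟨_, rfl⟩
      · exact sup_le (hLK ▸ inf_le_left) (by rintro _ ⟨a, rfl⟩; exact hκ a)
    rw [h3]
    refine H1.isSolvable_sup ?_ (H1.isSolvable_map ι inferInstance) ?_
    · rintro _ ⟨a, rfl⟩
      apply H3.mem_normalizer_of_conj_mem
      rintro _ ⟨g, hg, rfl⟩
      exact ⟨_, hMinv a g hg, by rw [← map_inv]; exact SemidirectProduct.inl_aut a g⟩
    · exact Group.isSolvable_of_surjective κ.rangeRestrict_surjective

end Cfsg.Agent.H25
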