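import Cfsg.Agent.H25.PG

/-! Norm maps of Frobenius-type actions on abelian groups. -/

set_option autoImplicit false

namespace Cfsg.Agent.H25
open Subgroup Cfsg.Agent.H20 Cfsg.Agent.H21

theorem pow_card_eq_one_of_norm {T V : Type*} [Group T] [CommGroup V] (f : T →* MulAut V) (R : Subgroup T)
    [Finite R] {c : T} {n : ℕ} (hn : 0 < n) (hcR : c ∈ N⟦R⟧)
    (hc : ∀ i, 0 < i → i < n → ∀ r ∈ R, r * c ^ i = c ^ i * r → r = 1)
    (hfix : ∀ v, (∀ r ∈ R, f r v = v) → v = 1) (hN : ∀ v, ∏ i ∈ Finset.range n, f (c ^ i) v = 1) (v : V) :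
    v ^ ♯R = 1 := by
  classical
  have := Fintype.ofFinite R
  have h1 : ∀ w, ∏ r : R, f r w = 1 := by
    intro w
    refine hfix _ (fun s hs => ?_)
    rw [map_prod]
    refine Fintype.prod_equiv (Equiv.mulLeft ⟨s, hs⟩) _ _ (fun r => ?_)
    simp
  have h2 : ∏ r : R, ∏ i ∈ Finset.range n, f (r * c ^ i * (r : T)⁻¹) v = 1 := by
    refine Finset.prod_eq_one (fun r _ => ?_)
    have := congrArg (f r) (hN (f (r : T)⁻¹ v))
    rw [map_prod, map_one] at this
    simpa only [map_mul, MulAut.mul_apply] using this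
  rw [Finset.prod_comm] at h2
  obtain ⟨n, rfl⟩ : ∃ m, n = m + 1 := ⟨n - 1, by omega⟩
  rw [Finset.prod_range_succ', Finset.prod_eq_one, one_mul] at h2
  · simpa [Nat.card_eq_fintype_card] using h2
  intro i hi
  have hm : ∀ r : R, (r : T) * (c ^ (i + 1) * (r : T)⁻¹ * (c ^ (i + 1))⁻¹) ∈ R := fun r =>
    mul_mem r.2 ((mem_normalizer_iff.1 (pow_mem hcR _) _).1 (inv_mem r.2))
  have hb : Function.Bijective (fun r : R => (⟨_, hm r⟩ : R)) := by
    refine Finite.injective_iff_bijective.1 (fun r s h => ?_)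
    have h3 : (r : T) * (c ^ (i + 1) * (r : T)⁻¹ * (c ^ (i + 1))⁻¹) =
        s * (c ^ (i + 1) * (s : T)⁻¹ * (c ^ (i + 1))⁻¹) := congrArg Subtype.val h
    have h4 := hc (i + 1) (by omega) (by simpa using hi) ((s : T)⁻¹ * r) (mul_mem (inv_mem s.2) r.2) (by
      generalize c ^ (i + 1) = d at *
      calc (s : T)⁻¹ * r * d = (s : T)⁻¹ * (r * (d * (r : T)⁻¹ * d⁻¹)) * d * r := by group
        _ = _ := by rw [h3]; group)
    exact Subtype.ext (inv_mul_eq_one.1 h4).symm
  rw [← h1 (f (c ^ (i + 1)) v)]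
  refine Fintype.prod_bijective _ hb _ _ (fun r => ?_)
  rw [← MulAut.mul_apply, ← map_mul]
  congr 2
  group

variable {G : Type*} [Group G]

open scoped IsMulCommutative in
theorem prod_conj_mul_pow (V : Subgroup G) [V.Normal] [IsMulCommutative V] (v : V) (c : G) (n : ℕ) :
    ((∏ i ∈ Finset.range n, MulAut.conjNormal (c ^ i) v : V) : G) * c ^ n = (v * c) ^ n := by
  induction n with
  | zero => simp
  | succ n ih =>
    rw [Finset.prod_range_succ, pow_succ (v * c : G), ← ih, coe_mul, MulAut.conjNormal_apply]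
    group

open scoped IsMulCommutative in
/-- If `R⟨c⟩` is of Frobenius type, `C_V(R) = 1` and all elements of the coset `V c` satisfy `x ^ n = 1`,
then `V` has exponent dividing the order of `R`. -/
theorem pow_card_eq_one_of_coset [Finite G] {V R : Subgroup G} [V.Normal] (hV : IsMulCommutative V) {c : G} {n : ℕ}
    (hn : 0 < n) (hcR : c ∈ N⟦R⟧) (hc : ∀ i, 0 < i → i < n → ∀ r ∈ R, r * c ^ i = c ^ i * r → r = 1)
    (hfix : V ⊓ C⟦R⟧ = ⊥) (h : ∀ v ∈ V, (v * c) ^ n = 1) {v : G} (hv : v ∈ V) : v ^ ♯R = 1 := by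
  have := pow_card_eq_one_of_norm (V := V) MulAut.conjNormal R hn hcR hc (fun w hw => ?_) (fun w => ?_) ⟨v, hv⟩
  · exact congrArg Subtype.val this
  · refine Subtype.ext (Subgroup.mem_bot.1 (hfix ▸ ⟨w.2, fun r hr => ?_⟩))
    exact mul_inv_eq_iff_eq_mul.1 (congrArg Subtype.val (hw r hr))
  · have h1 := prod_conj_mul_pow V w c n
    have h2 := h 1 (one_mem _)
    rw [one_mul] at h2
    rw [h2, mul_one, h _ w.2] at h1
    exact Subtype.ext h1

end Cfsg.Agent.H25
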