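import Cfsg.Agent.H25.EqConj
import Cfsg.Agent.H25.Cyc
import Cfsg.Agent.H21.Base5

/-! Groups in which subgroups of equal order are conjugate. -/

set_option autoImplicit false

namespace Cfsg.Agent.H25

open Subgroup Cfsg.Agent.H20 Cfsg.Agent.H21

universe u

/-- subgroups of equal order are conjugate -/
def OC (G : Type*) [Group G] : Prop := ∀ H K : Subgroup G, ♯H = ♯K → ∃ g, cj g H = K

variable {G : Type*} [Group G] [Finite G]

theorem card_map_mk (N H : Subgroup G) [N.Normal] : ♯(H.map (QuotientGroup.mk' N)) = N.relIndex H := by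
  rw [← relIndex_ker, QuotientGroup.ker_mk']

theorem card_comap_mk (N : Subgroup G) [N.Normal] (A : Subgroup (G ⧸ N)) :
    ♯(A.comap (QuotientGroup.mk' N)) = ♯N * ♯A := by
  rw [← card_mul_relIndex (QuotientGroup.le_comap_mk' N A), ← card_map_mk,
    map_comap_eq_self_of_surjective (QuotientGroup.mk'_surjective N)]

theorem OC.sup {N H K : Subgroup G} [N.Normal] (h : OC (G ⧸ N)) (e : N.relIndex H = N.relIndex K) :
    ∃ g, cj g H ⊔ N = K ⊔ N := by
  obtain ⟨g, hg⟩ := h _ _ ((card_map_mk N H).trans (e.trans (card_map_mk N K).symm))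
  obtain ⟨g, rfl⟩ := QuotientGroup.mk'_surjective N g
  have := congrArg (comap (QuotientGroup.mk' N)) hg
  rw [← map_cj, comap_map_eq, comap_map_eq, QuotientGroup.ker_mk'] at this
  exact ⟨g, this⟩

theorem OC.of_le {N H K : Subgroup G} [N.Normal] (h : OC (G ⧸ N)) (e : ♯H = ♯K) (h1 : N ≤ H) (h2 : N ≤ K) :
    ∃ g, cj g H = K := by
  obtain ⟨g, hg⟩ := h.sup (H := H) (K := K) (Nat.eq_of_mul_eq_mul_left (card_pos N) (by
    rw [card_mul_relIndex h1, card_mul_relIndex h2, e]))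
  rw [sup_eq_left.2 h2, sup_eq_left.2 (le_cj_iff.2 (cj_le_of_mem_norm ((normalizer_eq_top N).ge (mem_top _))
    le_rfl |>.trans h1))] at hg
  exact ⟨g, hg⟩

theorem OC.step [Group.IsSolvable G] {N H K : Subgroup G} [N.Normal] (h : OC (G ⧸ N)) (e : ♯H = ♯K)
    (c1 : (♯N).Coprime (N.relIndex H)) (c2 : (♯N).Coprime (N.relIndex K))
    (hU : ∀ U ≤ N, ∀ W ≤ N, ♯U = ♯W → ∃ g, cj g U = W)
    (hE : N ⊓ K ≠ ⊥ → ∀ E ≤ N⟦N ⊓ K⟧, (♯E).Coprime (♯N) → OC E) : ∃ g, cj g H = K := by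
  have nN : ∀ {X : Subgroup G}, X ≤ N⟦N⟧ := fun {_} => le_top.trans (normalizer_eq_top N).ge
  have sol : ∀ X : Subgroup G, Group.IsSolvable X := fun _ => inferInstance
  have e1 : N.relIndex H = N.relIndex K := by
    have a := card_inf_mul_relIndex N H
    have b := card_inf_mul_relIndex N K
    exact Nat.dvd_antisymm ((c1.coprime_dvd_left (card_dvd inf_le_left)).symm.dvd_of_dvd_mul_left
      (b ▸ e ▸ a ▸ dvd_mul_left _ _)) ((c2.coprime_dvd_left (card_dvd inf_le_left)).symm.dvd_of_dvd_mul_left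
      (a ▸ e ▸ b ▸ dvd_mul_left _ _))
  obtain ⟨g, hg⟩ := h.sup e1
  suffices ∃ x, cj x (cj g H) = K by obtain ⟨x, hx⟩ := this; exact ⟨x * g, by rwa [cj_mul]⟩
  rw [← card_cj g H] at e
  rw [← relIndex_cj g, cj_eq_of_mem_norm (nN (mem_top g))] at c1 e1
  generalize cj g H = H at e c1 e1 hg
  obtain ⟨D, hD⟩ := exists_compl_of_coprime (NormalIn.inf_of_norm (K := H) nN)
    (by rw [inf_relIndex_right]; exact coprime_of_le_left c1 inf_le_left)
  obtain ⟨D', hD'⟩ := exists_compl_of_coprime (NormalIn.inf_of_norm (K := K) nN)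
    (by rw [inf_relIndex_right]; exact coprime_of_le_left c2 inf_le_left)
  have d1 := Compl.relIndex_left hD
  have d2 := Compl.relIndex_left hD'
  rw [inf_relIndex_right] at d1 d2
  obtain ⟨n, hn, en⟩ := exists_cj_le_of_coprime (U := D) (H := D') nN nN (d1 ▸ c1.symm) (Or.inl (sol _))
    ((Compl.right_le hD).trans (le_sup_left.trans (hg.le.trans (sup_le ((Compl.sup_eq hD').ge.trans
      (sup_le_sup_right inf_le_left _)) le_sup_left))))
  replace en := eq_of_le_card en (by rw [card_cj, ← d1, ← d2, e1])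
  have u : ♯(cj n (N ⊓ H)) = ♯(N ⊓ K) := Nat.eq_of_mul_eq_mul_right (relIndex_pos N K) (by
    rw [card_cj, card_inf_mul_relIndex, ← e1, card_inf_mul_relIndex, e])
  suffices ∃ x ∈ N⟦D'⟧, cj x (cj n (N ⊓ H)) = N ⊓ K by
    obtain ⟨x, h1, h2⟩ := this
    exact ⟨x * n, by rw [← Compl.sup_eq hD, cj_mul, cj_sup, cj_sup, h2, en, cj_eq_of_mem_norm h1, Compl.sup_eq hD']⟩
  by_cases b : N ⊓ K = ⊥
  · exact ⟨1, one_mem _, by rw [b, cj_one]; exact eq_bot_of_card (by rw [u, b, card_bot])⟩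
  obtain ⟨y, hy⟩ := hU _ (cj_le_of_mem hn inf_le_left) _ inf_le_left u
  have p1 : IsPi (primesOf N)ᶜ D' := isPi_compl_primesOf_iff.2 (d2 ▸ c2.symm)
  obtain ⟨E, hE1, hE2⟩ := exists_hall_ge (sol N⟦N ⊓ K⟧) p1
    (norm_inf nN (norm_of_le (Compl.right_le hD')))
  obtain ⟨m, hm, em⟩ := hE1.sol_exists_cj_le (U := cj y D') (sol _)
    (isPi_compl_primesOf_iff.2 (by rw [card_cj]; exact d2 ▸ c2.symm)) (by
      rw [← hy, ← en]
      exact norm_cj y (norm_cj n (norm_inf nN (norm_of_le (Compl.right_le hD)))))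
  obtain ⟨z, hz⟩ := hE b E hE1.le (isPi_compl_primesOf_iff.1 hE1.isPi) ((cj m (cj y D')).subgroupOf E)
    (D'.subgroupOf E) (by rw [card_subgroupOf em, card_subgroupOf hE2, card_cj, card_cj])
  have := congrArg (map E.subtype) hz
  rw [map_cj, map_subgroupOf_eq_of_le em, map_subgroupOf_eq_of_le hE2, ← cj_mul, ← cj_mul] at this
  exact ⟨_, mem_norm_iff_cj.2 this, by
    rw [cj_mul, hy]; exact cj_eq_of_mem_norm (mul_mem (hE1.le z.2) hm)⟩

theorem exists_plift {p : ℕ} [Fact p.Prime] (N : Subgroup G) [N.Normal] {A : Subgroup (G ⧸ N)} (h : IsPGroup p A) :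
    ∃ P : Subgroup G, IsPGroup p P ∧ P.map (QuotientGroup.mk' N) = A ∧ ♯P = p ^ (♯N * ♯A).factorization p := by
  obtain ⟨P, hP⟩ := exists_sylowOf p (A.comap (QuotientGroup.mk' N))
  have := hP.map (QuotientGroup.mk' N)
  rw [map_comap_eq_self_of_surjective (QuotientGroup.mk'_surjective N)] at this
  exact ⟨P, hP.isPGroup, (this.pgroup_eq_of_le h this.le le_rfl).symm, by rw [hP.card_eq_pow, card_comap_mk]⟩

theorem pEq_of_cyc {p : ℕ} [Fact p.Prime] (h : ∀ P : Subgroup G, IsPGroup p P → IsCyclic P) : PEq p G :=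
  fun H K hH hK e => by
    obtain ⟨S, h1, h2⟩ := exists_sylowOf_ge hK le_top
    obtain ⟨g, -, hg⟩ := h1.exists_cj_le hH le_top
    have := h S h1.isPGroup
    exact ⟨g, eq_of_card_eq_of_isCyclic h2 hg (by rw [card_cj, e])⟩

theorem exists_sub_card {p : ℕ} [hp : Fact p.Prime] {P Q : Subgroup G} (hP : IsPGroup p P) (hQ : IsPGroup p Q)
    (h : ♯Q ≤ ♯P) : ∃ X ≤ P, ♯X = ♯Q := by
  obtain ⟨n, hn⟩ := IsPGroup.iff_card.1 hQ
  rw [hn] at h ⊢
  obtain ⟨X, hX⟩ := Sylow.exists_subgroup_card_pow_prime_of_le_card hp.out hP h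
  exact ⟨_, map_subtype_le X, by rwa [card_map_subtype]⟩

theorem not_dvd_relIndex {p : ℕ} [Fact p.Prime] {N H P : Subgroup G} (hP : SylowOf p P H) (h : P ≤ N) :
    ¬ p ∣ N.relIndex H := fun e => hP.not_dvd (e.trans (relIndex_dvd_of_le_left H h))

theorem oc_of_pEq (n : ℕ) : ∀ (G : Type u) [Group G] [Finite G] [Group.IsSolvable G], Nat.card G = n →
    (∀ p : ℕ, p.Prime → PEq p G) → ∀ r : ℕ, (∀ p : ℕ, p.Prime → p ≠ r → ∀ P : Subgroup G, IsPGroup p P → IsCyclic P) →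
    OC G := by
  induction n using Nat.strong_induction_on with
  | _ n ih =>
  rintro G _ _ _ rfl hD r hc H K e
  by_cases h0 : (⊤ : Subgroup G) = ⊥
  · exact ⟨1, by rw [le_bot_iff.1 (le_top.trans h0.le : K ≤ ⊥), le_bot_iff.1 (le_top.trans h0.le : H ≤ ⊥), cj_bot]⟩
  obtain ⟨p, N, hp, n1, -, n2, n3⟩ := exists_elem_normalIn (NormalIn.refl ⊤) inferInstance h0
  have := Fact.mk hp
  have := n2.normal
  have nP := isPGroup_of_elem n3
  have q : OC (G ⧸ N) := ih _ (by
      rw [card_eq_card_quotient_mul_card_subgroup N]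
      exact lt_mul_of_one_lt_right Nat.card_pos (one_lt_card n1.1)) _ rfl (fun s hs A B hA hB e => by
      have := Fact.mk hs
      obtain ⟨P, p1, rfl, p3⟩ := exists_plift N hA
      obtain ⟨Q, q1, rfl, q3⟩ := exists_plift N hB
      obtain ⟨g, rfl⟩ := hD s hs P Q p1 q1 (by rw [p3, q3, e])
      exact ⟨_, map_cj _ g P⟩) r (fun s hs hr A hA => by
      have := Fact.mk hs
      obtain ⟨P, p1, rfl, -⟩ := exists_plift N hA
      exact cyclic_map _ (hc s hs hr P p1))
  have cn : ∀ g, cj g N = N := fun g => n2.cj_eq (mem_top g)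
  obtain ⟨P, hP⟩ := exists_sylowOf p H
  obtain ⟨Q, hQ⟩ := exists_sylowOf p K
  have pq : ♯P = ♯Q := by rw [hP.card_eq_pow, hQ.card_eq_pow, e]
  by_cases l : ♯N ≤ ♯P
  · have : ∀ {P : Subgroup G}, IsPGroup p P → ♯N ≤ ♯P → N ≤ P := fun hP l => by
      obtain ⟨X, h1, h2⟩ := exists_sub_card hP nP l
      obtain ⟨g, rfl⟩ := hD p hp N X nP (hP.to_le h1) h2.symm
      exact (cn g).ge.trans h1
    exact q.of_le e ((this hP.isPGroup l).trans hP.le) ((this hQ.isPGroup (pq ▸ l)).trans hQ.le)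
  have : ∀ {P H : Subgroup G}, SylowOf p P H → ♯P ≤ ♯N → (♯N).Coprime (N.relIndex H) := fun hP l => by
    obtain ⟨X, h1, h2⟩ := exists_sub_card nP hP.isPGroup l
    obtain ⟨g, rfl⟩ := hD p hp X _ (nP.to_le h1) hP.isPGroup h2
    exact coprime_of_isPGroup nP ((hp.coprime_iff_not_dvd.2 (not_dvd_relIndex hP
      ((cj_mono g h1).trans (cn g).le))).symm)
  refine q.step e (this hP (not_le.1 l).le) (this hQ (pq ▸ (not_le.1 l).le)) (fun U hU W hW e => ?_)
    fun b E _ hE => ?_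
  · obtain ⟨g, hg⟩ := hD p hp U W (nP.to_le hU) (nP.to_le hW) e
    exact ⟨g, hg.symm⟩
  have pN : p ∣ ♯N := by
    by_contra h
    exact n1.1 (eq_bot_of_card ((Nat.coprime_self _).1 (coprime_of_isPGroup nP (hp.coprime_iff_not_dvd.2 h).symm)))
  obtain rfl : p = r := by
    by_contra hr
    rcases n1.eq_bot_or_eq (W := N ⊓ K) inf_le_left (norm_of_le_cyclic (hc p hp hr N nP) inf_le_left n2.2) with e | e
    · exact b e
    · exact l (pq ▸ Nat.le_of_dvd (card_pos _) (hQ.pgroup_card_dvd nP (e.ge.trans inf_le_right)))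
  have cy : ∀ s : ℕ, s.Prime → ∀ P : Subgroup E, IsPGroup s P → IsCyclic P := fun s hs X hX => by
    by_cases hr : s = p
    · rw [eq_bot_of_card (A := X) ((Nat.coprime_self _).1 (coprime_of_isPGroup (hr ▸ hX)
        ((hE.coprime_dvd_right pN).coprime_dvd_left (card_dvd_card X))))]
      infer_instance
    · have := hc s hs hr _ (hX.map E.subtype)
      exact isCyclic_of_surjective _ (equivMapOfInjective X _ E.subtype_injective).symm.surjective
  exact ih _ (card_lt (lt_top_iff_ne_top.2 (by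
    rintro rfl
    exact hp.one_lt.ne' ((Nat.coprime_self _).1 ((hE.coprime_dvd_right pN).coprime_dvd_left
      (pN.trans (card_dvd le_top)))))) |>.trans_eq card_top') E rfl
    (fun s hs => have := Fact.mk hs; pEq_of_cyc (cy s hs)) p fun s hs _ => cy s hs

theorem oc_of_cyc [Group.IsSolvable G] (h : ∀ p : ℕ, p.Prime → ∀ P : Subgroup G, IsPGroup p P → IsCyclic P) :
    OC G := oc_of_pEq _ G rfl (fun s hs => have := Fact.mk hs; pEq_of_cyc (h s hs)) 0 fun s hs _ => h s hs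

end Cfsg.Agent.H25
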