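import Cfsg.Agent.H25.Res
import Cfsg.Agent.H9.PSolv

/-! The lower `p`-series of a `p`-soluble group is detected by a two generator subgroup. -/

set_option autoImplicit false
set_option linter.style.haveILetI false

namespace Cfsg.Agent.H25

open Subgroup Cfsg.Agent.H20 Cfsg.Agent.H21
open scoped commutatorElement

universe u

variable {G : Type*} [Group G] {G' : Type*} [Group G'] {π ρ : Set ℕ} {A H K L M N T X : Subgroup G} {p k : ℕ}

/-- the alternating prime sets -/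
def sig (p : ℕ) : ℕ → Set ℕ
  | 0 => {p}
  | k + 1 => (sig p k)ᶜ

/-- the lower `p`-series -/
def low (p : ℕ) : ℕ → Subgroup G → Subgroup G
  | 0, H => H
  | k + 1, H => res (sig p k) (low p k H)

theorem sig_cases (p k : ℕ) : sig p k = {p} ∨ sig p k = {p}ᶜ := by
  induction k with
  | zero => exact Or.inl rfl
  | succ k ih => rcases ih with h | h <;> simp [sig, h]

theorem low_le (k : ℕ) (H : Subgroup G) : low p k H ≤ H := by
  induction k with
  | zero => exact le_rfl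
  | succ k ih => exact (res_le _ _).trans ih

theorem low_mono (k : ℕ) (h : H ≤ K) : low p k H ≤ low p k K := by
  induction k with
  | zero => exact h
  | succ k ih => exact res_mono ih

theorem norm_low (k : ℕ) (h : X ≤ N⟦H⟧) : X ≤ N⟦low p k H⟧ := by
  induction k with
  | zero => exact h
  | succ k ih => exact norm_res ih

theorem low_anti {j : ℕ} (h : j ≤ k) (H : Subgroup G) : low p k H ≤ low p j H := by
  induction h with
  | refl => exact le_rfl
  | step _ ih => exact (res_le _ _).trans ih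

instance low_normal (k : ℕ) : (low p k (⊤ : Subgroup G)).Normal :=
  normalIn_top_iff.1 ⟨le_top, norm_low k (le_norm_self _)⟩

variable [Finite G]

theorem map_low (f : G →* G') (k : ℕ) (H : Subgroup G) : (low p k H).map f = low p k (H.map f) := by
  induction k with
  | zero => rfl
  | succ k ih => rw [low, low, map_res, ih]

theorem isPi_cases [Fact p.Prime] (hG : IsPSolvable p G) [Nontrivial G] (k : ℕ) :
    ∃ N : Subgroup G, N.Normal ∧ N ≠ ⊥ ∧ (IsPi (sig p k) N ∨ IsPi (sig p k)ᶜ N) := by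
  have : ∃ N : Subgroup G, N.Normal ∧ N ≠ ⊥ ∧ (IsPi {p} N ∨ IsPi {p}ᶜ N) := by
    rcases H9.core_ne_bot_of_isPSolvable hG with h | h
    · exact ⟨_, inferInstance, pCore_eq (G := G) p ▸ h, Or.inl (isPi_piCore _)⟩
    · exact ⟨_, inferInstance, pPrimeCore_eq (G := G) p ▸ h, Or.inr (isPi_piCore _)⟩
  obtain ⟨N, h1, h2, h3⟩ := this
  refine ⟨N, h1, h2, ?_⟩
  rcases sig_cases p k with h | h <;> rw [h]
  · exact h3
  · rw [compl_compl]; exact h3.symm

theorem card_quot_lt (N : Subgroup G) [N.Normal] (h : N ≠ ⊥) : Nat.card (G ⧸ N) < Nat.card G := by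
  rw [card_eq_card_quotient_mul_card_subgroup N]
  exact lt_mul_of_one_lt_right Nat.card_pos (one_lt_card h)

theorem exists_low_eq_bot [Fact p.Prime] (G : Type u) [Group G] [Finite G] (hG : IsPSolvable p G) :
    ∃ k, low p k (⊤ : Subgroup G) = ⊥ := by
  induction hn : Nat.card G using Nat.strong_induction_on generalizing G with
  | _ n ih =>
  rcases subsingleton_or_nontrivial G with h | h
  · exact ⟨0, Subsingleton.elim _ _⟩
  obtain ⟨N, _, h1, -⟩ := isPi_cases hG 0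
  obtain ⟨V, hV, hVN⟩ := exists_minNormal_le (H := ⊤) h1 (normalIn_top_iff.2 inferInstance).norm
  haveI : V.Normal := normalIn_top_iff.1 ⟨le_top, hV.2.1⟩
  obtain ⟨k, hk⟩ := ih _ (hn ▸ card_quot_lt V hV.1) (G ⧸ V) (H9.isPSolvable_quotient hG V) rfl
  rw [← map_top_of_surjective _ (QuotientGroup.mk'_surjective V), ← map_low, Subgroup.map_eq_bot_iff,
    QuotientGroup.ker_mk'] at hk
  haveI : Nontrivial V := (nontrivial_iff_ne_bot V).2 hV.1
  obtain ⟨W, h2, h3, h4⟩ := isPi_cases (H9.isPSolvable_subgroup hG V) k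
  have key : ∀ ρ, IsPi ρ W → IsPi ρ (low p k (⊤ : Subgroup G)) := fun ρ hW => by
    have h5 : piCoreOf ρ V ≠ ⊥ := fun h6 => h3 ((Subgroup.map_eq_bot_iff_of_injective _ V.subtype_injective).1
      (eq_bot_iff.2 (h6 ▸ le_piCoreOf (NormalIn.of_map_subtype W h2) (isPi_map_subtype.2 hW))))
    exact (isPi_piCoreOf ρ V).of_le (hk.trans ((hV.eq_bot_or_eq (piCoreOf_le ρ V)
      (norm_piCoreOf ρ hV.2.1)).resolve_left h5).ge)
  rcases h4 with h | h
  · exact ⟨k + 1, res_eq_bot_iff.2 (key _ h)⟩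
  · exact ⟨k + 2, res_eq_bot_iff.2 ((key _ h).of_le (res_le _ _))⟩

omit [Finite G] in
theorem eq_conj_of_compl (hN : N ⊴ ⊤) (h : L ⊓ N = ⊥) {a b n : G} (hn : n ∈ N) (ha : a ∈ L)
    (hb : b ∈ cj n L) (hab : a⁻¹ * b ∈ N) : b = n * a * n⁻¹ := by
  have h1 : a⁻¹ * (n⁻¹ * b * n) ∈ L ⊓ N := by
    refine mem_inf.2 ⟨mul_mem (inv_mem ha) (mem_cj.1 hb), ?_⟩
    have := mul_mem (mul_mem (hN.conj_mem (mem_top a⁻¹) (inv_mem hn)) hab) hn
    simpa [mul_assoc] using this
  rw [h, Subgroup.mem_bot, inv_mul_eq_one] at h1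
  rw [h1]; group

/-- if all lifts of a generating pair generate conjugate complements, the abelian subgroup is trivial -/
theorem eq_bot_of_lifts (hN : N ⊴ ⊤) {x y : G} (h : L ⊓ N = ⊥) (hx : x ∈ L) (hy : y ∈ L)
    (hc : ∀ u ∈ N, ∀ v ∈ N, ∃ n ∈ N, x * u ∈ cj n L ∧ y * v ∈ cj n L) : N = ⊥ := by
  have h1 : ♯N ≤ ♯(N ⊓ C₁⟦x⟧ : Subgroup G) := by
    refine Nat.card_le_card_of_surjective (fun n : (N ⊓ C₁⟦x⟧ : Subgroup G) =>
      (⟨y⁻¹ * n * y⁻¹⁻¹ * n⁻¹, mul_mem (hN.conj_mem (mem_top _) n.2.1) (inv_mem n.2.1)⟩ : N)) fun v => ?_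
    obtain ⟨n, hn, h2, h3⟩ := hc 1 (one_mem N) v v.2
    have h4 := eq_conj_of_compl hN h hn hx h2 (by simp)
    have h5 := eq_conj_of_compl hN h hn hy h3 (by simp)
    refine ⟨⟨n, hn, mem_cent1.2 ?_⟩, Subtype.ext ?_⟩
    · rw [mul_one] at h4
      conv_rhs => rw [h4]
      group
    · simp only [inv_inv, mul_assoc, inv_mul_eq_iff_eq_mul]
      rw [h5]; simp [mul_assoc]
  have h2 := (eq_of_le_card inf_le_left h1).ge.trans inf_le_right
  refine eq_bot_iff.2 fun u hu => ?_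
  obtain ⟨n, hn, h3, -⟩ := hc u hu 1 (one_mem N)
  have h4 := eq_conj_of_compl hN h hn hx h3 (by simpa using hu)
  rw [mem_cent1.1 (h2 hn)] at h4
  simpa using h4

theorem inf_cent_le_of_min (hN : N ⊴ ⊤) (hT : T ⊴ ⊤) (hmin : ∀ M : Subgroup G, M ⊴ ⊤ → M ≠ ⊥ → N ≤ M)
    (h0 : N ≠ ⊥) (h1 : IsPi πᶜ N) (h2 : PiNat π (N.relIndex T)) : T ⊓ C⟦N⟧ ≤ N := by
  set C := T ⊓ C⟦N⟧
  have hC : C ⊴ ⊤ := hT.inf_cent hN.norm
  have hZ : IsPiHallOf πᶜ (N ⊓ C) C := Hall.mk inf_le_right (h1.inf_left _) (by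
    rw [compl_compl, inf_relIndex_right]
    exact h2.of_dvd (relIndex_dvd_of_norm inf_le_left (le_top.trans hN.norm)))
  obtain ⟨E, hE⟩ := Hall.exists_compl hZ (NormalIn.inf_of_norm (le_top.trans hN.norm))
  have hEn : E ⊴ C := ⟨Compl.right_le hE, (Compl.sup_eq hE).ge.trans (sup_le (norm_of_cent (cent_symm
    ((Compl.right_le hE).trans (inf_le_right.trans (cent_anti inf_le_left))))) (le_norm_self E))⟩
  by_cases h : E = ⊥
  · exact (Compl.sup_eq hE).ge.trans (sup_le inf_le_left (h ▸ bot_le))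
  · exact absurd (((Hall.isPi (Hall.compl' hZ hE)).of_le
      (hmin E (Hall.normalIn_trans (Hall.compl' hZ hE) hEn hC) h)).eq_bot h1) h0

theorem two_gen [hp : Fact p.Prime] (G : Type u) [Group G] [Finite G] (hG : IsPSolvable p G) (k : ℕ)
    (hk : low p k (⊤ : Subgroup G) ≠ ⊥) : ∃ x y : G, low p k (closure {x, y}) ≠ ⊥ := by
  induction hn : Nat.card G using Nat.strong_induction_on generalizing G k with
  | _ n ih =>
  have IH1 : ∀ (j : ℕ) (M : Subgroup G), M ⊴ ⊤ → M ≠ ⊥ → ¬ low p j ⊤ ≤ M →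
      ∃ x y : G, ¬ low p j (closure {x, y}) ≤ M := fun j M hM h0 h => by
    haveI := hM.normal
    obtain ⟨x, y, hxy⟩ := ih _ (hn ▸ card_quot_lt M h0) (G ⧸ M) (H9.isPSolvable_quotient hG M) j (by
      rwa [← map_top_of_surjective _ (QuotientGroup.mk'_surjective M), ← map_low, Ne, Subgroup.map_eq_bot_iff,
        QuotientGroup.ker_mk']) rfl
    obtain ⟨x, rfl⟩ := QuotientGroup.mk'_surjective M x
    obtain ⟨y, rfl⟩ := QuotientGroup.mk'_surjective M y
    refine ⟨x, y, ?_⟩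
    rwa [← Set.image_pair, ← MonoidHom.map_closure, ← map_low, Ne, Subgroup.map_eq_bot_iff,
      QuotientGroup.ker_mk'] at hxy
  by_contra! hcon
  have hsub : ∀ M : Subgroup G, M ≠ ⊤ → low p k M = ⊥ := fun M hM => by
    by_contra h
    obtain ⟨x, y, hxy⟩ := ih _ (hn ▸ card_top' (G := G) ▸ card_lt hM.lt_top) M (H9.isPSolvable_subgroup hG M) k (by
      rwa [Ne, ← Subgroup.map_eq_bot_iff_of_injective _ M.subtype_injective, map_low, map_top_subtype]) rfl
    refine hxy ?_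
    rw [← Subgroup.map_eq_bot_iff_of_injective _ M.subtype_injective, map_low, MonoidHom.map_closure,
      Set.image_pair]
    exact hcon _ _
  have hmin : ∀ M : Subgroup G, M ⊴ ⊤ → M ≠ ⊥ → low p k ⊤ ≤ M := fun M hM h0 => by
    by_contra h
    obtain ⟨x, y, hxy⟩ := IH1 k M hM h0 h
    exact hxy (hcon x y ▸ bot_le)
  obtain ⟨x₀, -, hx₀⟩ := exists_ne_one hk
  have hx₁ : closure {x₀, x₀} ≠ ⊥ := ne_bot_of_mem (subset_closure (Set.mem_insert _ _)) hx₀
  rcases k with _ | k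
  · exact hx₁ (hcon x₀ x₀)
  set π := sig p k with hπ
  set T := low p k (⊤ : Subgroup G) with hT
  set N := low p (k + 1) (⊤ : Subgroup G) with hN
  have hNn : N ⊴ ⊤ := NormalIn.of_normal N
  have hTn : T ⊴ ⊤ := NormalIn.of_normal T
  have hNT : N ≤ T := res_le _ _
  have h2 : PiNat π (N.relIndex T) := piNat_res _ _
  have h1 : IsPi πᶜ N := by
    haveI : Nontrivial G := ⟨x₀, 1, hx₀⟩
    obtain ⟨W, h3, h4, h5⟩ := isPi_cases hG k
    have := hmin W (NormalIn.of_normal W) h4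
    exact (h5.resolve_left fun h => hk (res_eq_bot_of_isPi (h.of_le this))).of_le this
  have hTN : ¬ T ≤ N := fun h => by
    rcases k with _ | k
    · exact hx₁ (eq_bot_iff.2 ((le_res le_rfl (h1.of_le (le_top.trans h))).trans (hcon x₀ x₀).le))
    · exact hk (eq_bot_iff.2 (hNT.trans (res_eq_bot_of_isPi (PiNat.compl_compl.1 (h1.of_le h))).le))
  have hC := inf_cent_le_of_min hNn hTn hmin hk h1 h2
  have hpi : ∀ M : Subgroup G, M ≠ ⊤ → IsPi π (low p k M) := fun M hM => res_eq_bot_iff.1 (hsub M hM)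
  have hcov : ∀ M : Subgroup G, N ⊔ M = ⊤ → N ⊔ low p k M = T := fun M hM => by
    refine le_antisymm (sup_le hNT (low_mono k le_top)) ?_
    have h3 : M.map (QuotientGroup.mk' N) = (⊤ : Subgroup G).map (QuotientGroup.mk' N) := by
      rw [← hM, Subgroup.map_sup, (Subgroup.map_eq_bot_iff N).2 (QuotientGroup.ker_mk' N).ge, bot_sup_eq]
    have h4 : T.map (QuotientGroup.mk' N) ≤ (low p k M).map (QuotientGroup.mk' N) := by
      rw [map_low, map_low, h3]
    rwa [Subgroup.map_le_map_iff, QuotientGroup.ker_mk', sup_comm] at h4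
  have hsol : Group.IsSolvable N := by
    rcases sig_cases p k with h | h
    swap
    · rw [hπ, h, compl_compl] at h1
      exact sol_of_pgroup h1.isPGroup
    rw [← hπ] at h
    obtain ⟨S, hS⟩ := exists_sylowOf p T
    have hSπ : IsPi π S := h ▸ Hall.isPi hS
    have hSN : S ≤ N⟦N⟧ := le_top.trans hNn.norm
    have h3 : ¬ N ≤ C⟦S⟧ := fun h3 => by
      have := (hSπ.eq_bot (h1.of_le ((le_inf (Hall.le hS) (cent_symm h3)).trans hC)))
      exact hTN ((h ▸ (Hall.eq_bot_iff hS).1 this : IsPi πᶜ T).le_of_relIndex (PiNat.compl_compl.2 h2))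
    obtain ⟨q, hq, Q, hQ, hSQ, h4⟩ : ∃ q : ℕ, q.Prime ∧ ∃ Q, SylowOf q Q N ∧ S ≤ N⟦Q⟧ ∧ ¬ Q ≤ C⟦S⟧ := by
      by_contra! h4
      refine h3 (le_of_forall_sylow fun q hq _ => ?_)
      haveI := Fact.mk hq
      obtain ⟨Q, h5, h6⟩ := exists_inv_sylow q hSN (hSπ.coprime h1).symm (Or.inl (sol_of_pgroup (Hall.isPGroup hS)))
      exact ⟨Q, h5, h4 q hq Q h5 h6⟩
    haveI := Fact.mk hq
    by_cases hM : N⟦Q⟧ = ⊤
    · exact sol_of_le (sol_of_pgroup (Hall.isPGroup hQ)) (hmin Q ⟨le_top, hM.ge⟩ fun h => h4 (h ▸ bot_le))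
    have h5 := hcov _ (by simpa using Hall.frattini hQ hNn)
    have h6 : S ≤ N⟦low p k N⟦Q⟧⟧ := norm_low k (norm_of_le hSQ)
    have h7 : low p k N⟦Q⟧ ≤ S := Hall.le_of_norm (h ▸ hS) (hpi _ hM) (low_mono k le_top) (Or.inr h6)
    have h8 : S ≤ low p k N⟦Q⟧ := by
      have := modular_right (Or.inr (le_top.trans hNn.norm)) h7
      rw [h5, h1.inf_eq_bot' hSπ, bot_sup_eq, inf_eq_right.2 (Hall.le hS)] at this
      exact this.le
    refine absurd (cent_of_coprime ?_ hSQ (hSπ.coprime (h1.of_le (Hall.le hQ))).symm) h4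
    rw [le_antisymm h8 h7]
    exact norm_low k (norm_of_le (le_norm_self Q))
  have hab : N ≤ C⟦N⟧ := by
    rw [← commg_eq_bot]
    by_contra h
    exact (der_lt_of_sol hsol hk).not_ge (hmin _ hNn.der h)
  have hW : N ⊓ C⟦T⟧ = ⊥ := by
    by_contra h
    exact hTN ((le_inf le_rfl (cent_symm ((hmin _ (hNn.inf_cent hTn.norm) h).trans inf_le_right))).trans hC)
  obtain ⟨x, y, hxy⟩ := IH1 k N hNn hk hTN
  have hL : ∀ u ∈ N, ∀ v ∈ N, N ⊔ closure {x * u, y * v} = ⊤ := fun u hu v hv => by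
    by_contra hM
    have h3 : closure {x, y} ≤ N ⊔ closure {x * u, y * v} := by
      rw [closure_le, Set.insert_subset_iff, Set.singleton_subset_iff]
      exact ⟨(mul_mem_cancel_right (mem_sup_left hu)).1 (mem_sup_right (subset_closure (Set.mem_insert _ _))),
        (mul_mem_cancel_right (mem_sup_left hv)).1 (mem_sup_right (subset_closure (by simp)))⟩
    refine hxy ((low_mono k h3).trans ((le_inf (low_mono k le_top) ?_).trans hC))
    exact cent_of_coprime (le_top.trans hNn.norm) (norm_low k (norm_of_le le_sup_left)) ((hpi _ hM).coprime h1)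
  have hLt : ∀ a b : G, closure {a, b} ≠ ⊤ := fun a b h => hk (by rw [hN, ← h]; exact hcon a b)
  have hcompl : ∀ L : Subgroup G, L ≠ ⊤ → N ⊔ L = ⊤ →
      L ⊓ N = ⊥ ∧ IsComplIn N (low p k L) T ∧ N⟦low p k L⟧ = L := fun L h3 h4 => by
    have hE := hpi L h3
    have h5 := hcov L h4
    have h6 : L ≤ N⟦low p k L⟧ := norm_low k (le_norm_self L)
    refine ⟨?_, Compl.of_norm (Or.inr (le_top.trans hNn.norm)) h5 (h1.inf_eq_bot' hE), ?_⟩
    · by_contra h
      have := hmin (L ⊓ N) ⟨le_top, h4.ge.trans (sup_le (norm_of_cent (hab.trans (cent_anti inf_le_right)))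
        (norm_inf (le_norm_self L) (le_top.trans hNn.norm)))⟩ h
      exact h3 (by rw [← h4, sup_eq_right.2 (this.trans inf_le_left)])
    · have := modular_right (Or.inr (le_top.trans hNn.norm)) h6
      rw [h4, top_inf_eq, coprime_inf_norm (le_top.trans hNn.norm) (h1.coprime' hE)] at this
      rw [this, sup_eq_right]
      refine le_trans ?_ (hW.le.trans bot_le)
      rw [← h5, cent_sup]
      exact le_inf inf_le_left (le_inf (inf_le_left.trans hab) inf_le_right)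
  have h0 := hL 1 (one_mem _) 1 (one_mem _)
  rw [mul_one, mul_one] at h0
  obtain ⟨h3, h4, h5⟩ := hcompl _ (hLt x y) h0
  refine hk (eq_bot_of_lifts (x := x) (y := y) hNn h3 (subset_closure (Set.mem_insert _ _)) (subset_closure (by simp))
    fun u hu v hv => ?_)
  obtain ⟨-, h6, h7⟩ := hcompl _ (hLt _ _) (hL u hu v hv)
  obtain ⟨n, hn, h8⟩ := compl_exists_cj_eq (hNn.of_le hNT le_top) h6 h4 (h1.coprime' (hpi _ (hLt _ _))) (Or.inr hsol)
  refine ⟨n, hn, ?_⟩
  rw [← h5, cj_norm, h8, h7]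
  exact ⟨subset_closure (Set.mem_insert _ _), subset_closure (by simp)⟩

end Cfsg.Agent.H25
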