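import Cfsg.Agent.H25.NormSum

/-! Solvable groups all of whose nontrivial elements have order `p` or `q`. -/

set_option autoImplicit false

namespace Cfsg.Agent.H25
open Subgroup Cfsg.Agent.H20 Cfsg.Agent.H21 Cfsg.Agent.BG

variable {G : Type*} [Group G] [Finite G] {p q : ℕ}

omit [Finite G] in
theorem comm_of_sq {H : Subgroup G} (h : ∀ x ∈ H, x ^ 2 = 1) : IsMulCommutative H := by
  refine ⟨⟨fun a b => Subtype.ext ?_⟩⟩
  have h1 := h _ (a * b).2
  have h2 := h _ a.2
  have h3 := h _ b.2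
  rw [pow_two] at h1 h2 h3
  calc (a : G) * b = a * ((a * b : H) * (a * b : H)) * b := by rw [h1, mul_one]
    _ = ((a : G) * a) * (b * a) * (b * b) := by simp only [coe_mul, mul_assoc]
    _ = b * a := by rw [h2, h3, one_mul, mul_one]

theorem card_eq_prime_of_regular (hq : q.Prime) {H R : Subgroup G} (hH : H ≠ ⊥) (hR : R ≠ ⊥) (hn : R ≤ N⟦H⟧)
    (h : Semiregular H R) (he : ∀ x ∈ R, x ^ q = 1) : ♯R = q := by
  haveI := Fact.mk hq
  have hp : IsPGroup q R := fun x => ⟨1, Subtype.ext (by rw [pow_one]; exact he _ x.2)⟩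
  have hc : IsCyclic R := by
    rcases hq.eq_two_or_odd' with rfl | ho
    · exact regular_abelian_cyclic (comm_of_sq he) hH hn h
    · obtain ⟨k, hk⟩ := hp.exists_card_eq
      exact odd_regular_pgroup_cyclic hp (hk ▸ ho.pow) hH hn h
  obtain ⟨x, hx⟩ := hc.exists_ofOrder_eq_natCard
  have h1 : ♯R ∣ q := hx ▸ orderOf_dvd_of_pow_eq_one (Subtype.ext (he _ x.2))
  exact ((Nat.dvd_prime hq).1 h1).resolve_left (fun h => hR (card_eq_one.1 h))

theorem frob_of_prime_orders (hs : Group.IsSolvable G) (hp : p.Prime) (hq : q.Prime) (hne : p ≠ q)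
    (h : ∀ g : G, g ≠ 1 → orderOf g = p ∨ orderOf g = q) (h0 : piCoreOf {p} (⊤ : Subgroup G) ≠ ⊥)
    (hd : q ∣ Nat.card G) : ∃ R : Subgroup G, Frob ⊤ (piCoreOf {p} ⊤) R ∧ ♯R = q := by
  haveI := Fact.mk hp
  haveI := Fact.mk hq
  have hE : NoEdge {p} G := by
    intro x y h1 h2 h3 h4 hc
    have h5 : orderOf x = p := h3
    have h6 : orderOf y = q := (h y (by rintro rfl; exact Nat.not_prime_one (orderOf_one (G := G) ▸ h2))).resolve_left h4
    have h7 := orderOf_mul_primes hp hq hne h5 h6 hc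
    have h8 := hp.one_lt
    have h9 := hq.one_lt
    rcases h (x * y) (fun e => by rw [e, orderOf_one] at h7; nlinarith) with e | e <;> rw [e] at h7 <;> nlinarith
  haveI := (piCoreOf_normalIn {p} (⊤ : Subgroup G)).normal
  have hH := isPi_piCoreOf {p} (⊤ : Subgroup G)
  obtain ⟨K, R, hK, hR, hRH, -⟩ := hE.structure hs rfl h0 (by
    intro e
    exact hne (hH q hq (by rw [e, card_top']; exact hd)).symm)
  generalize piCoreOf {p} (⊤ : Subgroup G) = H at *
  have hRq : ∀ x ∈ R, x ≠ 1 → orderOf x = q := fun x hx h1 => (h x h1).resolve_left (fun e =>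
    hRH.isPi p hp (e ▸ orderOf_dvd_card_of_mem hx) rfl)
  have hcard := card_eq_prime_of_regular hq hR.ker_ne hR.compl_ne hR.norm hR.reg (fun x hx => by
    by_cases h1 : x = 1
    · rw [h1, one_pow]
    · rw [← hRq x hx h1, pow_orderOf_eq_one])
  refine ⟨R, ?_, hcard⟩
  by_cases hK1 : K = ⊤
  · exact hK1 ▸ hR
  exfalso
  have hS : SylowOf q R K := sylowOf_mk hR.compl_le (isPGroup_of_card_prime hcard) (fun hd => by
    have h1 := card_mul_relIndex hR.compl_le
    rw [← hR.card, mul_comm] at h1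
    rw [Nat.eq_of_mul_eq_mul_right Nat.card_pos h1] at hd
    exact hne (hH q hq hd).symm)
  obtain ⟨c, hc, hcK⟩ : ∃ c ∈ N⟦R⟧, c ∉ K := by
    by_contra hh
    push Not at hh
    refine hK1 (top_le_iff.1 (fun g _ => ?_))
    obtain ⟨n, hn, y, hy, rfl⟩ := hS.frattini_mem (hK.norm (mem_top g))
    exact mul_mem hn (hh y hy)
  have hout : ∀ x, x ∉ K → orderOf x = p := fun x hx =>
    (h x (by rintro rfl; exact hx (one_mem _))).resolve_right (fun e => hx (zpowers_le.1
      (IsPi.le_of_normalIn (π := {p}ᶜ) (isPi_of_card_prime hq (by rw [Nat.card_zpowers, e]) hne.symm) le_top hK.norm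
        (hRH.piNat.of_dvd (relIndex_dvd_of_le_left _ hR.compl_le)))))
  obtain ⟨r, V, -, hV, hVH, hVn, hVe⟩ := exists_elem_normalIn (NormalIn.of_normal H) (sol_of_le (sol_top_iff.2 hs) le_top) h0
  haveI := hVn.normal
  obtain ⟨v, hv, hv1⟩ := exists_ne_one hV.1
  have h1 := pow_card_eq_one_of_coset hVe.1 hp.pos hc (fun i h1 h2 r hr e => by
      by_contra h3
      have h4 : orderOf (c ^ i) = p := by
        rw [← hout c hcK]
        exact Nat.Coprime.orderOf_pow (by rw [hout c hcK]; exact (Nat.coprime_of_lt_prime h1.ne' h2 hp))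
      exact hE (c ^ i) r (h4 ▸ hp) (hRq r hr h3 ▸ hq) h4 (by rw [hRq r hr h3]; exact hne.symm) e.symm)
    (eq_bot_iff.2 (hR.cent_eq ▸ inf_le_inf_right _ hVH)) (fun w hw => by
      rw [← hout (w * c) (fun e => hcK ((mul_mem_cancel_left (hR.ker_le (hVH hw))).1 e)), pow_orderOf_eq_one]) hv
  have h2 : orderOf v ∣ q := hcard ▸ orderOf_dvd_of_pow_eq_one h1
  have h3 : orderOf v = q := ((Nat.dvd_prime hq).1 h2).resolve_left (by simpa using hv1)
  exact hne (hH q hq (h3 ▸ orderOf_dvd_card_of_mem (hVH hv))).symm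

end Cfsg.Agent.H25
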