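import Cfsg.Agent.H29.Quad9
import Cfsg.Agent.H21.Base5

/-! Partners of quadratic elements: conjugacy under the chain stabilizer, existence. -/

set_option autoImplicit false

namespace Cfsg.Agent.H25.QB

open Subgroup Cfsg.Agent.H20 Cfsg.Agent.H21 Cfsg.Agent.H29 Module Polynomial
open scoped commutatorElement

/-- Glauberman's fixed point lemma for an explicit action -/
theorem glau {Γ Ω : Type*} [Group Γ] [Finite Γ] (act : Γ → Ω → Ω) (h1 : ∀ x, act 1 x = x)
    (hm : ∀ g h x, act (g * h) x = act g (act h x)) {A K : Subgroup Γ} (hA : A ≤ N⟦K⟧)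
    (hcop : (♯A).Coprime (♯K)) (hs : Group.IsSolvable A ∨ Group.IsSolvable K) (x : Ω)
    (h : ∀ a ∈ A, ∃ k ∈ K, act a x = act k x) : ∃ k ∈ K, ∀ a ∈ A, act a (act k x) = act k x := by
  let H : Subgroup Γ :=
    { carrier := {g | act g x = x}
      mul_mem' := fun {a b} ha hb => by
        show act (a * b) x = x
        rw [hm, hb, ha]
      one_mem' := h1 x
      inv_mem' := fun {a} ha => by
        show act a⁻¹ x = x
        conv_lhs => rw [← show act a x = x from ha]
        rw [← hm, inv_mul_cancel, h1] }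
  obtain ⟨n, hn, e⟩ := exists_le_cj_of_coprime (U := A) (H := H ⊓ N⟦K⟧) hA inf_le_right hcop hs
    (fun a ha => by
      obtain ⟨k, hk, e⟩ := h a ha
      rw [show a = k * (k⁻¹ * a) by group]
      refine mul_mem (mem_sup_left hk) (mem_sup_right ⟨?_, mul_mem (le_normalizer (inv_mem hk)) (hA ha)⟩)
      show act (k⁻¹ * a) x = x
      rw [hm, e, ← hm, inv_mul_cancel, h1])
  refine ⟨n, hn, fun a ha => ?_⟩
  have : act (n⁻¹ * a * n) x = x := (mem_cj.1 (e ha)).1
  conv_rhs => rw [← this]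
  rw [← hm, ← hm]
  congr 1
  group

section ring
variable {k : Type*} [Field k] {A : Type*} [Ring A] [Algebra k A] {x y y' : A}

/-- the torus of the pair -/
def tor0 (hx : x * x = 0) (hy : y * y = 0) (e1 : x * y * x = x) (e2 : y * x * y = y) : kˣ →* A where
  toFun c := 1 + ((c : k) - 1) • (x * y) + (((c⁻¹ : kˣ) : k) - 1) • (y * x)
  map_one' := by simp
  map_mul' c d := by
    have a1 : x * y * (x * y) = x * y := by rw [← mul_assoc, e1]
    have a2 : y * x * (y * x) = y * x := by rw [← mul_assoc, e2]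
    have a3 : x * y * (y * x) = 0 := by rw [mul_assoc, ← mul_assoc y, hy]; simp
    have a4 : y * x * (x * y) = 0 := by rw [mul_assoc, ← mul_assoc x, hx]; simp
    simp only [mul_add, add_mul, one_mul, mul_one, smul_mul_smul_comm, a1, a2, a3, a4, smul_zero,
      Units.val_mul, mul_inv]
    module

noncomputable def tor (hx : x * x = 0) (hy : y * y = 0) (e1 : x * y * x = x) (e2 : y * x * y = y) :
    kˣ →* Aˣ := (tor0 hx hy e1 e2).toHomUnits

variable (hx : x * x = 0) (hy : y * y = 0) (e1 : x * y * x = x) (e2 : y * x * y = y)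

theorem tor_val (c : kˣ) : (tor hx hy e1 e2 c : A) =
    1 + ((c : k) - 1) • (x * y) + (((c⁻¹ : kˣ) : k) - 1) • (y * x) := rfl

theorem tor_mul_x (c : kˣ) : (tor hx hy e1 e2 c : A) * x = (c : k) • x := by
  rw [tor_val, add_mul, add_mul, smul_mul_assoc, smul_mul_assoc, e1, mul_assoc, hx]
  simp [sub_smul]

theorem x_mul_tor (c : kˣ) : x * (tor hx hy e1 e2 c : A) = ((c⁻¹ : kˣ) : k) • x := by
  rw [tor_val, mul_add, mul_add, mul_smul_comm, mul_smul_comm, ← mul_assoc, ← mul_assoc, e1, hx]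
  simp [sub_smul]

theorem eq_of_tor (hy' : y' * y' = 0) (e1' : x * y' * x = x) (e2' : y' * x * y' = y') {c : kˣ}
    (hc : (c : k) ^ 2 ≠ 1) (h : (tor hx hy e1 e2 c : A) = tor hx hy' e1' e2' c) : y = y' := by
  rw [tor_val, tor_val, add_assoc, add_assoc, add_right_inj] at h
  have c1 : (c : k) - 1 ≠ 0 := fun e => hc (by rw [sub_eq_zero.1 e, one_pow])
  have c2 : ((c⁻¹ : kˣ) : k) - 1 ≠ 0 := fun e => hc (by
    have := sub_eq_zero.1 e
    rw [Units.val_inv_eq_inv_val, inv_eq_one] at this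
    rw [this, one_pow])
  have c3 : ((c : k) - 1) - (((c⁻¹ : kˣ) : k) - 1) ≠ 0 := fun e => hc (by
    have : (c : k) = ((c⁻¹ : kˣ) : k) := by linear_combination e
    rw [sq]
    nth_rewrite 2 [this]
    simp)
  have f1 := congrArg (fun z => y * z * y') h
  have f2 := congrArg (fun z => z * y') h
  have f3 := congrArg (fun z => y * z) h
  simp only [mul_add, add_mul, mul_smul_comm, smul_mul_assoc, ← mul_assoc, hy, e2, zero_mul,
    smul_zero, add_zero] at f1 f2 f3
  have g1 : y * x * y' * y' = 0 := by rw [mul_assoc, hy', mul_zero]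
  have g2 : y * y' * x * y' = y * y' := by rw [mul_assoc, mul_assoc, ← mul_assoc y', e2']
  have g3 : x * y' * y' = 0 := by rw [mul_assoc, hy', mul_zero]
  rw [g1, g2, smul_zero, zero_add, ← sub_eq_zero, ← sub_smul] at f1
  have z : y * y' = 0 := by
    have := congrArg (fun t => (((c : k) - 1) - (((c⁻¹ : kˣ) : k) - 1))⁻¹ • t) f1
    simpa only [smul_smul, inv_mul_cancel₀ c3, one_smul, smul_zero] using this
  rw [g3, e2', mul_assoc x, z] at f2
  rw [z] at f3
  simp only [mul_zero, smul_zero, zero_add, zero_mul, add_zero] at f2 f3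
  have k2 : y * x * y' = y' := by
    have := congrArg (fun t => (((c⁻¹ : kˣ) : k) - 1)⁻¹ • t) f2
    simpa only [smul_smul, inv_mul_cancel₀ c2, one_smul] using this
  have k3 : y = y * x * y' := by
    have := congrArg (fun t => ((c : k) - 1)⁻¹ • t) f3
    simpa only [smul_smul, inv_mul_cancel₀ c1, one_smul] using this
  rw [k3, k2]

end ring

section gen
variable {k : Type*} [Field k] {M : Type*} [AddCommGroup M] [Module k M] {G : Subgroup (End k M)ˣ}

/-- conjugation of endomorphisms -/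
abbrev cn (g : (End k M)ˣ) (x : End k M) : End k M := (g : End k M) * x * ((g⁻¹ : (End k M)ˣ) : End k M)

theorem cn_one (x : End k M) : cn 1 x = x := by simp [cn]
theorem cn_mul (g h : (End k M)ˣ) (x : End k M) : cn (g * h) x = cn g (cn h x) := by
  simp [mul_assoc]
theorem cn_mul' (g : (End k M)ˣ) (x y : End k M) : cn g (x * y) = cn g x * cn g y := by
  simp [mul_assoc]
theorem cn_eq_iff {g : (End k M)ˣ} {x : End k M} : cn g x = x ↔ (g : End k M) * x = x * g :=
  Units.mul_inv_eq_iff_eq_mul g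
theorem cn_ne_zero {g : (End k M)ˣ} {x : End k M} (h : x ≠ 0) : cn g x ≠ 0 := by simpa using h
theorem cn_sq {x : End k M} (hx : x * x = 0) (g : (End k M)ˣ) : cn g x * cn g x = 0 := by
  rw [← cn_mul', hx]; simp
theorem U1_cn {x : End k M} (hx : x * x = 0) (g : (End k M)ˣ) :
    U1 (cn g x) (cn_sq hx g) = g * U1 x hx * g⁻¹ := Units.ext (U1_conj hx g).symm

theorem QT_conjN {x : End k M} (h : x ∈ QT G) {g : (End k M)ˣ} (hg : g ∈ N⟦G⟧) : cn g x ∈ QT G := by
  refine ⟨cn_sq h.1 g, fun c => ?_⟩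
  obtain ⟨u, hu, e⟩ := h.2 c
  exact ⟨g * u * g⁻¹, H21.conj_mem_of_norm hg hu, by simp [e, mul_add, add_mul]⟩

theorem QTd_conjN [FiniteDimensional k M] {x : End k M} (h : x ∈ QTd G) {g : (End k M)ˣ}
    (hg : g ∈ N⟦G⟧) : cn g x ∈ QTd G :=
  QTd.of_le h (QT_conjN h.1 hg) (cn_ne_zero h.2.1) (rk_conj x g).le

/-- action on pairs of submodules -/
def sm (g : (End k M)ˣ) (W : Submodule k M × Submodule k M) : Submodule k M × Submodule k M :=
  (W.1.comap ((g⁻¹ : (End k M)ˣ) : End k M), W.2.comap ((g⁻¹ : (End k M)ˣ) : End k M))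

theorem sm_one (W : Submodule k M × Submodule k M) : sm 1 W = W := by
  ext <;> simp [sm]
theorem sm_mul (g h : (End k M)ˣ) (W : Submodule k M × Submodule k M) :
    sm (g * h) W = sm g (sm h W) := by
  ext <;> simp [sm]
theorem sm_inv {g : (End k M)ˣ} {W W' : Submodule k M × Submodule k M} (h : sm g W = W') :
    sm g⁻¹ W' = W := by rw [← h, ← sm_mul, inv_mul_cancel, sm_one]

/-- the chain of a square-zero endomorphism -/
def Ch (x : End k M) : Submodule k M × Submodule k M := (LinearMap.range x, LinearMap.ker x)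

theorem Ch_cn (g : (End k M)ˣ) (x : End k M) : Ch (cn g x) = sm g (Ch x) := by
  ext v
  · simp only [Ch, sm, LinearMap.mem_range, Submodule.mem_comap]
    constructor
    · rintro ⟨w, rfl⟩
      exact ⟨((g⁻¹ : (End k M)ˣ) : End k M) w, by simp [← Module.End.mul_apply, ← mul_assoc]⟩
    · rintro ⟨w, e⟩
      refine ⟨(g : End k M) w, ?_⟩
      rw [← Module.End.mul_apply, Units.inv_mul_cancel_right, Module.End.mul_apply, e,
        ← Module.End.mul_apply]
      simp
  · simp only [Ch, sm, LinearMap.mem_ker, Submodule.mem_comap]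
    constructor
    · intro h
      have := congrArg ((g⁻¹ : (End k M)ˣ) : End k M) h
      simpa [← Module.End.mul_apply, ← mul_assoc] using this
    · intro h
      simp [h]

theorem Ch_smul {c : k} (hc : c ≠ 0) (x : End k M) : Ch (c • x) = Ch x := by
  simp only [Ch]
  rw [LinearMap.range_smul _ _ hc, LinearMap.ker_smul _ _ hc]

theorem Ch_neg (x : End k M) : Ch (-x) = Ch x := by simp [Ch]

theorem EE_of_Ch {a x : End k M} (ha : a * a = 0) (hx : x ∈ QT G) (h : Ch x = Ch a) : x ∈ EE G a :=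
  EE.mk ha hx (congrArg Prod.snd h).ge (congrArg Prod.fst h).le

theorem Ch_of_EE [FiniteDimensional k M] {a x : End k M} (ha : a ∈ QTd G) (hx : x ∈ EE G a)
    (x0 : x ≠ 0) : Ch x = Ch a := Prod.ext (EE.range_eq ha hx x0) (EE.ker_eq ha hx x0)

variable (G) in
/-- the stabilizer of the chain of `x` -/
def Ug (x : End k M) (hx : x * x = 0) : Subgroup (End k M)ˣ where
  carrier := {g | g ∈ G ∧ (∀ v, (g : End k M) v - v ∈ (Ch x).2) ∧
    (∀ v ∈ (Ch x).2, (g : End k M) v - v ∈ (Ch x).1) ∧ ∀ v ∈ (Ch x).1, (g : End k M) v = v}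
  mul_mem' := by
    have hle : (Ch x).1 ≤ (Ch x).2 := mul_eq_zero_iff_range_le.1 hx
    rintro g h ⟨g1, g2, g3, g4⟩ ⟨h1, h2, h3, h4⟩
    refine ⟨mul_mem g1 h1, fun v => ?_, fun v hv => ?_, fun v hv => by simp [h4 v hv, g4 v hv]⟩
    · have := add_mem (g2 ((h : End k M) v)) (h2 v)
      simpa using this
    · have := add_mem (g3 ((h : End k M) v) (by simpa using add_mem (hle (h3 v hv)) hv)) (h3 v hv)
      simpa using this
  one_mem' := ⟨one_mem _, by simp, by simp, by simp⟩
  inv_mem' := by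
    rintro g ⟨g1, g2, g3, g4⟩
    have e : ∀ v, (g : End k M) (((g⁻¹ : (End k M)ˣ) : End k M) v) = v := fun v => by
      rw [← Module.End.mul_apply]; simp
    have a : ∀ v, ((g⁻¹ : (End k M)ˣ) : End k M) v - v ∈ (Ch x).2 := fun v => by
      have := neg_mem (g2 (((g⁻¹ : (End k M)ˣ) : End k M) v))
      rwa [e, neg_sub] at this
    refine ⟨inv_mem g1, a, fun v hv => ?_, fun v hv => ?_⟩
    · have := neg_mem (g3 (((g⁻¹ : (End k M)ˣ) : End k M) v) (by simpa using add_mem (a v) hv))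
      rwa [e, neg_sub] at this
    · conv_lhs => rw [← g4 v hv]
      rw [← Module.End.mul_apply]; simp

theorem Ug_le {x : End k M} {hx : x * x = 0} : Ug G x hx ≤ G := fun _ h => h.1

theorem Ug_cn {x : End k M} {hx : x * x = 0} {g : (End k M)ˣ} (h : g ∈ Ug G x hx) : cn g x = x := by
  rw [cn_eq_iff]
  ext v
  have h1 : (g : End k M) (x v) = x v := h.2.2.2 _ ⟨v, rfl⟩
  have h2 : x ((g : End k M) v - v) = 0 := h.2.1 v
  rw [map_sub, sub_eq_zero] at h2
  simp [h1, h2]

theorem Ug_cube {x : End k M} {hx : x * x = 0} {g : (End k M)ˣ} (h : g ∈ Ug G x hx) :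
    ((g : End k M) - 1) ^ 3 = 0 := by
  ext v
  have := h.2.2.2 _ (h.2.2.1 _ (h.2.1 v))
  simp only [pow_succ, pow_zero, one_mul, Module.End.mul_apply, LinearMap.sub_apply,
    Module.End.one_apply, LinearMap.zero_apply]
  rw [this, sub_self]

theorem norm_Ug [Finite (End k M)ˣ] {x : End k M} {hx : x * x = 0} {r : (End k M)ˣ} (hr : r ∈ N⟦G⟧)
    (h : sm r (Ch x) = Ch x) : r ∈ N⟦Ug G x hx⟧ := by
  have e : ∀ v, (r : End k M) (((r⁻¹ : (End k M)ˣ) : End k M) v) = v := fun v => by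
    rw [← Module.End.mul_apply]; simp
  have e' : ∀ v, ((r⁻¹ : (End k M)ˣ) : End k M) ((r : End k M) v) = v := fun v => by
    rw [← Module.End.mul_apply]; simp
  have i1 : ∀ v, ((r⁻¹ : (End k M)ˣ) : End k M) v ∈ (Ch x).1 ↔ v ∈ (Ch x).1 := fun v => by
    conv_rhs => rw [← h]
    rfl
  have i2 : ∀ v, ((r⁻¹ : (End k M)ˣ) : End k M) v ∈ (Ch x).2 ↔ v ∈ (Ch x).2 := fun v => by
    conv_rhs => rw [← h]
    rfl
  refine mem_norm_of_forall fun g hg => ⟨H21.conj_mem_of_norm hr hg.1, fun v => ?_, fun v hv => ?_,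
    fun v hv => ?_⟩
  · rw [← i2, map_sub]
    simpa [e'] using hg.2.1 (((r⁻¹ : (End k M)ˣ) : End k M) v)
  · rw [← i1, map_sub]
    simpa [e'] using hg.2.2.1 _ ((i2 v).2 hv)
  · simp [hg.2.2.2 _ ((i1 v).2 hv), e]

theorem tor_mem {x y : End k M} (hx : x ∈ QT G) (hy : y ∈ QT G) (e1 : x * y * x = x)
    (e2 : y * x * y = y) (c : kˣ) : tor hx.1 hy.1 e1 e2 c ∈ G := by
  have hx1 := QT.smul hx (c : k)
  have hy1 := QT.smul hy ((c⁻¹ : kˣ) : k)
  have hx2 := QT.neg hx
  have hy2 := QT.neg hy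
  have m : ∀ {a b : End k M} (ha : a ∈ QT G) (hb : b ∈ QT G), U1 a ha.1 * (U1 b hb.1)⁻¹ * U1 a ha.1 ∈ G :=
    fun ha hb => mul_mem (mul_mem (QT.U1_mem ha) (inv_mem (QT.U1_mem hb))) (QT.U1_mem ha)
  convert mul_mem (m hx1 hy1) (m hx2 hy2) using 1
  ext1
  rw [Units.val_mul, w_val hx1.1 hy1.1 (by simp [smul_smul, e1]), w_val hx2.1 hy2.1 (by simp [e1]), tor_val]
  obtain ⟨a0, a1, a2, a3, a4⟩ := partner_idem hx.1 hy.1 e1 e2
  simp only [smul_mul_smul_comm, Units.mul_inv, Units.inv_mul, one_smul, neg_mul_neg]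
  have b : x * y = (x * y + y * x) - y * x := by abel
  generalize hE : x * y + y * x = E at *
  simp only [mul_add, add_mul, mul_sub, sub_mul, one_mul, mul_one, smul_mul_assoc, mul_neg, a0, a1, a2,
    a3, a4, hx.1, hy.1, smul_zero]
  rw [b]
  module

end gen

end Cfsg.Agent.H25.QB
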