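import Cfsg.Agent.H25.QB1

/-! Partners of quadratic elements over the prime field. -/

set_option autoImplicit false

namespace Cfsg.Agent.H25.QB

open Subgroup Cfsg.Agent.H20 Cfsg.Agent.H21 Cfsg.Agent.H29 Module Polynomial
open scoped commutatorElement

theorem conj_of_coset {Γ : Type*} [Group Γ] [Finite Γ] {U : Subgroup Γ} {h h' : Γ} (hU : Group.IsSolvable U)
    (n1 : h ∈ N⟦U⟧) (c1 : (orderOf h).Coprime (♯U)) (c2 : (orderOf h').Coprime (♯U))
    (e : h⁻¹ * h' ∈ U) : ∃ u ∈ U, u * h * u⁻¹ = h' := by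
  have n2 : h' ∈ N⟦U⟧ := by simpa using mul_mem n1 (le_normalizer e)
  obtain ⟨u, hu, hle⟩ := exists_le_cj_of_coprime (U := zpowers h') (H := zpowers h) (zpowers_le.2 n2)
    (zpowers_le.2 n1) (by rwa [Nat.card_zpowers]) (Or.inr hU) (zpowers_le.2 (by
      rw [show h' = h * (h⁻¹ * h') by group]
      exact mul_mem (mem_sup_right (mem_zpowers h)) (mem_sup_left e)))
  have m1 : h⁻¹ * (u⁻¹ * h' * u) ∈ zpowers h :=
    mul_mem (inv_mem (mem_zpowers h)) (mem_cj.1 (hle (mem_zpowers h')))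
  have m2 : h⁻¹ * (u⁻¹ * h' * u) ∈ U := by
    rw [show h⁻¹ * (u⁻¹ * h' * u) = h⁻¹ * u⁻¹ * h * (h⁻¹ * h') * u by group]
    exact mul_mem (mul_mem (conj_mem_of_norm' n1 (inv_mem hu)) e) hu
  have := (inf_eq_bot_coprime (A := zpowers h) (B := U) (by rwa [Nat.card_zpowers])).le ⟨m1, m2⟩
  rw [mem_bot, inv_mul_eq_one] at this
  exact ⟨u, hu, by rw [this]; group⟩

variable {p : ℕ} [hp : Fact p.Prime] {M : Type*} [AddCommGroup M] [Module (ZMod p) M]
  {G : Subgroup (End (ZMod p) M)ˣ}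

instance finEnd [Finite M] : Finite (End (ZMod p) M) := DFunLike.finite _

theorem U1_pow {x : End (ZMod p) M} (hx : x * x = 0) (n : ℕ) :
    ((U1 x hx ^ n : (End (ZMod p) M)ˣ) : End (ZMod p) M) = 1 + (n : ZMod p) • x := by
  induction n with
  | zero => simp
  | succ n ih =>
    rw [pow_succ, Units.val_mul, ih, U1_val]
    simp [mul_add, add_mul, hx, add_smul, add_assoc, add_comm]

theorem mem_QT {x : End (ZMod p) M} (hx : x * x = 0) (h : U1 x hx ∈ G) : x ∈ QT G :=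
  ⟨hx, fun c => ⟨U1 x hx ^ c.val, pow_mem h _, by rw [U1_pow, ZMod.natCast_zmod_val]⟩⟩

theorem U1_pow_p {x : End (ZMod p) M} (hx : x * x = 0) : U1 x hx ^ p = 1 :=
  Units.ext (by rw [U1_pow]; simp)

theorem pgroup_U1 {x : End (ZMod p) M} (hx : x * x = 0) : IsPGroup p (zpowers (U1 x hx)) := by
  rintro ⟨_, n, rfl⟩
  refine ⟨1, Subtype.ext ?_⟩
  show (U1 x hx ^ n) ^ p ^ 1 = 1
  rw [pow_one, ← zpow_natCast, ← zpow_mul, mul_comm n, zpow_mul, zpow_natCast, U1_pow_p, one_zpow]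

theorem two_ne (h : 3 < p) : (2 : ZMod p) ≠ 0 := fun e => by
  have := Nat.le_of_dvd two_pos ((ZMod.natCast_eq_zero_iff 2 p).1 (by exact_mod_cast e))
  omega

theorem card_ne (h : 3 < p) : Nat.card (ZMod p) ≠ 3 := by rw [Nat.card_zmod]; omega

theorem Ug_pgroup (h3 : 3 < p) {x : End (ZMod p) M} {hx : x * x = 0} : IsPGroup p (Ug G x hx) := by
  intro g
  refine ⟨1, Subtype.ext (Units.ext ?_)⟩
  rcases subsingleton_or_nontrivial (End (ZMod p) M) with h | h
  · exact Subsingleton.elim _ _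
  have : CharP (End (ZMod p) M) p := charP_of_injective_algebraMap (algebraMap (ZMod p) _).injective p
  have e := sub_pow_char_of_commute (p := p) (Commute.one_right (g.1 : End (ZMod p) M))
  rw [pow_eq_zero_of_le h3.le (Ug_cube g.2), one_pow, eq_comm, sub_eq_zero] at e
  simpa using e

variable [Finite M] (h3 : 3 < p)
include h3

/-- partners are conjugate under the chain stabilizer -/
theorem partner_cn {x y y' : End (ZMod p) M} (hx : x ∈ QT G) (hy : y ∈ QT G) (hy' : y' ∈ QT G)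
    (e1 : x * y * x = x) (e2 : y * x * y = y) (e1' : x * y' * x = x) (e2' : y' * x * y' = y') :
    ∃ u ∈ Ug G x hx.1, cn u y = y' := by
  obtain ⟨c₀, c0, hc⟩ := exists_sq_ne_one (two_ne h3) (card_ne h3)
  set c : (ZMod p)ˣ := Units.mk0 c₀ c0
  have co : ∀ f : (ZMod p)ˣ →* (End (ZMod p) M)ˣ, (orderOf (f c)).Coprime (♯(Ug G x hx.1)) := by
    intro f
    refine (coprime_of_isPGroup (Ug_pgroup h3) ?_).symm
    refine Nat.Coprime.coprime_dvd_left ((orderOf_map_dvd f c).trans (orderOf_dvd_natCard c)) ?_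
    rw [Nat.card_eq_fintype_card, ZMod.card_units]
    exact (Nat.coprime_self_sub_left hp.out.one_le).2 (Nat.coprime_one_left _)
  obtain ⟨h, hh⟩ : ∃ h, h = tor hx.1 hy.1 e1 e2 c := ⟨_, rfl⟩
  obtain ⟨h', hh'⟩ : ∃ h, h = tor hx.1 hy'.1 e1' e2' c := ⟨_, rfl⟩
  have hG : h ∈ G := hh ▸ tor_mem hx hy e1 e2 c
  have hG' : h' ∈ G := hh' ▸ tor_mem hx hy' e1' e2' c
  have j1 : (h : End (ZMod p) M) * x = (c : ZMod p) • x := by rw [hh, tor_mul_x]
  have j1' : (h' : End (ZMod p) M) * x = (c : ZMod p) • x := by rw [hh', tor_mul_x]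
  have j2 : x * (h : End (ZMod p) M) = ((c⁻¹ : (ZMod p)ˣ) : ZMod p) • x := by rw [hh, x_mul_tor]
  have j2' : x * (h' : End (ZMod p) M) = ((c⁻¹ : (ZMod p)ˣ) : ZMod p) • x := by rw [hh', x_mul_tor]
  have i1 : ((h⁻¹ : (End (ZMod p) M)ˣ) : End (ZMod p) M) * x = ((c⁻¹ : (ZMod p)ˣ) : ZMod p) • x := by
    rw [hh, ← map_inv, tor_mul_x]
  have i2 : x * ((h⁻¹ : (End (ZMod p) M)ˣ) : End (ZMod p) M) = (c : ZMod p) • x := by
    rw [hh, ← map_inv, x_mul_tor, inv_inv]
  have n1 : h ∈ N⟦Ug G x hx.1⟧ := norm_Ug (le_normalizer hG) (by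
    rw [← Ch_cn, cn, mul_assoc, i2, mul_smul_comm, j1, Ch_smul c.ne_zero, Ch_smul c.ne_zero])
  have d : ∀ v, ((h⁻¹ * h' : (End (ZMod p) M)ˣ) : End (ZMod p) M) v - v =
      (((h⁻¹ : (End (ZMod p) M)ˣ) : End (ZMod p) M) * ((h' : End (ZMod p) M) - h)) v := fun v => by
    rw [mul_sub, Units.inv_mul]; rfl
  obtain ⟨u, hu, e⟩ := conj_of_coset (h' := h') (sol_of_pgroup (Ug_pgroup h3)) n1 (hh ▸ co _) (hh' ▸ co _)
    ⟨mul_mem (inv_mem hG) hG', fun v => by
      show x _ = 0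
      rw [d, ← Module.End.mul_apply, ← mul_assoc, i2, smul_mul_assoc, mul_sub, j2, j2', sub_self,
        smul_zero, LinearMap.zero_apply], fun v hv => by
      have hv : x v = 0 := hv
      rw [d]
      refine ⟨((c⁻¹ : (ZMod p)ˣ) : ZMod p) • ((c : ZMod p) - 1) • (y' v - y v), ?_⟩
      have : ((h' : End (ZMod p) M) - h) v = x (((c : ZMod p) - 1) • (y' v - y v)) := by
        rw [hh, hh', tor_val, tor_val]
        simp only [LinearMap.sub_apply, LinearMap.add_apply, LinearMap.smul_apply, Module.End.mul_apply, hv,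
          map_zero, smul_zero, add_zero, map_smul, map_sub, smul_sub]
        abel
      rw [Module.End.mul_apply, this, map_smul]
      exact (LinearMap.congr_fun i1 _).symm, by
      rintro _ ⟨v, rfl⟩
      rw [← sub_eq_zero, d, ← Module.End.mul_apply, mul_assoc, sub_mul, j1, j1', sub_self, mul_zero,
        LinearMap.zero_apply]⟩
  have ex := Ug_cn hu
  have f1 : x * cn u y * x = x := by rw [← ex, ← cn_mul', ← cn_mul', e1]
  have f2 : cn u y * x * cn u y = cn u y := by rw [← ex, ← cn_mul', ← cn_mul', e2]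
  refine ⟨u, hu, eq_of_tor hx.1 (cn_sq hy.1 u) f1 f2 hy'.1 e1' e2' (c := c) hc ?_⟩
  have k1 : x * cn u y = cn u (x * y) := by rw [cn_mul', ex]
  have k2 : cn u y * x = cn u (y * x) := by rw [cn_mul', ex]
  rw [← hh', ← e, tor_val, k1, k2, Units.val_mul, Units.val_mul, hh, tor_val]
  simp only [mul_add, add_mul, mul_smul_comm, smul_mul_assoc, mul_one, Units.mul_inv]

/-- a partner commuting with a coprime operator group -/
theorem partner_fix {D : Subgroup (End (ZMod p) M)ˣ} (hD : D ≤ N⟦G⟧) (hc : (♯D).Coprime p)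
    {x y : End (ZMod p) M} (hx : x ∈ QT G) (hy : y ∈ QT G) (e1 : x * y * x = x) (e2 : y * x * y = y)
    (hDx : ∀ d ∈ D, cn d x = x) :
    ∃ y' ∈ QT G, x * y' * x = x ∧ y' * x * y' = y' ∧ ∀ d ∈ D, cn d y' = y' := by
  obtain ⟨u, hu, e⟩ := glau (A := D) (K := Ug G x hx.1) cn cn_one cn_mul
    (fun d hd => norm_Ug (hD hd) (by rw [← Ch_cn, hDx d hd]))
    (coprime_of_isPGroup (Ug_pgroup h3) hc).symm (Or.inr (sol_of_pgroup (Ug_pgroup h3))) y
    (fun d hd => by
      obtain ⟨u, hu, e⟩ := partner_cn h3 hx hy (QT_conjN hy (hD hd)) e1 e2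
        (by rw [← hDx d hd, ← cn_mul', ← cn_mul', e1]) (by rw [← hDx d hd, ← cn_mul', ← cn_mul', e2])
      exact ⟨u, hu, e.symm⟩)
  have ex := Ug_cn hu
  exact ⟨cn u y, QT.conj hy hu.1, by rw [← ex, ← cn_mul', ← cn_mul', e1],
    by rw [← ex, ← cn_mul', ← cn_mul', e2], e⟩

theorem split {y a : End (ZMod p) M} (hy : y ∈ QTd G) (ha : a ∈ QT G) (h : y * a * y ≠ 0) :
    ∃ y' ∈ QT G, y' ≠ 0 ∧ y' * a * y' = y' ∧ a * y' * a ∈ QT G := by
  obtain ⟨-, -, -, -, π3, π4, u, hu⟩ := lemmaK (two_ne h3) (card_ne h3) hy ha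
    (not_nil_of_ne (two_ne h3) hy ha h)
  have ca := ev_comm_a (k := ZMod p) (b := a) hy.1.1 u
  have cb := ev_comm_b (k := ZMod p) (a := y) ha.1 u
  rw [map_mul, aeval_X, mul_assoc, z_mul_a hy.1.1] at hu
  refine ⟨_, π3 u, fun e => hy.2.1 ?_, ?_, ?_⟩
  · rw [← hu, ← mul_assoc, ← mul_assoc, e]; simp
  · rw [mul_assoc, mul_assoc, ← cb.left_comm, ← ca.left_comm, ← mul_assoc y, hu]
  · have := π4 u
    rwa [map_mul, aeval_X, mul_assoc, add_comm, z_mul_a ha.1, ← mul_assoc, ← mul_assoc, cb.eq,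
      mul_assoc a] at this

theorem eq_zero_of_pgroup {S : Subgroup (End (ZMod p) M)ˣ} (hS : IsPGroup p S) {x y : End (ZMod p) M}
    (hx : x ∈ QT S) (hy : y ∈ QT S) (e1 : x * y * x = x) (e2 : y * x * y = y) : x = 0 := by
  have m := tor_mem hx hy e1 e2 (-1)
  have o : orderOf (tor hx.1 hy.1 e1 e2 (-1 : (ZMod p)ˣ)) ∣ 2 :=
    orderOf_dvd_of_pow_eq_one (by rw [← map_pow]; simp)
  obtain ⟨n, hn⟩ := hS ⟨_, m⟩
  have o2 := orderOf_dvd_of_pow_eq_one (congrArg Subtype.val hn)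
  have := Nat.eq_one_of_dvd_coprimes (Nat.Coprime.pow_right n ((Nat.coprime_primes Nat.prime_two hp.out).2
    (by omega))) o o2
  rw [orderOf_eq_one_iff] at this
  have e := tor_mul_x hx.1 hy.1 e1 e2 (-1 : (ZMod p)ˣ)
  rw [this] at e
  have : (2 : ZMod p) • x = 0 := by
    rw [two_smul]; nth_rewrite 1 [show x = -x by simpa using e]; simp
  exact (smul_eq_zero.1 this).resolve_left (two_ne h3)

theorem nopp_p {S : Subgroup (End (ZMod p) M)ˣ} (hS : IsPGroup p S) {y a : End (ZMod p) M}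
    (hy : y ∈ QTd G) (ha : a ∈ QT G) (hSG : S ≤ G) (m1 : U1 y hy.1.1 ∈ S) (m2 : U1 a ha.1 ∈ S) :
    y * a * y = 0 := by
  by_contra h
  obtain ⟨y', h1, h2, h4, h5⟩ := split h3 (G := S)
    ⟨mem_QT _ m1, hy.2.1, fun z hz z0 => hy.2.2 z (QT.mono hSG hz) z0⟩ (mem_QT _ m2) h
  refine h2 (eq_zero_of_pgroup h3 hS h1 h5 ?_ ?_)
  · rw [← mul_assoc, ← mul_assoc, h4, h4]
  · simp only [← mul_assoc]
    rw [mul_assoc a y' a, mul_assoc a, h4, mul_assoc a y' a, mul_assoc a, h4, mul_assoc]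

variable (G) in
/-- every quadratic element has a partner -/
def PX : Prop := ∀ a ∈ QT G, ∃ b ∈ QT G, a * b * a = a ∧ b * a * b = b

omit h3 in
theorem exists_QTd {x : End (ZMod p) M} (hx : x ∈ QT G) (x0 : x ≠ 0) : ∃ a, a ∈ QTd G := by
  obtain ⟨a, ha, hm⟩ := WellFounded.has_min (measure rk).wf {x | x ∈ QT G ∧ x ≠ 0} ⟨x, hx, x0⟩
  exact ⟨a, ha.1, ha.2, fun y hy y0 => not_lt.1 (hm y ⟨hy, y0⟩)⟩

theorem px_of_nu : ∀ G : Subgroup (End (ZMod p) M)ˣ, NU (ZMod p) G → PX G := by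
  have h2 := two_ne h3
  have h4 := card_ne h3
  intro G
  induction hn : ♯G using Nat.strong_induction_on generalizing G with
  | _ n ihG =>
  intro hG a
  induction hr : rk a using Nat.strong_induction_on generalizing a with
  | _ m ih =>
  intro ha
  by_cases a0 : a = 0
  · exact ⟨0, QT.zero, by simp [a0], by simp⟩
  by_cases hc : ∀ b ∈ QTd G, b * a * b = 0
  · set G0 := ⨆ A ∈ quadraticRootSubgroups G, A with hG0
    have hle := GC_le (G := G) G0
    obtain ⟨r, hr⟩ := exists_QTd ha a0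
    obtain ⟨r', hr', e⟩ := exists_opp h2 h4 hG hr
    have lt : GC G G0 < G := by
      refine lt_of_le_of_ne (hle.trans inf_le_left) fun h => e ?_
      have := (hle (h.ge (QT.U1_mem hr.1))).2 _ (mem_biSup (EG_mem hr') (U1_mem_EG (EE.self hr'.1)))
      rw [U1_comm_iff] at this
      simp only [U1_val, add_mul, mul_add, one_mul, mul_one, add_right_inj] at this
      rw [← this, mul_assoc, hr.1.1, mul_zero]
    obtain ⟨b, hb, e⟩ := ihG _ (hn ▸ card_lt lt) _ rfl
      (hG.normal (hle.trans inf_le_left) fun _ => GC_conj fun _ => G0_conj) a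
      (mem_QT_GC ha fun g hg => (U1_comm_iff ha.1 g).1 (by
        have : G0 ≤ Subgroup.centralizer {U1 a ha.1} := by
          refine iSup₂_le fun A hA g hg => ?_
          obtain ⟨r, hr, rfl⟩ := mem_quadRoot.1 hA
          obtain ⟨y, hy, rfl⟩ := EG_ex hg
          rw [Subgroup.mem_centralizer_singleton_iff, U1_comm_iff]
          by_cases y0 : y = 0
          · simp [y0]
          · simp [add_mul, mul_add, lemmaN h2 h4 hG ha hc (EE.mem_QTd hr hy y0)]
        exact Subgroup.mem_centralizer_singleton_iff.1 (this hg)))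
    exact ⟨b, QT.mono (hle.trans inf_le_left) hb, e⟩
  push Not at hc
  obtain ⟨y₀, hy₀, hc⟩ := hc
  obtain ⟨y, hy, y0, e, ha'⟩ := split h3 hy₀ ha hc
  set a' := a * y * a with ea
  have e1 : a' * y * a' = a' := by
    simp only [ea, ← mul_assoc]
    rw [mul_assoc a y a, mul_assoc a, e, mul_assoc a y a, mul_assoc a, e, mul_assoc]
  have e2 : y * a' * y = y := by rw [ea, ← mul_assoc, ← mul_assoc, e, e]
  have z1 : a * a' = 0 := by rw [ea, ← mul_assoc, ← mul_assoc, ha.1]; simp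
  have z2 : a' * a = 0 := by rw [ea, mul_assoc, ha.1]; simp
  have ha'' : a - a' ∈ QT G := QT.sub ha ha' z1 z2
  have z3 : (a - a') * y = 0 := by rw [sub_mul, ea, mul_assoc a y a, mul_assoc a, e, sub_self]
  have z4 : y * (a - a') = 0 := by rw [mul_sub, ea, ← mul_assoc, ← mul_assoc, e, sub_self]
  have z5 : (a - a') * a' = 0 := by rw [sub_mul, z1, ha'.1, sub_self]
  have z6 : a' * (a - a') = 0 := by rw [mul_sub, z2, ha'.1, sub_self]
  have lt : rk (a - a') < m := by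
    have : LinearMap.ker a < LinearMap.ker (a - a') := by
      refine lt_of_le_of_ne (fun v hv => ?_) fun h => y0 ?_
      · have hv : a v = 0 := hv
        simp [ea, hv]
      · rw [← e, mul_assoc, mul_eq_zero_of_ker_le h.ge z3, mul_zero]
    have := Submodule.finrank_lt_finrank_of_lt this
    have := rk_add_ker a
    have := rk_add_ker (a - a')
    omega
  obtain ⟨b₀, hb₀, f1, f2⟩ := ih _ lt _ rfl ha''
  set t := tor ha'.1 hy.1 e1 e2 (-1 : (ZMod p)ˣ) with ht
  have tv : (t : End (ZMod p) M) = 1 - (2 : ZMod p) • (a' * y + y * a') := by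
    rw [ht, tor_val]; simp only [inv_neg, inv_one, Units.val_neg, Units.val_one]; module
  obtain ⟨b, hb, g1, g2, g3⟩ := partner_fix h3 (D := zpowers t)
    (zpowers_le.2 (le_normalizer (tor_mem ha' hy e1 e2 _))) (by
      rw [Nat.card_zpowers]
      refine Nat.Coprime.coprime_dvd_left (orderOf_dvd_of_pow_eq_one (n := 2) (by rw [ht, ← map_pow]; simp))
        ((Nat.coprime_primes Nat.prime_two hp.out).2 (by omega))) ha'' hb₀ f1 f2 (fun d hd => by
      rw [cn_eq_iff, ← U1_comm_iff ha''.1, ← mem_centralizer_singleton_iff]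
      refine zpowers_le.2 ?_ hd
      rw [mem_centralizer_singleton_iff, U1_comm_iff, tv]
      generalize a - a' = q at z3 z4 z5 z6
      generalize a' = a₁ at z5 z6
      simp only [sub_mul, mul_sub, smul_mul_assoc, mul_smul_comm, add_mul, mul_add, mul_assoc, z4, z6,
        one_mul, mul_one]
      simp only [← mul_assoc, z3, z5]
      simp)
  have c := cn_eq_iff.1 (g3 t (mem_zpowers t))
  rw [tv, sub_mul, mul_sub, one_mul, mul_one, sub_right_inj, smul_mul_assoc, mul_smul_comm] at c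
  replace c := smul_right_injective _ h2 c
  obtain ⟨-, a1, a2, a3, a4⟩ := partner_idem ha'.1 hy.1 e1 e2
  set E := a' * y + y * a' with hE
  have k1 : b * E = 0 := by
    rw [← g2, mul_assoc, ← c, ← mul_assoc, mul_assoc b, hE, mul_add, ← mul_assoc _ y, ← mul_assoc _ a', z3, z5]
    simp
  have k2 : E * b = 0 := c.trans k1
  have l1 : b * y = 0 := by rw [← a3, ← mul_assoc, k1, zero_mul]
  have l2 : y * b = 0 := by rw [← a4, mul_assoc, k2, mul_zero]
  have l3 : b * a' = 0 := by rw [← a1, ← mul_assoc, k1, zero_mul]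
  have l4 : a' * b = 0 := by rw [← a2, mul_assoc, k2, mul_zero]
  have s : a = a' + (a - a') := by abel
  refine ⟨y + b, QT.add hy hb l2 l1, ?_, ?_⟩
  · rw [s]
    generalize a - a' = q at *
    have : (a' + q) * (y + b) = a' * y + q * b := by
      rw [add_mul, mul_add, mul_add, l4, z3, add_zero, zero_add]
    rw [this, add_mul, mul_add, mul_add, e1, g1, mul_assoc a', z4, mul_assoc q, l3]
    simp
  · rw [s]
    generalize a - a' = q at *
    have : (y + b) * (a' + q) = y * a' + b * q := by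
      rw [add_mul, mul_add, mul_add, z4, l3, add_zero, zero_add]
    rw [this, add_mul, mul_add, mul_add, e2, g2, mul_assoc y, l4, mul_assoc b, z3]
    simp

theorem PX.cent (h : PX G) {D : Subgroup (End (ZMod p) M)ˣ} (hD : D ≤ N⟦G⟧) (hc : (♯D).Coprime p) :
    PX (G ⊓ C⟦D⟧) := by
  intro a ha
  have ha' := QT.mono inf_le_left ha
  obtain ⟨b₀, hb₀, f1, f2⟩ := h a ha'
  obtain ⟨b, hb, g1, g2, g3⟩ := partner_fix h3 hD hc ha' hb₀ f1 f2 fun d hd =>
    cn_eq_iff.2 ((U1_comm_iff ha.1 d).1 ((QT.U1_mem ha).2 d hd))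
  exact ⟨b, mem_QT hb.1 ⟨QT.U1_mem hb, fun d hd => (U1_comm_iff hb.1 d).2 (cn_eq_iff.1 (g3 d hd))⟩, g1, g2⟩

end Cfsg.Agent.H25.QB
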