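import Cfsg.Agent.H25.QB2

/-! Flavell's Theorem B: the largest `R C_G(R)`-invariant `p`-subgroup has no quadratic elements. -/

set_option autoImplicit false

namespace Cfsg.Agent.H25.QB

open Subgroup Cfsg.Agent.H20 Cfsg.Agent.H21 Cfsg.Agent.H29 Module Polynomial
open scoped commutatorElement

theorem le_inv_sylow {Γ : Type*} [Group Γ] [Finite Γ] {p : ℕ} [Fact p.Prime] {G R Q S : Subgroup Γ}
    (hR : R ≤ N⟦G⟧) (hc : (♯G).Coprime (♯R)) (hs : SolOr R G) (hQ : IsPGroup p Q) (hQG : Q ≤ G)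
    (h1 : R ≤ N⟦Q⟧) (h2 : G ⊓ C⟦R⟧ ≤ N⟦Q⟧) (hS : SylowOf p S G) (h3 : R ≤ N⟦S⟧) : Q ≤ S := by
  obtain ⟨S', s1, s2, s3⟩ := exists_inv_sylow_ge hR hc hs hQ hQG h1
  obtain ⟨c, hc, e⟩ := inv_sylow_exists_cj_eq hR hc hs s1 s2 hS h3
  rw [← e, ← cj_eq_of_mem_norm (h2 hc)]
  exact cj_mono c s3

variable {p : ℕ} [hp : Fact p.Prime] {M : Type*} [AddCommGroup M] [Module (ZMod p) M]
  {G : Subgroup (End (ZMod p) M)ˣ}

variable (G) in
/-- conjugate chains -/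
def Cl (a b : End (ZMod p) M) : Prop := ∃ g ∈ G, sm g (Ch a) = Ch b

theorem Cl.symm {a b : End (ZMod p) M} (h : Cl G a b) : Cl G b a := by
  obtain ⟨g, hg, e⟩ := h
  exact ⟨g⁻¹, inv_mem hg, sm_inv e⟩

theorem Cl.trans {a b c : End (ZMod p) M} (h : Cl G a b) (h' : Cl G b c) : Cl G a c := by
  obtain ⟨g, hg, e⟩ := h
  obtain ⟨g', hg', e'⟩ := h'
  exact ⟨g' * g, mul_mem hg' hg, by rw [sm_mul, e, e']⟩

variable (G) in
/-- the stabilizer of a chain -/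
def St (W : Submodule (ZMod p) M × Submodule (ZMod p) M) : Subgroup (End (ZMod p) M)ˣ where
  carrier := {g | g ∈ G ∧ sm g W = W}
  mul_mem' := fun ha hb => ⟨mul_mem ha.1 hb.1, by rw [sm_mul, hb.2, ha.2]⟩
  one_mem' := ⟨one_mem _, sm_one _⟩
  inv_mem' := fun ha => ⟨inv_mem ha.1, sm_inv ha.2⟩

/-- the subgroup generated by the quadratic elements -/
def Jq (T : Subgroup (End (ZMod p) M)ˣ) : Subgroup (End (ZMod p) M)ˣ :=
  closure {g | ∃ x, ∃ hx : x * x = 0, g = U1 x hx ∧ g ∈ T}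

theorem Jq_le (T : Subgroup (End (ZMod p) M)ˣ) : Jq T ≤ T :=
  (closure_le _).2 fun _ ⟨_, _, _, h⟩ => h

theorem mem_Jq {T : Subgroup (End (ZMod p) M)ˣ} {x : End (ZMod p) M} (hx : x * x = 0)
    (h : U1 x hx ∈ T) : U1 x hx ∈ Jq T := subset_closure ⟨x, hx, rfl, h⟩

theorem Jq_le_iff {T U : Subgroup (End (ZMod p) M)ˣ} :
    Jq T ≤ U ↔ ∀ x (hx : x * x = 0), U1 x hx ∈ T → U1 x hx ∈ U :=
  ⟨fun h x hx m => h (mem_Jq hx m), fun h => (closure_le _).2 fun _ ⟨x, hx, e, m⟩ => e ▸ h x hx (e ▸ m)⟩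

theorem Jq_mono {T U : Subgroup (End (ZMod p) M)ˣ} (h : Jq T ≤ U) : Jq T ≤ Jq U :=
  Jq_le_iff.2 fun _ hx m => mem_Jq hx (h (mem_Jq hx m))

theorem cj_Jq (g : (End (ZMod p) M)ˣ) (T : Subgroup (End (ZMod p) M)ˣ) : cj g (Jq T) = Jq (cj g T) := by
  have : ∀ (g : (End (ZMod p) M)ˣ) (T : Subgroup (End (ZMod p) M)ˣ), Jq (cj g T) ≤ cj g (Jq T) :=
    fun g T => Jq_le_iff.2 fun x hx m => by
      rw [mem_cj] at m ⊢
      have e := U1_cn hx g⁻¹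
      rw [inv_inv] at e
      rw [← e] at m ⊢
      exact mem_Jq _ m
  refine le_antisymm ?_ (this g T)
  have h := cj_mono g (this g⁻¹ (cj g T))
  rwa [cj_inv_cj, cj_cj_inv] at h

theorem norm_Jq {X T : Subgroup (End (ZMod p) M)ˣ} (h : X ≤ N⟦T⟧) : X ≤ N⟦Jq T⟧ := fun x hx =>
  mem_norm_iff_cj.2 (by rw [cj_Jq, cj_eq_of_mem_norm (h hx)])

variable [Finite M]

theorem Jq_eq {S T : Subgroup (End (ZMod p) M)ˣ} (hS : SylowOf p S G) (hT : IsPGroup p T) (hTG : T ≤ G)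
    {g : (End (ZMod p) M)ˣ} (h : cj g (Jq S) ≤ T) : cj g (Jq S) = Jq T := by
  obtain ⟨x, -, hx⟩ := hS.exists_le_cj hT hTG
  have h1 : Jq T ≤ cj x (Jq S) := by rw [cj_Jq]; exact Jq_mono ((Jq_le T).trans hx)
  refine eq_of_le_of_card_ge (by rw [cj_Jq] at h ⊢; exact Jq_mono h) ?_
  have := card_le_of_le h1
  rwa [card_cj, ← card_cj g (Jq S)] at this

theorem burnside {S H : Subgroup (End (ZMod p) M)ˣ} (hS : SylowOf p S G) (hH : H ≤ G) (h1 : Jq S ≤ H)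
    {g : (End (ZMod p) M)ˣ} (h2 : cj g (Jq S) ≤ H) : ∃ n ∈ H, n * g ∈ N⟦Jq S⟧ := by
  have pJ : IsPGroup p (Jq S) := hS.isPGroup.to_le (Jq_le S)
  obtain ⟨T, hT, hle⟩ := exists_sylowOf_ge pJ h1
  obtain ⟨n, hn, e⟩ := hT.exists_cj_le (H21.isPGroup_cj.2 pJ) h2
  rw [← cj_mul] at e
  have e1 := Jq_eq hS hT.isPGroup (hT.le.trans hH) e
  have e2 := Jq_eq (g := 1) hS hT.isPGroup (hT.le.trans hH) (by rwa [cj_one])
  rw [cj_one] at e2
  exact ⟨n, hn, mem_norm_iff_cj.2 (e1.trans e2.symm)⟩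

variable (h3 : 3 < p)
include h3

theorem cl_of_opp {a b : End (ZMod p) M} (ha : a ∈ QTd G) (hb : b ∈ QTd G) (h : a * b * a ≠ 0) :
    Cl G a b := by
  obtain ⟨y, hy, e1, e2⟩ := exists_partner (two_ne h3) (card_ne h3) ha hb h
  have y0 : y ≠ 0 := by rintro rfl; exact ha.2.1 (by simpa using e1.symm)
  obtain ⟨-, a1, -, -, a4⟩ := partner_idem ha.1.1 hy.1.1 e1 e2
  refine ⟨U1 a ha.1.1 * (U1 y hy.1.1)⁻¹ * U1 a ha.1.1,
    mul_mem (mul_mem (QT.U1_mem ha.1) (inv_mem (QT.U1_mem hy.1))) (QT.U1_mem ha.1), ?_⟩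
  rw [← Ch_cn, ← Ch_of_EE hb hy y0, ← Ch_neg y]
  congr 1
  rw [cn, Units.mul_inv_eq_iff_eq_mul, w_val ha.1.1 hy.1.1 e1]
  simp only [sub_mul, add_mul _ a, one_mul, neg_mul, mul_sub, mul_add y _ a, mul_one, a4, hy.1.1, ha.1.1]
  rw [a1]
  abel

omit h3 in
theorem PX.opp (h : PX G) {a : End (ZMod p) M} (ha : a ∈ QTd G) :
    ∃ b ∈ QTd G, a * b * a = a ∧ b * a * b = b := by
  obtain ⟨b, hb, e1, e2⟩ := h a ha.1
  refine ⟨b, QTd.of_le ha hb ?_ ?_, e1, e2⟩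
  · rintro rfl; exact ha.2.1 (by simpa using e1.symm)
  · rw [← e2]; exact (rk_mul_le_left _ _).trans (rk_mul_le_right _ _)

theorem cl_comm (hG : PX G) {a b : End (ZMod p) M} (ha : a ∈ QTd G) (hb : b ∈ QTd G) (h : a * b * a = 0)
    (hc : a * b - b * a ≠ 0) : Cl G a (a * b - b * a) := by
  have h2 := two_ne h3
  have h4 := card_ne h3
  have c1 := (comm_struct h2 h4 ha hb h hc).1
  obtain ⟨c', hc', -, e⟩ := hG.opp c1
  replace e : c' * (a * b - b * a) * c' ≠ 0 := by rw [e]; exact hc'.2.1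
  obtain ⟨a', ha', f, f'⟩ := hG.opp ha
  replace f : a * a' * a ≠ 0 := by rw [f]; exact ha.2.1
  replace f' : a' * a * a' ≠ 0 := by rw [f']; exact ha'.2.1
  have d1 : a - (a * b - b * a) ∈ QTd G := conj_nopp (nopp_symm h2 h4 ha hb h) ▸ QTd.conj' ha hb.1
  by_cases e1 : c' * a * c' = 0
  · by_cases e2 : a' * (a * b - b * a) * a' = 0
    · have r1 := cl_of_opp h3 hc' d1 (by rwa [mul_sub, sub_mul, e1, zero_sub, neg_ne_zero])
      have r2 := cl_of_opp h3 ha' d1 (by rwa [mul_sub a', sub_mul, e2, sub_zero])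
      exact (cl_of_opp h3 ha ha' f).trans (r2.trans (r1.symm.trans (cl_of_opp h3 hc' c1 e)))
    · exact (cl_of_opp h3 ha ha' f).trans (cl_of_opp h3 ha' c1 e2)
  · exact (cl_of_opp h3 hc' ha e1).symm.trans (cl_of_opp h3 hc' c1 e)

theorem cl_of_ne (hG : PX G) {a b : End (ZMod p) M} (ha : a ∈ QTd G) (hb : b ∈ QTd G)
    (hc : a * b ≠ b * a) : Cl G a b := by
  by_cases e : a * b * a = 0
  · obtain ⟨g, hg, e'⟩ := cl_comm h3 hG hb ha (nopp_symm (two_ne h3) (card_ne h3) ha hb e)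
      (sub_ne_zero.2 hc.symm)
    rw [← Ch_neg (b * a - a * b), neg_sub] at e'
    exact (cl_comm h3 hG ha hb e (sub_ne_zero.2 hc)).trans (Cl.symm ⟨g, hg, e'⟩)
  · exact cl_of_opp h3 ha hb e

/-- a root element commuting with all quadratic elements of a `p`-subgroup -/
theorem exists_central_root {S : Subgroup (End (ZMod p) M)ˣ} (hS : IsPGroup p S) (hSG : S ≤ G)
    {r : End (ZMod p) M} (hr : r ∈ QTd G) (hm : U1 r hr.1.1 ∈ S) :
    ∃ ξ, ∃ h : ξ ∈ QTd G, U1 ξ h.1.1 ∈ C⟦Jq S⟧ := by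
  obtain ⟨N, ⟨n1, n2, ξ, hξ, n3⟩, hmin⟩ := WellFounded.has_min (wellFounded_lt (α := Subgroup (End (ZMod p) M)ˣ))
    {N | N ≤ S ∧ S ≤ N⟦N⟧ ∧ ∃ ξ, ∃ h : ξ ∈ QTd G, U1 ξ h.1.1 ∈ N} ⟨S, le_rfl, le_normalizer, r, hr, hm⟩
  have lt : ⁅N, S⁆ < N := commg_lt_of_nil hS.isNilpotent n1 n2 (by
    rintro rfl
    exact hξ.2.1 ((U1_eq_one _).1 n3))
  have no : ∀ x ∈ QT ⁅N, S⁆, rk x ≤ rk ξ → x = 0 := fun x hx h => by
    by_contra x0
    exact hmin _ ⟨lt.le.trans n1, norm_commutator n2 le_normalizer, x,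
      QTd.of_le hξ (QT.mono ((lt.le.trans n1).trans hSG) hx) x0 h, QT.U1_mem hx⟩ lt
  refine ⟨ξ, hξ, le_cent1_iff.1 (Jq_le_iff.2 fun α hα m => ?_)⟩
  have hα' : α ∈ QT S := mem_QT hα m
  have z := nopp_p h3 hS hξ (QT.mono hSG hα') hSG (n1 n3) m
  let f : ZMod p → End (ZMod p) M := fun c => (1 + c • α) * ξ * (1 - c • α)
  have ff : ∀ c d, f c * f d = 0 := fun c d => by
    have : (1 - c • α) * (1 + d • α) = 1 + (d - c) • α := by
      simp only [sub_mul, mul_add, one_mul, mul_one, smul_mul_smul_comm, hα, smul_zero, sub_smul]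
      abel
    calc _ = (1 + c • α) * (ξ * ((1 - c • α) * (1 + d • α)) * ξ) * (1 - d • α) := by
          simp only [f, mul_assoc]
      _ = 0 := by
          rw [this, mul_add ξ, mul_one, add_mul ξ, hξ.1.1, mul_smul_comm, smul_mul_assoc, z]; simp
  have f0 : f 0 = ξ := by simp [f]
  have dd : ∀ c d, (f c - ξ) * (f d - ξ) = 0 := fun c d => by
    rw [← f0, sub_mul, mul_sub, mul_sub, ff, ff, ff, ff]; simp
  have dm : ∀ c, f c - ξ ∈ QT ⁅N, S⁆ := fun c => mem_QT (dd c c) (by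
    have := inv_mem (commutator_mem_commutator n3 (QT.U1_mem (QT.smul hα' c)))
    rw [commutatorElement_inv] at this
    convert this using 1
    ext1
    have e := ff c 0
    rw [f0] at e
    simp only [commutatorElement_def, Units.val_mul, U1_val, U1_inv]
    have : (1 + c • α) * (1 + ξ) * (1 - c • α) = 1 + f c := by
      rw [mul_add _ 1, add_mul, mul_one]
      congr 1
      simp [mul_sub, add_mul, hα]
    rw [this, mul_sub, add_mul, add_mul, e]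
    simp only [mul_one, one_mul, add_zero]
    abel)
  have x1 : α * ξ * α = 0 := by
    have := QT.add (dm 1) (dm (-1)) (dd _ _) (dd _ _)
    rw [show f 1 - ξ + (f (-1) - ξ) = (-2 : ZMod p) • (α * ξ * α) by
      simp only [f, one_smul, neg_smul, two_smul]; noncomm_ring] at this
    exact no _ (QT.of_smul (neg_ne_zero.2 (two_ne h3)) this)
      ((rk_mul_le_left _ _).trans (rk_mul_le_right _ _))
  have x2 : α * ξ - ξ * α = 0 := by
    have := dm 1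
    rw [show f 1 - ξ = α * ξ - ξ * α - α * ξ * α by simp only [f, one_smul]; noncomm_ring, x1,
      sub_zero] at this
    refine no _ this ?_
    have l1 : LinearMap.range (ξ * α) ≤ LinearMap.range ξ ⊓ LinearMap.ker α :=
      le_inf (range_mul_le _ _) (mul_eq_zero_iff_range_le.1 (by rw [← mul_assoc, x1]))
    have e2 : rk (ξ * α) ≤ _ := Submodule.finrank_mono l1
    have e3 := rk_mul_add ξ α
    have e4 := rk_add_le (α * ξ) (-(ξ * α))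
    rw [rk_neg, ← sub_eq_add_neg] at e4
    omega
  rw [mem_cent1, U1_comm_iff, U1_val, add_mul, mul_add, sub_eq_zero.1 x2, one_mul, mul_one]

/-- Flavell's Theorem B -/
theorem thmB {R : Subgroup (End (ZMod p) M)ˣ} : ∀ G : Subgroup (End (ZMod p) M)ˣ, PX G → R ≤ N⟦G⟧ →
    (♯G).Coprime (♯R) → SolOr R G → ∀ P ≤ G, IsPGroup p P → R ≤ N⟦P⟧ → G ⊓ C⟦R⟧ ≤ N⟦P⟧ →
    ∀ a ∈ QT P, a = 0 := by
  intro G
  induction hn : ♯G using Nat.strong_induction_on generalizing G with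
  | _ n ih =>
  subst hn
  intro hG hR hc hs P hPG hP n1 n2 a ha
  by_contra a0
  have sub : ∀ {A B : Subgroup (End (ZMod p) M)ˣ}, A ≤ R → B ≤ G → SolOr A B := fun h1 h2 =>
    hs.imp (fun h => sol_of_le h h1) (fun h => sol_of_le h h2)
  set K := G ⊓ C⟦Jq P⟧ with hK
  have k1 : R ≤ N⟦K⟧ := norm_inf_cent hR (norm_Jq n1)
  have k2 : G ⊓ C⟦R⟧ ≤ N⟦K⟧ := norm_inf_cent (norm_of_le inf_le_left) (norm_Jq n2)
  obtain ⟨T, hT⟩ := exists_sylowOf p K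
  have t1 : K ≤ N⟦T⟧ := le_of_forall_sylow fun s hs _ => by
    by_cases e : s = p
    · exact ⟨T, e ▸ hT, le_normalizer⟩
    have := Fact.mk hs
    obtain ⟨D, d1, d2⟩ := exists_inv_sylow s k1 (coprime_of_le_left hc inf_le_left) (sub le_rfl inf_le_left)
    have dG : D ≤ G := d1.le.trans inf_le_left
    refine ⟨D, d1, norm_of_cent (cent_symm ((hT.le.trans inf_le_left).trans ?_))⟩
    by_contra hne
    have lt : G ⊓ C⟦D⟧ < G := lt_of_le_of_ne inf_le_left fun e => hne (e.ge.trans inf_le_right)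
    have r1 : R ≤ N⟦G ⊓ C⟦D⟧⟧ := norm_inf_cent hR d2
    refine a0 (ih _ (card_lt lt) _ rfl (hG.cent h3 (norm_of_le dG) (coprime_of_isPGroup d1.isPGroup
      ((Nat.coprime_primes hp.out hs).2 (Ne.symm e))).symm.symm) r1 (coprime_of_le_left hc inf_le_left)
      (sub le_rfl inf_le_left) (P ⊓ (G ⊓ C⟦D⟧)) inf_le_right (hP.to_le inf_le_left) (norm_inf n1 r1)
      (norm_inf ((inf_le_inf_right _ inf_le_left).trans n2) (norm_of_le inf_le_left)) a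
      (mem_QT ha.1 ⟨QT.U1_mem ha, hPG (QT.U1_mem ha), ?_⟩))
    exact cent_symm (d1.le.trans inf_le_right) (mem_Jq ha.1 (QT.U1_mem ha))
  have t2 : ∀ {X : Subgroup (End (ZMod p) M)ˣ}, X ≤ N⟦K⟧ → X ≤ N⟦T⟧ := fun h x hx =>
    mem_norm_of_cj_le (hT.pgroup_le_of_norm (H21.isPGroup_cj.2 hT.isPGroup)
      (cj_le_of_mem_norm (h hx) hT.le) (Or.inl ((cj_le_of_mem_norm (h hx) hT.le).trans t1)))
  obtain ⟨S, s1, s2, s3⟩ := exists_inv_sylow_ge hR hc hs hP hPG n1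
  obtain ⟨r, hr⟩ := exists_QTd (QT.mono hPG ha) a0
  obtain ⟨g, hg, e⟩ := s1.exists_cj_le (pgroup_U1 hr.1.1) (zpowers_le.2 (QT.U1_mem hr.1))
  obtain ⟨ξ, hξ, cξ⟩ := exists_central_root h3 s1.isPGroup s1.le (QTd.conj hr hg) (by
    rw [cj_zpowers, zpowers_le, ← U1_cn] at e; exact e)
  let R₁ : Subgroup (End (ZMod p) M)ˣ :=
    { carrier := {ρ | ρ ∈ R ∧ ∃ g ∈ G, sm ρ (Ch ξ) = sm g (Ch ξ)}
      mul_mem' := by
        rintro ρ σ ⟨h1, g, hg, e⟩ ⟨h2, g', hg', e'⟩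
        refine ⟨mul_mem h1 h2, ρ * g' * ρ⁻¹ * g, mul_mem (H21.conj_mem_of_norm (hR h1) hg') hg, ?_⟩
        rw [sm_mul, e', sm_mul _ g, ← e, ← sm_mul, ← sm_mul, inv_mul_cancel_right]
      one_mem' := ⟨one_mem _, 1, one_mem _, rfl⟩
      inv_mem' := by
        rintro ρ ⟨h1, g, hg, e⟩
        refine ⟨inv_mem h1, ρ⁻¹ * g⁻¹ * ρ, conj_mem_of_norm' (hR h1) (inv_mem hg), ?_⟩
        rw [sm_mul, e, ← sm_mul, inv_mul_cancel_right] }
  have r1 : R₁ ≤ R := fun _ h => h.1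
  have stab : ∀ {y : End (ZMod p) M} (hy : y * y = 0), U1 y hy ∈ C⟦Jq S⟧ → Jq S ≤ St G (Ch y) :=
    fun hy h j hj => ⟨s1.le (Jq_le S hj), by
      rw [← Ch_cn, cn_eq_iff.2 ((U1_comm_iff hy j).1 (h j hj))]⟩
  obtain ⟨m, hm, em⟩ := glau (A := R₁) (K := G ⊓ N⟦Jq S⟧) sm sm_one sm_mul
    (r1.trans (norm_inf_norm hR (norm_Jq s2))) (coprime_of_le hc inf_le_left r1).symm
    (sub r1 inf_le_left) (Ch ξ) (by
      rintro ρ ⟨h1, g, hg, e⟩
      have st : ∀ {x : (End (ZMod p) M)ˣ}, x ∈ N⟦G⟧ → cj x (Jq S) ≤ St G (sm x (Ch ξ)) := fun {x} hx j hj => by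
        obtain ⟨j', hj', rfl⟩ := mem_cj'.1 hj
        refine ⟨H21.conj_mem_of_norm hx (s1.le (Jq_le S hj')), ?_⟩
        rw [← sm_mul, inv_mul_cancel_right, sm_mul, (stab _ cξ hj').2]
      obtain ⟨n, hn, en⟩ := burnside (H := St G (sm g (Ch ξ))) s1 (fun _ h => h.1) (by
        have := st (hR h1)
        rwa [cj_eq_of_mem_norm (norm_Jq s2 h1), e] at this) (st (le_normalizer hg))
      exact ⟨n * g, ⟨mul_mem hn.1 hg, en⟩, by rw [e, sm_mul, hn.2]⟩)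
  have hx : cn m ξ ∈ QTd G := QTd.conj hξ hm.1
  rw [← Ch_cn] at em
  have cx : Cl G ξ (cn m ξ) := ⟨m, hm.1, (Ch_cn m ξ).symm⟩
  have xT : U1 (cn m ξ) hx.1.1 ∈ T := by
    have h1 : U1 (cn m ξ) hx.1.1 ∈ K := ⟨QT.U1_mem hx.1, cent_anti (Jq_mono ((Jq_le P).trans s3)) (by
      rw [U1_cn hξ.1.1]; exact H21.conj_mem_of_norm (norm_le_norm_cent _ hm.2) cξ)⟩
    exact hT.pgroup_le_of_norm (pgroup_U1 _) (zpowers_le.2 h1) (Or.inl (zpowers_le.2 (t1 h1)))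
      (mem_zpowers _)
  generalize cn m ξ = x at hx em cx xT
  obtain ⟨y₀, hy₀, e1, e2⟩ := hG.opp hx
  obtain ⟨u, hu, eu⟩ := glau (A := R₁) (K := Ug G x hx.1.1) sm sm_one sm_mul
    (fun ρ h => norm_Ug (hR h.1) (em ρ h)) (coprime_of_le hc Ug_le r1).symm (sub r1 Ug_le) (Ch y₀) (by
      intro ρ h
      have q1 := QTd_conjN hx (hR h.1)
      have q2 := QTd_conjN hy₀ (hR h.1)
      obtain ⟨y, hy, y0, f1, f2⟩ := exists_partner' (two_ne h3) (card_ne h3) q1 q2 (by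
        rw [← cn_mul', ← cn_mul', e1]; exact q1.2.1)
        (EE_of_Ch q1.1.1 hx.1 (by rw [Ch_cn, em ρ h])) hx.2.1
      obtain ⟨u, hu, e⟩ := partner_cn h3 hx.1 hy₀.1 hy.1 e1 e2 f1 f2
      exact ⟨u, hu, by rw [← Ch_cn, ← Ch_cn, e, Ch_of_EE q2 hy y0]⟩)
  have hy : cn u y₀ ∈ QTd G := QTd.conj hy₀ hu.1
  have f1 : x * cn u y₀ * x = x := by rw [← Ug_cn hu, ← cn_mul', ← cn_mul', e1]
  rw [← Ch_cn] at eu
  generalize cn u y₀ = y at hy eu f1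
  have cy : Cl G ξ y := cx.trans (cl_of_opp h3 hx hy (by rw [f1]; exact hx.2.1))
  have com : ∀ τ ∈ R, cn τ y * y = y * cn τ y := fun τ hτ => by
    have q := QTd_conjN hy (hR hτ)
    by_contra hne
    obtain ⟨g, hg, e⟩ := cl_of_ne h3 hG hy q (Ne.symm hne)
    obtain ⟨g₀, hg₀, e₀⟩ := cy
    have m1 : τ ∈ R₁ := ⟨hτ, τ * g₀⁻¹ * τ⁻¹ * (g * g₀),
      mul_mem (H21.conj_mem_of_norm (hR hτ) (inv_mem hg₀)) (mul_mem hg hg₀), by
        rw [sm_mul _ (g * g₀), sm_mul g, e₀, e, Ch_cn, ← e₀, ← sm_mul, ← sm_mul]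
        congr 1
        group⟩
    have m2 := EE_of_Ch hy.1.1 q.1 (by rw [Ch_cn, eu τ m1])
    exact hne (by rw [EE.mul m2 (EE.self hy.1), EE.mul (EE.self hy.1) m2])
  set Q := closure {g | ∃ ρ ∈ R, ρ * U1 y hy.1.1 * ρ⁻¹ = g} with hQ
  have qc : IsMulCommutative Q := isMulCommutative_closure (by
    rintro _ ⟨ρ, hρ, rfl⟩ _ ⟨σ, hσ, rfl⟩
    have := (U1_comm_iff hy.1.1 (U1 _ (cn_sq hy.1.1 (σ⁻¹ * ρ)))).2 (by
      rw [U1_val, add_mul, mul_add, com _ (mul_mem (inv_mem hσ) hρ), one_mul, mul_one])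
    rw [U1_cn hy.1.1] at this
    calc _ = σ * (σ⁻¹ * ρ * U1 y hy.1.1 * (σ⁻¹ * ρ)⁻¹ * U1 y hy.1.1) * σ⁻¹ := by group
      _ = _ := by rw [this]; group)
  have qp : IsPGroup p Q := by
    rintro ⟨g, hg⟩
    refine ⟨1, Subtype.ext ?_⟩
    show g ^ p ^ 1 = 1
    rw [pow_one]
    induction hg using closure_induction with
    | mem g h => obtain ⟨ρ, -, rfl⟩ := h; rw [conj_pow, U1_pow_p]; group
    | one => simp
    | mul g h hg hh ig ih => rw [Commute.mul_pow (comm_iff.1 qc g hg h hh), ig, ih, one_mul]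
    | inv g _ ig => rw [inv_pow, ig, inv_one]
  obtain ⟨S', s1', s2', s3'⟩ := exists_inv_sylow_ge hR hc hs qp ((closure_le _).2 (by
    rintro _ ⟨ρ, hρ, rfl⟩; exact H21.conj_mem_of_norm (hR hρ) (QT.U1_mem hy.1))) (norm_closure (by
    rintro σ hσ _ ⟨ρ, hρ, rfl⟩; exact ⟨σ * ρ, mul_mem hσ hρ, by group⟩))
  have := nopp_p h3 s1'.isPGroup hx hy.1 s1'.le (le_inv_sylow hR hc hs hT.isPGroup
    (hT.le.trans inf_le_left) (t2 k1) (t2 k2) s1' s2' xT) (s3' (subset_closure ⟨1, one_mem _, by group⟩))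
  exact hx.2.1 (f1.symm.trans this)

end Cfsg.Agent.H25.QB
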