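import Cfsg.Agent.H25.QB3
import Cfsg.Agent.H9.EAMod
import Cfsg.Agent.L0.KMain

/-! Flavell's equivariant K-infinity theorem. -/

set_option autoImplicit false

namespace Cfsg.Agent.H25.QB

open Subgroup Cfsg.Agent.H20 Cfsg.Agent.H21 Module
open scoped commutatorElement

universe u

variable {p : ℕ} [hp : Fact p.Prime]

/-- Theorem B for a minimal normal subgroup -/
theorem thmB_min {Y : Type*} [Group Y] [Finite Y] {G R P V : Subgroup Y} [G.Normal] (h3 : 3 < p)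
    (hc : (♯G).Coprime (♯R)) (hs : SolOr R G) (hPG : P ≤ G) (hP : IsPGroup p P) (n1 : R ≤ N⟦P⟧)
    (n2 : G ⊓ C⟦R⟧ ≤ N⟦P⟧) (h : MinNormal V ⊤) (hV : IsPGroup p V) {g : Y} (hg : g ∈ P)
    (hq : ⁅⁅V, zpowers g⁆, zpowers g⁆ = ⊥) : g ∈ C⟦V⟧ := by
  obtain ⟨q, hq', hE⟩ := h.exists_elem (sol_of_pgroup hV)
  obtain rfl : q = p := by
    have := Fact.mk hq'
    by_contra hne
    exact h.1 (by simpa using inf_eq_bot_coprime (coprime_of_isPGroup_ne (isPGroup_of_elem hE) hV hne))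
  let ρ := H9.eaRep hE h.2.1
  let φ : Y →* (End (ZMod q) (H9.EAMod hE))ˣ := ρ.toHomUnits.comp topEquiv.symm.toMonoidHom
  have φv : ∀ y, (φ y : End (ZMod q) (H9.EAMod hE)) = ρ ⟨y, mem_top y⟩ := fun _ => rfl
  have irr : IsIrreducibleFor φ.range := by
    refine ⟨?_, fun W hW => ?_⟩
    · obtain ⟨⟨v, hv⟩, v1⟩ := (ne_bot_iff_exists_ne_one).1 h.1
      exact ⟨H9.EAMod.mk hE v hv, fun e => v1 (Subtype.ext (congrArg H9.EAMod.val e))⟩
    · rcases h.eq_bot_or_eq (H9.EAMod.toSubgroup_le W) (fun y _ => mem_norm_of_forall (by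
        rintro _ ⟨v, hv, rfl⟩
        exact ⟨_, hW (φ y) ⟨y, rfl⟩ v hv, rfl⟩)) with e | e
      · exact Or.inl (eq_bot_iff.2 fun v hv => H9.EAMod.val_eq_one_iff.1
          (e.le (H9.EAMod.val_mem_toSubgroup.2 hv)))
      · exact Or.inr (eq_top_iff.2 fun v _ => H9.EAMod.val_mem_toSubgroup.1 (e.ge v.val_mem))
  have nu : H29.NU (ZMod q) (G.map φ) := (H29.nu_of_irreducible irr).normal (map_le_range φ G) (by
    rintro _ ⟨y, rfl⟩
    exact H29.conjBy_eq_self_iff.2 (norm_map φ (X := ⊤) (normalizer_eq_top G).ge ⟨y, mem_top y, rfl⟩))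
  have nR : R ≤ N⟦G⟧ := le_top.trans (normalizer_eq_top G).ge
  have sq := H9.eaRep_quadratic (hV := hE) (hH := h.2.1) ⟨g, mem_top g⟩ hq
  have := thmB h3 (R := R.map φ) (G.map φ) (px_of_nu h3 _ nu) (norm_map φ nR)
    (Nat.Coprime.coprime_dvd_left (card_map_dvd G φ) (hc.coprime_dvd_right (card_map_dvd R φ)))
    (hs.imp (sol_map φ) (sol_map φ)) (P.map φ) (map_mono hPG) (hP.map φ) (norm_map φ n1)
    (coprime_map_cent φ nR hc hs ▸ norm_map φ n2) _ (mem_QT sq (by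
      convert mem_map_of_mem φ hg using 1
      ext1
      rw [H29.U1_val, φv, add_sub_cancel]))
  exact (H9.eaRep_eq_one_iff _).1 (sub_eq_zero.1 this)

/-- Theorem B for a chief factor -/
theorem thmB_chief {Y : Type*} [Group Y] [Finite Y] {G R P U V : Subgroup Y} [G.Normal] (h3 : 3 < p)
    (hc : (♯G).Coprime (♯R)) (hs : SolOr R G) (hPG : P ≤ G) (hP : IsPGroup p P) (n1 : R ≤ N⟦P⟧)
    (n2 : G ⊓ C⟦R⟧ ≤ N⟦P⟧) (h : IsChiefFactor U V) (hU : IsPGroup p U) {g : Y} (hg : g ∈ P)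
    (hq : ⁅⁅U, zpowers g⁆, zpowers g⁆ ≤ V) : ⁅U, zpowers g⁆ ≤ V := by
  have := h.2.1
  have := h.2.2.1
  set f := QuotientGroup.mk' V with hf
  have hsurj : Function.Surjective f := QuotientGroup.mk'_surjective V
  have : (G.map f).Normal := Normal.map inferInstance f hsurj
  have : (U.map f).Normal := Normal.map inferInstance f hsurj
  have kb : ∀ A : Subgroup Y, A.map f = ⊥ ↔ A ≤ V := fun A => by
    rw [Subgroup.map_eq_bot_iff, hf, QuotientGroup.ker_mk']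
  have nR : R ≤ N⟦G⟧ := le_top.trans (normalizer_eq_top G).ge
  have := thmB_min (G := G.map f) (R := R.map f) (P := P.map f) (V := U.map f) h3
    (Nat.Coprime.coprime_dvd_left (card_map_dvd G f) (hc.coprime_dvd_right (card_map_dvd R f)))
    (hs.imp (sol_map f) (sol_map f)) (map_mono hPG) (hP.map f) (norm_map f n1)
    (coprime_map_cent f nR hc hs ▸ norm_map f n2)
    ⟨fun e => h.1.not_ge ((kb U).1 e), (normalizer_eq_top _).ge, fun W hW hn h1 => by
      have : W.Normal := normalizer_eq_top_iff.1 (top_le_iff.1 hn)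
      rcases h.2.2.2 (W.comap f) inferInstance (fun v hv => by
        rw [mem_comap, show f v = 1 from (QuotientGroup.eq_one_iff v).2 hv]; exact one_mem _) ((comap_mono hW).trans (by
          rw [comap_map_eq, hf, QuotientGroup.ker_mk']; exact sup_le le_rfl h.1.le)) with e | e
      · exact absurd (by rw [← map_comap_eq_self_of_surjective hsurj W, e, kb]) h1
      · rw [← e, map_comap_eq_self_of_surjective hsurj]⟩ (hU.map f) (mem_map_of_mem f hg)
    (by rw [← MonoidHom.map_zpowers, ← map_commutator, ← map_commutator, kb]; exact hq)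
  rw [← kb, map_commutator, MonoidHom.map_zpowers, commutator_comm, commg_eq_bot]
  exact zpowers_le.2 this

/-- the K-infinity sequence of `P` lies in `T` -/
theorem kseq_le {Y : Type*} [Group Y] [Finite Y] {G R P T : Subgroup Y} [G.Normal] [T.Normal] (h3 : 3 < p)
    (hc : (♯G).Coprime (♯R)) (hs : SolOr R G) (hPG : P ≤ G) (hP : IsPGroup p P) (n1 : R ≤ N⟦P⟧)
    (n2 : G ⊓ C⟦R⟧ ≤ N⟦P⟧) (hTP : T ≤ P) (hC : G ⊓ C⟦T⟧ ≤ T)
    (hmax : ∀ N ≤ G, N.Normal → IsPGroup p N → N ≤ T) :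
    ∀ n, L0.kEven P n ≤ T ∧ L0.kOdd P (n + 1) ≤ T := by
  by_contra hK
  have hT := hP.to_le hTP
  obtain ⟨A, _, a1, a2, -, a4⟩ := L0.exists_critical hT
  have a5 : ⁅A, A⁆ ≤ C⟦A⟧ := (commutator_mono a1 le_rfl).trans (a2.trans inf_le_right)
  obtain ⟨B, hBS, hBT, h1, h2⟩ := L0.exists_kinf_subgroup hTP a1 a5 a2 hK
  have hA := hT.to_le a1
  have nG : H24.ncl B ⊤ ≤ G := H24.ncl_le (hBS.trans hPG) (normalizer_eq_top G).ge
  have h4 : ¬ pResidualOf p (H24.ncl B ⊤) ≤ C⟦A⟧ := fun h =>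
    hBT ((H24.le_ncl B ⊤).trans (hmax _ nG inferInstance (H24.pResidualOf_eq_bot_iff.1 (le_bot_iff.1
      (H24.pResidualOf_le_iff_forall.2 fun x hx hc => (H24.pGrpMod_bot.2 hT).mem_of_coprime
        (hC ⟨nG hx, a4 x hc (h (H24.mem_pResidualOf hx hc))⟩) hc)))))
  obtain ⟨U, V, h, hU, h5, h6⟩ : ∃ U V, IsChiefFactor U V ∧ U ≤ A ∧ ⁅⁅U, B⁆, B⁆ ≤ V ∧
      ¬ ⁅U, B⁆ ≤ V := by
    rcases h2 with h2 | h2
    · obtain ⟨U, V, h, hU, h5⟩ := L0.exists_chief_not_centralized hA h4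
      exact ⟨U, V, h, hU, L0.chief_quadratic_of_two_step h
        ((commutator_mono (commutator_mono hU le_rfl) le_rfl).trans h2) h1, h5⟩
    · exact L0.exists_quadratic_chief hA a5 h4 h1 h2.2.1 h2.2.2.1 h2.2.2.2
  have := h.2.2.1
  obtain ⟨g, hg, h7⟩ := L0.exists_not_commutator_zpowers_le h6
  exact h7 (thmB_chief h3 hc hs hPG hP n1 n2 h (hA.to_le hU) (hBS hg)
    ((commutator_mono (commutator_mono le_rfl (zpowers_le.2 hg)) (zpowers_le.2 hg)).trans h5))

/-- ambient form -/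
theorem kinf_norm {X : Type u} [Group X] [Finite X] {G R P : Subgroup X} (h3 : 3 < p) (hR : R ≤ N⟦G⟧)
    (hc : (♯G).Coprime (♯R)) (hs : SolOr R G) (hPG : P ≤ G) (hP : IsPGroup p P) (n1 : R ≤ N⟦P⟧)
    (n2 : G ⊓ C⟦R⟧ ≤ N⟦P⟧) (hTP : piCoreOf {p} G ≤ P) (hC : G ⊓ C⟦piCoreOf {p} G⟧ ≤ piCoreOf {p} G) :
    N⟦G⟧ ≤ N⟦inducedFunctor kInfLower P⟧ := by
  set Y := N⟦G⟧ with hY
  set T := piCoreOf {p} G with hT
  have gY : G ≤ Y := le_normalizer
  have : (G.subgroupOf Y).Normal := NormalIn.subgroupOf_normal ⟨gY, le_rfl⟩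
  have : (T.subgroupOf Y).Normal := NormalIn.subgroupOf_normal ⟨(hTP.trans hPG).trans gY, norm_piCoreOf _ le_rfl⟩
  have sub : ∀ {A B : Subgroup X}, B ≤ Y → A.subgroupOf Y ⊓ C⟦B.subgroupOf Y⟧ ≤ (A ⊓ C⟦B⟧).subgroupOf Y :=
    fun hB x hx => ⟨hx.1, fun b hb => congrArg Subtype.val (hx.2 ⟨b, hB hb⟩ hb)⟩
  have so : ∀ {A : Subgroup X}, A ≤ Y → Group.IsSolvable A → Group.IsSolvable (A.subgroupOf Y) :=
    fun hA _ => Group.isSolvable_of_isSolvable_injective (f := (subgroupOfEquivOfLe hA).toMonoidHom)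
      (subgroupOfEquivOfLe hA).injective
  have key := kseq_le (G := G.subgroupOf Y) (R := R.subgroupOf Y) (P := P.subgroupOf Y)
    (T := T.subgroupOf Y) h3 (by rwa [card_subgroupOf gY, card_subgroupOf hR])
    (hs.imp (so hR) (so gY))
    (comap_mono hPG) hP.comap_subtype (norm_comap _ n1) ((sub hR).trans (norm_comap _ n2))
    (comap_mono hTP) ((sub ((hTP.trans hPG).trans gY)).trans (comap_mono hC)) (fun N hN hn hp => by
      rw [hT, ← piCoreOf_subgroupOf _ gY]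
      exact le_pCoreOf ⟨hN, le_top.trans (normalizer_eq_top N).ge⟩ hp)
  have hn : (inducedFunctor kInfLower (P.subgroupOf Y)).Normal := by
    by_contra h
    exact L0.not_kSeq_le_of_not_normal (T := T.subgroupOf Y) (hP.comap_subtype.to_le (comap_mono hTP))
      (comap_mono hTP) (Or.inl h) key
  have e : (inducedFunctor kInfLower (P.subgroupOf Y)).map Y.subtype = inducedFunctor kInfLower P := by
    rw [inducedFunctor, map_map, L0.map_kInfLower (f := Y.subtype.comp (P.subgroupOf Y).subtype)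
      (Y.subtype_injective.comp (subtype_injective _)),
      L0.ind_kInfLower, MonoidHom.range_comp, range_subtype, subgroupOf_map_subtype,
      inf_eq_left.2 (hPG.trans gY)]
  rw [← e]
  have := norm_map Y.subtype (X := ⊤) (normalizer_eq_top (inducedFunctor kInfLower (P.subgroupOf Y))).ge
  rwa [← MonoidHom.range_eq_map, range_subtype] at this

end Cfsg.Agent.H25.QB
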