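import Cfsg.Agent.H25.QB4
import Cfsg.Agent.H10.Comp
import Cfsg.Agent.H24.Base5
import Cfsg.Agent.BG.S01b

/-! The equivariant K-infinity theorem modulo a centralized `O^p(F^*)`. -/

set_option autoImplicit false

namespace Cfsg.Agent.H25.QB

open Subgroup Cfsg.Agent.H20 Cfsg.Agent.H21
open scoped commutatorElement

universe u

variable {p : ℕ} [hp : Fact p.Prime]

section gen
variable {X : Type*} [Group X] [Finite X] {N W S H Q K : Subgroup X}

theorem cop_of_pgroup {q : ℕ} [hq : Fact q.Prime] (hS : IsPGroup q S) (h : q ≠ p) {x : X} (hx : x ∈ S) :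
    (orderOf x).Coprime p :=
  Nat.Coprime.coprime_dvd_left (orderOf_dvd_natCard S hx)
    (coprime_of_isPGroup hS ((Nat.coprime_primes hp.out hq.out).2 h.symm))

theorem le_of_sylow_cop (hS : SylowOf p S N) (h1 : S ≤ W) (h2 : ∀ x ∈ N, (orderOf x).Coprime p → x ∈ W) :
    N ≤ W := le_of_forall_sylow fun s hs _ => by
  by_cases e : s = p
  · exact ⟨S, e ▸ hS, h1⟩
  have := Fact.mk hs
  obtain ⟨D, hD⟩ := exists_sylowOf s N
  exact ⟨D, hD, fun x hx => h2 x (hD.le hx) (cop_of_pgroup hD.isPGroup e hx)⟩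

theorem syl_core (h : ∀ x ∈ N, (orderOf x).Coprime p → x ∈ C⟦N⟧) : SylowOf p (piCoreOf {p} N) N := by
  obtain ⟨S, hS⟩ := exists_sylowOf p N
  have n : N ≤ N⟦S⟧ := le_of_sylow_cop hS le_normalizer fun x hx hc =>
    cent_le_norm S (cent_anti hS.le (h x hx hc))
  rwa [hS.pgroup_eq_of_le (isPGroup_piCoreOf p N) (le_pCoreOf ⟨hS.le, n⟩ hS.isPGroup) (piCoreOf_le _ _)]

variable (p) in
/-- `O^p(F^*(H))` -/
abbrev DD (H : Subgroup X) : Subgroup X := pResidualOf p (H10.FstarOf H)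

omit hp [Finite X] in
theorem DD_le : DD p H ≤ H := (H24.pResidualOf_le p _).trans H10.FstarOf_le

omit hp [Finite X] in
theorem norm_DD (h : K ≤ N⟦H⟧) : K ≤ N⟦DD p H⟧ :=
  H24.le_normalizer_pResidualOf_of (H10.le_normalizer_FstarOf h)

theorem lay_le_DD : H10.LayOf H ≤ DD p H := by
  rw [← H24.pResidualOf_eq_self_of_perfect (p := p) (H10.LayOf_perfect (H := H))]
  exact H24.pResidualOf_mono H10.LayOf_le_FstarOf

theorem op_le_DD {q : ℕ} [Fact q.Prime] (h : q ≠ p) : H10.OpOf q H ≤ DD p H := fun _ hx =>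
  H24.mem_pResidualOf (H10.FitOf_le_FstarOf (H10.OpOf_le_FitOf q hx)) (cop_of_pgroup H10.OpOf_isPGroup h hx)

theorem fstar_le : H10.FstarOf H ≤ DD p H ⊔ piCoreOf {p} H := by
  rw [H10.FstarOf_eq, H10.FitOf_eq_iSup_OpOf]
  refine sup_le (lay_le_DD.trans le_sup_left) (iSup_le fun q => ?_)
  have := Fact.mk q.2
  by_cases e : (q : ℕ) = p
  · rw [e, H10.OpOf_def, map_pCore]; exact le_sup_right
  · exact (op_le_DD e).trans le_sup_left

theorem DD_le_of (h1 : H10.LayOf H ≤ W) (h2 : ∀ q : ℕ, q.Prime → q ≠ p → H10.OpOf q H ≤ W) :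
    DD p H ≤ W := by
  set A := H10.LayOf H ⊔ ⨆ q : {q : ℕ // q.Prime ∧ q ≠ p}, H10.OpOf q H
  have a1 : H10.FstarOf H ≤ A ⊔ H10.OpOf p H := by
    rw [H10.FstarOf_eq, H10.FitOf_eq_iSup_OpOf]
    refine sup_le (le_sup_left.trans le_sup_left) (iSup_le fun q => ?_)
    by_cases e : (q : ℕ) = p
    · rw [e]; exact le_sup_right
    · exact (le_iSup (fun q : {q : ℕ // q.Prime ∧ q ≠ p} => H10.OpOf q H) ⟨q, q.2, e⟩).trans
        (le_sup_right.trans le_sup_left)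
  refine (H24.pResidualOf_mono a1).trans ?_
  rw [sup_comm, H24.pResidualOf_sup_of_isPGroup H10.OpOf_isPGroup (norm_sup
    (H10.le_normalizer_LayOf (norm_of_le H10.OpOf_le))
    (norm_iSup fun _ => H10.le_normalizer_OpOf (norm_of_le H10.OpOf_le)))]
  exact (H24.pResidualOf_le _ _).trans (sup_le h1 (iSup_le fun q => h2 q q.2.1 q.2.2))

theorem DD_cent (hQ : IsPGroup p Q) (hQH : Q ≤ H) (hn : DD p H ≤ N⟦Q⟧) : DD p H ≤ C⟦Q⟧ :=
  DD_le_of (commg_eq_bot.1 (H10.commutator_LayOf_solvable hQH (lay_le_DD.trans hn) (sol_of_pgroup hQ)))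
    fun q hq e => by
      have := Fact.mk hq
      exact cent_of_coprime ((op_le_DD e).trans hn) (H10.le_normalizer_OpOf (norm_of_le hQH))
        (coprime_of_isPGroup_ne H10.OpOf_isPGroup hQ e)

theorem DD_cent_core : DD p H ≤ C⟦piCoreOf {p} H⟧ :=
  DD_cent (isPGroup_piCoreOf p H) (piCoreOf_le _ _) (norm_piCoreOf _ (norm_of_le DD_le))

theorem cent_le_fstar : H ⊓ C⟦DD p H⟧ ⊓ C⟦piCoreOf {p} H⟧ ≤ H ⊓ C⟦H10.FstarOf H⟧ :=
  le_inf (inf_le_left.trans inf_le_left)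
    ((le_cent_sup (inf_le_left.trans inf_le_right) inf_le_right).trans (cent_anti fstar_le))

theorem mem_DD {x : X} (hx : x ∈ H) (hc : (orderOf x).Coprime p) (h1 : x ∈ C⟦DD p H⟧)
    (h2 : x ∈ C⟦piCoreOf {p} H⟧) : x ∈ DD p H :=
  H24.mem_pResidualOf (H10.inf_centralizer_FstarOf_le H (cent_le_fstar ⟨⟨hx, h1⟩, h2⟩)) hc

theorem le_core (hQ : IsPGroup p Q) (hx : Q ≤ H) (h1 : Q ≤ C⟦DD p H⟧) (h2 : Q ≤ C⟦piCoreOf {p} H⟧) :
    Q ≤ piCoreOf {p} H :=
  le_pCoreOf_of_le_fittingOf (((le_inf (le_inf hx h1) h2).trans cent_le_fstar).trans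
    (H10.inf_centralizer_FstarOf_le_FitOf H)) hQ

/-- criterion for `R` to centralize `O^p(F^*(H))` -/
theorem cent_DD {R : Subgroup X} (hR : R ≤ N⟦H⟧) (hc : (♯H).Coprime (♯R))
    (hs : Group.IsSolvable ↥⁅DD p H, R⁆)
    (h : ∀ x ∈ ⁅DD p H, R⁆, (orderOf x).Coprime p → x ∈ C⟦R⟧) : R ≤ C⟦DD p H⟧ := by
  refine cent_symm (DD_le_of ?_ fun q hq e => ?_)
  · set L := H10.LayOf H
    have n : R ≤ N⟦L⟧ := H10.le_normalizer_LayOf hR
    have e : ⁅L, ⁅L, R⁆⁆ = ⊥ := H10.commutator_LayOf_solvable ((commg_le_left n).trans H10.LayOf_le)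
      (le_sup_left.trans (sup_le_norm_commg L R)) (sol_of_le hs (commutator_mono lay_le_DD le_rfl))
    rw [← commg_eq_bot, ← show ⁅L, L⁆ = L from H10.LayOf_perfect]
    exact le_bot_iff.1 (three_subgroup_le (by simp) (by simp) (by simp)
      (by rw [commutator_comm]; exact e.le) (by rw [commutator_comm, commutator_comm R]; exact e.le))
  · have := Fact.mk hq
    have n : R ≤ N⟦H10.OpOf q H⟧ := H10.le_normalizer_OpOf hR
    exact cent_symm (coprime_cent_of_commg_cent n (coprime_of_le_left hc H10.OpOf_le) fun x hx =>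
      h x (commutator_mono (op_le_DD e) le_rfl hx) (cop_of_pgroup H10.OpOf_isPGroup e (commg_le_left n hx)))

end gen

theorem kseq_le' {Y : Type*} [Group Y] [Finite Y] {G R P T D : Subgroup Y} [G.Normal] [T.Normal] [D.Normal]
    (h3 : 3 < p) (hc : (♯G).Coprime (♯R)) (hs : SolOr R G) (hPG : P ≤ G) (hP : IsPGroup p P)
    (n1 : R ≤ N⟦P⟧) (n2 : G ⊓ C⟦R⟧ ≤ N⟦P⟧) (hTP : T ≤ P) (hD : P ≤ C⟦D⟧)
    (hC : ∀ x ∈ G, (orderOf x).Coprime p → x ∈ C⟦D⟧ → x ∈ C⟦T⟧ → x ∈ D)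
    (hmax : ∀ N ≤ G, N.Normal → IsPGroup p N → N ≤ T) :
    ∀ n, L0.kEven P n ≤ T ∧ L0.kOdd P (n + 1) ≤ T := by
  by_contra hK
  have hT := hP.to_le hTP
  obtain ⟨A, _, a1, a2, -, a4⟩ := L0.exists_critical hT
  have a5 : ⁅A, A⁆ ≤ C⟦A⟧ := (commutator_mono a1 le_rfl).trans (a2.trans inf_le_right)
  obtain ⟨B, hBS, hBT, h1, h2⟩ := L0.exists_kinf_subgroup hTP a1 a5 a2 hK
  have hA := hT.to_le a1
  have nG : H24.ncl B ⊤ ≤ G := H24.ncl_le (hBS.trans hPG) (normalizer_eq_top G).ge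
  have nD : H24.ncl B ⊤ ≤ C⟦D⟧ := H24.ncl_le (hBS.trans hD) (normalizer_eq_top _).ge
  have h4 : ¬ pResidualOf p (H24.ncl B ⊤) ≤ C⟦A⟧ := fun h => by
    have s := syl_core (p := p) (N := H24.ncl B ⊤) fun x hx hc =>
      cent_symm nD (hC x (nG hx) hc (nD hx) (a4 x hc (h (H24.mem_pResidualOf hx hc))))
    have n : ⊤ ≤ N⟦piCoreOf {p} (H24.ncl B ⊤)⟧ := norm_piCoreOf _ (normalizer_eq_top _).ge
    exact hBT ((s.pgroup_le_of_norm (hP.to_le hBS) (H24.le_ncl B ⊤) (Or.inl (le_top.trans n))).trans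
      (hmax _ (s.le.trans nG) (normalizer_eq_top_iff.1 (top_le_iff.1 n)) s.isPGroup))
  obtain ⟨U, V, h, hU, h5, h6⟩ : ∃ U V, IsChiefFactor U V ∧ U ≤ A ∧ ⁅⁅U, B⁆, B⁆ ≤ V ∧
      ¬ ⁅U, B⁆ ≤ V := by
    rcases h2 with h2 | h2
    · obtain ⟨U, V, h, hU, h5⟩ := L0.exists_chief_not_centralized hA h4
      exact ⟨U, V, h, hU, L0.chief_quadratic_of_two_step h
        ((commutator_mono (commutator_mono hU le_rfl) le_rfl).trans h2) h1, h5⟩
    · exact L0.exists_quadratic_chief hA a5 h4 h1 h2.2.1 h2.2.2.1 h2.2.2.2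
  have := h.2.2.1
  obtain ⟨g, hg, h7⟩ := L0.exists_not_commutator_zpowers_le h6
  exact h7 (thmB_chief h3 hc hs hPG hP n1 n2 h (hA.to_le hU) (hBS hg)
    ((commutator_mono (commutator_mono le_rfl (zpowers_le.2 hg)) (zpowers_le.2 hg)).trans h5))

/-- the K-infinity theorem when `R` centralizes `O^p(F^*(G))` -/
theorem kinf_norm' {X : Type u} [Group X] [Finite X] {G R P : Subgroup X} (h3 : 3 < p) (hR : R ≤ N⟦G⟧)
    (hc : (♯G).Coprime (♯R)) (hs : SolOr R G) (hPG : P ≤ G) (hP : IsPGroup p P) (n1 : R ≤ N⟦P⟧)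
    (n2 : G ⊓ C⟦R⟧ ≤ N⟦P⟧) (hTP : piCoreOf {p} G ≤ P) (hC : R ≤ C⟦DD p G⟧) :
    N⟦G⟧ ≤ N⟦inducedFunctor kInfLower P⟧ := by
  have hD : P ≤ C⟦DD p G⟧ := cent_symm (DD_cent hP hPG ((le_inf DD_le (cent_symm hC)).trans n2))
  set Y := N⟦G⟧ with hY
  set T := piCoreOf {p} G with hT
  have gY : G ≤ Y := le_normalizer
  have : (G.subgroupOf Y).Normal := NormalIn.subgroupOf_normal ⟨gY, le_rfl⟩
  have : (T.subgroupOf Y).Normal := NormalIn.subgroupOf_normal ⟨(hTP.trans hPG).trans gY, norm_piCoreOf _ le_rfl⟩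
  have : ((DD p G).subgroupOf Y).Normal := NormalIn.subgroupOf_normal ⟨DD_le.trans gY, norm_DD le_rfl⟩
  have sub : ∀ {B : Subgroup X}, B ≤ Y → C⟦B.subgroupOf Y⟧ ≤ C⟦B⟧.subgroupOf Y :=
    fun hB x hx b hb => congrArg Subtype.val (hx ⟨b, hB hb⟩ hb)
  have so : ∀ {A : Subgroup X}, A ≤ Y → Group.IsSolvable A → Group.IsSolvable (A.subgroupOf Y) :=
    fun hA _ => Group.isSolvable_of_isSolvable_injective (f := (subgroupOfEquivOfLe hA).toMonoidHom)
      (subgroupOfEquivOfLe hA).injective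
  have key := kseq_le' (G := G.subgroupOf Y) (R := R.subgroupOf Y) (P := P.subgroupOf Y)
    (T := T.subgroupOf Y) (D := (DD p G).subgroupOf Y) h3 (by rwa [card_subgroupOf gY, card_subgroupOf hR])
    (hs.imp (so hR) (so gY))
    (comap_mono hPG) hP.comap_subtype (norm_comap _ n1)
    ((inf_le_inf_left _ (sub hR)).trans (norm_comap _ n2))
    (comap_mono hTP) (fun x hx d hd => Subtype.ext (hD hx d hd))
    (fun x hx hc h1 h2 => mem_DD hx (by rwa [← orderOf_coe] at hc) (sub (DD_le.trans gY) h1)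
      (sub ((hTP.trans hPG).trans gY) h2)) (fun N hN hn hp => by
      rw [hT, ← piCoreOf_subgroupOf _ gY]
      exact le_pCoreOf ⟨hN, le_top.trans (normalizer_eq_top N).ge⟩ hp)
  have hn : (inducedFunctor kInfLower (P.subgroupOf Y)).Normal := by
    by_contra h
    exact L0.not_kSeq_le_of_not_normal (T := T.subgroupOf Y) (hP.comap_subtype.to_le (comap_mono hTP))
      (comap_mono hTP) (Or.inl h) key
  have e : (inducedFunctor kInfLower (P.subgroupOf Y)).map Y.subtype = inducedFunctor kInfLower P := by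
    rw [inducedFunctor, map_map, L0.map_kInfLower (f := Y.subtype.comp (P.subgroupOf Y).subtype)
      (Y.subtype_injective.comp (subtype_injective _)),
      L0.ind_kInfLower, MonoidHom.range_comp, range_subtype, subgroupOf_map_subtype,
      inf_eq_left.2 (hPG.trans gY)]
  rw [← e]
  have := norm_map Y.subtype (X := ⊤) (normalizer_eq_top (inducedFunctor kInfLower (P.subgroupOf Y))).ge
  rwa [← MonoidHom.range_eq_map, range_subtype] at this

end Cfsg.Agent.H25.QB
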