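import Cfsg.Agent.H25.QB5

/-! Flavell: noncyclic abelian coprime operators and `O^p(F^*)`. -/

set_option autoImplicit false

namespace Cfsg.Agent.H25.QB

open Subgroup Cfsg.Agent.H20 Cfsg.Agent.H21
open scoped commutatorElement

universe u

variable {p : ℕ} [hp : Fact p.Prime] {X : Type u} [Group X] [Finite X] {G R P Q J H K M : Subgroup X}

/-- `R C_G(R)`-invariant `p`-subgroups -/
structure Inv (p : ℕ) (G R Q : Subgroup X) : Prop where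
  le : Q ≤ G
  pg : IsPGroup p Q
  n1 : R ≤ N⟦Q⟧
  n2 : G ⊓ C⟦R⟧ ≤ N⟦Q⟧

theorem exists_maxInv (hR : R ≤ N⟦G⟧) (hc : (♯G).Coprime (♯R)) (hs : SolOr R G) :
    ∃ P, Inv p G R P ∧ ∀ Q, Inv p G R Q → Q ≤ P := by
  obtain ⟨S, s1, s2⟩ := exists_inv_sylow p hR hc hs
  have : (⨆ Q : {Q // Inv p G R Q}, Q.1) ≤ S :=
    iSup_le fun Q => le_inv_sylow hR hc hs Q.2.pg Q.2.le Q.2.n1 Q.2.n2 s1 s2
  exact ⟨_, ⟨this.trans s1.le, s1.isPGroup.to_le this, norm_iSup fun Q => Q.2.n1, norm_iSup fun Q => Q.2.n2⟩,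
    fun Q hQ => le_iSup (fun Q : {Q // Inv p G R Q} => Q.1) ⟨Q, hQ⟩⟩

theorem inv_core (h : K ≤ G) (h1 : R ≤ N⟦K⟧) (h2 : G ⊓ C⟦R⟧ ≤ N⟦K⟧) : Inv p G R (piCoreOf {p} K) :=
  ⟨(piCoreOf_le _ _).trans h, isPGroup_piCoreOf p K, norm_piCoreOf _ h1, norm_piCoreOf _ h2⟩

/-- the lower K-infinity subgroup -/
abbrev Kf (S : Subgroup X) : Subgroup X := inducedFunctor kInfLower S

omit [Finite X] in
theorem Kf_le (S : Subgroup X) : Kf S ≤ S := map_subtype_le _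

theorem Kf_cent {S : Subgroup X} (hS : IsPGroup p S) : S ⊓ C⟦Kf S⟧ ≤ Kf S := by
  rw [Kf, L0.ind_kInfLower]; exact (L0.centralizer_kInf hS).1

theorem norm_Kf {S Y : Subgroup X} (hS : IsPGroup p S) (h : Y ≤ N⟦S⟧) : Y ≤ N⟦Kf S⟧ := by
  have : (kInfLower S).Characteristic := characteristic_iff_map_eq.2 fun φ =>
    L0.isCharPFunctor_kInfLower.2 _ _ hS φ
  exact CharIn.norm charIn_map_subtype h

structure Set1 (p : ℕ) (G R P : Subgroup X) : Prop where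
  h3 : 3 < p
  hR : R ≤ N⟦G⟧
  hc : (♯G).Coprime (♯R)
  hab : IsMulCommutative R
  hnc : ¬ IsCyclic R
  loc : ∀ a ∈ R, a ≠ 1 → R ≤ C⟦DD p (G ⊓ C₁⟦a⟧)⟧
  inv : Inv p G R P
  max : ∀ Q, Inv p G R Q → Q ≤ P

namespace Set1
variable (h : Set1 p G R P)
include h

omit hp [Finite X] in
theorem sol : SolOr R K := Or.inl (sol_of_comm h.hab)

omit hp [Finite X] in
theorem nc {c : X} (hc : c ∈ R) : R ≤ N⟦C₁⟦c⟧⟧ :=
  norm_cent1 fun r hr => mem_cent1.2 (comm_iff.1 h.hab r hr c hc)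

omit hp [Finite X] h in
theorem nc' {c : X} (hc : c ∈ R) : G ⊓ C⟦R⟧ ≤ N⟦C₁⟦c⟧⟧ :=
  norm_cent1 (inf_le_right.trans (cent_le_cent1 hc))

theorem xc {c : X} (hc : c ∈ R) (c1 : c ≠ 1) (hJ : J ≤ G ⊓ C₁⟦c⟧) (n1 : R ≤ N⟦J⟧) (n2 : G ⊓ C⟦R⟧ ≤ N⟦J⟧)
    (hx : ∀ x ∈ J, (orderOf x).Coprime p → x ∈ C⟦piCoreOf {p} (G ⊓ C₁⟦c⟧)⟧) : J ≤ (G ⊓ C⟦R⟧) ⊔ P := by
  have j1 : ⁅J, R⁆ ≤ J := commg_le_left n1
  have j2 : ⁅J, R⁆ ≤ C⟦DD p (G ⊓ C₁⟦c⟧)⟧ := (commutator_mono le_rfl (h.loc c hc c1)).trans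
    (commg_le_right (norm_cent (norm_DD (norm_of_le hJ))))
  have j3 : ∀ x ∈ ⁅J, R⁆, (orderOf x).Coprime p → x ∈ DD p (G ⊓ C₁⟦c⟧) := fun x m e =>
    mem_DD (hJ (j1 m)) e (j2 m) (hx x (j1 m) e)
  have s := syl_core (p := p) (N := ⁅J, R⁆) fun x m e => cent_symm j2 (j3 x m e)
  have jG := hJ.trans inf_le_left
  rw [← coprime_commg_sup_cent n1 (coprime_of_le_left h.hc jG) h.sol]
  exact sup_le (le_of_sylow_cop s ((h.max _ (inv_core (j1.trans jG) (norm_commutator n1 le_normalizer)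
    (norm_commutator n2 (norm_of_cent inf_le_right)))).trans le_sup_right)
    fun x m e => mem_sup_left ⟨jG (j1 m), cent_symm (h.loc c hc c1) (j3 x m e)⟩)
    ((inf_le_inf_right _ jG).trans le_sup_left)

theorem cq (hQ : Inv p G R Q) (hM : (G ⊓ C⟦R⟧) ⊔ P ≤ M)
    (hi : ∀ Q', Inv p G R Q' → Q < Q' → ¬ P ⊓ C⟦Q⟧ ≤ Q → G ⊓ N⟦Q'⟧ ≤ M) : G ⊓ C⟦Q⟧ ≤ M := by
  have k1 : R ≤ N⟦G ⊓ C⟦Q⟧⟧ := norm_inf_cent h.hR hQ.n1
  have k2 : G ⊓ C⟦R⟧ ≤ N⟦G ⊓ C⟦Q⟧⟧ := norm_inf_cent (norm_of_le inf_le_left) hQ.n2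
  refine BG.coprime_abelian_gen_cent1 h.hab h.hnc k1 (coprime_of_le_left h.hc inf_le_left) fun c hc c1 => ?_
  have hU : Inv p G R (piCoreOf {p} (G ⊓ C₁⟦c⟧)) := inv_core inf_le_left (norm_inf h.hR (h.nc hc))
    (norm_inf (norm_of_le inf_le_left) (nc' hc))
  set U := piCoreOf {p} (G ⊓ C₁⟦c⟧) with eU
  have q2 : Q ⊔ U ≤ P := sup_le (h.max _ hQ) (h.max _ hU)
  have jl : G ⊓ C⟦Q⟧ ⊓ C₁⟦c⟧ ≤ G ⊓ C₁⟦c⟧ := inf_le_inf_right _ inf_le_left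
  have jq : G ⊓ C⟦Q⟧ ⊓ C₁⟦c⟧ ≤ C⟦Q⟧ := inf_le_left.trans inf_le_right
  have jn : G ⊓ C⟦Q⟧ ⊓ C₁⟦c⟧ ≤ N⟦Q ⊔ U⟧ := norm_sup (norm_of_cent jq) (norm_piCoreOf _ (norm_of_le jl))
  by_cases e : (Q ⊔ U) ⊓ C⟦Q⟧ ≤ Q
  · refine (h.xc hc c1 jl (norm_inf k1 (h.nc hc)) (norm_inf k2 (nc' hc)) fun x hx ex => ?_).trans hM
    have z : Q ≤ C⟦zpowers x⟧ := cent_symm (zpowers_le.2 (jq hx))
    exact cent_anti le_sup_right (coprime_pxq hQ.pg (h.inv.pg.to_le q2) (by rwa [Nat.card_zpowers]) z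
      (norm_of_le le_sup_left) (zpowers_le.2 (jn hx)) (e.trans z) (mem_zpowers x))
  · have q3 : Q ⊔ (Q ⊔ U) ⊓ C⟦Q⟧ ≤ P := sup_le (h.max _ hQ) (inf_le_left.trans q2)
    refine le_trans (le_inf (jl.trans inf_le_left) (norm_sup (norm_of_cent jq)
      (norm_inf_cent jn (norm_of_cent jq)))) (hi _ ⟨q3.trans h.inv.le, h.inv.pg.to_le q3,
        norm_sup hQ.n1 (norm_inf_cent (norm_sup hQ.n1 hU.n1) hQ.n1),
        norm_sup hQ.n2 (norm_inf_cent (norm_sup hQ.n2 hU.n2) hQ.n2)⟩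
      (lt_of_le_of_ne le_sup_left fun e' => e (le_sup_right.trans e'.ge))
      fun e' => e ((inf_le_inf_right _ q2).trans e'))

omit h in
theorem le_core' (hQ : Inv p G R Q) : Q ≤ piCoreOf {p} (G ⊓ N⟦Q⟧) :=
  le_pCoreOf ⟨le_inf hQ.le le_normalizer, inf_le_right⟩ hQ.pg

omit h in
theorem DD_le_cent (hQ : Inv p G R Q) : DD p (G ⊓ N⟦Q⟧) ≤ G ⊓ C⟦Q⟧ :=
  le_inf (DD_le.trans inf_le_left) (DD_cent_core.trans (cent_anti (le_core' hQ)))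

theorem good1 (hQ : Inv p G R Q) (hc : P ⊓ C⟦Q⟧ ≤ Q) : R ≤ C⟦DD p (G ⊓ N⟦Q⟧)⟧ := by
  have e : ⁅DD p (G ⊓ N⟦Q⟧), R⁆ ≤ P := (commutator_mono ((DD_le_cent hQ).trans
    (h.cq hQ le_rfl fun _ _ _ e => absurd hc e)) le_rfl).trans (commg_sup_left_le h.inv.n2 le_normalizer
      ((commg_eq_bot.2 inf_le_right).le.trans bot_le) (commg_le_left h.inv.n1))
  refine cent_DD (norm_inf_norm h.hR hQ.n1) (coprime_of_le_left h.hc inf_le_left)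
    (sol_of_le (sol_of_pgroup h.inv.pg) e) fun x hx ex => ?_
  have : x ∈ (⊥ : Subgroup X) := (H24.pGrpMod_bot.2 h.inv.pg).mem_of_coprime (e hx) ex
  exact bot_le (a := C⟦R⟧) this

theorem good2 (hQ : Inv p G R Q) (m2 : R ≤ N⟦M⟧) (m3 : R ≤ C⟦DD p M⟧) (m4 : Q ≤ M)
    (m5 : piCoreOf {p} M ≤ P) (hc : G ⊓ C⟦Q⟧ ≤ M) : R ≤ C⟦DD p (G ⊓ N⟦Q⟧)⟧ := by
  have nH : R ≤ N⟦G ⊓ N⟦Q⟧⟧ := norm_inf_norm h.hR hQ.n1
  have d1 := DD_le_cent hQ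
  have d2 := d1.trans hc
  set T := piCoreOf {p} M
  have d3 : DD p (G ⊓ N⟦Q⟧) ≤ C⟦T ⊓ C⟦Q⟧⟧ := DD_cent ((isPGroup_piCoreOf p M).to_le inf_le_left)
    (inf_le_inf (m5.trans h.inv.le) (cent_le_norm Q))
    (norm_inf_cent (norm_piCoreOf _ (norm_of_le d2)) (DD_le.trans inf_le_right))
  have d4 : DD p (G ⊓ N⟦Q⟧) ≤ C⟦T⟧ := H24.pResidualOf_le_iff_forall.2 fun x hx ex => by
    have hx := H24.mem_pResidualOf hx ex
    exact coprime_pxq hQ.pg (isPGroup_piCoreOf p M) (by rwa [Nat.card_zpowers])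
      (cent_symm (zpowers_le.2 (d1 hx).2)) (norm_piCoreOf _ (norm_of_le m4))
      (zpowers_le.2 (norm_piCoreOf _ (norm_of_le d2) hx)) (cent_symm (zpowers_le.2 (d3 hx))) (mem_zpowers x)
  have e1 : ⁅DD p (G ⊓ N⟦Q⟧), R⁆ ≤ DD p (G ⊓ N⟦Q⟧) := commg_le_left (norm_DD nH)
  have e2 : ⁅DD p (G ⊓ N⟦Q⟧), R⁆ ≤ C⟦DD p M⟧ := (commutator_mono le_rfl m3).trans
    (commg_le_right (norm_cent (norm_DD (norm_of_le d2))))
  exact cent_DD nH (coprime_of_le_left h.hc inf_le_left) (sol_of_le H10.FitOf_solvable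
    (((le_inf (le_inf (e1.trans d2) e2) (e1.trans d4)).trans cent_le_fstar).trans
      (H10.inf_centralizer_FstarOf_le_FitOf M)))
    fun x hx ex => cent_symm m3 (mem_DD (d2 (e1 hx)) ex (e2 hx) (d4 (e1 hx)))

omit hp [Finite X] in
theorem invH (hQ : Inv p G R Q) : Inv p G R (P ⊓ (G ⊓ N⟦Q⟧)) :=
  ⟨inf_le_left.trans h.inv.le, h.inv.pg.to_le inf_le_left, norm_inf h.inv.n1 (norm_inf_norm h.hR hQ.n1),
    norm_inf h.inv.n2 (norm_inf_norm (norm_of_le inf_le_left) hQ.n2)⟩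

theorem invT (hQ : Inv p G R Q) : Inv p G R (piCoreOf {p} (G ⊓ N⟦Q⟧)) :=
  inv_core inf_le_left (norm_inf_norm h.hR hQ.n1) (norm_inf_norm (norm_of_le inf_le_left) hQ.n2)

theorem centT (hQ : Inv p G R Q) (hg : R ≤ C⟦DD p (G ⊓ N⟦Q⟧)⟧) :
    P ⊓ C⟦piCoreOf {p} (G ⊓ N⟦Q⟧)⟧ ≤ piCoreOf {p} (G ⊓ N⟦Q⟧) := by
  have i := h.invH hQ
  have l : P ⊓ C⟦piCoreOf {p} (G ⊓ N⟦Q⟧)⟧ ≤ P ⊓ (G ⊓ N⟦Q⟧) := le_inf inf_le_left
    (inf_le_inf h.inv.le ((cent_anti (le_core' hQ)).trans (cent_le_norm Q)))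
  exact le_core (h.inv.pg.to_le inf_le_left) (l.trans inf_le_right) (l.trans (cent_symm (DD_cent i.pg
    inf_le_right ((le_inf (DD_le.trans inf_le_left) (cent_symm hg)).trans i.n2)))) inf_le_right

theorem stage1 (hQ : Inv p G R Q) (hc : P ⊓ C⟦Q⟧ ≤ Q) : G ⊓ N⟦Q⟧ ≤ G ⊓ N⟦Kf P⟧ := by
  obtain ⟨H, ⟨hle, Q, hQ, hc, rfl⟩, hmax⟩ := WellFounded.has_min (wellFounded_gt (α := Subgroup X))
    {H | G ⊓ N⟦Q⟧ ≤ H ∧ ∃ Q, Inv p G R Q ∧ P ⊓ C⟦Q⟧ ≤ Q ∧ H = G ⊓ N⟦Q⟧} ⟨_, le_rfl, Q, hQ, hc, rfl⟩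
  refine hle.trans ?_
  have mx : ∀ Q', Inv p G R Q' → P ⊓ C⟦Q'⟧ ≤ Q' → G ⊓ N⟦Q⟧ ≤ N⟦Q'⟧ → G ⊓ N⟦Q'⟧ = G ⊓ N⟦Q⟧ :=
    fun Q' h1 h2 h3 => by
      have := le_inf inf_le_left h3
      by_contra e
      exact hmax _ ⟨hle.trans this, Q', h1, h2, rfl⟩ (lt_of_le_of_ne this (Ne.symm e))
  have hg := h.good1 hQ hc
  have iT := h.invT hQ
  have iH := h.invH hQ
  have eT := mx _ iT (h.centT hQ hg) (norm_piCoreOf _ le_normalizer)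
  set H := G ⊓ N⟦Q⟧ with hH
  set T := piCoreOf {p} H
  have nK : H ≤ N⟦Kf (P ⊓ H)⟧ := le_normalizer.trans (kinf_norm' h.h3 (norm_inf_norm h.hR hQ.n1)
    (coprime_of_le_left h.hc inf_le_left) h.sol inf_le_right iH.pg iH.n1
    ((inf_le_inf_right _ inf_le_left).trans iH.n2) (le_inf (h.max _ iT) (piCoreOf_le _ _)) hg)
  have kT : Kf (P ⊓ H) ≤ T := le_pCoreOf ⟨(Kf_le _).trans inf_le_right, nK⟩ (iH.pg.to_le (Kf_le _))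
  have tP := h.max _ iT
  have cK : P ⊓ C⟦Kf (P ⊓ H)⟧ ≤ Kf (P ⊓ H) := by
    set Y := P ⊓ C⟦Kf (P ⊓ H)⟧
    have y1 : Y ⊓ N⟦T⟧ ≤ Kf (P ⊓ H) := le_trans (le_inf (le_inf (inf_le_left.trans inf_le_left)
      (eT ▸ inf_le_inf_right _ (inf_le_left.trans h.inv.le))) (inf_le_left.trans inf_le_right)) (Kf_cent iH.pg)
    have y2 : T = T ⊔ Y := eq_of_nilpotent_of_inf_norm_le
      (h.inv.pg.to_le (sup_le tP inf_le_left)).isNilpotent le_sup_left (by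
        rw [modular_left (Or.inl (norm_inf_cent (norm_of_le tP) ((piCoreOf_le _ _).trans nK))) le_normalizer]
        exact sup_le le_rfl (y1.trans kT))
    exact (le_inf le_rfl ((le_sup_right.trans y2.ge).trans le_normalizer)).trans y1
  have eK := mx _ ⟨(Kf_le _).trans iH.le, iH.pg.to_le (Kf_le _), norm_Kf iH.pg iH.n1, norm_Kf iH.pg iH.n2⟩ cK nK
  have eP : P ⊓ H = P := eq_of_nilpotent_of_inf_norm_le h.inv.pg.isNilpotent inf_le_left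
    (le_inf inf_le_left ((inf_le_inf h.inv.le (norm_Kf iH.pg le_rfl)).trans eK.le))
  rw [eP] at nK
  exact le_inf inf_le_left nK

theorem main : R ≤ C⟦DD p G⟧ := by
  have iK : Inv p G R (Kf P) :=
    ⟨(Kf_le _).trans h.inv.le, h.inv.pg.to_le (Kf_le _), norm_Kf h.inv.pg h.inv.n1, norm_Kf h.inv.pg h.inv.n2⟩
  have hg := h.good1 iK (Kf_cent h.inv.pg)
  have pM : P ≤ G ⊓ N⟦Kf P⟧ := le_inf h.inv.le (norm_Kf h.inv.pg le_normalizer)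
  have key : ∀ Q, Inv p G R Q → G ⊓ N⟦Q⟧ ≤ G ⊓ N⟦Kf P⟧ := fun Q => by
    induction Q using WellFoundedGT.induction with
    | ind Q ih =>
    intro hQ
    have g := h.good2 hQ (norm_inf_norm h.hR iK.n1) hg ((h.max _ hQ).trans pM) (h.max _ (h.invT iK))
      (h.cq hQ (sup_le (le_inf inf_le_left iK.n2) pM) fun Q' h1 h2 _ => ih Q' h2 h1)
    exact (le_inf inf_le_left (norm_piCoreOf _ le_normalizer)).trans (h.stage1 (h.invT hQ) (h.centT hQ g))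
  have := key ⊥ ⟨bot_le, IsPGroup.of_bot, by simp, by simp⟩
  rw [norm_bot, inf_top_eq] at this
  rwa [le_antisymm inf_le_left this] at hg

end Set1

end Cfsg.Agent.H25.QB
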