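import Cfsg.Agent.H21.Base5

/-! The residual `O^π(H)` of a subgroup, in the ambient group. -/

set_option autoImplicit false
set_option linter.style.haveILetI false

namespace Cfsg.Agent.H25

open Subgroup Cfsg.Agent.H20 Cfsg.Agent.H21
open scoped commutatorElement

variable {G : Type*} [Group G] {G' : Type*} [Group G'] {π ρ : Set ℕ} {A H K N X : Subgroup G}

/-- `O^π(H)`: the subgroup generated by the `π'`-elements of `H` -/
def res (π : Set ℕ) (H : Subgroup G) : Subgroup G := closure {x | x ∈ H ∧ IsPiElt πᶜ x}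

theorem res_le (π : Set ℕ) (H : Subgroup G) : res π H ≤ H := (closure_le _).2 fun _ h => h.1

theorem res_mono (h : H ≤ K) : res π H ≤ res π K := closure_mono fun _ hx => ⟨h hx.1, hx.2⟩

theorem mem_res {x : G} (hx : x ∈ H) (h : IsPiElt πᶜ x) : x ∈ res π H := subset_closure ⟨hx, h⟩

theorem le_res (hA : A ≤ H) (h : IsPi πᶜ A) : A ≤ res π H := fun _ hx => mem_res (hA hx) (h.elt hx)

theorem res_le_iff : res π H ≤ K ↔ ∀ x ∈ H, IsPiElt πᶜ x → x ∈ K :=
  (closure_le _).trans ⟨fun h _ h1 h2 => h ⟨h1, h2⟩, fun h x hx => h x hx.1 hx.2⟩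

theorem piElt_map (f : G →* G') {x : G} (h : IsPiElt π x) : IsPiElt π (f x) :=
  PiNat.of_dvd h (orderOf_map_dvd f x)

theorem piElt_conj {x : G} (g : G) (h : IsPiElt π x) : IsPiElt π (g * x * g⁻¹) :=
  piElt_map (MulAut.conj g).toMonoidHom h

theorem piElt_eq_one {x : G} (h : IsPiElt π x) (h' : IsPiElt πᶜ x) : x = 1 :=
  orderOf_eq_one_iff.1 (PiNat.eq_one h h')

theorem piElt_one (π : Set ℕ) : IsPiElt π (1 : G) := by
  rw [isPiElt_iff, orderOf_one]; exact PiNat.one π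

theorem piElt_pow {x : G} (h : IsPiElt π x) (n : ℕ) : IsPiElt π (x ^ n) :=
  PiNat.of_dvd h (orderOf_pow_dvd n)

theorem piElt_inv {x : G} (h : IsPiElt π x) : IsPiElt π x⁻¹ := by
  rwa [isPiElt_iff, orderOf_inv]

theorem norm_res (h : X ≤ N⟦H⟧) : X ≤ N⟦res π H⟧ :=
  norm_closure fun _ hx _ ha => ⟨conj_mem_of_norm (h hx) ha.1, piElt_conj _ ha.2⟩

theorem res_normalIn (π : Set ℕ) (H : Subgroup G) : res π H ⊴ H := ⟨res_le π H, norm_res (le_norm_self H)⟩

theorem res_normalIn_of (h : N ⊴ H) : res π N ⊴ H := ⟨(res_le π N).trans h.le, norm_res h.norm⟩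

variable [Finite G]

theorem mem_of_pow_mem' {u : G} {n : ℕ} (h : u ^ n ∈ X) (hn : n.Coprime (orderOf u)) : u ∈ X := by
  obtain ⟨k, hk⟩ := exists_pow_eq_self_of_coprime hn
  rw [← hk]; exact pow_mem h k

theorem exists_pow_piElt (π : Set ℕ) (x : G) : ∃ a, PiNat π a ∧ IsPiElt πᶜ (x ^ a) := by
  obtain ⟨a, b, h, ha, hb⟩ := exists_piNat_mul π (orderOf_pos x).ne'
  exact ⟨a, ha, hb.of_dvd (orderOf_dvd_of_pow_eq_one (by rw [← pow_mul, ← h, pow_orderOf_eq_one]))⟩

/-- a `π`-element of the image lifts to a `π`-element -/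
theorem exists_piElt_lift (f : G →* G') {y : G'} (hy : y ∈ H.map f) (h : IsPiElt π y) :
    ∃ x ∈ H, IsPiElt π x ∧ f x = y := by
  obtain ⟨x, hx, rfl⟩ := hy
  obtain ⟨a, ha, hxa⟩ := exists_pow_piElt πᶜ x
  obtain ⟨k, hk⟩ := exists_pow_eq_self_of_coprime (PiNat.coprime' ha h)
  exact ⟨(x ^ a) ^ k, pow_mem (pow_mem hx a) k, piElt_pow (PiNat.compl_compl.1 hxa) k, by rw [map_pow, map_pow, hk]⟩

theorem map_res (f : G →* G') (π : Set ℕ) (H : Subgroup G) : (res π H).map f = res π (H.map f) := by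
  refine le_antisymm (map_le_iff_le_comap.2 (res_le_iff.2 fun x hx h =>
    mem_res (mem_map_of_mem f hx) (piElt_map f h))) (res_le_iff.2 fun y hy h => ?_)
  obtain ⟨x, hx, h1, rfl⟩ := exists_piElt_lift f hy h
  exact mem_map_of_mem f (mem_res hx h1)

theorem piNat_res (π : Set ℕ) (H : Subgroup G) : PiNat π ((res π H).relIndex H) := by
  intro q hq hd
  by_contra h
  haveI := Fact.mk hq
  obtain ⟨Q, hQ⟩ := exists_sylowOf q H
  exact Hall.not_dvd hQ (hd.trans (relIndex_dvd_of_le_left H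
    (le_res (Hall.le hQ) (isPi_of_isPGroup (Hall.isPGroup hQ) h))))

theorem res_le_of_normalIn (hN : H ≤ N⟦N⟧) (h : PiNat π (N.relIndex H)) : res π H ≤ N :=
  res_le_iff.2 fun _ hx h' => zpowers_le.1 ((isPi_zpowers.2 h').le_of_normalIn (zpowers_le.2 hx) hN
    (PiNat.compl_compl.2 h))

theorem res_eq_bot_iff : res π H = ⊥ ↔ IsPi π H := by
  refine ⟨fun h => (IsPi.bot π).of_relIndex (h ▸ piNat_res π H), fun h => ?_⟩
  exact eq_bot_iff.2 (res_le_iff.2 fun x hx h' => piElt_eq_one (h.elt hx) h')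

theorem res_eq_bot_of_isPi (h : IsPi π (res π H)) : res π H = ⊥ :=
  res_eq_bot_iff.2 (h.of_relIndex (piNat_res π H))

theorem res_res (π : Set ℕ) (H : Subgroup G) : res π (res π H) = res π H :=
  le_antisymm (res_le _ _) (res_le_iff.2 fun _ hx h => mem_res (mem_res hx h) h)

theorem cj_res (g : G) (π : Set ℕ) (H : Subgroup G) : cj g (res π H) = res π (cj g H) := map_res _ π H

theorem res_sup_eq (h : IsPiHallOf π A H) : res π H ⊔ A = H :=
  Hall.sup_eq_of_relIndex h (res_le π H) (piNat_res π H)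

end Cfsg.Agent.H25
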