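import Cfsg.Agent.H25.Hopf
import Cfsg.Agent.H4.Char3

/-! Schur multiplier: projective representations, transfer. -/

set_option autoImplicit false

namespace Cfsg.Agent.H25
open Cfsg Subgroup
open scoped commutatorElement

universe u v w x

section abelian

theorem exists_extend_of_div {K : Type u} {B : Type v} {D : Type w} [CommGroup K] [CommGroup B]
    [CommGroup D] (hdiv : ∀ k : ℕ, k ≠ 0 → ∀ d : D, ∃ e : D, e ^ k = d) (i : K →* B)
    (hi : Function.Injective i) (f : K →* D) : ∃ g : B →* D, ∀ k, g (i k) = f k := by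
  classical
  letI : RootableBy D ℕ := rootableByOfPowLeftSurj D ℕ (fun {n} hn d => hdiv n hn d)
  letI : DivisibleBy (Additive D) ℕ :=
    divisibleByOfSMulRightSurj (Additive D) ℕ (fun {n} hn d => hdiv n hn d.toMul)
  letI : DivisibleBy (Additive D) ℤ := AddGroup.divisibleByIntOfDivisibleByNat _
  obtain ⟨g, hg⟩ := (Module.Baer.of_divisible (Additive D)).extension_property_addMonoidHom
    (MonoidHom.toAdditive i) hi (MonoidHom.toAdditive f)
  exact ⟨AddMonoidHom.toMultiplicative g, fun k => DFunLike.congr_fun hg (Additive.ofMul k)⟩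

theorem exists_extend_of_pow {K : Type u} {B : Type v} {D : Type w} [CommGroup K] [CommGroup B]
    [CommGroup D] {N M : ℕ} (hco : N.Coprime M) (hD : ∀ d : D, d ^ M = 1) (i : K →* B)
    (hi : Function.Injective i) (hN : ∀ b, b ^ N ∈ i.range) (f : K →* D) :
    ∃ g : B →* D, ∀ k, g (i k) = f k := by
  let p : B →* K := (MonoidHom.ofInjective hi).symm.toMonoidHom.comp
    ((powMonoidHom N).codRestrict i.range hN)
  have hp : ∀ k, p (i k) = k ^ N := fun k => by
    apply hi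
    rw [map_pow]
    exact MonoidHom.apply_ofInjective_symm hi _
  refine ⟨(zpowGroupHom (Nat.gcdA N M)).comp (f.comp p), fun k => ?_⟩
  show f (p (i k)) ^ (Nat.gcdA N M) = f k
  have h1 := Nat.gcd_eq_gcd_ab N M
  rw [hco.gcd_eq_one] at h1
  rw [hp, map_pow, ← zpow_natCast, ← zpow_mul]
  conv_rhs => rw [← zpow_one (f k), ← Nat.cast_one, h1, zpow_add, zpow_mul _ (M : ℤ), zpow_natCast,
    hD, one_zpow, mul_one]

theorem exists_inj_of_surj {B : Type u} {D : Type v} [CommGroup B] [CommGroup D] [Finite B]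
    (g : B →* D) (hg : Function.Surjective g) : ∃ j : D →* B, Function.Injective j := by
  have : Finite D := Finite.of_surjective g hg
  have : NeZero (Monoid.exponent B) := ⟨Monoid.exponent_ne_zero_of_finite⟩
  have : NeZero (Monoid.exponent D) := ⟨Monoid.exponent_ne_zero_of_finite⟩
  obtain ⟨eB⟩ := CommGroup.monoidHom_mulEquiv_of_hasEnoughRootsOfUnity B ℂ
  obtain ⟨eD⟩ := CommGroup.monoidHom_mulEquiv_of_hasEnoughRootsOfUnity D ℂ
  let c : (D →* ℂˣ) →* (B →* ℂˣ) := MonoidHom.compHom.flip g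
  have hc : Function.Injective c := fun a b h => MonoidHom.ext fun d => by
    obtain ⟨y, rfl⟩ := hg d
    exact DFunLike.congr_fun h y
  exact ⟨eB.toMonoidHom.comp (c.comp eD.symm.toMonoidHom),
    eB.injective.comp (hc.comp eD.symm.injective)⟩

end abelian

section modify
variable {E : Type u} {Γ : Type v} {Y : Type w} [Group E] [Group Γ] [Group Y]

/-- change a homomorphism by a central one so that it factors through `η` -/
theorem exists_factor_of_central (η : E →* Γ) (hη : Function.Surjective η) (θ : E →* Y)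
    (Z : Subgroup Y) (hZ : Z ≤ center Y) (μ : E →* Z) (h : ∀ a, η a = 1 → (μ a : Y) = θ a) :
    ∃ ρ : Γ →* Y, ∀ a, ρ (η a) = θ a * (μ a : Y)⁻¹ := by
  let θ' : E →* Y := MonoidHom.mk' (fun a => θ a * (μ a : Y)⁻¹) (fun a b => by
    have h1 := mem_center_iff.1 (hZ (inv_mem (μ a).2))
    rw [map_mul, map_mul, coe_mul, mul_inv_rev, mul_assoc, mul_assoc, ← mul_assoc (θ b), h1])
  have hk : η.ker ≤ θ'.ker := fun a ha => by
    show θ a * (μ a : Y)⁻¹ = 1
    rw [h a ha, mul_inv_cancel]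
  exact ⟨η.liftOfSurjective hη ⟨θ', hk⟩, fun a => MonoidHom.liftOfRightInverse_comp_apply _ _ _ _ _⟩

theorem ker_to_ab_injective {Q : Type x} [Group Q] {π : E →* Q} {η : E →* Γ} (hk : η.ker ≤ π.ker)
    (hinj : ∀ a ∈ mult π, η a = 1 → a = 1) :
    Function.Injective ((Abelianization.of : E →* Abelianization E).comp η.ker.subtype) := by
  rw [injective_iff_map_eq_one]
  intro a ha
  have h1 : (a : E) ∈ commutator E := by
    rw [← Abelianization.ker_of]; exact ha
  exact Subtype.ext (hinj a ⟨hk a.2, h1⟩ a.2)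

end modify

section proj

theorem center_GL_div (n : ℕ) (k : ℕ) (hk : k ≠ 0) (d : center (GL (Fin n) ℂ)) :
    ∃ e : center (GL (Fin n) ℂ), e ^ k = d := by
  obtain ⟨d, hd⟩ := d
  have hd' := hd
  rw [Matrix.GeneralLinearGroup.center_eq_range_scalar] at hd'
  obtain ⟨a, rfl⟩ := hd'
  obtain ⟨b, hb⟩ := IsAlgClosed.exists_pow_nat_eq (a : ℂ) (Nat.pos_of_ne_zero hk)
  have hb0 : b ≠ 0 := by
    rintro rfl
    rw [zero_pow hk] at hb
    exact a.ne_zero hb.symm
  refine ⟨⟨Matrix.GeneralLinearGroup.scalar (Fin n) (Units.mk0 b hb0), ?_⟩, Subtype.ext ?_⟩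
  · rw [Matrix.GeneralLinearGroup.center_eq_range_scalar]; exact ⟨_, rfl⟩
  · show Matrix.GeneralLinearGroup.scalar (Fin n) (Units.mk0 b hb0) ^ k = _
    rw [← map_pow]
    congr 1
    exact Units.ext hb

theorem proj_lift {Q : Type u} [Group Q] {Γ : Type v} [Group Γ] {σ : Γ →* Q}
    (hσ : IsStemExtension σ) (η : Hopf (stdPres Q) →* Γ) (hη : ∀ a, σ (η a) = hopfπ _ a)
    (hinj : ∀ a ∈ mult (hopfπ (stdPres Q)), η a = 1 → a = 1) {Y : Type w} [Group Y]
    (hdiv : ∀ k : ℕ, k ≠ 0 → ∀ d : center Y, ∃ e : center Y, e ^ k = d)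
    (γ : Q →* Y ⧸ center Y) :
    ∃ ρ : Γ →* Y, (QuotientGroup.mk' (center Y)).comp ρ = γ.comp σ := by
  have hE := hopf_cext (stdPres_surj Q)
  obtain ⟨θ, hθ⟩ := hopf_lift (stdPres Q) (ξ := QuotientGroup.mk' (center Y))
    (by rw [QuotientGroup.ker_mk']) γ (fun q => QuotientGroup.mk'_surjective _ _)
  have hk : η.ker ≤ (hopfπ (stdPres Q)).ker := fun a ha => by
    rw [MonoidHom.mem_ker, ← hη, (MonoidHom.mem_ker).1 ha, map_one]
  letI := centCommGroup (hk.trans hE.cent)
  have hc : ∀ a : η.ker, (θ.comp η.ker.subtype) a ∈ center Y := fun a => by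
    rw [← QuotientGroup.eq_one_iff]
    show QuotientGroup.mk' _ (θ a) = 1
    rw [hθ, (MonoidHom.mem_ker).1 (hk a.2), map_one]
  letI := centCommGroup (le_refl (center Y))
  obtain ⟨g, hg⟩ := exists_extend_of_div (D := center Y) hdiv _ (ker_to_ab_injective hk hinj)
    ((θ.comp η.ker.subtype).codRestrict _ hc)
  have hs := surj_of_stem hE.surj hσ η hη
  obtain ⟨ρ, hρ⟩ := exists_factor_of_central η hs θ (center Y) le_rfl (g.comp Abelianization.of)
    (fun a ha => congrArg Subtype.val (hg ⟨a, ha⟩))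
  refine ⟨ρ, MonoidHom.ext fun y => ?_⟩
  obtain ⟨a, rfl⟩ := hs y
  rw [MonoidHom.comp_apply, MonoidHom.comp_apply, hρ, map_mul, hθ, hη]
  have : QuotientGroup.mk' (center Y) ((g.comp Abelianization.of) a : Y)⁻¹ = 1 :=
    (QuotientGroup.eq_one_iff _).2 (inv_mem (SetLike.coe_mem _))
  rw [this, mul_one]

theorem exists_matrix_rep {Γ : Type u} [Group Γ] [Finite Γ] {z : Γ} (hz : z ≠ 1) :
    ∃ (n : ℕ) (ρ : Γ →* GL (Fin n) ℂ), ρ z ≠ 1 ∧ (∀ c ∈ center Γ, ρ c ∈ center (GL (Fin n) ℂ)) ∧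
      n ^ 2 ≤ (center Γ).index := by
  obtain ⟨χ, hχ, h1⟩ := H4.exists_irr_apply_ne hz
  obtain ⟨n, ρ, hρ, rfl⟩ := id hχ
  let e : ((Fin n → ℂ) →ₗ[ℂ] (Fin n → ℂ)) ≃ₐ[ℂ] Matrix (Fin n) (Fin n) ℂ := LinearMap.toMatrixAlgEquiv'
  let r : Γ →* Matrix (Fin n) (Fin n) ℂ := e.toMulEquiv.toMonoidHom.comp ρ
  refine ⟨n, r.toHomUnits, fun h => h1 ?_, fun c hc => ?_, ?_⟩
  · have h2 : e (ρ z) = 1 := congrArg Units.val h
    rw [← map_one e, e.injective.eq_iff] at h2
    rw [Representation.character, Representation.character, h2, map_one ρ]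
  · obtain ⟨ω, -, hω⟩ := (H4.mem_charCenter_character_iff ρ c).1
      (H4.Cfsg.IsIrrCharacter.center_le_charCenter hχ hc)
    rw [Matrix.GeneralLinearGroup.mem_center_iff_val_mem_range_scalar]
    refine ⟨ω, ?_⟩
    show _ = e (ρ c)
    rw [hω, map_smul, ← Module.End.one_eq_id, map_one, Matrix.scalar_apply, Matrix.smul_one_eq_diagonal]
  · refine (H4.Cfsg.IsIrrCharacter.degree_sq_le_index_charCenter hχ (d := n) (by simp)).trans ?_
    exact index_antitone (H4.Cfsg.IsIrrCharacter.center_le_charCenter hχ)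

theorem inj_on_mult_of_proj_lift {Q : Type u} [Group Q] [Finite Q] {Γ : Type v} [Group Γ]
    {σ : Γ →* Q}
    (hlift : ∀ (n : ℕ) (γ : Q →* (GL (Fin n) ℂ ⧸ center (GL (Fin n) ℂ))), ∃ ρ : Γ →* GL (Fin n) ℂ,
      (QuotientGroup.mk' (center (GL (Fin n) ℂ))).comp ρ = γ.comp σ)
    (η : Hopf (stdPres Q) →* Γ) (hη : ∀ a, σ (η a) = hopfπ _ a) :
    ∀ a ∈ mult (hopfπ (stdPres Q)), η a = 1 → a = 1 := by
  intro a ha h
  obtain ⟨Γ₀, _, _, σ₀, η₀, β, h1, h2, h3, -⟩ := hopf_exists_cover (stdPres_surj Q) (stem_id Q)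
  by_contra hne
  obtain ⟨n, ρ₀, h4, h5, -⟩ := exists_matrix_rep (z := η₀ a) (fun h => hne (h3 a ha h))
  have hk : σ₀.ker ≤ ((QuotientGroup.mk' (center (GL (Fin n) ℂ))).comp ρ₀).ker := fun c hc =>
    (QuotientGroup.eq_one_iff _).2 (h5 c (h1.2.1 hc))
  let γ := σ₀.liftOfSurjective h1.1 ⟨_, hk⟩
  have hγ : ∀ y, γ (σ₀ y) = QuotientGroup.mk' _ (ρ₀ y) :=
    fun y => MonoidHom.liftOfRightInverse_comp_apply _ _ _ _ _
  obtain ⟨ρ, hρ⟩ := hlift n γ
  have := lift_eq_on_commutator (ζ := QuotientGroup.mk' (center (GL (Fin n) ℂ)))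
    (by rw [QuotientGroup.ker_mk']) (τ := ρ₀.comp η₀) (τ' := ρ.comp η) (fun b => by
      have h6 := DFunLike.congr_fun hρ (η b)
      simp only [MonoidHom.comp_apply] at h6 ⊢
      rw [h6, hη, ← h2, hγ]) ha.2
  simp only [MonoidHom.comp_apply] at this
  rw [h, map_one] at this
  exact h4 this

/-- a central element of `p`-power order lying in the commutator subgroup -/
theorem sq_le_index_center {Γ : Type u} [Group Γ] [Finite Γ] {z : Γ} {p a : ℕ} (hp : p.Prime)
    (hz : orderOf z = p ^ a) (hc : z ∈ center Γ) (hz' : z ∈ commutator Γ) :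
    (p ^ a) ^ 2 ≤ (center Γ).index := by
  rcases a with _ | a
  · simp only [pow_zero, one_pow]; exact Nat.pos_of_ne_zero FiniteIndex.index_ne_zero
  have h1 : z ^ p ^ a ≠ 1 := by
    refine pow_ne_one_of_lt_orderOf (pow_pos hp.pos a).ne' ?_
    rw [hz]; exact Nat.pow_lt_pow_right hp.one_lt (Nat.lt_succ_self a)
  obtain ⟨n, ρ, h2, h3, h4⟩ := exists_matrix_rep h1
  have h5 := h3 z hc
  rw [Matrix.GeneralLinearGroup.center_eq_range_scalar] at h5
  obtain ⟨ω, hω⟩ := h5
  have hn : n ≠ 0 := by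
    rintro rfl
    exact h2 (Subsingleton.elim _ _)
  have hinj : Function.Injective (Matrix.GeneralLinearGroup.scalar (R := ℂ) (Fin n)) := by
    rw [injective_iff_map_eq_one]
    intro b hb
    have := congrArg (fun g : GL (Fin n) ℂ => (g : Matrix (Fin n) (Fin n) ℂ)
      ⟨0, Nat.pos_of_ne_zero hn⟩ ⟨0, Nat.pos_of_ne_zero hn⟩) hb
    exact Units.ext (by simpa using this)
  have h6 : orderOf ω = p ^ (a + 1) := by
    haveI := Fact.mk hp
    refine orderOf_eq_prime_pow (fun h => h2 ?_) (hinj ?_)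
    · rw [map_pow, ← hω, ← map_pow, h, map_one]
    · rw [map_pow, hω, ← map_pow, ← hz, pow_orderOf_eq_one, map_one, map_one]
  have h7 : ω ^ n = 1 := by
    have h8 := Abelianization.commutator_subset_ker (Matrix.GeneralLinearGroup.det.comp ρ) hz'
    rw [MonoidHom.mem_ker, MonoidHom.comp_apply, ← hω] at h8
    refine Units.ext ?_
    simpa using congrArg Units.val h8
  rw [← orderOf_dvd_iff_pow_eq_one, h6] at h7
  exact (Nat.pow_le_pow_left (Nat.le_of_dvd (Nat.pos_of_ne_zero hn) h7) 2).trans h4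

end proj

section transfer
variable {F : Type u} [Group F] (S : Subgroup F)

/-- transfer cocycle -/
noncomputable def trc (g : F) (q : F ⧸ S) : S :=
  ⟨(g • q).out⁻¹ * g * q.out, by
    rw [mul_assoc, ← QuotientGroup.eq, QuotientGroup.out_eq', ← smul_eq_mul,
      MulAction.Quotient.coe_smul_out]⟩

theorem trc_mul (g h : F) (q : F ⧸ S) : trc S (g * h) q = trc S g (h • q) * trc S h q := by
  apply Subtype.ext
  simp only [trc, coe_mul, mul_smul]
  group

theorem prod_trc_commutator [Fintype (F ⧸ S)] {A : Type v} [CommGroup A] (ψ : S →* A) {g : F}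
    (hg : g ∈ commutator F) : ∏ q, ψ (trc S g q) = 1 := by
  let V : F →* A := MonoidHom.mk' (fun g => ∏ q, ψ (trc S g q)) (fun g h => by
    simp only [trc_mul, map_mul, Finset.prod_mul_distrib]
    congr 1
    exact Fintype.prod_equiv (MulAction.toPerm h) _ _ (fun q => rfl))
  exact Abelianization.commutator_subset_ker V hg

theorem smul_eq_of_normal {R : Subgroup F} [R.Normal] (hR : R ≤ S) {r : F} (hr : r ∈ R)
    (q : F ⧸ S) : r • q = q := by
  obtain ⟨y, rfl⟩ := QuotientGroup.mk_surjective q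
  rw [MulAction.Quotient.smul_mk, eq_comm, QuotientGroup.eq, smul_eq_mul, ← mul_assoc]
  exact hR (‹R.Normal›.conj_mem' r hr y)

theorem exists_cor_tr {G : Type u} [Group G] [Finite G] (U : Subgroup G) {A : Type v} {B : Type w}
    [CommGroup A] [CommGroup B] (hA : HasSchurMultiplier G A) (hB : HasSchurMultiplier U B) :
    ∃ (cor : B →* A) (tr : A →* B), ∀ a, cor (tr a) = a ^ U.index := by
  classical
  let φ := stdPres G
  have hφ := stdPres_surj G
  let S : Subgroup (FreeGroup G) := U.comap φ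
  let φU : S →* U := φ.subgroupComap U
  have hφU : Function.Surjective φU := φ.subgroupComap_surjective_of_surjective U hφ
  have hidx : S.index = U.index := index_comap_of_surjective U hφ
  have : S.FiniteIndex := ⟨by rw [hidx]; exact FiniteIndex.index_ne_zero⟩
  letI : Fintype (FreeGroup G ⧸ S) := Fintype.ofFinite _
  obtain ⟨eA⟩ := (hasSchur_iff hφ).1 hA
  obtain ⟨eB⟩ := (hasSchur_iff hφU).1 hB
  have hRS : φ.ker ≤ S := fun r hr => by
    show φ r ∈ U
    rw [(MonoidHom.mem_ker).1 hr]; exact one_mem _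
  -- corestriction
  let c : Hopf φU →* Hopf φ := QuotientGroup.lift _ ((hopfMk φ).comp S.subtype) (by
    rw [commutator_le]
    intro a ha b _
    rw [MonoidHom.mem_ker, MonoidHom.comp_apply, map_commutatorElement]
    exact (QuotientGroup.eq_one_iff _).2 (commutator_mem_commutator
      (congrArg Subtype.val ((MonoidHom.mem_ker).1 ha)) (mem_top _)))
  have hc : ∀ s : S, c (hopfMk φU s) = hopfMk φ s := fun s => rfl
  have hc' : ∀ y, hopfπ φ (c y) = U.subtype (hopfπ φU y) := fun y => by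
    obtain ⟨s, rfl⟩ := hopfMk_surj φU y
    rfl
  -- transfer
  letI := centCommGroup (hopf_cent φU)
  have hν : ∀ (r : φ.ker) (q : FreeGroup G ⧸ S), hopfMk φU (trc S r q) ∈ (hopfπ φU).ker := by
    intro r q
    apply Subtype.ext
    show φ (((r : FreeGroup G) • q).out⁻¹ * r * q.out) = 1
    rw [smul_eq_of_normal S hRS r.2, map_mul, map_mul, (MonoidHom.mem_ker).1 r.2, map_inv, mul_one,
      inv_mul_cancel]
  let t₀ : φ.ker →* (hopfπ φU).ker := MonoidHom.mk' (fun r => ∏ q, ⟨_, hν r q⟩) (fun r s => by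
    rw [← Finset.prod_mul_distrib]
    refine Finset.prod_congr rfl (fun q _ => Subtype.ext ?_)
    show hopfMk φU (trc S ((r : FreeGroup G) * s) q) = hopfMk φU _ * hopfMk φU _
    rw [trc_mul, smul_eq_of_normal S hRS s.2, map_mul])
  have ht₀ : ∀ r, t₀ r = ∏ q, ⟨_, hν r q⟩ := fun r => rfl
  have hconj : ∀ (r : φ.ker) (f : FreeGroup G) (h : f * r * f⁻¹ ∈ φ.ker), t₀ ⟨_, h⟩ = t₀ r := by
    intro r f h
    rw [ht₀, ht₀]
    refine Fintype.prod_equiv (MulAction.toPerm f⁻¹) _ _ (fun q => Subtype.ext ?_)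
    show hopfMk φU (trc S (f * r * f⁻¹) q) = hopfMk φU (trc S r (f⁻¹ • q))
    have h1 : trc S f (f⁻¹ • q) * trc S f⁻¹ q = 1 := by
      rw [← trc_mul, mul_inv_cancel]
      apply Subtype.ext
      simp [trc]
    rw [trc_mul, trc_mul, smul_eq_of_normal S hRS r.2, map_mul, map_mul,
      mem_center_iff.1 (hopf_cent φU (hν r _)), mul_assoc, ← map_mul, h1, map_one, mul_one]
  have hcomm : ∀ r : φ.ker, (r : FreeGroup G) ∈ commutator (FreeGroup G) →
      (t₀ r : Hopf φU) ∈ commutator (Hopf φU) := by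
    intro r hr
    rw [← Abelianization.ker_of, MonoidHom.mem_ker]
    have h1 := prod_trc_commutator S (Abelianization.of.comp (hopfMk φU)) hr
    rw [← h1, ht₀]
    exact map_prod (Abelianization.of.comp (hopfπ φU).ker.subtype) _ _
  let R' : Subgroup (FreeGroup G) := φ.ker ⊓ commutator (FreeGroup G)
  let t₁ : R' →* mult (hopfπ φU) :=
    (((hopfπ φU).ker.subtype.comp t₀).comp (inclusion inf_le_left)).codRestrict _
      (fun r => ⟨(t₀ _).2, hcomm _ r.2.2⟩)
  let ρ : R' →* mult (hopfπ φ) := ((hopfMk φ).comp R'.subtype).codRestrict _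
    (fun r => ⟨r.2.1, map_mem_commutator (hopfMk φ) r.2.2⟩)
  have hρ : Function.Surjective ρ := by
    rintro ⟨y, hy⟩
    obtain ⟨f, rfl⟩ := hopfMk_surj φ y
    exact ⟨⟨f, hy.1, mem_commutator_of_hopfMk hy.2⟩, rfl⟩
  have hker : ρ.ker ≤ t₁.ker := by
    intro r hr
    have h1 : (r : FreeGroup G) ∈ (⁅φ.ker, (⊤ : Subgroup (FreeGroup G))⁆ : Subgroup _) :=
      (QuotientGroup.eq_one_iff _).1 (congrArg Subtype.val ((MonoidHom.mem_ker).1 hr))
    have h2 : (⁅φ.ker, (⊤ : Subgroup (FreeGroup G))⁆ : Subgroup _) ≤ t₀.ker.map φ.ker.subtype := by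
      rw [commutator_le]
      intro a ha b _
      have h3 : b * a⁻¹ * b⁻¹ ∈ φ.ker := Normal.conj_mem inferInstance _ (inv_mem ha) b
      refine ⟨⟨a, ha⟩ * ⟨_, h3⟩, ?_, by simp [commutatorElement_def, mul_assoc]⟩
      show t₀ _ = 1
      have h6 : t₀ ⟨_, h3⟩ = t₀ ⟨a, ha⟩⁻¹ := hconj ⟨a, ha⟩⁻¹ b h3
      rw [map_mul, h6, map_inv, mul_inv_cancel]
    obtain ⟨s, hs, hs'⟩ := h2 h1
    apply Subtype.ext
    have h4 : inclusion inf_le_left r = s := Subtype.ext hs'.symm
    show (t₀ (inclusion inf_le_left r) : Hopf φU) = 1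
    rw [h4, (MonoidHom.mem_ker).1 hs]; rfl
  let tr := ρ.liftOfSurjective hρ ⟨t₁, hker⟩
  have htr : ∀ r, tr (ρ r) = t₁ r := fun r => MonoidHom.liftOfRightInverse_comp_apply _ _ _ _ _
  let cor := multMap c U.subtype hc'
  refine ⟨eA.symm.toMonoidHom.comp (cor.comp eB.toMonoidHom),
    eB.symm.toMonoidHom.comp (tr.comp eA.toMonoidHom), fun a => ?_⟩
  obtain ⟨r, hr⟩ := hρ (eA a)
  show eA.symm (cor (eB (eB.symm (tr (eA a))))) = _
  rw [MulEquiv.apply_symm_apply, MulEquiv.symm_apply_eq, map_pow, ← hr, htr]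
  apply Subtype.ext
  letI := centCommGroup (hopf_cent φ)
  let c' : (hopfπ φU).ker →* (hopfπ φ).ker := (c.comp (hopfπ φU).ker.subtype).codRestrict _
    (fun y => by
      show hopfπ φ (c y) = 1
      rw [hc', (MonoidHom.mem_ker).1 y.2, map_one])
  have h5 : c' (t₀ (inclusion inf_le_left r)) = ⟨hopfMk φ r, r.2.1⟩ ^ U.index := by
    rw [ht₀, map_prod, ← hidx, index_eq_card, Nat.card_eq_fintype_card, ← Finset.card_univ,
      ← Finset.prod_const]
    refine Finset.prod_congr rfl (fun q _ => Subtype.ext ?_)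
    show hopfMk φ (((r : FreeGroup G) • q).out⁻¹ * r * q.out) = hopfMk φ r
    rw [smul_eq_of_normal S hRS r.2.1, map_mul, map_mul,
      mem_center_iff.1 (hopf_cent φ (show hopfMk φ r ∈ _ from r.2.1)), map_inv,
      inv_mul_cancel_right]
  have h6 := congrArg Subtype.val h5
  exact h6

theorem pow_card_eq_one_of_hasSchur {G : Type u} [Group G] {A : Type v} [CommGroup A]
    (hA : HasSchurMultiplier G A) (a : A) : a ^ Nat.card G = 1 := by
  obtain ⟨Γ, _, _, σ, hσ, ⟨e⟩⟩ := hA.1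
  obtain ⟨z, rfl⟩ := e.surjective a
  have h1 := H27.pow_index_mem_commutator hσ.2.1 z.2 (hσ.2.2 z.2) σ.ker
  have h2 : ⁅σ.ker, σ.ker⁆ = ⊥ := by
    rw [commutator_eq_bot_iff_le_centralizer]
    exact hσ.2.1.trans (center_le_centralizer _)
  rw [h2, mem_bot, index_ker, MonoidHom.range_eq_top.2 hσ.1, card_top] at h1
  rw [← map_pow, show z ^ Nat.card G = 1 from Subtype.ext h1, map_one]

end transfer

end Cfsg.Agent.H25
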