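/-
Suzuki groups: a small maximal subgroup, groups of order prime to three.
-/
import Cfsg.Agent.H25.SimpSec
import Cfsg.Agent.S2251

set_option autoImplicit false
set_option linter.style.haveILetI false

namespace Cfsg.Agent.H25

open Subgroup Cfsg.Agent.H20 Cfsg.Agent.H21

universe u

theorem exists_szModel {G : Type*} [Group G] (h : Lie.IsoSuzuki G) : ∃ (F : Type) (_ : Field F) (_ : Fintype F)
    (_ : CharP F 2) (m : ℕ) (hF : Fintype.card F = 2 ^ (2 * m + 1)) (M : H15.Sz.Model G F),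
    1 ≤ m ∧ M.toTw = H15.Sz.tw hF := by
  obtain ⟨F, _, _, m, hm, hF, ⟨e⟩⟩ := h
  haveI := H15.Sz.charP_two hF
  exact ⟨F, _, _, inferInstance, m, hF, (H15.Sz.lieModel hm hF).ofEquiv e, hm, rfl⟩

theorem five_dvd_sq_add_one (m : ℕ) : 5 ∣ (2 ^ (2 * m + 1)) ^ 2 + 1 := by
  rw [← pow_mul, show (2 * m + 1) * 2 = 4 * m + 2 by ring, pow_add, pow_mul]
  have : (2 ^ 4) ^ m ≡ 1 ^ m [MOD 5] := Nat.ModEq.pow m (by decide)
  have := (this.mul_right (2 ^ 2)).add_right 1
  rw [one_pow] at this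
  exact (Nat.modEq_zero_iff_dvd).1 (this.trans (by decide))

theorem dvd_of_not_sol {G : Type u} [Group G] [Finite G] (h3 : ¬ 3 ∣ Nat.card G) (hG : ¬ Group.IsSolvable G) :
    5 ∣ Nat.card G ∧ 64 ∣ Nat.card G := by
  obtain ⟨Y, _, _, _, hc, hY⟩ := exists_simple_sec hG
  have hd := (L0.sec_iff_involves.2 hY).card_dvd
  obtain ⟨F, _, _, _, m, hF, M, hm, -⟩ := exists_szModel (H4S.sz_of_three hc fun h => h3 (h.trans hd))
  rw [M.card_G, Nat.card_eq_fintype_card, hF] at hd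
  refine ⟨(((five_dvd_sq_add_one m).mul_left _).mul_right _).trans hd, Dvd.dvd.trans ?_ hd⟩
  refine Dvd.dvd.mul_right (Dvd.dvd.mul_right ?_ _) _
  rw [← pow_mul]
  exact pow_dvd_pow 2 (show 6 ≤ _ by omega)

theorem sz_equiv {G G' F F' : Type*} [Group G] [Group G'] [Field F] [Fintype F] [Field F'] [Fintype F'] [CharP F 2]
    [CharP F' 2] {m : ℕ} (hF : Fintype.card F = 2 ^ (2 * m + 1)) (hF' : Fintype.card F' = 2 ^ (2 * m + 1))
    (M : H15.Sz.Model G F) (M' : H15.Sz.Model G' F') (h : M.toTw = H15.Sz.tw hF) (h' : M'.toTw = H15.Sz.tw hF') :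
    Nonempty (G' ≃* G) := by
  let φ := (FiniteField.ringEquivOfCardEq (hF'.trans hF.symm)).toRingHom
  have hφ : ∀ x, φ (M'.θ x) = M.θ (φ x) := by rw [h, h']; exact H15.Sz.map_tw hF hF' φ
  haveI := M.finite
  exact ⟨MulEquiv.ofBijective (M.ι M' hφ) ((Nat.bijective_iff_injective_and_card _).2 ⟨M.ι_inj M' hφ, by
    rw [M.card_G, M'.card_G, Nat.card_eq_fintype_card, Nat.card_eq_fintype_card, hF, hF']⟩)⟩

theorem cop_sq_add_one {q : ℕ} (h : Even q) (h0 : 0 < q) : (q ^ 2 + 1).Coprime (q - 1) := by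
  obtain ⟨n, rfl⟩ : ∃ n, q = n + 1 := ⟨q - 1, by omega⟩
  rw [Nat.add_sub_cancel, show (n + 1) ^ 2 + 1 = 2 + n * (n + 2) by ring, Nat.coprime_add_mul_left_left]
  exact Nat.coprime_two_left.2 (by simpa [Nat.even_add_one] using h)

theorem sz_small_max {F : Type*} [Field F] [Fintype F] {m : ℕ} (hm : 1 ≤ m) (hF : Fintype.card F = 2 ^ (2 * m + 1)) :
    ∃ X : Subgroup (Cfsg.Sz F m), IsCoatom X ∧ ♯X ∣ 4 * ((2 ^ (2 * m + 1)) ^ 2 + 1) := by
  haveI := H15.Sz.charP_two hF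
  have hq := Nat.card_eq_fintype_card.trans hF
  let M := H15.Sz.ovModel hm hF
  haveI := M.finite
  obtain ⟨g, -, hg, -, h1, -⟩ := M.tori hm hq
  have h2 := hg.card_cent_dvd
  rw [hq] at h2
  have ev : Even (2 ^ (2 * m + 1)) := by rw [pow_succ]; simp
  have c1 := (cop_sq_add_one ev (by positivity)).coprime_dvd_left h2
  have c2 : (♯C₁⟦g⟧).Coprime 2 := Nat.coprime_two_right.2 ((ev.pow_of_ne_zero two_ne_zero).add_one.of_dvd_nat h2)
  have big : 2 ^ (2 * m + 1) < ♯C₁⟦g⟧ := by rw [h1]; exact Nat.lt_succ_of_le (Nat.le_add_right _ _)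
  have one : ♯C₁⟦g⟧ ≠ 1 := by have : 0 < 2 ^ (2 * m + 1) := by positivity
                              omega
  obtain ⟨X, hX, hle⟩ := (eq_top_or_exists_le_coatom C₁⟦g⟧).resolve_left fun e => by
    rw [e, card_top', M.card_G, hq] at c2
    exact absurd (Nat.coprime_two_right.1 c2) (Nat.not_odd_iff_even.2
      (((ev.pow_of_ne_zero two_ne_zero).mul_right _).mul_right _))
  refine ⟨X, hX, ?_⟩
  rcases S2251.result hm hF X hX.1 with ⟨P, k⟩ | ⟨U, k1, k2, k⟩ | ⟨K, _, _, j, k1, k2, k3, k4, S, ⟨e⟩, k⟩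
  · obtain ⟨M', -, k1⟩ := M.exists_model_sylow P
    have := card_dvd (hle.trans k)
    rw [← k1, M'.normalizer_Q, M'.card_stab, hq] at this
    exact absurd ((Nat.Coprime.mul_right ((c2.pow_right _).pow_right _) c1).eq_one_of_dvd this) one
  · obtain ⟨u, hu, u1⟩ := exists_ne_one (A := U) (by
      rintro rfl
      have : 2 ^ (m + 1) < 2 ^ (2 * m + 1) := Nat.pow_lt_pow_right (by norm_num) (by omega)
      have : 2 ≤ 2 ^ (m + 1) := Nat.le_self_pow (by omega) 2
      simp only [card_bot, Set.mem_insert_iff, Set.mem_singleton_iff] at k2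
      omega)
    obtain ⟨e1, e2⟩ := M.eq_cent_of_cyclic hm hq k1 k2 u1 hu
    obtain ⟨c, hc, e3⟩ := (e1 ▸ M.tor_cent u1 e2 : M.Tor U).card_normalizer hm hq
    have k3 : ♯N⟦U⟧ ∣ 4 * ♯U := by
      rw [e3]; exact Nat.mul_dvd_mul_right (by rcases hc with rfl | rfl <;> norm_num) _
    rcases k2 with k2 | k2 | k2
    · have := (card_dvd (hle.trans k)).trans k3
      rw [k2] at this
      exact absurd ((Nat.Coprime.mul_right (c2.pow_right 2) c1).eq_one_of_dvd this) one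
    · exact ((card_dvd k).trans k3).trans (Nat.mul_dvd_mul_left _ (by
        rw [k2, ← H15.Sz.Model.torus_mul]; exact dvd_mul_right _ _))
    · exact ((card_dvd k).trans k3).trans (Nat.mul_dvd_mul_left _ (by
        rw [k2, ← H15.Sz.Model.torus_mul]; exact dvd_mul_left _ _))
  · haveI := H15.Sz.charP_two k3
    have k5 := card_dvd (hle.trans k)
    rw [Nat.card_congr e.toEquiv, (H15.Sz.ovModel k1 k3).card_G, Nat.card_eq_fintype_card (α := K), k3] at k5
    have k6 := (c1.coprime_dvd_right (Nat.pow_sub_one_dvd_pow_sub_one 2 k4)).dvd_of_dvd_mul_right k5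
    have k7 := Nat.le_of_dvd (by positivity) (((c2.pow_right _).pow_right _).dvd_of_dvd_mul_left k6)
    obtain ⟨d, hd⟩ := k4
    have k8 : (2 * j + 1) * 2 < 2 * m + 1 := by
      obtain _ | _ | _ | d := d
      · omega
      · omega
      · omega
      · nlinarith
    rw [← pow_mul] at k7
    have := Nat.pow_lt_pow_right (a := 2) (by norm_num) k8
    omega

end Cfsg.Agent.H25
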