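import Mathlib
import Cfsg.Agent.H25.Real
import Cfsg.Agent.H26.SylNum

namespace Cfsg.Agent.H25
open Subgroup
open scoped Pointwise commutatorElement

variable {G : Type*} [Group G]

theorem sylow_eq_of_TI [Finite G] {p : ℕ} [Fact p.Prime] (P : Sylow p G)
    (hTI : ∀ g : G, g ∉ normalizer ((P : Subgroup G) : Set G) →
      (P : Subgroup G) ⊓ (MulAut.conj g • (P : Subgroup G)) = ⊥) {Q R : Sylow p G} {x : G}
    (hx : x ≠ 1) (hQ : x ∈ (Q : Subgroup G)) (hR : x ∈ (R : Subgroup G)) : Q = R := by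
  obtain ⟨a, rfl⟩ := MulAction.exists_smul_eq G P Q
  obtain ⟨b, rfl⟩ := MulAction.exists_smul_eq G P R
  rw [H26.mem_smul_sylow] at hQ hR
  have h1 : a⁻¹ * b ∈ normalizer ((P : Subgroup G) : Set G) := by
    by_contra h
    have h2 : a⁻¹ * x * a ∈ (P : Subgroup G) ⊓ (MulAut.conj (a⁻¹ * b) • (P : Subgroup G)) := by
      refine ⟨hQ, H1.mem_conj_smul.2 ?_⟩
      have : (a⁻¹ * b)⁻¹ * (a⁻¹ * x * a) * (a⁻¹ * b) = b⁻¹ * x * b := by group
      rwa [this]
    rw [hTI _ h, mem_bot] at h2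
    apply hx
    calc x = a * (a⁻¹ * x * a) * a⁻¹ := by group
      _ = 1 := by rw [h2]; group
  have h2 := Sylow.smul_eq_iff_mem_normalizer.2 h1
  calc a • P = a • (a⁻¹ * b) • P := by rw [h2]
    _ = b • P := by rw [← mul_smul, mul_inv_cancel_left]

theorem TI_of_sylow_eq {p : ℕ} (P : Sylow p G)
    (h : ∀ (R : Sylow p G) (x : G), x ≠ 1 → x ∈ (P : Subgroup G) → x ∈ (R : Subgroup G) → P = R)
    (g : G) (hg : g ∉ normalizer ((P : Subgroup G) : Set G)) :
    (P : Subgroup G) ⊓ (MulAut.conj g • (P : Subgroup G)) = ⊥ := by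
  rw [eq_bot_iff]
  intro x hx
  by_contra hne
  exact hg (Sylow.smul_eq_iff_mem_normalizer.1 (h (g • P) x hne hx.1 hx.2).symm)

end Cfsg.Agent.H25
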