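import Cfsg.Agent.H25.Ito4
import Cfsg.Agent.H25.ClassSize
import Cfsg.Agent.H2.CSz
import Cfsg.Agent.H26.Frob

/-! Groups whose two largest class sizes are coprime. -/

set_option autoImplicit false

namespace Cfsg.Agent.H25

open Subgroup Cfsg.Agent.H20 Cfsg.Agent.H21 Cfsg.Agent.H2.CS
open scoped Pointwise commutatorElement

variable {G : Type*} [Group G] [Finite G]

theorem cs_pos (x : G) : 0 < cs x := Nat.pos_of_ne_zero FiniteIndex.index_ne_zero

omit [Finite G] in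
theorem cs_dvd {x y : G} (h : C₁⟦x⟧ ≤ C₁⟦y⟧) : cs y ∣ cs x := index_dvd_of_le h

omit [Finite G] in
theorem cent1_le_of_mem {x y : G} (h : y ∈ zpowers x) : C₁⟦x⟧ ≤ C₁⟦y⟧ :=
  cent_zpowers x ▸ cent_le_cent1 h

omit [Finite G] in
theorem mem_center_of_top {x : G} (h : ⊤ ≤ C₁⟦x⟧) : x ∈ center G :=
  mem_center_iff.2 fun g => mem_cent1.1 (h (mem_top g))

omit [Finite G] in
theorem cs_center {x : G} (h : x ∈ center G) : cs x = 1 :=
  index_eq_one.2 (eq_top_iff.2 fun g _ => mem_cent1.2 (mem_center_iff.1 h g))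

/-- the stabiliser of a class under left multiplication -/
def clS (x : G) : Subgroup G := MulAction.stabilizer G (cl x)

theorem mem_clS {x n : G} : n ∈ clS x ↔ ∀ y ∈ cl x, n * y ∈ cl x :=
  MulAction.mem_stabilizer_set_iff_smul_set_subset (Set.toFinite _) |>.trans
    ⟨fun h y hy => h ⟨y, hy, rfl⟩, by rintro h _ ⟨y, hy, rfl⟩; exact h y hy⟩

instance clS_normal (x : G) : (clS x).Normal := by
  have hc : ∀ y ∈ cl x, ∀ h, h * y * h⁻¹ ∈ cl x := by
    rintro _ ⟨k, rfl⟩ h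
    exact ⟨h * k, by group⟩
  exact ⟨fun n hn g => mem_clS.2 fun y hy => by
    have := hc _ (mem_clS.1 hn _ (hc y hy g⁻¹)) g
    convert this using 1; group⟩

theorem card_clS (x : G) : ♯(clS x) ∣ cs x := by
  rw [← ncard_cl]
  exact H2.Pm.card_dvd_ncard_of_free _ _ (fun g hg y hy => mem_clS.1 hg y hy) fun g _ y _ e => mul_eq_right.1 e

theorem conj_mem_clS {d x : G} (hd : (cs d).Coprime (cs x)) (h : cs (d * x) ≤ cs x) (g : G) :
    d⁻¹ * (g * d * g⁻¹) ∈ clS x := by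
  refine mem_clS.2 fun y hy => ?_
  have e : (d * ·) '' cl x = cl (d * x) := Set.eq_of_subset_of_ncard_le
    (by rintro _ ⟨y, hy, rfl⟩; exact mul_mem_cl hd ⟨1, by simp⟩ hy)
    (by rwa [Set.ncard_image_of_injective _ (mul_right_injective d), ncard_cl, ncard_cl])
  obtain ⟨z, hz, e'⟩ : _ ∈ (d * ·) '' cl x := e ▸ mul_mem_cl hd ⟨g, rfl⟩ hy
  rwa [mul_assoc, ← e', inv_mul_cancel_left]

theorem le_cs_mul {d x : G} (hd : (cs d).Coprime (cs x)) : cs x ≤ cs (d * x) := by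
  rw [← ncard_cl, ← ncard_cl, ← Set.ncard_image_of_injective _ (mul_right_injective d)]
  exact Set.ncard_le_ncard (by rintro _ ⟨y, hy, rfl⟩; exact mul_mem_cl hd ⟨1, by simp⟩ hy)

theorem cs_mul_dvd {d x : G} (hd : (cs d).Coprime (cs x)) : cs (d * x) ∣ cs d * cs x := by
  have : (C₁⟦d⟧ ⊓ C₁⟦x⟧).index = cs d * cs x := le_antisymm index_inf_le (Nat.le_of_dvd
    (Nat.pos_of_ne_zero FiniteIndex.index_ne_zero) (hd.mul_dvd_of_dvd_of_dvd (index_dvd_of_le inf_le_left)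
      (index_dvd_of_le inf_le_right)))
  rw [← this]
  exact index_dvd_of_le fun g hg => mem_cent1.2 (by
    rw [← mul_assoc, mem_cent1.1 hg.1, mul_assoc, mem_cent1.1 hg.2, mul_assoc])

theorem cent_le_of_coprime {d : G} (N : Subgroup G) [N.Normal] {k : ℕ} (h1 : ♯N ∣ k) (hd : (cs d).Coprime k)
    (h2 : ∀ g, d⁻¹ * (g * d * g⁻¹) ∈ N) : N ≤ C₁⟦d⟧ ∧ C⟦N⟧ ≤ C₁⟦d⟧ := by
  refine ⟨le_cent_of_coprime N ((relIndex_dvd_card _ _).trans h1) hd, le_cent_of_coprime _ (.trans ?_ h1) hd⟩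
  let f : ↥C⟦N⟧ →* N :=
    { toFun := fun m => ⟨_, h2 m⟩
      map_one' := Subtype.ext (by simp)
      map_mul' := fun a b => Subtype.ext (by
        have := H21.mem_cent.1 a.2 _ (h2 b)
        change d⁻¹ * (a * b * d * (a * b : G)⁻¹) = d⁻¹ * (a * d * (a : G)⁻¹) * (d⁻¹ * (b * d * (b : G)⁻¹))
        calc _ = d⁻¹ * (a * d * (a : G)⁻¹) * (a * (d⁻¹ * (b * d * (b : G)⁻¹))) * (a : G)⁻¹ := by
              group
          _ = _ := by rw [← this]; group) }
  have : (centralizer ({d} : Set G)).subgroupOf C⟦N⟧ = f.ker := by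
    ext m
    rw [mem_subgroupOf, H2.CS.mem_cent, MonoidHom.mem_ker, Subtype.ext_iff]
    change _ ↔ d⁻¹ * (m * d * (m : G)⁻¹) = 1
    rw [inv_mul_eq_one, eq_mul_inv_iff_mul_eq, eq_comm]
  rw [relIndex, this, index_ker]
  exact card_subgroup_dvd_card _

theorem relIndex_cent1_lt_card {D R : Subgroup G} {r : G} (hD : D ≤ N⟦R⟧) (hr : r ∈ R) (h1 : r ≠ 1) :
    C₁⟦r⟧.relIndex D < ♯R := by
  let ψ : (D ⧸ C₁⟦r⟧.subgroupOf D) → R := fun q => ⟨q.out * r * (q.out : G)⁻¹, conj_mem_of_norm (hD q.out.2) hr⟩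
  have inj : Function.Injective ψ := fun a b e => by
    have e1 : (a.out : G) * r * (a.out : G)⁻¹ = b.out * r * (b.out : G)⁻¹ := congrArg Subtype.val e
    rw [← a.out_eq', ← b.out_eq', QuotientGroup.eq, mem_subgroupOf, mem_cent1, coe_mul, coe_inv]
    calc _ = (a.out : G)⁻¹ * (b.out * r * (b.out : G)⁻¹) * b.out := by group
      _ = _ := by rw [← e1]; group
  have ns : (1 : R) ∉ Set.range ψ := by
    rintro ⟨a, e⟩
    have e1 : (a.out : G) * r * (a.out : G)⁻¹ = 1 := congrArg Subtype.val e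
    exact h1 (by simpa using e1)
  classical
  have := Fintype.ofFinite (D ⧸ C₁⟦r⟧.subgroupOf D)
  have := Fintype.ofFinite R
  have := Fintype.card_lt_of_injective_of_notMem ψ inj ns
  rwa [← Nat.card_eq_fintype_card, ← Nat.card_eq_fintype_card] at this

omit [Finite G] in
theorem elt_inv' {π : Set ℕ} {a : G} (h : IsPiElt π a) : IsPiElt π a⁻¹ := by
  rwa [isPiElt_iff, orderOf_inv]

omit [Finite G] in
theorem elt_conj' {π : Set ℕ} {a : G} (h : IsPiElt π a) (g : G) : IsPiElt π (g * a * g⁻¹) := by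
  rw [← isPi_zpowers, ← cj_zpowers]
  exact (isPi_zpowers.2 h).cj g

omit [Finite G] in
theorem elt_eq_one {π : Set ℕ} {a : G} (h : IsPiElt π a) (h' : IsPiElt πᶜ a) : a = 1 :=
  orderOf_eq_one_iff.1 ((isPiElt_iff.1 h).eq_one (isPiElt_iff.1 h'))

theorem comm_of_central {π : Set ℕ} {a b : G} (ha : IsPiElt π a) (hb : IsPiElt πᶜ b)
    (h : a * b * a⁻¹ * b⁻¹ ∈ center G) : b ∈ C₁⟦a⟧ := by
  have h1 : IsPiElt πᶜ (a * b * a⁻¹ * b⁻¹) := elt_mul (elt_conj' hb a) (elt_inv' hb) (mem_cent1.2 (by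
    have := mem_center_iff.1 h b
    calc b⁻¹ * (a * b * a⁻¹) = b⁻¹ * ((a * b * a⁻¹ * b⁻¹) * b) := by group
      _ = _ := by rw [← this]; group))
  have h2 : IsPiElt π (a * (b * a⁻¹ * b⁻¹)) := elt_mul ha (elt_conj' (elt_inv' ha) b) (mem_cent1.2 (by
    have := mem_center_iff.1 h a
    calc b * a⁻¹ * b⁻¹ * a = a⁻¹ * ((a * b * a⁻¹ * b⁻¹) * a) := by group
      _ = _ := by rw [← this]; group))
  have := elt_eq_one h2 (by simpa [mul_assoc] using h1)
  rw [mem_cent1]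
  calc b * a = (a * (b * a⁻¹ * b⁻¹)) * (b * a) := by rw [this, one_mul]
    _ = a * b := by group

structure Top (x y : G) : Prop where
  lt : cs x < cs y
  one : 1 < cs x
  cop : (cs y).Coprime (cs x)
  top : ∀ z : G, cs z ≤ cs y
  sec : ∀ z : G, cs z < cs y → cs z ≤ cs x

/-- primes dividing the largest class size -/
def Top.pi (y : G) : Set ℕ := {p | p.Prime ∧ p ∣ cs y}

namespace Top
variable {x y : G} (h : Top x y)
include h

theorem eq_m {z : G} (hz : cs x < cs z) : cs z = cs y :=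
  le_antisymm (h.top z) (not_lt.1 fun e => (h.sec z e).not_gt hz)

theorem eq_n {z : G} (hz : cs x ∣ cs z) : cs z = cs x := by
  refine ((Nat.le_of_dvd (cs_pos z) hz).eq_or_lt.resolve_right fun e => ?_).symm
  rw [h.eq_m e] at hz
  exact h.one.ne' (Nat.eq_one_of_dvd_coprimes h.cop hz dvd_rfl)

theorem minx {a : G} (ha : cs a = cs x) : MinC a := fun _ hb =>
  eq_of_le_index hb ((h.eq_n (ha ▸ cs_dvd hb)).trans ha.symm).le

theorem miny {a : G} (ha : cs a = cs y) : MinC a := fun b hb => eq_of_le_index hb ((h.top b).trans ha.ge)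

theorem memS {d : G} (hd : (cs d).Coprime (cs y)) (g : G) : d⁻¹ * (g * d * g⁻¹) ∈ clS y :=
  conj_mem_clS hd (h.top _) g

theorem S_le {d : G} (hd : (cs d).Coprime (cs y)) : clS y ≤ C₁⟦d⟧ :=
  (cent_le_of_coprime _ (card_clS y) hd (h.memS hd)).1

theorem comm {d e : G} (hd : (cs d).Coprime (cs y)) (he : (cs e).Coprime (cs y)) : e ∈ C₁⟦d⟧ :=
  (cent_le_of_coprime _ (card_clS y) hd (h.memS hd)).2 (le_cent1_iff.1 (h.S_le he))

omit h in
theorem piS : IsPi (pi y) (clS y) := isPi_iff.2 ((PiNat.self _).of_dvd (card_clS y))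

theorem pin : PiNat (pi y)ᶜ (cs x) := PiNat.of_coprime h.cop.symm

theorem U_of_dvd {d : G} (hd : cs d ∣ cs x) : (cs d).Coprime (cs y) := h.cop.symm.coprime_dvd_left hd

theorem central_U {v : G} (hv : (cs v).Coprime (cs y)) (hπ : IsPiElt (pi y)ᶜ v) : v ∈ center G := by
  refine mem_center_iff.2 fun g => ?_
  have := elt_eq_one (piS.elt (h.memS hv g)) (elt_mul (elt_inv' hπ) (elt_conj' hπ g) (mem_cent1.2 (by
    have := mem_cent1.1 (h.comm hv (show (cs (g * v * g⁻¹)).Coprime (cs y) by rwa [cs_conj]))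
    calc g * v * g⁻¹ * v⁻¹ = v⁻¹ * (v * (g * v * g⁻¹)) * v⁻¹ := by group
      _ = _ := by rw [← this]; group)))
  rw [inv_mul_eq_one, eq_mul_inv_iff_mul_eq] at this
  exact this.symm

theorem exists_pi {a : G} (ha : cs a = cs x) : ∃ b, IsPiElt (pi y) b ∧ C₁⟦b⟧ = C₁⟦a⟧ := by
  obtain ⟨b, c, -, c1, b2, c2, -, rfl⟩ := exists_decomp (pi y) a
  exact ⟨b, b2, (cent1_mul_center (h.central_U (h.U_of_dvd (ha ▸ cs_dvd (cent1_le_of_mem c1))) c2)).symm⟩

theorem central_A {a v : G} (ha : cs a = cs x) (hv : v ∈ C₁⟦a⟧) (hπ : IsPiElt (pi y)ᶜ v) : v ∈ center G := by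
  obtain ⟨b, b1, b2⟩ := h.exists_pi ha
  have e : cs b = cs x := by rw [← ha]; exact congrArg index b2
  exact h.central_U (h.U_of_dvd (e ▸ cs_dvd ((h.minx e).le b1 hπ (b2 ▸ hv)))) hπ

theorem cop_n {w : G} (hw : (cs w).Coprime (cs x)) (hz : w ∉ center G) : cs w = cs y := by
  rcases (le_cs_mul hw).eq_or_lt with e | e
  · refine (hz ?_).elim
    obtain ⟨b, b1, b2⟩ := h.exists_pi (a := x) rfl
    have eb : cs b = cs x := congrArg index b2
    have pT : IsPi (pi y)ᶜ (clS x) := isPi_iff.2 (h.pin.of_dvd (card_clS x))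
    have hT : clS x ≤ center G := fun t ht => h.central_A eb (by
      have : b⁻¹ * (t * b * t⁻¹) ∈ clS y ⊓ clS x := mem_inf.2 ⟨h.memS (h.U_of_dvd eb.dvd) t, by
        have := (clS x).mul_mem ((clS_normal x).conj_mem t ht b⁻¹) ((clS x).inv_mem ht)
        convert this using 1; group⟩
      rw [piS.inf_eq_bot pT, mem_bot, inv_mul_eq_one, eq_mul_inv_iff_mul_eq] at this
      exact mem_cent1.2 this.symm) (pT.elt ht)
    exact mem_center_of_top (le_trans (cent_symm (cent_top (G := G) ▸ hT))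
      (cent_le_of_coprime _ (card_clS x) hw (conj_mem_clS hw e.ge)).2)
  · have := cs_mul_dvd hw
    rw [h.eq_m e] at this
    exact le_antisymm (h.top w) (Nat.le_of_dvd (cs_pos w) (h.cop.dvd_of_dvd_mul_right this))

theorem big {v : G} (hπ : IsPiElt (pi y)ᶜ v) (hz : v ∉ center G) : cs v = cs y := by
  obtain ⟨b, b1, b2⟩ := h.exists_pi (a := x) rfl
  have eb : cs b = cs x := congrArg index b2
  set S := clS y ⊓ C⟦clS y⟧ with hS
  have sp : IsPi (pi y) S := piS.inf_left _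
  have sc : IsMulCommutative S := comm_center _
  have co : (♯S).Coprime ♯(zpowers v) := sp.coprime (isPi_zpowers.2 hπ)
  have vn : zpowers v ≤ N⟦S⟧ := le_normalizer_of_normal
  have sb : S ≤ C₁⟦b⟧ := inf_le_left.trans (h.S_le (h.U_of_dvd eb.dvd))
  have so : SolOr (zpowers v) S := Or.inl inferInstance
  obtain ⟨s, s1, c, c1, e1⟩ := coprime_prod_of_commg_le (K := zpowers b) vn co so (commutator_le.2 fun d hd g _ => by
    have u : (cs d⁻¹).Coprime (cs y) := h.U_of_dvd (eb ▸ cs_dvd (cent1_le_of_mem (inv_mem hd)))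
    have e : ⁅d, g⁆ = d⁻¹⁻¹ * (g * d⁻¹ * g⁻¹) := by rw [commutatorElement_def]; group
    have k := le_cent1_iff.1 (h.S_le u)
    exact e ▸ mem_inf.2 ⟨h.memS u g, mul_mem (inv_mem k) (Normal.conj_mem inferInstance _ k g)⟩) b (mem_zpowers b)
  obtain ⟨r, r1, c', c2, e2⟩ := coprime_commg_prod vn co so s s1
  set R := ⁅S, zpowers v⁆ with hR
  have rs : R ≤ S := commg_le_left vn
  have u1 : r⁻¹ * b ∈ C₁⟦v⟧ := by
    rw [← e1, ← e2, mul_assoc, inv_mul_cancel_left, ← cent_zpowers]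
    exact mul_mem c2.2 c1
  have up : IsPiElt (pi y) (r⁻¹ * b) := elt_mul (sp.elt (inv_mem (rs r1))) b1
    (mem_cent1_comm.1 (sb (inv_mem (rs r1))))
  have hD := cent1_mul up hπ (mem_cent1_comm.1 u1)
  set D := C₁⟦r⁻¹ * b * v⟧ with hD'
  have r0 : r ≠ 1 := by
    rintro rfl
    exact hz (h.central_A eb (mem_cent1_comm.1 (by simpa using u1)) hπ)
  have dv : D ≤ C₁⟦v⟧ := hD.le.trans inf_le_right
  have i1 := relIndex_cent1_lt_card (D := D) (norm_commutator le_normalizer_of_normal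
    (norm_of_cent (cent_zpowers v ▸ dv))) r1 r0
  have i2 : C₁⟦r⟧.relIndex D = C₁⟦b⟧.relIndex D := by
    rw [← inf_relIndex_right C₁⟦r⟧, ← inf_relIndex_right C₁⟦b⟧]
    congr 1
    ext g
    refine and_congr_left fun hg => ?_
    have k := mem_cent1_comm.1 (hD.le hg).1
    refine ⟨fun a => mem_cent1_comm.1 ?_, fun a => mem_cent1_comm.1 ?_⟩
    · simpa using mul_mem (mem_cent1_comm.1 a) k
    · simpa using mul_mem (mem_cent1_comm.1 a) (inv_mem k)
  have i3 : ♯R ≤ D.relIndex C₁⟦b⟧ := by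
    refine le_trans ?_ (relIndex_le_of_le_right (rs.trans sb) (relIndex_ne_zero _ _))
    have := card_inf_mul_relIndex D R
    rw [eq_bot_iff.2 ((le_inf inf_le_right (inf_le_left.trans (cent_zpowers v ▸ dv))).trans
      (coprime_comm_commg_inf_cent sc vn co).le), card_bot, one_mul] at this
    exact this.ge
  have j1 := relIndex_mul_index (inf_le_left : C₁⟦b⟧ ⊓ D ≤ _)
  have j2 := relIndex_mul_index (inf_le_right : C₁⟦b⟧ ⊓ D ≤ _)
  rw [inf_relIndex_left] at j1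
  rw [inf_relIndex_right, ← j1] at j2
  have lt : cs x < cs (r⁻¹ * b * v) := by
    rw [← eb]
    by_contra hc
    have : C₁⟦b⟧.relIndex D * D.index < D.relIndex C₁⟦b⟧ * C₁⟦b⟧.index :=
      Nat.mul_lt_mul_of_lt_of_le (i2 ▸ i1.trans_le i3) (not_lt.1 hc) (cs_pos b)
    omega
  exact h.cop_n (h.cop.coprime_dvd_left (h.eq_m lt ▸ cs_dvd dv)) hz

theorem central_p {a v : G} (ha : IsPiElt (pi y) a) (hz : a ∉ center G) (hv : v ∈ C₁⟦a⟧)
    (hπ : IsPiElt (pi y)ᶜ v) : v ∈ center G := by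
  obtain ⟨p, hp, p1, b, b1, b2, b3⟩ := exists_ppart ha hz
  by_contra vz
  have hb := cent1_le_of_mem b1 hv
  have e := h.big hπ vz
  have l : C₁⟦v⟧ ≤ C₁⟦b⟧ := (h.miny e).le hπ (by rw [compl_compl]; exact elt_mono1 b3 p1) (mem_cent1_comm.1 hb)
  have e' := h.cop_n (h.cop.coprime_dvd_left (e ▸ cs_dvd l)) b2
  have l' := eq_of_le_index l (e.trans e'.symm).le
  obtain ⟨g, hg⟩ := exists_conj_mem_of_not_dvd hp (D := C₁⟦x⟧) (h.pin.not_dvd hp p1) b3
  have : g * v * g⁻¹ ∈ C₁⟦x⟧ := by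
    rw [mem_cent1_comm, ← cj_cent1, l', cj_cent1]
    exact mem_cent1_comm.1 hg
  have := h.central_A rfl this (elt_conj' hπ g)
  exact vz (by simpa [mul_assoc] using Normal.conj_mem inferInstance _ this g⁻¹)

theorem small {a : G} (ha : IsPiElt (pi y) a) (hz : a ∉ center G) : cs a = cs x := by
  have : PiNat (pi y) ((center G).relIndex C₁⟦a⟧) := fun s hs hd => by
    by_contra hc
    obtain ⟨v, v1, v2, v3⟩ := exists_elt_not_mem hs hd
    exact v2 (h.central_p ha hz v1 (elt_mono1 v3 hc))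
  refine h.eq_n ((h.pin.coprime' this).dvd_of_dvd_mul_left ?_)
  rw [relIndex_mul_index (center_le_centralizer _)]
  exact index_dvd_of_le (center_le_centralizer _)

theorem U_pi {a : G} (ha : IsPiElt (pi y) a) : (cs a).Coprime (cs y) := by
  by_cases hz : a ∈ center G
  · rw [cs_center hz]; exact Nat.coprime_one_left _
  · exact h.U_of_dvd (h.small ha hz).dvd

theorem mem_iff {g : G} : g ∈ C₁⟦x⟧ ↔ (cs g).Coprime (cs y) := by
  refine ⟨fun hg => ?_, h.comm h.cop.symm⟩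
  obtain ⟨b, c, -, c1, b2, c2, -, rfl⟩ := exists_decomp (pi y) g
  have : cs (b * c) = cs b := congrArg index (cent1_mul_center (h.central_A rfl (zpowers_le.2 hg c1) c2))
  rw [this]
  exact h.U_pi b2

theorem commA : IsMulCommutative C₁⟦x⟧ :=
  comm_iff.2 fun _ ha _ hb => mem_cent1.1 (h.comm (h.mem_iff.1 hb) (h.mem_iff.1 ha))

theorem normalA : C₁⟦x⟧.Normal := ⟨fun a ha g => h.mem_iff.2 (by rw [cs_conj]; exact h.mem_iff.1 ha)⟩

theorem inf {w : G} (h1 : w ∈ C₁⟦x⟧) (h2 : w ∈ C₁⟦y⟧) : w ∈ center G := by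
  by_contra hz
  obtain ⟨b, c, b1, c1, b2, c2, -, rfl⟩ := exists_decomp (pi y) w
  have cz := h.central_A rfl (zpowers_le.2 h1 c1) c2
  have e := h.small b2 fun bz => hz (mul_mem bz cz)
  have l : C₁⟦x⟧ ≤ C₁⟦b⟧ := le_cent1_iff.2 (comm_iff_le_cent.1 h.commA (zpowers_le.2 h1 b1))
  have := h.mem_iff.1 ((eq_of_le_index l e.ge).ge (mem_cent1_comm.1 (zpowers_le.2 h2 b1)))
  exact (h.one.trans h.lt).ne' ((Nat.coprime_self _).1 this)

theorem fpf {a b : G} (ha : a ∈ C₁⟦x⟧) (hb : b ∈ C₁⟦y⟧) (hz : b ∉ center G)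
    (hc : a * b * a⁻¹ * b⁻¹ ∈ center G) : a ∈ center G := by
  obtain ⟨a1, a2, -, m2, p1, p2, -, rfl⟩ := exists_decomp (pi y) a
  obtain ⟨b1, b2, n1, -, q1, q2, -, rfl⟩ := exists_decomp (pi y) b
  have z1 := h.central_A rfl (zpowers_le.2 ha m2) p2
  have z2 := h.inf (h.mem_iff.2 (h.U_pi q1)) (zpowers_le.2 hb n1)
  refine mul_mem (by_contra fun hn => hz (mul_mem z2 (h.central_p p1 hn (comm_of_central p1 q2 ?_) q2))) z1
  convert hc using 1
  have e1 := mem_center_iff.1 z1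
  have e2 := mem_center_iff.1 z2
  calc a1 * b2 * a1⁻¹ * b2⁻¹ = a1 * (b2 * a2) * a2⁻¹ * a1⁻¹ * b2⁻¹ * b1 * b1⁻¹ := by group
    _ = b1 * (a1 * a2) * b2 * (a1 * a2)⁻¹ * b2⁻¹ * b1⁻¹ := by
      rw [e2 (a1 * (b2 * a2) * a2⁻¹ * a1⁻¹ * b2⁻¹), e1 b2]; group
    _ = a1 * a2 * b1 * b2 * (a1 * a2)⁻¹ * (b2⁻¹ * b1⁻¹) := by rw [← e2 (a1 * a2)]; group
    _ = _ := by group

theorem prod (g : G) : ∃ a ∈ C₁⟦x⟧, ∃ b ∈ C₁⟦y⟧, a * b = g :=
  prod_of_coprime_relIndex le_top le_top (by simpa using h.cop.symm) g (mem_top g)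

theorem commH : IsMulCommutative C₁⟦y⟧ := by
  refine comm_iff_le_cent.2 fun v hv => le_cent1_iff.1 ?_
  by_cases hz : v ∈ center G
  · exact le_top.trans (index_eq_one.1 (cs_center hz)).ge
  obtain ⟨b, c, b1, -, b2, c2, bc, e⟩ := exists_decomp (pi y) v
  have z := h.inf (h.mem_iff.2 (h.U_pi b2)) (zpowers_le.2 hv b1)
  have e1 : cs v = cs y := by
    rw [← h.big c2 fun cz => hz (e ▸ mul_mem z cz), e, ← mem_cent1.1 bc]
    exact congrArg index (cent1_mul_center z)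
  refine (eq_of_le_index (fun g hg => ?_) e1.le).ge
  obtain ⟨a, a1, k, k1, rfl⟩ := h.prod g
  have v1 : k * v * k⁻¹ ∈ C₁⟦y⟧ := mul_mem (mul_mem k1 hv) (inv_mem k1)
  refine mul_mem (center_le_centralizer _ (h.fpf a1 v1 (fun vz => hz (by
    simpa [mul_assoc] using Normal.conj_mem inferInstance _ vz k⁻¹)) (h.inf ?_ ?_))) k1
  · have := mul_mem a1 (h.normalA.conj_mem _ (inv_mem a1) (k * v * k⁻¹))
    convert this using 1; group
  · have e : a * (k * v * k⁻¹) * a⁻¹ = v := by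
      calc _ = a * k * v * (a * k)⁻¹ := by group
        _ = _ := by rw [mem_cent1.1 hg]; group
    rw [e]
    exact mul_mem hv (inv_mem v1)

theorem frob : IsFrobeniusComplement (C₁⟦y⟧.map (QuotientGroup.mk' (center G))) ∧
    frobeniusKernel (C₁⟦y⟧.map (QuotientGroup.mk' (center G))) =
      (C₁⟦x⟧.map (QuotientGroup.mk' (center G)) : Set (G ⧸ center G)) := by
  have := h.normalA
  have : (C₁⟦x⟧.map (QuotientGroup.mk' (center G))).Normal :=
    Normal.map inferInstance _ (QuotientGroup.mk'_surjective _)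
  have nz : ∀ z : G, 1 < cs z → C₁⟦z⟧.map (QuotientGroup.mk' (center G)) ≠ ⊥ := fun z hz e => by
    rw [Subgroup.map_eq_bot_iff, QuotientGroup.ker_mk'] at e
    exact hz.ne' (cs_center (e (self_mem_cent1 z)))
  have hc : IsComplement' (C₁⟦x⟧.map (QuotientGroup.mk' (center G))) (C₁⟦y⟧.map (QuotientGroup.mk' (center G))) := by
    refine Compl.iff_isComplement'.1 (Compl.of_norm (Or.inr le_normalizer_of_normal) (eq_top_iff.2 fun q _ => ?_)
      (eq_bot_iff.2 ?_))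
    · obtain ⟨g, rfl⟩ := QuotientGroup.mk'_surjective _ q
      obtain ⟨a, a1, k, k1, rfl⟩ := h.prod g
      rw [map_mul]
      exact mul_mem (mem_sup_left (mem_map_of_mem _ a1)) (mem_sup_right (mem_map_of_mem _ k1))
    · rintro _ ⟨⟨a, a1, rfl⟩, b, b1, e⟩
      obtain ⟨z, z1, rfl⟩ := (QuotientGroup.mk'_eq_mk' _).1 e
      exact (QuotientGroup.eq_one_iff _).2 (h.inf a1 (mul_mem b1 (center_le_centralizer _ z1)))
  have hF := H1.isFrobeniusComplement_of_fpf hc (nz x h.one) (nz y (h.one.trans h.lt)) (by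
    rintro _ ⟨b, b1, rfl⟩ b0
    refine eq_bot_iff.2 ?_
    rintro _ ⟨⟨a, a1, rfl⟩, e⟩
    refine (QuotientGroup.eq_one_iff _).2 (h.fpf a1 b1 (fun bz => b0 ((QuotientGroup.eq_one_iff _).2 bz)) ?_)
    rw [← QuotientGroup.eq_one_iff, ← QuotientGroup.mk'_apply, map_mul, map_mul, map_mul, mem_cent1.1 e]
    simp)
  exact ⟨hF, H26.frobeniusKernel_eq_of_isComplement' hF hc⟩

end Top

end Cfsg.Agent.H25
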